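import Mathlib

/-!
# Exactness of left Kan extension along functors commuting with fibre products and equalizers

`colim` over a category all of whose connected components are filtered preserves monomorphisms of
abelian-group-valued functors; consequently it is exact.
-/

set_option autoImplicit false

open CategoryTheory CategoryTheory.Limits Opposite

namespace Groth.Agent.Helper10.LanExact

universe w v₁ v₂ u₁ u₂

section CompFilt

variable {J : Type u₁} [Category.{v₁} J]

/-- Every span can be completed to a commutative square and every parallel pair is coequalized: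
then every connected component is filtered. -/
structure CompFilt (J : Type u₁) [Category.{v₁} J] : Prop where
  span : ∀ {i j j' : J} (a : i ⟶ j) (b : i ⟶ j'), ∃ (k : J) (f : j ⟶ k) (g : j' ⟶ k), a ≫ f = b ≫ g
  coeq : ∀ {j j' : J} (f g : j ⟶ j'), ∃ (k : J) (h : j' ⟶ k), f ≫ h = g ≫ h

lemma CompFilt.of_zigzag (hJ : CompFilt J) {j j' : J} (h : Zigzag j j') :
    ∃ (k : J) (_ : j ⟶ k) (_ : j' ⟶ k), True := by
  induction h with
  | refl => exact ⟨j, 𝟙 j, 𝟙 j, trivial⟩
  | tail _ hz ih =>
    obtain ⟨k, f, g, -⟩ := ih
    rcases hz with ⟨⟨a⟩⟩ | ⟨⟨a⟩⟩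
    · obtain ⟨k', f', g', -⟩ := hJ.span g a
      exact ⟨k', f ≫ f', g', trivial⟩
    · exact ⟨k, f, a ≫ g, trivial⟩

lemma CompFilt.isFiltered_component (hJ : CompFilt J) (c : ConnectedComponents J) :
    IsFiltered c.Component := by
  have : IsFilteredOrEmpty c.Component := by
    refine ⟨?_, ?_⟩
    · rintro ⟨j, hj⟩ ⟨j', hj'⟩
      have hz : Zigzag j j' := Quotient.exact' (hj.trans hj'.symm)
      obtain ⟨k, f, g, -⟩ := hJ.of_zigzag hz
      have hk : c.objectProperty k := by
        have : Quotient.mk'' j = (Quotient.mk'' k : ConnectedComponents J) :=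
          Quotient.sound' (Zigzag.of_hom f)
        exact this.symm.trans hj
      exact ⟨⟨k, hk⟩, ObjectProperty.homMk f, ObjectProperty.homMk g, trivial⟩
    · rintro ⟨j, hj⟩ ⟨j', hj'⟩ f g
      obtain ⟨k, h, hh⟩ := hJ.coeq f.hom g.hom
      have hk : c.objectProperty k := by
        have : Quotient.mk'' j' = (Quotient.mk'' k : ConnectedComponents J) :=
          Quotient.sound' (Zigzag.of_hom h)
        exact this.symm.trans hj'
      refine ⟨⟨k, hk⟩, ObjectProperty.homMk h, ?_⟩
      ext
      exact hh
  exact {}

end CompFilt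

section Decomp

variable {J : Type u₁} [Category.{v₁} J] {A : Type u₂} [Category.{v₂} A]
  [∀ c : ConnectedComponents J, HasColimitsOfShape c.Component A]
  [HasColimitsOfShape (Discrete (ConnectedComponents J)) A]

/-- The component of an object. -/
abbrev cmk (j : J) : ConnectedComponents J := Quotient.mk'' j

/-- The colimit over one component. -/
noncomputable def compColim (F : J ⥤ A) (c : ConnectedComponents J) : A := colimit (c.ι ⋙ F)

/-- The coproduct of the colimits over the components. -/
noncomputable def total (F : J ⥤ A) : A := ∐ (compColim F)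

/-- The leg of the cocone. -/
noncomputable def leg (F : J ⥤ A) (j : J) (c : ConnectedComponents J)
    (h : cmk j = c) : F.obj j ⟶ total F :=
  colimit.ι (c.ι ⋙ F) ⟨j, h⟩ ≫ Sigma.ι (compColim F) c

lemma leg_eq (F : J ⥤ A) (j : J) (c : ConnectedComponents J) (h : cmk j = c) :
    leg F j c h = leg F j _ rfl := by
  subst h
  rfl

lemma leg_natural (F : J ⥤ A) {j j' : J} (f : j ⟶ j') (c : ConnectedComponents J)
    (h : cmk j = c) (h' : cmk j' = c) :
    F.map f ≫ leg F j' c h' = leg F j c h := by
  have := colimit.w (c.ι ⋙ F) (ObjectProperty.homMk f : (⟨j, h⟩ : c.Component) ⟶ ⟨j', h'⟩)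
  simp only [leg, ← Category.assoc]
  exact congrArg (fun t => t ≫ Sigma.ι (compColim F) c) this

/-- The cocone with point the coproduct of the component colimits. -/
noncomputable def cocone (F : J ⥤ A) : Cocone F where
  pt := total F
  ι :=
    { app := fun j => leg F j _ rfl
      naturality := fun j j' f => by
        have h : cmk j' = cmk j :=
          (Quotient.sound' (Zigzag.of_hom f)).symm
        rw [← leg_eq F j' _ h]
        simp only [Functor.const_obj_obj, Functor.const_obj_map, Category.comp_id]
        exact leg_natural F f _ rfl h }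

/-- The map out of one component colimit induced by a cocone. -/
noncomputable def descComp (F : J ⥤ A) (s : Cocone F) (c : ConnectedComponents J) :
    compColim F c ⟶ s.pt :=
  colimit.desc (c.ι ⋙ F) (s.whisker c.ι)

/-- The map out of the total induced by a cocone. -/
noncomputable def descT (F : J ⥤ A) (s : Cocone F) : total F ⟶ s.pt :=
  Sigma.desc (descComp F s)

lemma leg_descT (F : J ⥤ A) (s : Cocone F) (j : J) (c : ConnectedComponents J)
    (h : cmk j = c) : leg F j c h ≫ descT F s = s.ι.app j := by
  have h1 : Sigma.ι (compColim F) c ≫ descT F s = descComp F s c := Sigma.ι_desc _ _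
  have h2 : colimit.ι (c.ι ⋙ F) ⟨j, h⟩ ≫ descComp F s c = s.ι.app j := by
    simp [descComp]
  exact (Category.assoc _ _ _).trans ((congrArg (fun t => colimit.ι (c.ι ⋙ F) ⟨j, h⟩ ≫ t) h1).trans h2)

/-- The cocone is a colimit. -/
noncomputable def isColimit (F : J ⥤ A) : IsColimit (cocone F) where
  desc s := descT F s
  fac s j := leg_descT F s j _ rfl
  uniq s m hm := by
    apply Sigma.hom_ext
    intro c
    apply colimit.hom_ext
    rintro ⟨j, hj⟩
    have h1 := hm j
    simp only [cocone] at h1
    rw [← leg_eq F j c hj] at h1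
    have h2 := leg_descT F s j c hj
    simp only [leg, Category.assoc] at h1 h2
    exact h1.trans h2.symm

end Decomp

section Mono

variable {J : Type u₁} [Category.{v₁} J] {A : Type u₂} [Category.{v₂} A]
  [∀ c : ConnectedComponents J, HasColimitsOfShape c.Component A]
  [HasColimitsOfShape (Discrete (ConnectedComponents J)) A]

lemma mono_colimMap_of_exact {K : Type*} [Category K] [HasColimitsOfShape K A]
    [HasExactColimitsOfShape K A] {F G : K ⥤ A} (α : F ⟶ G) [∀ k, Mono (α.app k)] :
    Mono (colimMap α) := by
  have : Mono α := NatTrans.mono_of_mono_app α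
  have : PreservesFiniteLimits (colim (J := K) (C := A)) :=
    HasExactColimitsOfShape.preservesFiniteLimits
  exact inferInstanceAs (Mono ((colim (J := K) (C := A)).map α))

/-- The map induced on totals. -/
noncomputable def totalMap {F G : J ⥤ A} (α : F ⟶ G) : total F ⟶ total G :=
  Limits.Sigma.map (fun c => (colimMap (Functor.whiskerLeft c.ι α) : compColim F c ⟶ compColim G c))

lemma leg_totalMap {F G : J ⥤ A} (α : F ⟶ G) (j : J) (c : ConnectedComponents J)
    (h : cmk j = c) : leg F j c h ≫ totalMap α = α.app j ≫ leg G j c h := by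
  have h1 : Sigma.ι (compColim F) c ≫ totalMap α =
      (colimMap (Functor.whiskerLeft c.ι α) : compColim F c ⟶ compColim G c) ≫
        Sigma.ι (compColim G) c := Limits.Sigma.ι_map _ _
  have h2 : colimit.ι (c.ι ⋙ F) ⟨j, h⟩ ≫
      (colimMap (Functor.whiskerLeft c.ι α) : compColim F c ⟶ compColim G c) =
      α.app j ≫ colimit.ι (c.ι ⋙ G) ⟨j, h⟩ := by
    simp
  refine (Category.assoc _ _ _).trans ?_
  refine (congrArg (fun t => colimit.ι (c.ι ⋙ F) ⟨j, h⟩ ≫ t) h1).trans ?_
  refine (Category.assoc _ _ _).symm.trans ?_
  refine (congrArg (fun t => t ≫ Sigma.ι (compColim G) c) h2).trans ?_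
  exact Category.assoc _ _ _

variable [HasExactColimitsOfShape (Discrete (ConnectedComponents J)) A]
  [∀ c : ConnectedComponents J, HasExactColimitsOfShape c.Component A]

lemma mono_totalMap {F G : J ⥤ A} (α : F ⟶ G) [∀ j, Mono (α.app j)] : Mono (totalMap α) := by
  have h1 : ∀ c : ConnectedComponents J,
      Mono (colimMap (Functor.whiskerLeft c.ι α) : compColim F c ⟶ compColim G c) := by
    intro c
    have : ∀ k : c.Component, Mono ((Functor.whiskerLeft c.ι α).app k) := fun k => by
      simp only [Functor.whiskerLeft_app]; infer_instance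
    exact mono_colimMap_of_exact _
  let β : Discrete.functor (compColim F) ⟶ Discrete.functor (compColim G) :=
    Discrete.natTrans (fun c : Discrete (ConnectedComponents J) =>
      (colimMap (Functor.whiskerLeft c.as.ι α) : compColim F c.as ⟶ compColim G c.as))
  have h2 : ∀ k : Discrete (ConnectedComponents J), Mono (β.app k) := fun k => h1 k.as
  exact mono_colimMap_of_exact β

variable [HasColimitsOfShape J A]

/-- `colim` over a category with exact colimits over its components preserves pointwise
monomorphisms. -/
theorem mono_colimMap {F G : J ⥤ A} (α : F ⟶ G) [∀ j, Mono (α.app j)] : Mono (colimMap α) := by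
  let eF := IsColimit.coconePointUniqueUpToIso (colimit.isColimit F) (isColimit F)
  let eG := IsColimit.coconePointUniqueUpToIso (colimit.isColimit G) (isColimit G)
  have key : colimMap α = eF.hom ≫ totalMap α ≫ eG.inv := by
    apply colimit.hom_ext
    intro j
    have h1 : colimit.ι F j ≫ eF.hom = leg F j _ rfl :=
      IsColimit.comp_coconePointUniqueUpToIso_hom (colimit.isColimit F) (isColimit F) j
    have h2 : leg G j _ rfl ≫ eG.inv = colimit.ι G j :=
      IsColimit.comp_coconePointUniqueUpToIso_inv (colimit.isColimit G) (isColimit G) j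
    have h3 := leg_totalMap α j _ rfl
    rw [ι_colimMap, ← Category.assoc, h1, ← Category.assoc]
    exact ((congrArg (fun t => α.app j ≫ t) h2).symm.trans (Category.assoc _ _ _).symm).trans
      (congrArg (fun t => t ≫ eG.inv) h3).symm
  have m0 : Mono (totalMap α) := mono_totalMap α
  rw [key]
  have m2 : Mono eG.inv := inferInstance
  have m3 : Mono (totalMap α ≫ eG.inv) := @mono_comp _ _ _ _ _ (totalMap α) m0 eG.inv m2
  have m1 : Mono eF.hom := inferInstance
  exact @mono_comp _ _ _ _ _ eF.hom m1 (totalMap α ≫ eG.inv) m3

end Mono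

section Ab

variable {J : Type w} [Category.{v₁} J] [UnivLE.{v₁, w}]

theorem mono_colimMap_ab (hJ : CompFilt J) {F G : J ⥤ AddCommGrpCat.{w}} (α : F ⟶ G)
    [∀ j, Mono (α.app j)] : Mono (colimMap α) := by
  have h1 : ∀ c : ConnectedComponents J, IsFiltered c.Component := hJ.isFiltered_component
  have h2 : AB5OfSize.{v₁, w} AddCommGrpCat.{w} :=
    AB5OfSize_of_univLE.{v₁, w, w, w} AddCommGrpCat.{w}
  have h3 : ∀ c : ConnectedComponents J,
      HasExactColimitsOfShape c.Component AddCommGrpCat.{w} := fun c => inferInstance
  exact mono_colimMap α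

end Ab

section ExactColim

lemma preservesFiniteLimits_of_mono {C : Type*} {D : Type*} [Category C] [Category D] [Abelian C]
    [Abelian D] (F : C ⥤ D) [F.Additive] [PreservesFiniteColimits F]
    (h : ∀ {X Y : C} (f : X ⟶ Y), Mono f → Mono (F.map f)) : PreservesFiniteLimits F := by
  rw [Functor.preservesFiniteLimits_iff_forall_exact_map_and_mono]
  intro S hS
  exact ⟨((Functor.preservesFiniteColimits_iff_forall_exact_map_and_epi F).1 inferInstance
    S hS).1, h S.f hS.mono_f⟩

variable {J : Type w} [Category.{v₁} J] [UnivLE.{v₁, w}]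

attribute [local instance] preservesBinaryBiproducts_of_preservesBinaryCoproducts in
theorem preservesFiniteLimits_colim_ab (hJ : CompFilt J) :
    PreservesFiniteLimits (colim : (J ⥤ AddCommGrpCat.{w}) ⥤ AddCommGrpCat.{w}) := by
  have : (colim : (J ⥤ AddCommGrpCat.{w}) ⥤ AddCommGrpCat.{w}).Additive :=
    Functor.additive_of_preservesBinaryBiproducts _
  apply preservesFiniteLimits_of_mono
  intro F G α hα
  have : ∀ j, Mono (α.app j) := fun j => inferInstance
  exact mono_colimMap_ab hJ α

end ExactColim

section Lan

universe v₃ u₃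

variable {C : Type u₁} [Category.{v₁} C] {D : Type u₂} [Category.{v₂} D]
  (E : Type u₃) [Category.{v₃} E]

set_option backward.defeqAttrib.useBackward true in
set_option backward.isDefEq.respectTransparency false in
/-- Universe-general version of Mathlib's `lanEvaluationIsoColim`. -/
noncomputable def lanEvaluationIsoColim' (F : C ⥤ D) (X : D)
    [∀ X : D, HasColimitsOfShape (CostructuredArrow F X) E] :
    F.lan ⋙ (evaluation D E).obj X ≅
      (Functor.whiskeringLeft _ _ E).obj (CostructuredArrow.proj F X) ⋙ colim :=
  NatIso.ofComponents (fun G =>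
    IsColimit.coconePointUniqueUpToIso
    (Functor.isPointwiseLeftKanExtensionLeftKanExtensionUnit F G X)
    (colimit.isColimit _)) (fun {G₁ G₂} φ => by
      apply (Functor.isPointwiseLeftKanExtensionLeftKanExtensionUnit F G₁ X).hom_ext
      intro T
      have h₁ := fun (G : C ⥤ E) => IsColimit.comp_coconePointUniqueUpToIso_hom
        (Functor.isPointwiseLeftKanExtensionLeftKanExtensionUnit F G X) (colimit.isColimit _) T
      have h₂ := congr_app (F.lanUnit.naturality φ) T.left
      dsimp at h₁ h₂ ⊢
      simp only [Category.assoc] at h₁ ⊢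
      simp only [Functor.lan, Functor.lanUnit] at h₂ ⊢
      rw [reassoc_of% h₁, NatTrans.naturality_assoc, ← reassoc_of% h₂, h₁,
        ι_colimMap, Functor.whiskerLeft_app]
      rfl)

end Lan

section LanExact

variable {C : Type u₁} [Category.{v₁} C] {D : Type u₂} [Category.{v₂} D]

/-- Left Kan extension of abelian presheaves along `u.op` preserves finite limits as soon as
all the categories `CostructuredArrow u.op X` have filtered connected components. -/
theorem preservesFiniteLimits_lan_ab (u : C ⥤ D) [UnivLE.{v₁, max u₁ v₂}]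
    (h : ∀ X : Dᵒᵖ, CompFilt (CostructuredArrow u.op X)) :
    PreservesFiniteLimits (u.op.lan :
      (Cᵒᵖ ⥤ AddCommGrpCat.{max u₁ v₂}) ⥤ (Dᵒᵖ ⥤ AddCommGrpCat.{max u₁ v₂})) := by
  apply preservesFiniteLimits_of_preservesFiniteLimitsOfSize.{0}
  intro K _ _
  apply preservesLimitsOfShape_of_evaluation (u.op.lan :
      (Cᵒᵖ ⥤ AddCommGrpCat.{max u₁ v₂}) ⥤ (Dᵒᵖ ⥤ AddCommGrpCat.{max u₁ v₂})) K
  intro X
  have := preservesFiniteLimits_colim_ab (h X)
  exact preservesLimitsOfShape_of_natIso
    (lanEvaluationIsoColim' AddCommGrpCat.{max u₁ v₂} u.op X).symm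

end LanExact

section LemmaB

variable {C : Type u₁} [Category.{v₁} C] {D : Type u₂} [Category.{v₂} D]

/-- If `C` has fibre products and equalizers and `u` commutes with them, the categories
`CostructuredArrow u.op X` have filtered connected components. -/
theorem compFilt_costructuredArrow (u : C ⥤ D) [HasPullbacks C] [HasEqualizers C]
    [PreservesLimitsOfShape WalkingCospan u] [PreservesLimitsOfShape WalkingParallelPair u]
    (X : Dᵒᵖ) : CompFilt (CostructuredArrow u.op X) where
  span := by
    intro i j j' a b
    have ha : j.hom.unop ≫ u.map a.left.unop = i.hom.unop :=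
      congrArg Quiver.Hom.unop (CostructuredArrow.w a)
    have hb : j'.hom.unop ≫ u.map b.left.unop = i.hom.unop :=
      congrArg Quiver.Hom.unop (CostructuredArrow.w b)
    let hl := isLimitOfHasPullbackOfPreservesLimit u a.left.unop b.left.unop
    obtain ⟨l, hl1, hl2⟩ := PullbackCone.IsLimit.lift' hl j.hom.unop j'.hom.unop (ha.trans hb.symm)
    let k : CostructuredArrow u.op X :=
      CostructuredArrow.mk (Y := op (pullback a.left.unop b.left.unop)) l.op
    refine ⟨k, CostructuredArrow.homMk (pullback.fst a.left.unop b.left.unop).op ?_,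
      CostructuredArrow.homMk (pullback.snd a.left.unop b.left.unop).op ?_, ?_⟩
    · exact congrArg Quiver.Hom.op hl1
    · exact congrArg Quiver.Hom.op hl2
    · ext
      exact congrArg Quiver.Hom.op (pullback.condition (f := a.left.unop) (g := b.left.unop))
  coeq := by
    intro j j' f g
    have hf : j'.hom.unop ≫ u.map f.left.unop = j.hom.unop :=
      congrArg Quiver.Hom.unop (CostructuredArrow.w f)
    have hg : j'.hom.unop ≫ u.map g.left.unop = j.hom.unop :=
      congrArg Quiver.Hom.unop (CostructuredArrow.w g)
    let hl := isLimitOfHasEqualizerOfPreservesLimit u f.left.unop g.left.unop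
    obtain ⟨l, hl1⟩ := Fork.IsLimit.lift' hl j'.hom.unop (hf.trans hg.symm)
    let k : CostructuredArrow u.op X :=
      CostructuredArrow.mk (Y := op (equalizer f.left.unop g.left.unop)) l.op
    refine ⟨k, CostructuredArrow.homMk (equalizer.ι f.left.unop g.left.unop).op ?_, ?_⟩
    · exact congrArg Quiver.Hom.op hl1
    · ext
      exact congrArg Quiver.Hom.op (equalizer.condition f.left.unop g.left.unop)

end LemmaB

section SheafLevel

variable {C : Type u₁} [Category.{v₁} C] {D : Type u₂} [Category.{v₂} D]

/-- `g_!` on abelian sheaves (sheafified left Kan extension) preserves finite limits as soon as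
all the categories `CostructuredArrow u.op X` have filtered connected components. -/
theorem preservesFiniteLimits_sheafPullback_ab_of_compFilt (u : C ⥤ D)
    (J : GrothendieckTopology C) (K : GrothendieckTopology D) [u.IsContinuous J K]
    [UnivLE.{v₁, max u₁ v₂}] [HasSheafify K AddCommGrpCat.{max u₁ v₂}]
    (h : ∀ X : Dᵒᵖ, CompFilt (CostructuredArrow u.op X)) :
    PreservesFiniteLimits (u.sheafPullback AddCommGrpCat.{max u₁ v₂} J K) := by
  have h1 := preservesFiniteLimits_lan_ab u h
  have h2 : PreservesFiniteLimits (u.op.lan ⋙ presheafToSheaf K AddCommGrpCat.{max u₁ v₂}) :=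
    comp_preservesFiniteLimits _ _
  have h3 : PreservesFiniteLimits
      (Functor.sheafPullbackConstruction.sheafPullback u AddCommGrpCat.{max u₁ v₂} J K) := by
    unfold Functor.sheafPullbackConstruction.sheafPullback
    exact comp_preservesFiniteLimits _ _
  exact preservesFiniteLimits_of_natIso
    (Functor.sheafPullbackConstruction.sheafPullbackIso u AddCommGrpCat.{max u₁ v₂} J K).symm

/-- `g_!` on abelian sheaves is exact when `C` has fibre products and equalizers and `u` commutes
with them. -/
theorem preservesFiniteLimits_sheafPullback_ab (u : C ⥤ D)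
    (J : GrothendieckTopology C) (K : GrothendieckTopology D) [u.IsContinuous J K]
    [UnivLE.{v₁, max u₁ v₂}] [HasSheafify K AddCommGrpCat.{max u₁ v₂}]
    [HasPullbacks C] [HasEqualizers C]
    [PreservesLimitsOfShape WalkingCospan u] [PreservesLimitsOfShape WalkingParallelPair u] :
    PreservesFiniteLimits (u.sheafPullback AddCommGrpCat.{max u₁ v₂} J K) :=
  preservesFiniteLimits_sheafPullback_ab_of_compFilt u J K (compFilt_costructuredArrow u)

end SheafLevel

end Groth.Agent.Helper10.LanExact
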