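import Mathlib

/-!
# `Ext` and adjoint pairs of exact functors

For an adjunction `F ⊣ G` between abelian categories with enough injectives in which both functors
are exact, `Ext^n (F X) Y ≃+ Ext^n X (G Y)`.
-/

set_option autoImplicit false

open CategoryTheory CategoryTheory.Limits CategoryTheory.Abelian

namespace Groth.Agent.Helper10.ExtAdj

universe w w' w'' u u' u'' v v' v''

section ExtMap

variable {C : Type u} [Category.{v} C] [Abelian C] {D : Type u'} [Category.{v'} D] [Abelian D]
  [HasExt.{w} C] [HasExt.{w'} D]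

/-- A family of maps on `Ext`-groups over an exact functor `K`, compatible with `mk₀`,
composition and classes of short exact sequences. -/
structure ExtMap (K : C ⥤ D) [K.Additive] [PreservesFiniteLimits K]
    [PreservesFiniteColimits K] where
  map : ∀ {X Y : C} {n : ℕ}, Ext.{w} X Y n → Ext.{w'} (K.obj X) (K.obj Y) n
  map_mk₀ : ∀ {X Y : C} (f : X ⟶ Y), map (Ext.mk₀ f) = Ext.mk₀ (K.map f)
  map_comp : ∀ {X Y Z : C} {a b c : ℕ} (α : Ext X Y a) (β : Ext Y Z b) (h : a + b = c),
    map (α.comp β h) = (map α).comp (map β) h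
  map_extClass : ∀ {S : ShortComplex C} (hS : S.ShortExact),
    map hS.extClass = (hS.map_of_exact K).extClass

/-- The family of maps induced by an exact functor. -/
noncomputable def ExtMap.ofFunctor (K : C ⥤ D) [K.Additive] [PreservesFiniteLimits K]
    [PreservesFiniteColimits K] : ExtMap.{w, w'} K where
  map e := e.mapExactFunctor K
  map_mk₀ f := Ext.mapExactFunctor_mk₀ K f
  map_comp α β h := Ext.mapExactFunctor_comp K α β h
  map_extClass hS := Ext.mapExactFunctor_extClass K hS

end ExtMap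

section Id

variable {C : Type u} [Category.{v} C] [Abelian C] [HasExt.{w} C]

/-- The identity family. -/
def ExtMap.id : ExtMap.{w, w} (𝟭 C) where
  map e := e
  map_mk₀ _ := rfl
  map_comp _ _ _ := rfl
  map_extClass _ := rfl

end Id

section Comp

variable {C : Type u} [Category.{v} C] [Abelian C] {D : Type u'} [Category.{v'} D] [Abelian D]
  {E : Type u''} [Category.{v''} E] [Abelian E]
  [HasExt.{w} C] [HasExt.{w'} D] [HasExt.{w''} E]

/-- Composition of families. -/
def ExtMap.comp {K : C ⥤ D} [K.Additive] [PreservesFiniteLimits K] [PreservesFiniteColimits K]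
    {L : D ⥤ E} [L.Additive] [PreservesFiniteLimits L] [PreservesFiniteColimits L]
    (φ : ExtMap.{w, w'} K) (ψ : ExtMap.{w', w''} L) : ExtMap.{w, w''} (K ⋙ L) where
  map e := ψ.map (φ.map e)
  map_mk₀ f := by rw [φ.map_mk₀, ψ.map_mk₀]; rfl
  map_comp α β h := by rw [φ.map_comp, ψ.map_comp]
  map_extClass hS :=
    (congrArg ψ.map (φ.map_extClass hS)).trans (ψ.map_extClass (hS.map_of_exact K))

end Comp

section Naturality

variable {C : Type u} [Category.{v} C] [Abelian C] {D : Type u'} [Category.{v'} D] [Abelian D]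
  [HasExt.{w} C] [HasExt.{w'} D] [EnoughInjectives C]

/-- Naturality of a family of `Ext`-maps with respect to a natural transformation. -/
theorem ExtMap.naturality {K K' : C ⥤ D} [K.Additive] [PreservesFiniteLimits K]
    [PreservesFiniteColimits K] [K'.Additive] [PreservesFiniteLimits K']
    [PreservesFiniteColimits K'] (φ : ExtMap.{w, w'} K) (φ' : ExtMap.{w, w'} K') (τ : K ⟶ K')
    {X : C} (n : ℕ) : ∀ {Y : C} (e : Ext.{w} X Y n),
      (Ext.mk₀ (τ.app X)).comp (φ'.map e) (zero_add n) =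
        (φ.map e).comp (Ext.mk₀ (τ.app Y)) (add_zero n) := by
  induction n with
  | zero =>
    intro Y e
    obtain ⟨f, rfl⟩ := (Ext.mk₀_bijective X Y).2 e
    rw [φ.map_mk₀, φ'.map_mk₀, Ext.mk₀_comp_mk₀, Ext.mk₀_comp_mk₀, τ.naturality]
  | succ n ih =>
    intro Y e
    -- embed `Y` into an injective
    let I := Injective.under Y
    let ι : Y ⟶ I := Injective.ι Y
    let S : ShortComplex C := ShortComplex.mk ι (cokernel.π ι) (cokernel.condition ι)
    have hS : S.ShortExact :=
      { exact := ShortComplex.exact_cokernel ι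
        mono_f := inferInstanceAs (Mono (Injective.ι Y))
        epi_g := inferInstanceAs (Epi (cokernel.π ι)) }
    have h0 : e.comp (Ext.mk₀ S.f) (add_zero (n + 1)) = 0 :=
      Ext.eq_zero_of_injective (I := I) _
    obtain ⟨e', rfl⟩ := Ext.covariant_sequence_exact₁ X hS e h0 rfl
    -- the morphism of short complexes induced by `τ`
    let f : S.map K ⟶ S.map K' := S.mapNatTrans τ
    let c : Ext.{w} S.X₃ Y 1 := hS.extClass
    let cK : Ext.{w'} (K.obj S.X₃) (K.obj Y) 1 := (hS.map_of_exact K).extClass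
    let cK' : Ext.{w'} (K'.obj S.X₃) (K'.obj Y) 1 := (hS.map_of_exact K').extClass
    have hnat : cK.comp (Ext.mk₀ (τ.app Y)) (add_zero 1) =
        (Ext.mk₀ (τ.app S.X₃)).comp cK' (zero_add 1) :=
      ShortComplex.ShortExact.extClass_naturality (hS.map_of_exact K) (hS.map_of_exact K') f
    have e1 : φ.map (e'.comp c rfl) = (φ.map e').comp cK rfl :=
      (φ.map_comp e' c rfl).trans (congrArg (fun t => (φ.map e').comp t rfl) (φ.map_extClass hS))
    have e1' : φ'.map (e'.comp c rfl) = (φ'.map e').comp cK' rfl :=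
      (φ'.map_comp e' c rfl).trans
        (congrArg (fun t => (φ'.map e').comp t rfl) (φ'.map_extClass hS))
    calc (Ext.mk₀ (τ.app X)).comp (φ'.map (e'.comp c rfl)) (zero_add (n + 1))
        = (Ext.mk₀ (τ.app X)).comp ((φ'.map e').comp cK' rfl) (zero_add (n + 1)) :=
          congrArg (fun t => (Ext.mk₀ (τ.app X)).comp t (zero_add (n + 1))) e1'
      _ = ((Ext.mk₀ (τ.app X)).comp (φ'.map e') (zero_add n)).comp cK' rfl :=
          (Ext.comp_assoc _ _ _ (zero_add n) rfl (by omega)).symm
      _ = ((φ.map e').comp (Ext.mk₀ (τ.app S.X₃)) (add_zero n)).comp cK' rfl :=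
          congrArg (fun t => t.comp cK' rfl) (ih e')
      _ = (φ.map e').comp ((Ext.mk₀ (τ.app S.X₃)).comp cK' (zero_add 1)) rfl :=
          Ext.comp_assoc _ _ _ (add_zero n) (zero_add 1) (by omega)
      _ = (φ.map e').comp (cK.comp (Ext.mk₀ (τ.app Y)) (add_zero 1)) rfl :=
          congrArg (fun t => (φ.map e').comp t rfl) hnat.symm
      _ = ((φ.map e').comp cK rfl).comp (Ext.mk₀ (τ.app Y)) (add_zero (n + 1)) :=
          (Ext.comp_assoc _ _ _ rfl (add_zero 1) (by omega)).symm
      _ = (φ.map (e'.comp c rfl)).comp (Ext.mk₀ (τ.app Y)) (add_zero (n + 1)) :=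
          congrArg (fun t => t.comp (Ext.mk₀ (τ.app Y)) (add_zero (n + 1))) e1.symm

end Naturality

section Adj

variable {C : Type u} [Category.{v} C] [Abelian C] {D : Type u'} [Category.{v'} D] [Abelian D]
  [HasExt.{w} C] [HasExt.{w'} D] [EnoughInjectives C] [EnoughInjectives D]
  {F : C ⥤ D} {G : D ⥤ C} [F.Additive] [G.Additive] [PreservesFiniteLimits F]
  [PreservesFiniteColimits F] [PreservesFiniteLimits G] [PreservesFiniteColimits G]

omit [EnoughInjectives C] in
lemma left_inv_aux (adj : F ⊣ G) (X : C) (Y : D) (n : ℕ) (e : Ext.{w'} (F.obj X) Y n) :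
    (((Ext.mk₀ (adj.unit.app X)).comp (e.mapExactFunctor G) (zero_add n)).mapExactFunctor F).comp
      (Ext.mk₀ (adj.counit.app Y)) (add_zero n) = e := by
  have hnat := ExtMap.naturality ((ExtMap.ofFunctor.{w', w} G).comp (ExtMap.ofFunctor.{w, w'} F))
    (ExtMap.id.{w'} (C := D)) adj.counit n e
  have hnat' : (Ext.mk₀ (adj.counit.app (F.obj X))).comp e (zero_add n) =
      ((e.mapExactFunctor G).mapExactFunctor F).comp (Ext.mk₀ (adj.counit.app Y)) (add_zero n) :=
    hnat
  rw [Ext.mapExactFunctor_comp, Ext.mapExactFunctor_mk₀, Ext.comp_assoc_of_third_deg_zero,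
    ← hnat', Ext.mk₀_comp_mk₀_assoc]
  have h3 : Ext.mk₀.{w'} (F.map (adj.unit.app X) ≫ adj.counit.app (F.obj X)) =
      Ext.mk₀ (𝟙 (F.obj X)) := congrArg Ext.mk₀ (adj.left_triangle_components X)
  exact (congrArg (fun t => t.comp e (zero_add n)) h3).trans (Ext.mk₀_id_comp e)

omit [EnoughInjectives D] in
lemma right_inv_aux (adj : F ⊣ G) (X : C) (Y : D) (n : ℕ) (e : Ext.{w} X (G.obj Y) n) :
    (Ext.mk₀ (adj.unit.app X)).comp
      (((e.mapExactFunctor F).comp (Ext.mk₀ (adj.counit.app Y)) (add_zero n)).mapExactFunctor G)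
      (zero_add n) = e := by
  have hnat := ExtMap.naturality (ExtMap.id.{w} (C := C))
    ((ExtMap.ofFunctor.{w, w'} F).comp (ExtMap.ofFunctor.{w', w} G)) adj.unit n e
  have hnat' : (Ext.mk₀ (adj.unit.app X)).comp ((e.mapExactFunctor F).mapExactFunctor G)
      (zero_add n) = e.comp (Ext.mk₀ (adj.unit.app (G.obj Y))) (add_zero n) :=
    hnat
  rw [Ext.mapExactFunctor_comp, Ext.mapExactFunctor_mk₀,
    ← Ext.comp_assoc_of_third_deg_zero, hnat', Ext.comp_assoc_of_third_deg_zero,
    Ext.mk₀_comp_mk₀]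
  have h3 : Ext.mk₀.{w} (adj.unit.app (G.obj Y) ≫ G.map (adj.counit.app Y)) =
      Ext.mk₀ (𝟙 (G.obj Y)) := congrArg Ext.mk₀ (adj.right_triangle_components Y)
  exact (congrArg (fun t => e.comp t (add_zero n)) h3).trans (Ext.comp_mk₀_id e)

/-- For an adjoint pair of exact functors, `Ext^n (F X) Y ≃+ Ext^n X (G Y)`. -/
noncomputable def extAdjEquiv (adj : F ⊣ G) (X : C) (Y : D) (n : ℕ) :
    Ext.{w'} (F.obj X) Y n ≃+ Ext.{w} X (G.obj Y) n where
  toFun e := (Ext.mk₀ (adj.unit.app X)).comp (e.mapExactFunctor G) (zero_add n)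
  invFun e' := (e'.mapExactFunctor F).comp (Ext.mk₀ (adj.counit.app Y)) (add_zero n)
  left_inv e := left_inv_aux adj X Y n e
  right_inv e' := right_inv_aux adj X Y n e'
  map_add' a b := by
    rw [Ext.mapExactFunctor_add, Ext.comp_add]

end Adj

section Congr

variable {C : Type u} [Category.{v} C] [Abelian C] [HasExt.{w} C]

/-- `Ext` is invariant under isomorphisms in the first variable. -/
noncomputable def extCongrLeft {X X' : C} (i : X ≅ X') (Y : C) (n : ℕ) :
    Ext.{w} X' Y n ≃+ Ext.{w} X Y n where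
  toFun e := (Ext.mk₀ i.hom).comp e (zero_add n)
  invFun e := (Ext.mk₀ i.inv).comp e (zero_add n)
  left_inv e := by
    beta_reduce
    rw [Ext.mk₀_comp_mk₀_assoc, i.inv_hom_id, Ext.mk₀_id_comp]
  right_inv e := by
    beta_reduce
    rw [Ext.mk₀_comp_mk₀_assoc, i.hom_inv_id, Ext.mk₀_id_comp]
  map_add' a b := Ext.comp_add _ _ _ _

/-- `Ext` is invariant under isomorphisms in the second variable. -/
noncomputable def extCongrRight (X : C) {Y Y' : C} (i : Y ≅ Y') (n : ℕ) :
    Ext.{w} X Y n ≃+ Ext.{w} X Y' n where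
  toFun e := e.comp (Ext.mk₀ i.hom) (add_zero n)
  invFun e := e.comp (Ext.mk₀ i.inv) (add_zero n)
  left_inv e := by
    beta_reduce
    rw [Ext.comp_assoc_of_third_deg_zero, Ext.mk₀_comp_mk₀, i.hom_inv_id, Ext.comp_mk₀_id]
  right_inv e := by
    beta_reduce
    rw [Ext.comp_assoc_of_third_deg_zero, Ext.mk₀_comp_mk₀, i.inv_hom_id, Ext.comp_mk₀_id]
  map_add' a b := Ext.add_comp _ _ _ _

end Congr

end Groth.Agent.Helper10.ExtAdj
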