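import Mathlib
import Groth.Prelude.Def_RDerDelta
import Groth.Agent.S16463

/-!
# Degenerate Leray for `Ext` along an adjunction

For an adjunction `F ⊣ G` of abelian categories with `F` exact, and an object `Y` with
`R^q G (Y) = 0` for `q > 0`, the map `Ext^n(X, G Y) → Ext^n(F X, Y)`,
`x ↦ F(x) ≫ counit`, is bijective.
-/

set_option autoImplicit false

namespace Groth.Agent.Helper10.ExtLeray

open CategoryTheory CategoryTheory.Limits CategoryTheory.Abelian

universe w w' v v' u u'

variable {C : Type u} [Category.{v} C] [Abelian C] {D : Type u'} [Category.{v'} D] [Abelian D]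
variable {F : C ⥤ D} {G : D ⥤ C} (adj : F ⊣ G) [F.Additive] [PreservesFiniteLimits F]
  [PreservesFiniteColimits F]
variable [HasExt.{w} C] [HasExt.{w'} D]

/-- The map `Ext^n(X, G Y) → Ext^n(F X, Y)`, `x ↦ F(x) ≫ counit`. -/
noncomputable def counitMap (X : C) (Y : D) (n : ℕ) :
    Ext.{w} X (G.obj Y) n →+ Ext.{w'} (F.obj X) Y n :=
  ((Ext.mk₀ (adj.counit.app Y)).postcomp (F.obj X) (add_zero n)).comp
    (F.mapExtAddHom X (G.obj Y) n)

lemma counitMap_apply (X : C) (Y : D) (n : ℕ) (x : Ext.{w} X (G.obj Y) n) :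
    counitMap adj X Y n x =
      (x.mapExactFunctor F).comp (Ext.mk₀ (adj.counit.app Y)) (add_zero n) := rfl

lemma counitMap_mk₀ (X : C) (Y : D) (f : X ⟶ G.obj Y) :
    counitMap adj X Y 0 (Ext.mk₀ f) = Ext.mk₀ ((adj.homEquiv X Y).symm f) := by
  rw [counitMap_apply, Ext.mapExactFunctor_mk₀, Ext.mk₀_comp_mk₀, Adjunction.homEquiv_counit]

lemma counitMap_zero_bijective (X : C) (Y : D) : Function.Bijective (counitMap adj X Y 0) := by
  constructor
  · intro a b hab
    obtain ⟨f, rfl⟩ := (Ext.mk₀_bijective X (G.obj Y)).2 a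
    obtain ⟨g, rfl⟩ := (Ext.mk₀_bijective X (G.obj Y)).2 b
    rw [counitMap_mk₀, counitMap_mk₀] at hab
    have := (Ext.mk₀_bijective _ _).1 hab
    rw [(adj.homEquiv X Y).symm.injective this]
  · intro y
    obtain ⟨g, rfl⟩ := (Ext.mk₀_bijective _ _).2 y
    exact ⟨Ext.mk₀ (adj.homEquiv X Y g), by rw [counitMap_mk₀]; simp⟩

/-- Compatibility with post-composition by a morphism. -/
lemma counitMap_comp_mk₀ (X : C) {Y Y' : D} (g : Y ⟶ Y') (n : ℕ) (x : Ext.{w} X (G.obj Y) n) :
    counitMap adj X Y' n (x.comp (Ext.mk₀ (G.map g)) (add_zero n)) =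
      (counitMap adj X Y n x).comp (Ext.mk₀ g) (add_zero n) := by
  rw [counitMap_apply, counitMap_apply, Ext.mapExactFunctor_comp, Ext.mapExactFunctor_mk₀,
    Ext.comp_assoc_of_third_deg_zero, Ext.comp_assoc_of_third_deg_zero, Ext.mk₀_comp_mk₀,
    Ext.mk₀_comp_mk₀]
  have h := adj.counit_naturality g
  rw [h]

variable [G.Additive]

/-- The counit as a morphism of short complexes. -/
noncomputable def counitSC (S : ShortComplex D) : (S.map G).map F ⟶ S :=
  ShortComplex.homMk (adj.counit.app _) (adj.counit.app _) (adj.counit.app _)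
    (adj.counit_naturality S.f).symm (adj.counit_naturality S.g).symm

/-- Abstract compatibility with composition by degree one classes. -/
lemma comp_class_aux {X A₁ A₃ : C} {B₁ B₃ : D} (e' : Ext.{w} A₃ A₁ 1) (e : Ext.{w'} B₃ B₁ 1)
    (c₁ : F.obj A₁ ⟶ B₁) (c₃ : F.obj A₃ ⟶ B₃)
    (h : (e'.mapExactFunctor F).comp (Ext.mk₀ c₁) (add_zero 1) =
      (Ext.mk₀ c₃).comp e (zero_add 1)) (n : ℕ) (x : Ext.{w} X A₃ n) :
    ((x.comp e' rfl).mapExactFunctor F).comp (Ext.mk₀ c₁) (add_zero (n + 1)) =
      ((x.mapExactFunctor F).comp (Ext.mk₀ c₃) (add_zero n)).comp e rfl := by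
  rw [Ext.mapExactFunctor_comp, Ext.comp_assoc_of_third_deg_zero, h,
    Ext.comp_assoc_of_second_deg_zero]

/-- Compatibility with connecting maps. -/
lemma counitMap_comp_extClass (X : C) (S : ShortComplex D) (hS : S.ShortExact)
    (hGS : (S.map G).ShortExact) (n : ℕ) (x : Ext.{w} X (G.obj S.X₃) n) :
    counitMap adj X S.X₁ (n + 1)
        (x.comp (show Ext.{w} (G.obj S.X₃) (G.obj S.X₁) 1 from hGS.extClass) rfl) =
      (counitMap adj X S.X₃ n x).comp hS.extClass rfl := by
  have hnat := ShortComplex.ShortExact.extClass_naturality (hGS.map_of_exact F) hS (counitSC adj S)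
  have h2 := Ext.mapExactFunctor_extClass F hGS
  refine comp_class_aux (F := F) (show Ext.{w} (G.obj S.X₃) (G.obj S.X₁) 1 from hGS.extClass)
    hS.extClass (adj.counit.app S.X₁) (adj.counit.app S.X₃) ?_ n x
  exact (congrArg (fun t => t.comp (Ext.mk₀ (counitSC adj S).τ₁) (add_zero 1)) h2).trans hnat

section Main

variable [EnoughInjectives D] [PreservesFiniteLimits G]

omit [HasExt.{w} C] [HasExt.{w'} D] in
/-- If `R¹G` vanishes on the left term, `G` preserves the short exact sequence. -/
lemma shortExact_map_of_isZero (Δ : RDer.DerivedLES G) (S : ShortComplex D) (hS : S.ShortExact)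
    (h1 : IsZero ((G.rightDerived 1).obj S.X₁)) : (S.map G).ShortExact := by
  have hm : Mono (S.map G).f := by
    have := hS.mono_f
    exact (inferInstance : Mono (G.map S.f))
  have he : Epi (S.map G).g := by
    have h3 := Δ.exact₃ S hS 0 1 rfl
    have hepi : Epi ((G.rightDerived 0).map S.g) := h3.epi_f (h1.eq_of_tgt _ _)
    have hnat := G.rightDerivedZeroIsoSelf.hom.naturality S.g
    have : G.map S.g = G.rightDerivedZeroIsoSelf.inv.app S.X₂ ≫ (G.rightDerived 0).map S.g ≫
        G.rightDerivedZeroIsoSelf.hom.app S.X₃ := by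
      rw [hnat, ← Category.assoc, ← NatTrans.comp_app, Iso.inv_hom_id, NatTrans.id_app,
        Category.id_comp]
    show Epi (G.map S.g)
    rw [this]
    infer_instance
  exact
    { exact := hS.exact.map_of_mono_of_preservesKernel G hS.mono_f inferInstance
      mono_f := hm
      epi_g := he }

omit [HasExt.{w} C] [HasExt.{w'} D] [PreservesFiniteLimits G] in
/-- Vanishing of higher derived functors passes to the cokernel of an injective embedding. -/
lemma isZero_rightDerived_cokernel (Δ : RDer.DerivedLES G) (S : ShortComplex D)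
    (hS : S.ShortExact) [Injective S.X₂] (q : ℕ)
    (h : IsZero ((G.rightDerived (q + 2)).obj S.X₁)) :
    IsZero ((G.rightDerived (q + 1)).obj S.X₃) := by
  have h3 := Δ.exact₃ S hS (q + 1) (q + 2) rfl
  have hI : IsZero ((G.rightDerived (q + 1)).obj S.X₂) :=
    Functor.isZero_rightDerived_obj_injective_succ G q S.X₂
  exact h3.isZero_X₂ (hI.eq_of_src _ _) (h.eq_of_tgt _ _)

attribute [local instance] Ext.subsingleton_of_injective in
/-- Degenerate Leray: if `R^q G (Y) = 0` for `q > 0` then `Ext^n(X, G Y) → Ext^n(F X, Y)` is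
bijective. -/
theorem counitMap_bijective (Δ : RDer.DerivedLES G) (X : C) (n : ℕ) :
    ∀ (Y : D), (∀ q : ℕ, IsZero ((G.rightDerived (q + 1)).obj Y)) →
      Function.Bijective (counitMap.{w, w'} adj X Y n) := by
  induction n with
  | zero => intro Y _; exact counitMap_zero_bijective adj X Y
  | succ n hn =>
    intro Y hY
    let I : InjectivePresentation Y := Classical.arbitrary _
    let S := ShortComplex.mk _ _ (cokernel.condition I.f)
    have hS : S.ShortExact := { exact := ShortComplex.exact_cokernel I.f }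
    have : Injective S.X₂ := I.injective
    have hGS : (S.map G).ShortExact := shortExact_map_of_isZero Δ S hS (hY 0)
    have hQ : ∀ q : ℕ, IsZero ((G.rightDerived (q + 1)).obj S.X₃) := fun q =>
      isZero_rightDerived_cokernel Δ S hS q (hY (q + 1))
    have hI : ∀ q : ℕ, IsZero ((G.rightDerived (q + 1)).obj S.X₂) := fun q =>
      Functor.isZero_rightDerived_obj_injective_succ G q S.X₂
    have hGI : Injective (S.map G).X₂ := Injective.injective_of_adjoint adj S.X₂
    exact AddMonoidHom.bijective_of_surjective_of_bijective_of_right_exact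
      ((Ext.mk₀ (S.map G).g).postcomp X (add_zero n)) (hGS.extClass.postcomp X rfl)
      ((Ext.mk₀ S.g).postcomp (F.obj X) (add_zero n)) (hS.extClass.postcomp (F.obj X) rfl)
      (counitMap adj X S.X₂ n) (counitMap adj X S.X₃ n) (counitMap adj X S.X₁ (n + 1))
      (by
        ext x
        exact (counitMap_comp_mk₀ adj X S.g n x).symm)
      (by
        ext x
        exact (counitMap_comp_extClass adj X S hS hGS n x).symm)
      ((ShortComplex.ab_exact_iff_function_exact _).mp
        (Ext.covariant_sequence_exact₃' X hGS n (n + 1) rfl))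
      ((ShortComplex.ab_exact_iff_function_exact _).mp
        (Ext.covariant_sequence_exact₃' (F.obj X) hS n (n + 1) rfl))
      (hn _ hI).surjective (hn _ hQ)
      (fun x₁ ↦ Ext.covariant_sequence_exact₁ _ hGS x₁ (by subsingleton) rfl)
      (fun y₁ ↦ Ext.covariant_sequence_exact₁ _ hS y₁ (by subsingleton) rfl)

end Main

end Groth.Agent.Helper10.ExtLeray
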