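import Mathlib
import Groth.Prelude.Def_EtBase
import Groth.Agent.Lib.Helper10.LanExact

/-!
# Localization of the small étale site along an étale morphism

For an étale `j : V ⟶ Y` the functor `φ : V.Etale ⥤ Y.Etale` (composition with `j`) is
continuous, left adjoint to base change, and `j⁻¹` on abelian sheaves is restriction along `φ`,
which has an exact left adjoint `j_!`. Hence `j⁻¹` preserves injectives.
-/

set_option autoImplicit false

namespace Groth.Agent.Helper10.EtLoc

open CategoryTheory CategoryTheory.Limits AlgebraicGeometry Opposite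

universe u

/-- Pointwise criterion for covering sieves of the small étale site. -/
lemma mem_iff {X : Scheme.{u}} (U : X.Etale) (R : Sieve U) :
    R ∈ X.smallEtaleTopology U ↔
      ∀ x : U.left, ∃ (Z : X.Etale) (g : Z ⟶ U) (z : Z.left), R g ∧ g.left z = x := by
  have eX : X.smallEtaleTopology =
      (X.smallPretopology (P := EtCoh.etaleMP) (Q := EtCoh.etaleMP)).toGrothendieck :=
    Scheme.smallGrothendieckTopology_eq_toGrothendieck_smallPretopology X le_rfl
  rw [eX]
  constructor
  · intro h x
    obtain ⟨Z, g, z, h1, -, h3⟩ := (Scheme.mem_toGrothendieck_smallPretopology U R).1 h x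
    exact ⟨Z, g, z, h1, h3⟩
  · intro h
    refine (Scheme.mem_toGrothendieck_smallPretopology U R).2 ?_
    intro x
    obtain ⟨Z, g, z, h1, h3⟩ := h x
    exact ⟨Z, g, z, h1, inferInstance, h3⟩

variable {V Y : Scheme.{u}} (j : V ⟶ Y) [Etale j]

/-- Composition with `j`. -/
noncomputable def phi : V.Etale ⥤ Y.Etale :=
  MorphismProperty.Over.map ⊤ (inferInstance : Etale j)

/-- `φ ⊣ bc`. -/
noncomputable def phiAdj : phi j ⊣ EtCoh.bc j :=
  MorphismProperty.Over.mapPullbackAdj EtCoh.etaleMP ⊤ j (inferInstance : Etale j) trivial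

lemma phi_map_left {A B : V.Etale} (g : A ⟶ B) : ((phi j).map g).left = g.left := rfl

lemma phi_obj_left (A : V.Etale) : ((phi j).obj A).left = A.left := rfl

lemma phi_coverPreserving :
    CoverPreserving V.smallEtaleTopology Y.smallEtaleTopology (phi j) where
  cover_preserve {U S} hS := by
    rw [mem_iff] at hS ⊢
    intro x
    obtain ⟨Z, g, z, hg, hz⟩ := hS x
    exact ⟨(phi j).obj Z, (phi j).map g, z, Sieve.image_mem_functorPushforward _ _ hg, hz⟩

lemma phi_compatiblePreserving :
    CompatiblePreserving.{u + 1} Y.smallEtaleTopology (phi j) where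
  compatible {F Z T x hx Y₁ Y₂ W f₁ f₂ g₁ g₂ hg₁ hg₂ h} := by
    let a₁ : W.left ⟶ Y₁.left := f₁.left
    let a₂ : W.left ⟶ Y₂.left := f₂.left
    have ha₁ : Etale a₁ := (inferInstance : Etale f₁.left)
    have hY₁ : Etale Y₁.hom := Y₁.prop
    have hfY : Etale (a₁ ≫ Y₁.hom) := inferInstance
    let W' : V.Etale := Scheme.Etale.mk (a₁ ≫ Y₁.hom)
    have hl : a₁ ≫ g₁.left = a₂ ≫ g₂.left :=
      congrArg (fun t => t.left) h
    have w1 : g₁.left ≫ Z.hom = Y₁.hom := Over.w g₁.hom
    have w2 : g₂.left ≫ Z.hom = Y₂.hom := Over.w g₂.hom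
    let g₁' : W' ⟶ Y₁ := MorphismProperty.Over.homMk a₁ rfl trivial
    let g₂' : W' ⟶ Y₂ := MorphismProperty.Over.homMk a₂ (by
      show a₂ ≫ Y₂.hom = a₁ ≫ Y₁.hom
      calc a₂ ≫ Y₂.hom = a₂ ≫ g₂.left ≫ Z.hom := by rw [w2]
        _ = (a₂ ≫ g₂.left) ≫ Z.hom := (Category.assoc _ _ _).symm
        _ = (a₁ ≫ g₁.left) ≫ Z.hom := by rw [hl]
        _ = a₁ ≫ g₁.left ≫ Z.hom := Category.assoc _ _ _
        _ = a₁ ≫ Y₁.hom := by rw [w1]) trivial
    have hW : W'.hom ≫ j = W.hom := by
      show (a₁ ≫ Y₁.hom) ≫ j = W.hom
      rw [Category.assoc]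
      exact Over.w f₁.hom
    let e : (phi j).obj W' ≅ W := MorphismProperty.Over.isoMk (Iso.refl _) (by
      show 𝟙 _ ≫ W.hom = W'.hom ≫ j
      rw [Category.id_comp, hW])
    have hcomp : g₁' ≫ g₁ = g₂' ≫ g₂ := by
      apply MorphismProperty.Over.Hom.ext
      exact hl
    have key := hx g₁' g₂' hg₁ hg₂ hcomp
    have h1 : f₁ = e.inv ≫ (phi j).map g₁' := by
      apply MorphismProperty.Over.Hom.ext
      show f₁.left = 𝟙 _ ≫ f₁.left
      rw [Category.id_comp]
    have h2 : f₂ = e.inv ≫ (phi j).map g₂' := by
      apply MorphismProperty.Over.Hom.ext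
      show f₂.left = 𝟙 _ ≫ f₂.left
      rw [Category.id_comp]
    rw [h1, h2, op_comp, op_comp, F.obj.map_comp, F.obj.map_comp]
    exact congrArg (F.obj.map e.inv.op) key

instance phi_cont : (phi j).IsContinuous V.smallEtaleTopology Y.smallEtaleTopology :=
  Functor.isContinuous_of_coverPreserving (phi_compatiblePreserving j) (phi_coverPreserving j)

/-- Restriction along `φ`. -/
noncomputable abbrev res : EtCoh.Ab Y ⥤ EtCoh.Ab V :=
  (phi j).sheafPushforwardContinuous AddCommGrpCat.{u + 1} V.smallEtaleTopology
    Y.smallEtaleTopology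

/-- Extension by zero `j_!`. -/
noncomputable abbrev shriek : EtCoh.Ab V ⥤ EtCoh.Ab Y :=
  (phi j).sheafPullback AddCommGrpCat.{u + 1} V.smallEtaleTopology Y.smallEtaleTopology

/-- `j_! ⊣ res`. -/
noncomputable abbrev shriekAdj : shriek j ⊣ res j :=
  (phi j).sheafAdjunctionContinuous AddCommGrpCat.{u + 1} V.smallEtaleTopology
    Y.smallEtaleTopology

/-- `res ⊣ j_*`. -/
noncomputable def resPushAdj : res j ⊣ EtCoh.push j :=
  (Adjunction.whiskerLeft AddCommGrpCat.{u + 1} (phiAdj j).op).restrictFullyFaithful
    (fullyFaithfulSheafToPresheaf Y.smallEtaleTopology AddCommGrpCat.{u + 1})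
    (fullyFaithfulSheafToPresheaf V.smallEtaleTopology AddCommGrpCat.{u + 1})
    ((phi j).sheafPushforwardContinuousCompSheafToPresheafIso AddCommGrpCat.{u + 1}
      V.smallEtaleTopology Y.smallEtaleTopology).symm
    ((EtCoh.bc j).sheafPushforwardContinuousCompSheafToPresheafIso AddCommGrpCat.{u + 1}
      Y.smallEtaleTopology V.smallEtaleTopology).symm

/-- `j⁻¹` is restriction along `φ`. -/
noncomputable def pullIsoRes : EtCoh.pull j ≅ res j :=
  Adjunction.leftAdjointUniq (EtCoh.pullPushAdj j) (resPushAdj j)

instance res_additive : (res j).Additive where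

instance shriek_additive : (shriek j).Additive := (shriekAdj j).left_adjoint_additive

instance overMap_preservesPullbacks {C : Type*} [Category C] {X Y : C} (f : X ⟶ Y) :
    PreservesLimitsOfShape WalkingCospan (Over.map f) := by
  have : PreservesLimitsOfShape WalkingCospan (Over.map f ⋙ Over.forget Y) :=
    preservesLimitsOfShape_of_natIso (Over.mapForget f).symm
  exact preservesLimitsOfShape_of_reflects_of_preserves (Over.map f) (Over.forget Y)

instance overMap_preservesEqualizers {C : Type*} [Category C] {X Y : C} (f : X ⟶ Y) :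
    PreservesLimitsOfShape WalkingParallelPair (Over.map f) := by
  have : PreservesLimitsOfShape WalkingParallelPair (Over.map f ⋙ Over.forget Y) :=
    preservesLimitsOfShape_of_natIso (Over.mapForget f).symm
  exact preservesLimitsOfShape_of_reflects_of_preserves (Over.map f) (Over.forget Y)

/-- `φ` followed by the forgetful functor. -/
noncomputable def phiForgetIso :
    phi j ⋙ Scheme.Etale.forget Y ≅ Scheme.Etale.forget V ⋙ Over.map j := Iso.refl _

instance phi_preservesPullbacks : PreservesLimitsOfShape WalkingCospan (phi j) := by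
  have : PreservesLimitsOfShape WalkingCospan (phi j ⋙ Scheme.Etale.forget Y) :=
    preservesLimitsOfShape_of_natIso (phiForgetIso j).symm
  exact preservesLimitsOfShape_of_reflects_of_preserves (phi j) (Scheme.Etale.forget Y)

instance phi_preservesEqualizers : PreservesLimitsOfShape WalkingParallelPair (phi j) := by
  have : PreservesLimitsOfShape WalkingParallelPair (phi j ⋙ Scheme.Etale.forget Y) :=
    preservesLimitsOfShape_of_natIso (phiForgetIso j).symm
  exact preservesLimitsOfShape_of_reflects_of_preserves (phi j) (Scheme.Etale.forget Y)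

theorem shriek_preservesFiniteLimits : PreservesFiniteLimits (shriek j) := by
  exact Groth.Agent.Helper10.LanExact.preservesFiniteLimits_sheafPullback_ab (phi j) _ _

/-- Restriction along `φ` preserves injectives. -/
theorem injective_res (I : EtCoh.Ab Y) [Injective I] : Injective ((res j).obj I) := by
  have := shriek_preservesFiniteLimits j
  exact Injective.injective_of_adjoint (shriekAdj j) I

/-- `j⁻¹` preserves injectives for étale `j`. -/
theorem injective_pull (I : EtCoh.Ab Y) [Injective I] : Injective ((EtCoh.pull j).obj I) := by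
  have := injective_res j I
  exact Injective.of_iso ((pullIsoRes j).app I).symm inferInstance

end Groth.Agent.Helper10.EtLoc
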