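import Mathlib

/-!
# `Ext` functors along exact fully faithful functors preserving injectives (helper10)

For an exact, fully faithful functor `F : C ⥤ D` between abelian categories which preserves
injective objects (e.g. an equivalence), `Ext^n(A, -) ≅ F ⋙ Ext^n(F A, -)` naturally.
-/

universe w v v' u u'

open CategoryTheory CategoryTheory.Limits CategoryTheory.Abelian

namespace Groth.Agent.Helper10.ExtEquiv

variable {C : Type u} [Category.{v} C] [Abelian C] {D : Type u'} [Category.{v'} D] [Abelian D]
variable (F : C ⥤ D) [F.Additive] [PreservesFiniteLimits F] [PreservesFiniteColimits F]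
variable [HasExt.{w} C] [HasExt.{w} D]

/-- The natural isomorphism `Ext^n(A, -) ≅ F ⋙ Ext^n(F A, -)`. -/
noncomputable def extIso [F.Full] [F.Faithful] [EnoughInjectives C] [F.PreservesInjectiveObjects]
    (A : C) (n : ℕ) :
    extFunctorObj.{w} A n ≅ F ⋙ extFunctorObj.{w} (F.obj A) n :=
  NatIso.ofComponents
    (fun Y => (AddEquiv.ofBijective (F.mapExtAddHom A Y n)
      (F.mapExt_bijective_of_preservesInjectiveObjects A Y n)).toAddCommGrpIso)
    (by
      intro Y Y' g
      ext x
      change ((x : Ext.{w} A Y n).comp (Ext.mk₀ g) (add_zero n)).mapExactFunctor F =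
        ((x : Ext.{w} A Y n).mapExactFunctor F).comp (Ext.mk₀ (F.map g)) (add_zero n)
      rw [Ext.mapExactFunctor_comp, Ext.mapExactFunctor_mk₀])

/-- `Ext^n(A, -) ≅ Ext^n(A', -)` for `A ≅ A'`. -/
noncomputable def extIsoLeft {A A' : C} (i : A ≅ A') (n : ℕ) :
    extFunctorObj.{w} A n ≅ extFunctorObj.{w} A' n :=
  (extFunctor.{w} n).mapIso i.symm.op

end Groth.Agent.Helper10.ExtEquiv
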