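import Mathlib
import Groth.Prelude.Def_EtBase
import Groth.Prelude.Def_EtCore
import Groth.Prelude.Def_CohCx
import Groth.Agent.Lib.Helper10.ExtEquiv
import Groth.Agent.Lib.Helper10.EtLoc

/-!
# A small model of the small étale site (helper10)

`Cs X = AsSmall X.Etale` with the induced topology `Ks X`; the equivalence of sheaf categories
`Phi X`; étale cohomology `EtCoh.HF X n` as `Ext` from the free sheaf on the terminal object of the
small model (`hfIso`); the class `Bs X` of quasi-compact quasi-separated objects, its stability under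
fibre products (`prod_mem`), and finite refinements of coverings (`exists_finite_refinement`).
-/

universe u
open CategoryTheory CategoryTheory.Limits AlgebraicGeometry Opposite

namespace Groth.Agent.Helper10.SmallEt

section General

variable {C : Type (u+1)} [SmallCategory C] (K : GrothendieckTopology C) {T : C} (hT : IsTerminal T)

/-- On a category with terminal object `T`, the constant presheaf `ℤ` is the free presheaf on `h_T`. -/
noncomputable def constPresheafIso :
    (Functor.const Cᵒᵖ).obj (AddCommGrpCat.of (ULift.{u+1} ℤ)) ≅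
      yoneda.obj T ⋙ AddCommGrpCat.free.{u+1} :=
  NatIso.ofComponents (fun V =>
    haveI : Unique (V.unop ⟶ T) := ⟨⟨hT.from _⟩, fun f => hT.hom_ext _ _⟩
    (AddEquiv.ulift.trans (FreeAbelianGroup.uniqueEquiv (V.unop ⟶ T)).symm).toAddCommGrpIso)
    (by
      intro V W f
      ext x
      change (x.down • FreeAbelianGroup.of (hT.from W.unop) : FreeAbelianGroup (W.unop ⟶ T)) =
        FreeAbelianGroup.map ((yoneda.obj T).map f)
          (x.down • FreeAbelianGroup.of (hT.from V.unop))
      rw [map_zsmul, FreeAbelianGroup.map_of_apply]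
      congr 2
      exact hT.hom_ext _ _)

end General

section Et

variable (X : Scheme.{u})

abbrev Cs : Type (u+1) := AsSmall.{u+1} X.Etale

noncomputable abbrev eqv : X.Etale ≌ Cs X := AsSmall.equiv

noncomputable abbrev Ks : GrothendieckTopology (Cs X) :=
  (eqv X).inverse.inducedTopology X.smallEtaleTopology

noncomputable abbrev Phi : EtCoh.Ab X ≌ Sheaf (Ks X) AddCommGrpCat.{u+1} :=
  (eqv X).sheafCongr X.smallEtaleTopology (Ks X) AddCommGrpCat.{u+1}

instance : (Phi X).functor.Additive := by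
  have : PreservesBinaryBiproducts (Phi X).functor :=
    preservesBinaryBiproducts_of_preservesBinaryProducts _
  exact Functor.additive_of_preservesBinaryBiproducts _

/-- The terminal object of the small model. -/
noncomputable abbrev Ts : Cs X := (eqv X).functor.obj (EtCoh.top X)

noncomputable def tsIsTerminal : IsTerminal (Ts X) :=
  IsTerminal.isTerminalObj (eqv X).functor _ (EtCore.topIsTerminal X)

noncomputable def constIso :
    constantSheaf X.smallEtaleTopology AddCommGrpCat.{u+1} ⋙ (Phi X).functor ≅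
      constantSheaf (Ks X) AddCommGrpCat.{u+1} :=
  (((constantSheafAdj X.smallEtaleTopology AddCommGrpCat.{u+1} (EtCore.topIsTerminal X)).comp
      (Phi X).toAdjunction).ofNatIsoRight
    (NatIso.ofComponents (fun G => Iso.refl _) (by intros; simp; rfl) :
      (Phi X).inverse ⋙ (sheafSections X.smallEtaleTopology AddCommGrpCat.{u+1}).obj (op (EtCoh.top X)) ≅
      (sheafSections (Ks X) AddCommGrpCat.{u+1}).obj (op (Ts X)))).leftAdjointUniq
    (constantSheafAdj (Ks X) AddCommGrpCat.{u+1} (tsIsTerminal X))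

/-- The constant sheaf `ℤ` on `X_et`. -/
noncomputable abbrev constZ : EtCoh.Ab X :=
  (constantSheaf X.smallEtaleTopology AddCommGrpCat.{u+1}).obj (AddCommGrpCat.of (ULift ℤ))

noncomputable def zIso :
    (Phi X).functor.obj (constZ X) ≅ CohCx.freeSheaf (Ks X) (Ts X) :=
  (constIso X).app _ ≪≫ (presheafToSheaf _ _).mapIso (constPresheafIso (tsIsTerminal X))

noncomputable def hfIso (n : ℕ) :
    EtCoh.HF X n ≅
      (Phi X).functor ⋙ (Sheaf.cohomologyPresheafFunctor (Ks X) n).flip.obj (op (Ts X)) :=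
  (Iso.refl _ : EtCoh.HF X n ≅ Abelian.extFunctorObj (constZ X) n) ≪≫
    ExtEquiv.extIso (Phi X).functor (constZ X) n ≪≫
    Functor.isoWhiskerLeft (Phi X).functor (ExtEquiv.extIsoLeft (zIso X) n ≪≫ Iso.refl _)

end Et

section Geom

variable (X : Scheme.{u})

noncomputable abbrev toSch : Cs X ⥤ Scheme.{u} :=
  (eqv X).inverse ⋙ Scheme.Etale.forget X ⋙ Over.forget X

/-- The class of quasi-compact quasi-separated objects. -/
def Bs : Set (Cs X) := {U | CompactSpace ((toSch X).obj U) ∧ QuasiSeparatedSpace ((toSch X).obj U)}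

variable {X}

lemma mem_Bs_of_isPullback {P Y Z U : Cs X} {f : P ⟶ Y} {g : P ⟶ Z} {a : Y ⟶ U} {b : Z ⟶ U}
    (h : IsPullback f g a b) (hY : Y ∈ Bs X) (hZ : Z ∈ Bs X) (hU : U ∈ Bs X) : P ∈ Bs X := by
  have h' := h.map (toSch X)
  obtain ⟨hY1, hY2⟩ := hY
  obtain ⟨hZ1, hZ2⟩ := hZ
  obtain ⟨hU1, hU2⟩ := hU
  have hb1 : QuasiCompact ((toSch X).map b) := inferInstance
  have hb2 : QuasiSeparated ((toSch X).map b) := inferInstance
  have hf1 : QuasiCompact ((toSch X).map f) := MorphismProperty.of_isPullback h'.flip hb1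
  have hf2 : QuasiSeparated ((toSch X).map f) := MorphismProperty.of_isPullback h'.flip hb2
  exact ⟨QuasiCompact.compactSpace_of_compactSpace ((toSch X).map f),
    quasiSeparatedSpace_of_quasiSeparated ((toSch X).map f)⟩

lemma mem_Bs_of_iso {U V : Cs X} (i : U ≅ V) (hU : U ∈ Bs X) : V ∈ Bs X := by
  obtain ⟨hU1, hU2⟩ := hU
  have : IsIso ((toSch X).map i.inv) := inferInstance
  exact ⟨QuasiCompact.compactSpace_of_compactSpace ((toSch X).map i.inv),
    quasiSeparatedSpace_of_quasiSeparated ((toSch X).map i.inv)⟩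

/-- The property of objects over `U` of being quasi-compact quasi-separated. -/
def PB (U : Cs X) : ObjectProperty (Over U) := fun Z => Z.left ∈ Bs X

lemma prod_mem (U : Cs X) (hU : U ∈ Bs X) {J : Type*} [Finite J] (f : J → Over U) [HasProduct f]
    (h : ∀ j, (f j).left ∈ Bs X) : (∏ᶜ f).left ∈ Bs X := by
  have h0 : (PB U).IsClosedUnderIsomorphisms :=
    ⟨fun i h => mem_Bs_of_iso ((Over.forget U).mapIso i) h⟩
  have h1 : (PB U).IsClosedUnderLimitsOfShape (Discrete.{0} PEmpty) := by
    refine ⟨fun Z ⟨hZ⟩ => ?_⟩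
    have hT : IsTerminal Z :=
      (IsLimit.equivOfNatIsoOfIso hZ.diag.uniqueFromEmpty _ _
        (by exact Cone.ext (Iso.refl _) (by rintro ⟨⟨⟩⟩))).1 hZ.isLimit
    have i : Over.mk (𝟙 U) ≅ Z := IsTerminal.uniqueUpToIso Over.mkIdTerminal hT
    exact mem_Bs_of_iso ((Over.forget U).mapIso i) hU
  have h2 : (PB U).IsClosedUnderBinaryProducts := by
    refine ObjectProperty.IsClosedUnderLimitsOfShape.mk' ?_
    rintro _ ⟨F, hF⟩
    have hc := (IsLimit.postcomposeHomEquiv (diagramIsoPair F) _).symm (limit.isLimit F)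
    have hp := Over.isPullback_of_binaryFan_isLimit _ hc
    exact mem_Bs_of_isPullback hp (hF _) (hF _) hU
  have h3 : HasFiniteProducts (Over U) := inferInstance
  have h4 := ObjectProperty.IsClosedUnderFiniteProducts.mk' (P := PB U)
  exact (PB U).prop_product h

lemma mem_Ks_iff {U : Cs X} (S : Sieve U) :
    S ∈ Ks X U ↔ ∀ x : ((toSch X).obj U : Scheme.{u}), ∃ (V : Cs X) (g : V ⟶ U)
      (y : ((toSch X).obj V : Scheme.{u})), S g ∧ ((toSch X).map g).base y = x := by
  rw [Functor.mem_inducedTopology_iff_of_isCoverDense, Groth.Agent.Helper10.EtLoc.mem_iff]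
  constructor
  · intro h x
    obtain ⟨Z, g, z, ⟨W, k, l, hk, rfl⟩, hz⟩ := h x
    refine ⟨⟨Z⟩, ⟨l⟩ ≫ k, z, S.downward_closed hk _, ?_⟩
    exact hz
  · intro h x
    obtain ⟨V, g, y, hg, hy⟩ := h x
    exact ⟨(eqv X).inverse.obj V, (eqv X).inverse.map g, y,
      Sieve.image_mem_functorPushforward _ _ hg, hy⟩

lemma ofArrows_mem {U : Cs X} {ι : Type*} (Y : ι → Over U)
    (h : ∀ x : ((toSch X).obj U : Scheme.{u}), ∃ (i : ι) (y : ((toSch X).obj (Y i).left : Scheme.{u})),
      ((toSch X).map (Y i).hom).base y = x) :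
    Sieve.ofArrows (fun i => (Y i).left) (fun i => (Y i).hom) ∈ Ks X U := by
  rw [mem_Ks_iff]
  intro x
  obtain ⟨i, y, hy⟩ := h x
  exact ⟨(Y i).left, (Y i).hom, y, Sieve.ofArrows_mk _ _ i, hy⟩

lemma exists_finite_refinement {U : Cs X} (hU : U ∈ Bs X) (T : Sieve U) (hT : T ∈ Ks X U) :
    ∃ (ι : Type (u+1)) (Y : ι → Over U), Finite ι ∧ (∀ i, (Y i).left ∈ Bs X) ∧
      (∀ x : ((toSch X).obj U : Scheme.{u}), ∃ (i : ι) (y : ((toSch X).obj (Y i).left : Scheme.{u})),
        ((toSch X).map (Y i).hom).base y = x) ∧ ∀ i, T.arrows (Y i).hom := by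
  rw [mem_Ks_iff] at hT
  obtain ⟨hU1, hU2⟩ := hU
  -- for every point, an affine étale neighbourhood in `T`
  have key : ∀ x : ((toSch X).obj U : Scheme.{u}), ∃ (V : Cs X) (g : V ⟶ U),
      IsAffine ((toSch X).obj V) ∧ T g ∧ x ∈ Set.range ((toSch X).map g).base := by
    intro x
    obtain ⟨V, g, y, hg, hy⟩ := hT x
    obtain ⟨W, hW, hyW, -⟩ := TopologicalSpace.Opens.isBasis_iff_nbhd.mp
      (Scheme.isBasis_affineOpens ((toSch X).obj V)) (TopologicalSpace.Opens.mem_top y)
    let V₀ : X.Etale := (eqv X).inverse.obj V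
    let W' : (V₀.left : Scheme.{u}).Opens := W
    let Z : X.Etale := Scheme.Etale.mk (W'.ι ≫ V₀.hom)
    let k : Z ⟶ V₀ := MorphismProperty.Over.homMk W'.ι rfl trivial
    refine ⟨⟨Z⟩, ⟨k⟩ ≫ g, hW, T.downward_closed hg _, ?_⟩
    refine ⟨⟨y, hyW⟩, ?_⟩
    rw [Functor.map_comp]
    exact hy
  choose V g hV hg hx using key
  have hopen : ∀ x, IsOpen (Set.range ((toSch X).map (g x)).base) := fun x => by
    have : Etale ((toSch X).map (g x)) := by
      change Etale ((eqv X).inverse.map (g x)).left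
      infer_instance
    exact ((toSch X).map (g x)).isOpenMap.isOpen_range
  obtain ⟨t, ht⟩ := isCompact_univ.elim_finite_subcover
    (fun x => Set.range ((toSch X).map (g x)).base) hopen (fun x _ => Set.mem_iUnion.2 ⟨x, hx x⟩)
  refine ⟨ULift.{u+1} t, fun i => Over.mk (g i.down.1), inferInstance, fun i => ?_, fun x => ?_,
    fun i => hg _⟩
  · have : IsAffine ((toSch X).obj (V i.down.1)) := hV i.down.1
    exact ⟨(inferInstance : CompactSpace ((toSch X).obj (V i.down.1))),
      (inferInstance : QuasiSeparatedSpace ((toSch X).obj (V i.down.1)))⟩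
  · obtain ⟨y, hy⟩ := Set.mem_iUnion.1 (ht (Set.mem_univ x))
    obtain ⟨hyt, z, hz⟩ := Set.mem_iUnion.1 hy
    exact ⟨⟨⟨y, hyt⟩⟩, z, hz⟩

end Geom

end Groth.Agent.Helper10.SmallEt
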