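import Mathlib
import Groth.Prelude.Def_Fitting

namespace Groth.Agent.Lib.Helper10.Fitting

open Matrix Finset

variable {R : Type*} [CommRing R] {M : Type*} [AddCommGroup M] [Module R M]

/-- `v` is a relation among the family `x`. -/
def IsRel {ι : Type*} [Fintype ι] (x : ι → M) (v : ι → R) : Prop := ∑ j, v j • x j = 0

/-- free-set version of the ideal of determinants -/
def Jf {ι : Type*} [Fintype ι] [DecidableEq ι] (x : ι → M) (k : ℕ) : Ideal R :=
  Ideal.span {d | ∃ (a : Matrix ι ι R) (S : Finset ι), S.card ≤ k ∧ (∀ i, i ∉ S → IsRel x (a i)) ∧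
    d = a.det}

/-- ordered version -/
def Jo {n : ℕ} (x : Fin n → M) (k : ℕ) : Ideal R :=
  Ideal.span {d | ∃ a : Matrix (Fin n) (Fin n) R,
    (∀ i : Fin n, (i : ℕ) < n - k → IsRel x (a i)) ∧ d = a.det}

lemma Jf_comp_le {ι κ : Type*} [Fintype ι] [DecidableEq ι] [Fintype κ] [DecidableEq κ]
    (x : ι → M) (e : κ ≃ ι) (k : ℕ) : Jf (R := R) (x ∘ e) k ≤ Jf x k := by
  refine Ideal.span_le.2 ?_
  rintro d ⟨a, S, hS, hrel, rfl⟩
  refine Ideal.subset_span ⟨a.submatrix e.symm e.symm, S.map e.toEmbedding, by simpa using hS, ?_, ?_⟩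
  · intro i hi
    have hi' : e.symm i ∉ S := by
      intro h
      apply hi
      simp only [Finset.mem_map_equiv]
      exact h
    have := hrel _ hi'
    unfold IsRel at this ⊢
    rw [← this]
    refine (Fintype.sum_equiv e _ _ ?_).symm
    intro j
    simp
  · simp

lemma Jf_comp {ι κ : Type*} [Fintype ι] [DecidableEq ι] [Fintype κ] [DecidableEq κ]
    (x : ι → M) (e : κ ≃ ι) (k : ℕ) : Jf (R := R) (x ∘ e) k = Jf x k := by
  refine le_antisymm (Jf_comp_le x e k) ?_
  have := Jf_comp_le (R := R) (x ∘ e) e.symm k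
  have h2 : (x ∘ e) ∘ e.symm = x := by
    funext i; simp
  rwa [h2] at this

/-- core step: adding a redundant element at the front -/
lemma Jf_cons {n : ℕ} (x : Fin n → M) (y : M) (hy : y ∈ Submodule.span R (Set.range x)) (k : ℕ) :
    Jf (R := R) (Fin.cons y x : Fin (n + 1) → M) k = Jf x k := by
  obtain ⟨c, hc⟩ := (Submodule.mem_span_range_iff_exists_fun R).1 hy
  apply le_antisymm
  · refine Ideal.span_le.2 ?_
    rintro d ⟨a', S', hS', hrel, rfl⟩
    -- column operation
    let b : Matrix (Fin (n + 1)) (Fin (n + 1)) R :=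
      fun i j => a' i j + (Fin.cons 0 c : Fin (n + 1) → R) j * a' i 0
    have hdet : b.det = a'.det := by
      rw [← det_transpose, ← det_transpose a']
      refine det_eq_of_forall_row_eq_smul_add_const (Fin.cons 0 c : Fin (n + 1) → R) 0 (by simp) ?_
      intro i j
      simp [b, transpose_apply]
    rw [SetLike.mem_coe, ← hdet, det_succ_column_zero]
    refine Ideal.sum_mem _ (fun i _ => Ideal.mul_mem_left _ _ ?_)
    refine Ideal.subset_span ⟨b.submatrix i.succAbove Fin.succ,
      Finset.univ.filter (fun l => i.succAbove l ∈ S'), ?_, ?_, rfl⟩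
    · refine le_trans (Finset.card_le_card_of_injOn i.succAbove ?_ ?_) hS'
      · intro l hl
        simpa using hl
      · exact Fin.succAbove_right_injective.injOn
    · intro l hl
      have hl' : i.succAbove l ∉ S' := by simpa using hl
      have h1 := hrel _ hl'
      unfold IsRel at h1 ⊢
      rw [Fin.sum_univ_succ] at h1
      simp only [Fin.cons_zero, Fin.cons_succ] at h1
      simp only [submatrix_apply, b, Fin.cons_succ, add_smul, Finset.sum_add_distrib]
      rw [← hc, Finset.smul_sum] at h1
      rw [← h1, add_comm]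
      congr 1
      refine Finset.sum_congr rfl (fun j _ => ?_)
      rw [smul_smul, mul_comm]
  · refine Ideal.span_le.2 ?_
    rintro d ⟨a, S, hS, hrel, rfl⟩
    let a' : Matrix (Fin (n + 1)) (Fin (n + 1)) R :=
      Fin.cons (Fin.cons (-1) c) (fun i => Fin.cons 0 (a i))
    have hdet : a'.det = - a.det := by
      rw [det_succ_column_zero, Fin.sum_univ_succ]
      have h0 : a'.submatrix Fin.succ Fin.succ = a := by
        ext i j
        simp [a']
      have h1 : ∀ i : Fin n, a' i.succ 0 = 0 := by
        intro i; simp [a']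
      have h2 : a' 0 0 = -1 := by simp [a']
      simp [h0, h1, h2]
    have hmem : a'.det ∈ Jf (R := R) (Fin.cons y x : Fin (n + 1) → M) k := by
      refine Ideal.subset_span ⟨a', S.map (Fin.succEmb n), by simpa using hS, ?_, rfl⟩
      intro r hr
      unfold IsRel
      rw [Fin.sum_univ_succ]
      revert hr
      refine Fin.cases ?_ (fun i => ?_) r
      · intro _
        simp only [a', Fin.cons_zero, Fin.cons_succ]
        rw [← hc]; simp
      · intro hr
        have hi : i ∉ S := by
          intro h
          apply hr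
          simp only [Finset.mem_map]
          exact ⟨i, h, rfl⟩
        have := hrel i hi
        unfold IsRel at this
        simp only [a', Fin.cons_zero, Fin.cons_succ, zero_smul, zero_add]
        exact this
    have : a.det = - a'.det := by rw [hdet, neg_neg]
    rw [SetLike.mem_coe, this]
    exact (Ideal.neg_mem_iff _).2 hmem

/-- option step -/
lemma Jf_option {ι : Type*} [Fintype ι] [DecidableEq ι] (x : ι → M) (y : M)
    (hy : y ∈ Submodule.span R (Set.range x)) (k : ℕ) :
    Jf (R := R) (fun o : Option ι => o.elim y x) k = Jf x k := by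
  classical
  let n := Fintype.card ι
  let e : ι ≃ Fin n := Fintype.equivFin ι
  let x' : Fin n → M := x ∘ e.symm
  let E : Option ι ≃ Fin (n + 1) := (Equiv.optionCongr e).trans (finSuccEquiv n).symm
  have h1 : (fun o : Option ι => o.elim y x) = (Fin.cons y x' : Fin (n + 1) → M) ∘ E := by
    funext o
    cases o with
    | none => simp [E]
    | some i => simp [E, x']
  have hy' : y ∈ Submodule.span R (Set.range x') := by
    have : Set.range x' = Set.range x := by
      simp only [x']
      exact e.symm.surjective.range_comp x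
    rwa [this]
  rw [h1, Jf_comp, Jf_cons x' y hy' k]
  exact Jf_comp x e.symm k

/-- sum step -/
lemma Jf_sum {ι : Type*} [Fintype ι] [DecidableEq ι] (x : ι → M) (k : ℕ)
    (κ : Type) [Finite κ] : ∀ [Fintype κ] [DecidableEq κ] (y : κ → M),
    (∀ l, y l ∈ Submodule.span R (Set.range x)) →
    Jf (R := R) (Sum.elim x y) k = Jf x k := by
  refine Finite.induction_empty_option (P := fun κ => ∀ [Fintype κ] [DecidableEq κ] (y : κ → M),
    (∀ l, y l ∈ Submodule.span R (Set.range x)) →
    Jf (R := R) (Sum.elim x y) k = Jf x k) ?_ ?_ ?_ κ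
  · intro α β e ih _ _ y hy
    classical
    let _ : Fintype α := Fintype.ofEquiv β e.symm
    have h1 : Sum.elim x (y ∘ e) = Sum.elim x y ∘ (Equiv.sumCongr (Equiv.refl ι) e) := by
      funext o
      cases o <;> simp
    have := ih (y ∘ e) (fun l => hy (e l))
    rw [h1, Jf_comp] at this
    exact this
  · intro _ _ y _
    have h1 : x = Sum.elim x y ∘ (Equiv.sumEmpty ι PEmpty).symm := by
      funext i
      simp
    conv_rhs => rw [h1]
    rw [Jf_comp]
  · intro α _ ih instF inst y hy
    classical
    let E : Option (ι ⊕ α) ≃ ι ⊕ Option α :=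
      { toFun := fun o => o.elim (Sum.inr none) (Sum.elim Sum.inl (fun a => Sum.inr (some a)))
        invFun := Sum.elim (fun i => some (Sum.inl i)) (fun o => o.elim none (fun a => some (Sum.inr a)))
        left_inv := by
          intro o
          rcases o with _ | (i | a) <;> rfl
        right_inv := by
          intro o
          rcases o with i | (_ | a) <;> rfl }
    have h1 : (Sum.elim x y) ∘ E =
        fun o : Option (ι ⊕ α) => o.elim (y none) (Sum.elim x (y ∘ some)) := by
      funext o
      rcases o with _ | (i | a) <;> rfl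
    rw [← Jf_comp (Sum.elim x y) E k, h1, Jf_option]
    · exact ih (y ∘ some) (fun l => hy _)
    · refine Submodule.span_mono ?_ (hy none)
      rintro _ ⟨i, rfl⟩
      exact ⟨Sum.inl i, rfl⟩

/-- independence of the generating family -/
lemma Jf_eq_of_span {ι κ : Type} [Fintype ι] [DecidableEq ι] [Fintype κ] [DecidableEq κ]
    (x : ι → M) (y : κ → M) (hx : Submodule.span R (Set.range x) = ⊤)
    (hy : Submodule.span R (Set.range y) = ⊤) (k : ℕ) :
    Jf (R := R) x k = Jf y k := by
  rw [← Jf_sum x k κ y (fun l => by rw [hx]; trivial),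
    ← Jf_sum y k ι x (fun l => by rw [hy]; trivial)]
  have : Sum.elim x y = Sum.elim y x ∘ (Equiv.sumComm ι κ) := by
    funext o
    cases o <;> simp
  rw [this, Jf_comp]

lemma exists_perm_avoid {n : ℕ} (S : Finset (Fin n)) (k : ℕ) (hS : S.card ≤ k) :
    ∃ τ : Equiv.Perm (Fin n), ∀ i : Fin n, (i : ℕ) < n - k → τ i ∉ S := by
  classical
  have hc : n - k ≤ (Sᶜ).card := by
    rw [Finset.card_compl, Fintype.card_fin]; omega
  obtain ⟨T', hT', hcard⟩ := Finset.exists_subset_card_eq hc
  have h1 : Fintype.card {i : Fin n // (i : ℕ) < n - k} = Fintype.card {j : Fin n // j ∈ T'} := by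
    rw [Fintype.card_subtype, Fin.card_filter_val_lt, Fintype.card_coe, hcard]
    omega
  let e : {i : Fin n // (i : ℕ) < n - k} ≃ {j : Fin n // j ∈ T'} := Fintype.equivOfCardEq h1
  refine ⟨e.extendSubtype, fun i hi => ?_⟩
  have := e.extendSubtype_mem i hi
  have h2 := hT' this
  simpa using h2

lemma Jo_eq_Jf {n : ℕ} (x : Fin n → M) (k : ℕ) : Jo (R := R) x k = Jf x k := by
  apply le_antisymm
  · refine Ideal.span_le.2 ?_
    rintro d ⟨a, hrel, rfl⟩
    refine Ideal.subset_span ⟨a, Finset.univ.filter (fun i : Fin n => n - k ≤ (i : ℕ)), ?_, ?_, rfl⟩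
    · have : (Finset.univ.filter (fun i : Fin n => n - k ≤ (i : ℕ))).card ≤ (Finset.range k).card := by
        refine Finset.card_le_card_of_injOn (fun i => (i : ℕ) - (n - k)) ?_ ?_
        · intro i hi
          have hi' : n - k ≤ (i : ℕ) := by simpa using hi
          have := i.2
          simp only [Finset.coe_range, Set.mem_Iio]
          omega
        · intro i hi j hj h
          have hi' : n - k ≤ (i : ℕ) := by simpa using hi
          have hj' : n - k ≤ (j : ℕ) := by simpa using hj
          apply Fin.ext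
          simp only at h
          omega
      simpa using this
    · intro i hi
      apply hrel
      have : ¬ (n - k ≤ (i : ℕ)) := by simpa using hi
      omega
  · refine Ideal.span_le.2 ?_
    rintro d ⟨a, S, hS, hrel, rfl⟩
    obtain ⟨τ, hτ⟩ := exists_perm_avoid S k hS
    have hmem : (a.submatrix τ id).det ∈ Jo (R := R) x k := by
      refine Ideal.subset_span ⟨a.submatrix τ id, ?_, rfl⟩
      intro i hi
      exact hrel _ (hτ i hi)
    rw [det_permute] at hmem
    have h2 : a.det = ((Equiv.Perm.sign τ : ℤˣ) : R) * (((Equiv.Perm.sign τ : ℤˣ) : R) * a.det) := by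
      rw [← mul_assoc]
      have : ((Equiv.Perm.sign τ : ℤˣ) : R) * ((Equiv.Perm.sign τ : ℤˣ) : R) = 1 := by
        rcases Int.units_eq_one_or (Equiv.Perm.sign τ) with h | h <;> simp [h]
      rw [this, one_mul]
    rw [SetLike.mem_coe, h2]
    exact Ideal.mul_mem_left _ _ hmem

/-- the Fitting ideal is computed by any generating tuple. -/
theorem fitt_eq_Jo {R : Type*} [CommRing R] {M : Type*} [AddCommGroup M] [Module R M]
    {n : ℕ} (x : Fin n → M) (hx : Submodule.span R (Set.range x) = ⊤) (k : ℕ) :
    Fitt.ideal R M k = Jo x k := by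
  apply le_antisymm
  · refine Ideal.span_le.2 ?_
    rintro d ⟨n', x', a, hx', hrel, rfl⟩
    have h1 : a.det ∈ Jo (R := R) x' k := Ideal.subset_span ⟨a, hrel, rfl⟩
    rw [Jo_eq_Jf, Jf_eq_of_span x' x hx' hx k, ← Jo_eq_Jf] at h1
    exact h1
  · refine Ideal.span_le.2 ?_
    rintro d ⟨a, hrel, rfl⟩
    exact Ideal.subset_span ⟨n, x, a, hx, hrel, rfl⟩

theorem fitt_eq_Jf {R : Type*} [CommRing R] {M : Type*} [AddCommGroup M] [Module R M]
    {n : ℕ} (x : Fin n → M) (hx : Submodule.span R (Set.range x) = ⊤) (k : ℕ) :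
    Fitt.ideal R M k = Jf x k := by
  rw [fitt_eq_Jo x hx, Jo_eq_Jf]

end Groth.Agent.Lib.Helper10.Fitting
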