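import Mathlib
import Groth.Prelude.Def_Fitting
import Groth.Agent.Lib.Helper10.Fitting

namespace Groth.Agent.Lib.Helper10.Fitting

open Matrix Finset

variable {R : Type*} [CommRing R] {M : Type*} [AddCommGroup M] [Module R M]

/-- if `n` elements span, `Fit_k = ⊤` for `k ≥ n`. -/
lemma fitt_eq_top_of_span {n : ℕ} (x : Fin n → M) (hx : Submodule.span R (Set.range x) = ⊤)
    (k : ℕ) (hk : n ≤ k) : Fitt.ideal R M k = ⊤ := by
  rw [Ideal.eq_top_iff_one]
  refine Ideal.subset_span ⟨n, x, 1, hx, ?_, by simp⟩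
  intro i hi
  omega

/-- Fitting ideals grow along surjections. -/
lemma fitt_le_of_surjective {M' : Type*} [AddCommGroup M'] [Module R M'] (f : M →ₗ[R] M')
    (hf : Function.Surjective f) (k : ℕ) : Fitt.ideal R M k ≤ Fitt.ideal R M' k := by
  refine Ideal.span_le.2 ?_
  rintro d ⟨n, x, a, hx, hrel, rfl⟩
  refine Ideal.subset_span ⟨n, f ∘ x, a, ?_, ?_, rfl⟩
  · rw [Set.range_comp, ← Submodule.map_span, hx, Submodule.map_top, LinearMap.range_eq_top.2 hf]
  · intro i hi
    have := congrArg f (hrel i hi)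
    simpa using this

/-- a square matrix of relations: its determinant kills every member of the family. -/
lemma det_smul_eq_zero {ι : Type*} [Fintype ι] [DecidableEq ι] (x : ι → M) (a : Matrix ι ι R)
    (h : ∀ i, ∑ j, a i j • x j = 0) (j : ι) : a.det • x j = 0 := by
  have h1 : ∀ j, ∑ l, (a.adjugate * a) j l • x l = 0 := by
    intro j
    simp only [Matrix.mul_apply, Finset.sum_smul]
    rw [Finset.sum_comm]
    simp only [mul_smul, ← Finset.smul_sum, h, smul_zero, Finset.sum_const_zero]
  have h2 := h1 j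
  rw [adjugate_mul] at h2
  simpa [Matrix.smul_apply, Matrix.one_apply, ite_smul] using h2

lemma fitt_zero_le_annihilator : Fitt.ideal R M 0 ≤ Module.annihilator R M := by
  refine Ideal.span_le.2 ?_
  rintro d ⟨n, x, a, hx, hrel, rfl⟩
  rw [SetLike.mem_coe, Module.mem_annihilator]
  intro m
  have hm : m ∈ Submodule.span R (Set.range x) := by rw [hx]; trivial
  induction hm using Submodule.span_induction with
  | mem y hy =>
    obtain ⟨j, rfl⟩ := hy
    exact det_smul_eq_zero x a (fun i => hrel i (by have := i.2; omega)) j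
  | zero => simp
  | add y z _ _ hy hz => rw [smul_add, hy, hz, add_zero]
  | smul r y _ hy => rw [smul_comm, hy, smul_zero]

/-- `Ann(M)^n ⊆ Fit_0(M)`, in the form: `r ∈ Ann M → r ^ n ∈ Fit_0`. -/
lemma pow_mem_fitt_zero {n : ℕ} (x : Fin n → M) (hx : Submodule.span R (Set.range x) = ⊤)
    (r : R) (hr : r ∈ Module.annihilator R M) : r ^ n ∈ Fitt.ideal R M 0 := by
  refine Ideal.subset_span ⟨n, x, Matrix.diagonal (fun _ => r), hx, ?_, by simp⟩
  intro i _
  rw [Module.mem_annihilator] at hr
  simp [Matrix.diagonal_apply, ite_smul, hr]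

end Groth.Agent.Lib.Helper10.Fitting
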