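import Mathlib
import Groth.Prelude.Def_Fitting
import Groth.Agent.Lib.Helper10.Fitting
import Groth.Agent.Lib.Helper10.FittingB

namespace Groth.Agent.Lib.Helper10.Fitting

open Matrix Finset

variable {R : Type*} [CommRing R] {M : Type*} [AddCommGroup M] [Module R M]

/-- values of a multilinear map on arguments from spans lie in the span of values on generators -/
lemma multilinear_mem_span {ι : Type*} [Fintype ι] [DecidableEq ι] {N P : Type*}
    [AddCommGroup N] [Module R N] [AddCommGroup P] [Module R P]
    (f : MultilinearMap R (fun _ : ι => N) P) (G : ι → Set N) (a : ι → N)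
    (ha : ∀ i, a i ∈ Submodule.span R (G i)) :
    f a ∈ Submodule.span R {p | ∃ b : ι → N, (∀ i, b i ∈ G i) ∧ p = f b} := by
  suffices H : ∀ (T : Finset ι) (a : ι → N), (∀ i ∈ T, a i ∈ Submodule.span R (G i)) →
      (∀ i, i ∉ T → a i ∈ G i) →
      f a ∈ Submodule.span R {p | ∃ b : ι → N, (∀ i, b i ∈ G i) ∧ p = f b} from
    H Finset.univ a (fun i _ => ha i) (fun i hi => absurd (Finset.mem_univ i) hi)
  intro T
  induction T using Finset.induction_on with
  | empty =>
    intro a _ h2
    exact Submodule.subset_span ⟨a, fun i => h2 i (by simp), rfl⟩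
  | insert i₀ T hi₀ ih =>
    intro a h1 h2
    have key : ∀ v ∈ Submodule.span R (G i₀), f (Function.update a i₀ v) ∈
        Submodule.span R {p | ∃ b : ι → N, (∀ i, b i ∈ G i) ∧ p = f b} := by
      intro v hv
      induction hv using Submodule.span_induction with
      | mem v hv =>
        apply ih
        · intro i hi
          have hne : i ≠ i₀ := fun h => hi₀ (h ▸ hi)
          rw [Function.update_of_ne hne]
          exact h1 i (Finset.mem_insert_of_mem hi)
        · intro i hi
          by_cases hne : i = i₀
          · subst hne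
            rw [Function.update_self]
            exact hv
          · rw [Function.update_of_ne hne]
            apply h2
            simp [hne, hi]
      | zero => rw [f.map_update_zero]; exact Submodule.zero_mem _
      | add v w _ _ hv hw => rw [f.map_update_add]; exact Submodule.add_mem _ hv hw
      | smul c v _ hv => rw [f.map_update_smul]; exact Submodule.smul_mem _ _ hv
    have := key (a i₀) (h1 i₀ (Finset.mem_insert_self _ _))
    rwa [Function.update_eq_self] at this

/-- the determinant version -/
lemma det_mem_span {n : Type*} [Fintype n] [DecidableEq n] (G : n → Set (n → R)) (a : Matrix n n R)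
    (ha : ∀ i, a i ∈ Submodule.span R (G i)) :
    a.det ∈ Ideal.span {d | ∃ b : Matrix n n R, (∀ i, b i ∈ G i) ∧ d = b.det} :=
  multilinear_mem_span (Matrix.detRowAlternating (R := R) (n := n)).toMultilinearMap G a ha

/-- relation module -/
def relMod {ι : Type*} [Fintype ι] (x : ι → M) : Submodule R (ι → R) :=
  LinearMap.ker (Fintype.linearCombination R x)

lemma mem_relMod {ι : Type*} [Fintype ι] (x : ι → M) (v : ι → R) :
    v ∈ relMod x ↔ IsRel x v := by
  unfold relMod IsRel
  rw [LinearMap.mem_ker, Fintype.linearCombination_apply]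

lemma span_single_eq_top (n : ℕ) :
    Submodule.span R (Set.range (fun j : Fin n => (Pi.single j (1 : R) : Fin n → R))) = ⊤ := by
  rw [eq_top_iff]
  rintro v -
  rw [pi_eq_sum_univ v]
  refine Submodule.sum_mem _ (fun j _ => Submodule.smul_mem _ _ (Submodule.subset_span ⟨j, ?_⟩))
  funext i
  simp [Pi.single_apply, eq_comm]

/-- `Jo` from generators of the relation module. -/
lemma Jo_eq_span_of_relMod_span {n : ℕ} (x : Fin n → M) (k : ℕ) (W : Set (Fin n → R))
    (hW : Submodule.span R W = relMod x) :
    Jo (R := R) x k = Ideal.span {d | ∃ b : Matrix (Fin n) (Fin n) R,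
      (∀ i : Fin n, b i ∈ (if (i : ℕ) < n - k then W else
        Set.range (fun j : Fin n => (Pi.single j (1 : R) : Fin n → R)))) ∧ d = b.det} := by
  apply le_antisymm
  · refine Ideal.span_le.2 ?_
    rintro d ⟨a, hrel, rfl⟩
    refine det_mem_span _ a (fun i => ?_)
    split_ifs with hi
    · rw [hW, mem_relMod]
      exact hrel i hi
    · rw [span_single_eq_top]; trivial
  · refine Ideal.span_le.2 ?_
    rintro d ⟨b, hb, rfl⟩
    refine Ideal.subset_span ⟨b, fun i hi => ?_, rfl⟩
    have := hb i
    rw [if_pos hi] at this
    rw [← mem_relMod, ← hW]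
    exact Submodule.subset_span this

/-- Fitting ideals of finitely presented modules are finitely generated. -/
lemma fitt_fg [Module.FinitePresentation R M] (k : ℕ) : (Fitt.ideal R M k).FG := by
  obtain ⟨n, x, hx⟩ := Module.Finite.exists_fin (R := R) (M := M)
  have hsurj : Function.Surjective (Fintype.linearCombination R x) := by
    rw [← LinearMap.range_eq_top, Fintype.range_linearCombination, hx]
  have hfg : (relMod (R := R) x).FG := Module.FinitePresentation.fg_ker _ hsurj
  obtain ⟨W, hW⟩ := hfg
  rw [fitt_eq_Jo x hx, Jo_eq_span_of_relMod_span x k (W : Set (Fin n → R)) hW]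
  refine Submodule.fg_span ?_
  have hfin : (Set.pi Set.univ (fun i : Fin n => (if (i : ℕ) < n - k then (W : Set (Fin n → R)) else
        Set.range (fun j : Fin n => (Pi.single j (1 : R) : Fin n → R))))).Finite := by
    refine Set.Finite.pi (fun i => ?_)
    split_ifs
    · exact W.finite_toSet
    · exact Set.finite_range _
  refine (hfin.image (fun b : Fin n → Fin n → R => Matrix.det (Matrix.of b))).subset ?_
  rintro d ⟨b, hb, rfl⟩
  exact ⟨b, by simpa [Set.mem_pi] using hb, rfl⟩

end Groth.Agent.Lib.Helper10.Fitting
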