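import Mathlib
import Groth.Prelude.Def_Fitting
import Groth.Agent.Lib.Helper10.Fitting
import Groth.Agent.Lib.Helper10.FittingB
import Groth.Agent.Lib.Helper10.FittingC

namespace Groth.Agent.Lib.Helper10.Fitting

open Matrix Finset TensorProduct

variable {R : Type*} [CommRing R] {M : Type*} [AddCommGroup M] [Module R M]
variable (A : Type*) [CommRing A] [Algebra R A]

variable (R) in
/-- the base-changed family -/
def bcFam {ι : Type*} (x : ι → M) : ι → A ⊗[R] M := fun i => (1 : A) ⊗ₜ[R] x i

/-- the comparison map `(ι → A) → A ⊗ M` factors through `A ⊗ (ι → R)`. -/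
lemma linearCombination_bcFam {n : ℕ} (x : Fin n → M) :
    Fintype.linearCombination A (bcFam R A x) =
      ((Fintype.linearCombination R x).baseChange A) ∘ₗ
        (TensorProduct.piScalarRight R A A (Fin n)).symm.toLinearMap := by
  apply LinearMap.pi_ext'
  intro i
  apply LinearMap.ext_ring
  simp only [LinearMap.coe_comp, LinearMap.coe_single, Function.comp_apply,
    LinearEquiv.coe_coe, TensorProduct.piScalarRight_symm_single, LinearMap.baseChange_tmul]
  rw [Fintype.linearCombination_apply_single, Fintype.linearCombination_apply_single]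
  simp [bcFam]

lemma span_bcFam_eq_top {n : ℕ} (x : Fin n → M) (hx : Submodule.span R (Set.range x) = ⊤) :
    Submodule.span A (Set.range (bcFam R A x)) = ⊤ := by
  rw [← Fintype.range_linearCombination, linearCombination_bcFam, LinearMap.range_eq_top]
  have hsurj : Function.Surjective (Fintype.linearCombination R x) := by
    rw [← LinearMap.range_eq_top, Fintype.range_linearCombination, hx]
  have h2 : Function.Surjective ((Fintype.linearCombination R x).baseChange A) := by
    have := LinearMap.lTensor_surjective A hsurj
    exact this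
  exact h2.comp (LinearEquiv.surjective _)

lemma isRel_bcFam_of_isRel {ι : Type*} [Fintype ι] (x : ι → M) (v : ι → R) (hv : IsRel x v) :
    IsRel (bcFam R A x) (fun j => algebraMap R A (v j)) := by
  unfold IsRel at hv ⊢
  have : ∀ j, algebraMap R A (v j) • bcFam R A x j = (1 : A) ⊗ₜ[R] (v j • x j) := by
    intro j
    simp only [bcFam, TensorProduct.smul_tmul', smul_eq_mul, mul_one]
    rw [TensorProduct.tmul_smul, TensorProduct.smul_tmul', Algebra.smul_def, mul_one]
  simp only [this, ← TensorProduct.tmul_sum, hv, TensorProduct.tmul_zero]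

/-- relations of the base-changed family are generated by the base-changed relations. -/
lemma relMod_bcFam {n : ℕ} (x : Fin n → M) (hx : Submodule.span R (Set.range x) = ⊤) :
    Submodule.span A ((fun v : Fin n → R => (fun j => algebraMap R A (v j))) '' ((relMod (R := R) x : Submodule R (Fin n → R)) : Set (Fin n → R))) =
      relMod (R := A) (bcFam R A x) := by
  apply le_antisymm
  · refine Submodule.span_le.2 ?_
    rintro _ ⟨v, hv, rfl⟩
    rw [SetLike.mem_coe, mem_relMod] at hv ⊢
    exact isRel_bcFam_of_isRel A x v hv
  · intro v' hv'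
    set g := Fintype.linearCombination R x with hg
    have hsurj : Function.Surjective g := by
      rw [← LinearMap.range_eq_top, hg, Fintype.range_linearCombination, hx]
    set K := LinearMap.ker g with hK
    have hex : Function.Exact K.subtype g := LinearMap.exact_subtype_ker_map g
    have hex2 := lTensor_exact A hex hsurj
    set φ := TensorProduct.piScalarRight R A A (Fin n) with hφ
    have h1 : (LinearMap.lTensor A g) (φ.symm v') = 0 := by
      rw [mem_relMod] at hv'
      unfold IsRel at hv'
      rw [← Fintype.linearCombination_apply, linearCombination_bcFam] at hv'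
      exact hv'
    obtain ⟨s, hs⟩ := (hex2 _).1 h1
    have h2 : v' = φ (LinearMap.lTensor A K.subtype s) := by
      rw [hs]; simp
    rw [h2]
    clear h2 hs h1 hv'
    induction s using TensorProduct.induction_on with
    | zero => simp
    | tmul a k =>
      have : φ ((LinearMap.lTensor A K.subtype) (a ⊗ₜ[R] k)) =
          a • (fun j => algebraMap R A ((k : Fin n → R) j)) := by
        rw [LinearMap.lTensor_tmul, hφ, TensorProduct.piScalarRight_apply,
          TensorProduct.piScalarRightHom_tmul]
        funext j
        simp [Algebra.smul_def, mul_comm]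
      rw [this]
      refine Submodule.smul_mem _ _ (Submodule.subset_span ⟨k.1, ?_, rfl⟩)
      exact k.2
    | add s t hs ht =>
      rw [map_add, map_add]
      exact Submodule.add_mem _ hs ht

/-- base change of Fitting ideals, for a given generating tuple -/
theorem fitt_baseChange_of_span {n : ℕ} (x : Fin n → M) (hx : Submodule.span R (Set.range x) = ⊤)
    (k : ℕ) : Fitt.ideal A (A ⊗[R] M) k = (Fitt.ideal R M k).map (algebraMap R A) := by
  rw [fitt_eq_Jo (bcFam R A x) (span_bcFam_eq_top A x hx), fitt_eq_Jo x hx]
  apply le_antisymm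
  · rw [Jo_eq_span_of_relMod_span (bcFam R A x) k _ (relMod_bcFam A x hx)]
    refine Ideal.span_le.2 ?_
    rintro d ⟨b', hb', rfl⟩
    -- lift the matrix
    have hlift : ∀ i : Fin n, ∃ v : Fin n → R, ((i : ℕ) < n - k → IsRel x v) ∧
        b' i = fun j => algebraMap R A (v j) := by
      intro i
      have := hb' i
      split_ifs at this with hi
      · obtain ⟨v, hv, hv'⟩ := this
        exact ⟨v, fun _ => (mem_relMod x v).1 hv, hv'.symm⟩
      · obtain ⟨j, hj⟩ := this
        refine ⟨Pi.single j 1, fun h => absurd h hi, ?_⟩
        rw [← hj]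
        funext l
        simp [Pi.single_apply]
    choose b hb1 hb2 using hlift
    have hdet : Matrix.det b' = algebraMap R A (Matrix.det (Matrix.of b)) := by
      rw [RingHom.map_det]
      congr 1
      ext i j
      simp [hb2 i]
    rw [SetLike.mem_coe, hdet]
    exact Ideal.mem_map_of_mem _ (Ideal.subset_span ⟨Matrix.of b, fun i hi => hb1 i hi, rfl⟩)
  · rw [Ideal.map_le_iff_le_comap]
    refine Ideal.span_le.2 ?_
    rintro d ⟨a, hrel, rfl⟩
    rw [SetLike.mem_coe, Ideal.mem_comap, RingHom.map_det]
    refine Ideal.subset_span ⟨(algebraMap R A).mapMatrix a, fun i hi => ?_, rfl⟩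
    exact isRel_bcFam_of_isRel A x (a i) (hrel i hi)

theorem fitt_baseChange [Module.Finite R M] (k : ℕ) :
    Fitt.ideal A (A ⊗[R] M) k = (Fitt.ideal R M k).map (algebraMap R A) := by
  obtain ⟨n, x, hx⟩ := Module.Finite.exists_fin (R := R) (M := M)
  exact fitt_baseChange_of_span A x hx k

/-- Fitting ideals are invariant under linear equivalences. -/
lemma fitt_congr {M' : Type*} [AddCommGroup M'] [Module R M'] (e : M ≃ₗ[R] M') (k : ℕ) :
    Fitt.ideal R M k = Fitt.ideal R M' k :=
  le_antisymm (fitt_le_of_surjective e.toLinearMap e.surjective k)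
    (fitt_le_of_surjective e.symm.toLinearMap e.symm.surjective k)

/-- base change of Fitting ideals in `IsBaseChange` form -/
theorem fitt_isBaseChange [Module.Finite R M] {M' : Type*} [AddCommGroup M'] [Module R M']
    [Module A M'] [IsScalarTower R A M'] (f : M →ₗ[R] M') (hf : IsBaseChange A f) (k : ℕ) :
    Fitt.ideal A M' k = (Fitt.ideal R M k).map (algebraMap R A) := by
  rw [← fitt_baseChange A k]
  exact (fitt_congr hf.equiv k).symm

end Groth.Agent.Lib.Helper10.Fitting
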