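import Mathlib
import Groth.Prelude.Def_Fitting
import Groth.Agent.Lib.Helper10.Fitting
import Groth.Agent.Lib.Helper10.FittingB
import Groth.Agent.Lib.Helper10.FittingC
import Groth.Agent.Lib.Helper10.FittingD

namespace Groth.Agent.Lib.Helper10.Fitting

open Matrix Finset TensorProduct

variable {R : Type*} [CommRing R] {M : Type*} [AddCommGroup M] [Module R M]

/-- a spanning `n`-tuple whose first `n - k` members vanish gives a spanning `k`-tuple -/
lemma exists_span_of_tail {n : ℕ} (k : ℕ) (y : Fin n → M) (hy : Submodule.span R (Set.range y) = ⊤)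
    (h0 : ∀ i : Fin n, (i : ℕ) < n - k → y i = 0) :
    ∃ g : Fin k → M, Submodule.span R (Set.range g) = ⊤ := by
  refine ⟨fun l => if h : n - k + (l : ℕ) < n then y ⟨n - k + l, h⟩ else 0, ?_⟩
  rw [eq_top_iff, ← hy]
  refine Submodule.span_le.2 ?_
  rintro _ ⟨i, rfl⟩
  by_cases hi : (i : ℕ) < n - k
  · rw [h0 i hi]; exact Submodule.zero_mem _
  · have hlt : (i : ℕ) - (n - k) < k := by have := i.2; omega
    refine Submodule.subset_span ⟨⟨(i : ℕ) - (n - k), hlt⟩, ?_⟩
    have h2 : n - k + ((i : ℕ) - (n - k)) = i := by omega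
    simp only [h2, i.2, dite_true]

/-- the family `a • x` -/
def mulFam {ι : Type*} [Fintype ι] (a : Matrix ι ι R) (x : ι → M) : ι → M :=
  fun i => ∑ j, a i j • x j

lemma mulFam_mul {ι : Type*} [Fintype ι] (a b : Matrix ι ι R) (x : ι → M) :
    mulFam (a * b) x = mulFam a (mulFam b x) := by
  funext i
  simp only [mulFam, Matrix.mul_apply, Finset.sum_smul, Finset.smul_sum, mul_smul]
  exact Finset.sum_comm

lemma mulFam_one {ι : Type*} [Fintype ι] [DecidableEq ι] (x : ι → M) :
    mulFam (1 : Matrix ι ι R) x = x := by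
  funext i
  simp [mulFam, Matrix.one_apply, ite_smul]

lemma mulFam_smul_one {ι : Type*} [Fintype ι] [DecidableEq ι] (d : R) (x : ι → M) :
    mulFam (d • (1 : Matrix ι ι R)) x = fun i => d • x i := by
  funext i
  simp [mulFam, Matrix.one_apply, ite_smul]

lemma mulFam_mem_span {ι : Type*} [Fintype ι] (a : Matrix ι ι R) (x : ι → M) (i : ι) :
    mulFam a x i ∈ Submodule.span R (Set.range x) :=
  Submodule.sum_mem _ (fun j _ => Submodule.smul_mem _ _ (Submodule.subset_span ⟨j, rfl⟩))

/-- unit determinant with `n - k` relation rows gives `k` generators -/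
lemma exists_span_of_isUnit_det {n : ℕ} (k : ℕ) (x : Fin n → M)
    (hx : Submodule.span R (Set.range x) = ⊤) (a : Matrix (Fin n) (Fin n) R)
    (hrel : ∀ i : Fin n, (i : ℕ) < n - k → IsRel x (a i)) (hu : IsUnit a.det) :
    ∃ g : Fin k → M, Submodule.span R (Set.range g) = ⊤ := by
  refine exists_span_of_tail k (mulFam a x) ?_ (fun i hi => hrel i hi)
  rw [eq_top_iff, ← hx]
  refine Submodule.span_le.2 ?_
  rintro _ ⟨j, rfl⟩
  have h1 : x = mulFam a⁻¹ (mulFam a x) := by
    rw [← mulFam_mul a⁻¹ a x, Matrix.nonsing_inv_mul a hu, mulFam_one]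
  have h2 : x j = mulFam a⁻¹ (mulFam a x) j := congrFun h1 j
  rw [h2]
  exact mulFam_mem_span a⁻¹ (mulFam a x) j

/-- over a local ring, `Fit_k = ⊤` gives `k` generators -/
lemma exists_span_of_fitt_eq_top [IsLocalRing R] [Module.Finite R M] (k : ℕ)
    (h : Fitt.ideal R M k = ⊤) : ∃ g : Fin k → M, Submodule.span R (Set.range g) = ⊤ := by
  obtain ⟨n, x, hx⟩ := Module.Finite.exists_fin (R := R) (M := M)
  rw [fitt_eq_Jo x hx] at h
  by_contra hcon
  have : Jo (R := R) x k ≤ IsLocalRing.maximalIdeal R := by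
    refine Ideal.span_le.2 ?_
    rintro d ⟨a, hrel, rfl⟩
    by_contra hd
    have hu : IsUnit a.det := by
      by_contra hnu
      exact hd ((IsLocalRing.mem_maximalIdeal _).2 hnu)
    exact hcon (exists_span_of_isUnit_det k x hx a hrel hu)
  rw [h] at this
  exact (IsLocalRing.maximalIdeal.isMaximal R).ne_top (top_le_iff.1 this)

/-- if `Fit_k ⊄ p` there is a generator outside `p` -/
lemma exists_det_notMem {n : ℕ} (x : Fin n → M) (hx : Submodule.span R (Set.range x) = ⊤) (k : ℕ)
    (p : Ideal R) (hp : ¬ Fitt.ideal R M k ≤ p) :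
    ∃ a : Matrix (Fin n) (Fin n) R, (∀ i : Fin n, (i : ℕ) < n - k → IsRel x (a i)) ∧ a.det ∉ p := by
  by_contra hcon
  push Not at hcon
  apply hp
  rw [fitt_eq_Jo x hx]
  refine Ideal.span_le.2 ?_
  rintro d ⟨a, hrel, rfl⟩
  exact hcon a hrel

variable (A : Type*) [CommRing A] [Algebra R A]

/-- families under a base change map -/
lemma span_comp_of_isBaseChange {M' : Type*} [AddCommGroup M'] [Module R M']
    [Module A M'] [IsScalarTower R A M'] (f : M →ₗ[R] M') (hf : IsBaseChange A f)
    {ι : Type*} (x : ι → M) (hx : Submodule.span R (Set.range x) = ⊤) :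
    Submodule.span A (Set.range (f ∘ x)) = ⊤ := by
  rw [eq_top_iff]
  rintro m' -
  refine hf.inductionOn m' _ (Submodule.zero_mem _) ?_ (fun s n hn => Submodule.smul_mem _ _ hn)
    (fun _ _ h1 h2 => Submodule.add_mem _ h1 h2)
  intro m
  have hm : m ∈ Submodule.span R (Set.range x) := by rw [hx]; trivial
  induction hm using Submodule.span_induction with
  | mem y hy =>
    obtain ⟨i, rfl⟩ := hy
    exact Submodule.subset_span ⟨i, rfl⟩
  | zero => rw [map_zero]; exact Submodule.zero_mem _
  | add y z _ _ hy hz => rw [map_add]; exact Submodule.add_mem _ hy hz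
  | smul r y _ hy =>
    rw [map_smul, ← algebraMap_smul A r (f y)]
    exact Submodule.smul_mem _ _ hy

lemma isRel_comp_of_isRel {M' : Type*} [AddCommGroup M'] [Module R M']
    [Module A M'] [IsScalarTower R A M'] (f : M →ₗ[R] M')
    {ι : Type*} [Fintype ι] (x : ι → M) (v : ι → R) (hv : IsRel x v) :
    IsRel (f ∘ x) (fun j => algebraMap R A (v j)) := by
  unfold IsRel at hv ⊢
  have := congrArg f hv
  rw [map_sum, map_zero] at this
  rw [← this]
  refine Finset.sum_congr rfl (fun j _ => ?_)
  rw [Function.comp_apply, algebraMap_smul, map_smul]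

/-- Fitting ideals of a free module with a basis indexed by `Fin r` -/
lemma fitt_of_basis {r : ℕ} (b : Module.Basis (Fin r) R M) (k : ℕ) :
    (k < r → Fitt.ideal R M k = ⊥) ∧ (r ≤ k → Fitt.ideal R M k = ⊤) := by
  have hb : Submodule.span R (Set.range b) = ⊤ := b.span_eq
  refine ⟨fun hk => ?_, fun hk => fitt_eq_top_of_span b hb k hk⟩
  rw [fitt_eq_Jo b hb, eq_bot_iff]
  refine Ideal.span_le.2 ?_
  rintro d ⟨a, hrel, rfl⟩
  have h0 : a ⟨0, by omega⟩ = 0 := by
    have := hrel ⟨0, by omega⟩ (by simp; omega)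
    unfold IsRel at this
    have h2 := Fintype.linearIndependent_iff.1 b.linearIndependent _ this
    funext j
    exact h2 j
  rw [SetLike.mem_coe, Ideal.mem_bot]
  exact Matrix.det_eq_zero_of_row_eq_zero ⟨0, by omega⟩ (fun j => by rw [h0]; rfl)

/-- spanning `r`-tuple with `Fit_{r-1} = ⊥` is linearly independent -/
lemma linearIndependent_of_fitt_eq_bot {r : ℕ} (g : Fin r → M)
    (hg : Submodule.span R (Set.range g) = ⊤) (h : ∀ k, k < r → Fitt.ideal R M k = ⊥) :
    LinearIndependent R g := by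
  rw [Fintype.linearIndependent_iff]
  intro c hc j₀
  have hr : 0 < r := by have := j₀.2; omega
  have h1 := h (r - 1) (by omega)
  rw [fitt_eq_Jf g hg] at h1
  have hmem : c j₀ ∈ Jf (R := R) g (r - 1) := by
    refine Ideal.subset_span ⟨(1 : Matrix (Fin r) (Fin r) R).updateRow j₀ c,
      Finset.univ.erase j₀, ?_, ?_, ?_⟩
    · rw [Finset.card_erase_of_mem (Finset.mem_univ _), Finset.card_univ, Fintype.card_fin]
    · intro i hi
      have : i = j₀ := by
        by_contra hne
        exact hi (Finset.mem_erase.2 ⟨hne, Finset.mem_univ _⟩)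
      subst this
      rw [Matrix.updateRow_self]
      exact hc
    · rw [← Matrix.cramer_transpose_apply, Matrix.transpose_one, Matrix.cramer_one]
      rfl
  rw [h1, Ideal.mem_bot] at hmem
  exact hmem

end Groth.Agent.Lib.Helper10.Fitting
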