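import Mathlib
import Groth.Agent.Lib.Helper10.LanExact

/-!
# Universe-general exactness of left Kan extension on abelian presheaves

Version of `LanExact` where the value category `AddCommGrpCat.{w}` may live in a universe larger
than that of the index categories.
-/

set_option autoImplicit false

open CategoryTheory CategoryTheory.Limits Opposite

namespace Groth.Agent.Helper10.LanExactW

open Groth.Agent.Helper10.LanExact

universe w t v₁ v₂ u₁ u₂

section Ab

variable {J : Type t} [Category.{v₁} J] [UnivLE.{v₁, w}] [UnivLE.{t, w}]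

theorem mono_colimMap_ab (hJ : CompFilt J) {F G : J ⥤ AddCommGrpCat.{w}} (α : F ⟶ G)
    [∀ j, Mono (α.app j)] : Mono (colimMap α) := by
  have h1 : ∀ c : ConnectedComponents J, IsFiltered c.Component := hJ.isFiltered_component
  have h0 : HasColimitsOfSize.{v₁, t} AddCommGrpCat.{w} :=
    hasColimitsOfSizeOfUnivLE.{w, w, v₁, t} AddCommGrpCat.{w}
  have h0' : HasColimitsOfSize.{t, t} AddCommGrpCat.{w} :=
    hasColimitsOfSizeOfUnivLE.{w, w, t, t} AddCommGrpCat.{w}
  have h2 : AB5OfSize.{v₁, t} AddCommGrpCat.{w} :=
    AB5OfSize_of_univLE.{v₁, t, w, w} AddCommGrpCat.{w}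
  have h3 : ∀ c : ConnectedComponents J,
      HasExactColimitsOfShape c.Component AddCommGrpCat.{w} := fun c => inferInstance
  have h4 : HasExactColimitsOfShape (Discrete (ConnectedComponents J)) AddCommGrpCat.{w} := by
    have : Small.{w} (ConnectedComponents J) := UnivLE.small _
    exact HasExactColimitsOfShape.of_domain_equivalence _
      (Discrete.equivalence (equivShrink.{w} (ConnectedComponents J))).symm
  exact mono_colimMap α

end Ab

section ExactColim

variable {J : Type t} [Category.{v₁} J] [UnivLE.{v₁, w}] [UnivLE.{t, w}]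

attribute [local instance] preservesBinaryBiproducts_of_preservesBinaryCoproducts in
theorem preservesFiniteLimits_colim_ab (hJ : CompFilt J)
    [HasColimitsOfShape J AddCommGrpCat.{w}] :
    PreservesFiniteLimits (colim : (J ⥤ AddCommGrpCat.{w}) ⥤ AddCommGrpCat.{w}) := by
  have : (colim : (J ⥤ AddCommGrpCat.{w}) ⥤ AddCommGrpCat.{w}).Additive :=
    Functor.additive_of_preservesBinaryBiproducts _
  apply preservesFiniteLimits_of_mono
  intro F G α hα
  have : ∀ j, Mono (α.app j) := fun j => inferInstance
  exact mono_colimMap_ab hJ α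

end ExactColim

section LanExact

variable {C : Type u₁} [Category.{v₁} C] {D : Type u₂} [Category.{v₂} D]

/-- Left Kan extension of abelian presheaves along `u.op` preserves finite limits as soon as
all the categories `CostructuredArrow u.op X` have filtered connected components. -/
theorem preservesFiniteLimits_lan_ab (u : C ⥤ D) [UnivLE.{v₁, w}] [UnivLE.{max u₁ v₂, w}]
    [∀ X : Dᵒᵖ, HasColimitsOfShape (CostructuredArrow u.op X) AddCommGrpCat.{w}]
    (h : ∀ X : Dᵒᵖ, CompFilt (CostructuredArrow u.op X)) :
    PreservesFiniteLimits (u.op.lan :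
      (Cᵒᵖ ⥤ AddCommGrpCat.{w}) ⥤ (Dᵒᵖ ⥤ AddCommGrpCat.{w})) := by
  apply preservesFiniteLimits_of_preservesFiniteLimitsOfSize.{0}
  intro K _ _
  apply preservesLimitsOfShape_of_evaluation (u.op.lan :
      (Cᵒᵖ ⥤ AddCommGrpCat.{w}) ⥤ (Dᵒᵖ ⥤ AddCommGrpCat.{w})) K
  intro X
  have := preservesFiniteLimits_colim_ab.{w} (h X)
  exact preservesLimitsOfShape_of_natIso
    (lanEvaluationIsoColim' AddCommGrpCat.{w} u.op X).symm

end LanExact

section SheafLevel

variable {C : Type u₁} [Category.{v₁} C] {D : Type u₂} [Category.{v₂} D]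

/-- `g_!` on abelian sheaves (sheafified left Kan extension) preserves finite limits as soon as
all the categories `CostructuredArrow u.op X` have filtered connected components. -/
theorem preservesFiniteLimits_sheafPullback_ab_of_compFilt (u : C ⥤ D)
    (J : GrothendieckTopology C) (K : GrothendieckTopology D) [u.IsContinuous J K]
    [UnivLE.{v₁, w}] [UnivLE.{max u₁ v₂, w}]
    [∀ X : Dᵒᵖ, HasColimitsOfShape (CostructuredArrow u.op X) AddCommGrpCat.{w}]
    [HasSheafify K AddCommGrpCat.{w}]
    (h : ∀ X : Dᵒᵖ, CompFilt (CostructuredArrow u.op X)) :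
    PreservesFiniteLimits (u.sheafPullback AddCommGrpCat.{w} J K) := by
  have h1 := preservesFiniteLimits_lan_ab.{w} u h
  have h2 : PreservesFiniteLimits (u.op.lan ⋙ presheafToSheaf K AddCommGrpCat.{w}) :=
    comp_preservesFiniteLimits _ _
  have h3 : PreservesFiniteLimits
      (Functor.sheafPullbackConstruction.sheafPullback u AddCommGrpCat.{w} J K) := by
    unfold Functor.sheafPullbackConstruction.sheafPullback
    exact comp_preservesFiniteLimits _ _
  exact preservesFiniteLimits_of_natIso
    (Functor.sheafPullbackConstruction.sheafPullbackIso u AddCommGrpCat.{w} J K).symm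

end SheafLevel

end Groth.Agent.Helper10.LanExactW
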