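import Groth.Prelude.Def_ARSys
import Groth.Prelude.Def_EtMod2
import Groth.Agent.Lib.Helper5.ARSys1
import Mathlib.CategoryTheory.Linear.FunctorCategory

/-!
# Transport of AR-notions for projective systems along functors

* exact functors preserve `IsARIso`;
* left adjoints of linear functors preserve `KilledBy`, `IsQuot`, `TermKilled`, `IsAdic`.
-/

set_option autoImplicit false
set_option linter.unusedSectionVars false

open CategoryTheory CategoryTheory.Limits Opposite

namespace Groth.Agent.Helper10.ARFunctor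

open ARSys Groth.Agent.Helper5.ARS

section general

universe w v₁ v₂ u₁ u₂

variable {C : Type u₁} [Category.{v₁} C] {D : Type u₂} [Category.{v₂} D]

section exact

variable [Abelian C] [Abelian D] (G : C ⥤ D) [G.Additive] [PreservesFiniteLimits G]
  [PreservesFiniteColimits G]

lemma isARNull_kernel_whiskerRight {X Y : PS C} (u : X ⟶ Y) (h : IsARNull (kernel u)) :
    IsARNull (kernel (Functor.whiskerRight u G)) := by
  rw [isARNull_kernel_iff] at h ⊢
  obtain ⟨r, hr⟩ := h
  refine ⟨r, fun n T t ht => ?_⟩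
  change t ≫ G.map (u.app (op (n + r))) = 0 at ht
  change t ≫ G.map (tr X (Nat.le_add_right n r)) = 0
  have hk := hr n _ (kernel.ι (u.app (op (n + r)))) (kernel.condition _)
  -- `G` preserves the kernel
  have hlim : IsLimit (KernelFork.ofι (G.map (kernel.ι (u.app (op (n + r)))))
      (by rw [← G.map_comp, kernel.condition, G.map_zero] :
        G.map (kernel.ι (u.app (op (n + r)))) ≫ G.map (u.app (op (n + r))) = 0)) :=
    KernelFork.mapIsLimit _ (kernelIsKernel (u.app (op (n + r)))) G
  obtain ⟨l, hl⟩ := KernelFork.IsLimit.lift' hlim t ht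
  have hl' : l ≫ G.map (kernel.ι (u.app (op (n + r)))) = t := hl
  have h0 : G.map (kernel.ι (u.app (op (n + r)))) ≫ G.map (tr X (Nat.le_add_right n r)) = 0 := by
    rw [← G.map_comp, hk, G.map_zero]
  rw [← hl', Category.assoc, h0, comp_zero]

lemma isARNull_cokernel_whiskerRight {X Y : PS C} (u : X ⟶ Y) (h : IsARNull (cokernel u)) :
    IsARNull (cokernel (Functor.whiskerRight u G)) := by
  rw [isARNull_cokernel_iff] at h ⊢
  obtain ⟨r, hr⟩ := h
  refine ⟨r, fun n => ?_⟩
  change G.map (tr Y (Nat.le_add_right n r)) ≫ cokernel.π (G.map (u.app (op n))) = 0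
  have hcolim : IsColimit (CokernelCofork.ofπ (G.map (cokernel.π (u.app (op n))))
      (by rw [← G.map_comp, cokernel.condition, G.map_zero] :
        G.map (u.app (op n)) ≫ G.map (cokernel.π (u.app (op n))) = 0)) :=
    CokernelCofork.mapIsColimit _ (cokernelIsCokernel (u.app (op n))) G
  obtain ⟨l, hl⟩ := CokernelCofork.IsColimit.desc' hcolim (cokernel.π (G.map (u.app (op n))))
    (cokernel.condition _)
  have hl' : G.map (cokernel.π (u.app (op n))) ≫ l = cokernel.π (G.map (u.app (op n))) := hl
  have h0 : G.map (tr Y (Nat.le_add_right n r)) ≫ G.map (cokernel.π (u.app (op n))) = 0 := by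
    rw [← G.map_comp, hr n, G.map_zero]
  rw [← hl', ← Category.assoc, h0, zero_comp]

lemma isARIso_whiskerRight {X Y : PS C} (u : X ⟶ Y) (h : IsARIso u) :
    IsARIso (Functor.whiskerRight u G) :=
  ⟨isARNull_kernel_whiskerRight G u h.1, isARNull_cokernel_whiskerRight G u h.2⟩

end exact

section linear

variable {A : Type w} [CommRing A] [Preadditive C] [Linear A C] [Preadditive D] [Linear A D]
  {G : C ⥤ D} {R : D ⥤ C} (adj : G ⊣ R) [R.Additive] [R.Linear A]

include adj

lemma map_smul_of_adj {X Y : C} (a : A) (φ : X ⟶ Y) : G.map (a • φ) = a • G.map φ := by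
  apply (adj.homEquiv _ _).injective
  rw [adj.homEquiv_unit, adj.homEquiv_unit, R.map_smul, Linear.comp_smul,
    adj.unit_naturality, adj.unit_naturality, Linear.smul_comp]

lemma killedBy_of_adj (I : Ideal A) {X : C} (h : KilledBy I X) : KilledBy I (G.obj X) := by
  intro a ha
  have := h a ha
  rw [← G.map_id, ← map_smul_of_adj adj, this]
  have : G.Additive := adj.left_adjoint_additive
  exact G.map_zero _ _

lemma isQuot_of_adj (I : Ideal A) {X Q : C} (p : X ⟶ Q) (h : IsQuot I p) :
    IsQuot I (G.map p) := by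
  refine ⟨killedBy_of_adj adj I h.1, fun Y φ hφ => ?_⟩
  have hφ' : HomKilledBy I (adj.homEquiv _ _ φ) := by
    intro a ha
    have := hφ a ha
    rw [adj.homEquiv_unit, ← Linear.comp_smul, ← R.map_smul, this, R.map_zero, comp_zero]
  obtain ⟨ψ, hψ, hu⟩ := h.2 _ _ hφ'
  refine ⟨(adj.homEquiv _ _).symm ψ, ?_, ?_⟩
  · change G.map p ≫ (adj.homEquiv _ _).symm ψ = φ
    rw [← adj.homEquiv_naturality_left_symm, hψ, Equiv.symm_apply_apply]
  · intro ψ' hψ'
    change G.map p ≫ ψ' = φ at hψ'
    have : adj.homEquiv _ _ ψ' = ψ := by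
      apply hu
      rw [← adj.homEquiv_naturality_left, hψ']
    rw [← this, Equiv.symm_apply_apply]

lemma termKilled_of_adj (I : Ideal A) {X : PS C} (h : TermKilled I X) : TermKilled I (X ⋙ G) :=
  fun n => killedBy_of_adj adj _ (h n)

lemma isAdic_of_adj (I : Ideal A) {X : PS C} (h : IsAdic I X) : IsAdic I (X ⋙ G) :=
  ⟨termKilled_of_adj adj I h.1, fun n m hnm => isQuot_of_adj adj _ _ (h.2 n m hnm)⟩

end linear

end general

end Groth.Agent.Helper10.ARFunctor
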