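import Mathlib
import Groth.Agent.S6527

/-!
# Right adjoints of exact functors preserve K-injective complexes
-/

set_option autoImplicit false

open CategoryTheory CategoryTheory.Limits

namespace Groth.Agent.Helper10.AdjKInj

universe v₁ v₂ u₁ u₂

variable {C₁ : Type u₁} [Category.{v₁} C₁] [Abelian C₁]
  {C₂ : Type u₂} [Category.{v₂} C₂] [Abelian C₂]
  {F : C₁ ⥤ C₂} {G : C₂ ⥤ C₁} [F.Additive] [G.Additive]

lemma acyclic_map [PreservesFiniteLimits F] [PreservesFiniteColimits F]
    {K : CochainComplex C₁ ℤ} (hK : K.Acyclic) :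
    ((F.mapHomologicalComplex (ComplexShape.up ℤ)).obj K).Acyclic := by
  intro i
  have h := (hK i)
  exact ShortComplex.Exact.map h F

/-- The right adjoint of an exact functor preserves K-injective complexes. -/
theorem isKInjective_map (adj : F ⊣ G) [PreservesFiniteLimits F] [PreservesFiniteColimits F]
    (I : CochainComplex C₂ ℤ) [I.IsKInjective] :
    CochainComplex.IsKInjective ((G.mapHomologicalComplex (ComplexShape.up ℤ)).obj I) := by
  constructor
  intro K f hK
  let adjC := Groth.Agent.S6527.mapHCAdj adj (ComplexShape.up ℤ)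
  let g : (F.mapHomologicalComplex (ComplexShape.up ℤ)).obj K ⟶ I := (adjC.homEquiv K I).symm f
  have hg : f = adjC.unit.app K ≫ (G.mapHomologicalComplex (ComplexShape.up ℤ)).map g := by
    have := (adjC.homEquiv K I).apply_symm_apply f
    rw [Adjunction.homEquiv_unit] at this
    exact this.symm
  have h0 : Homotopy g 0 := CochainComplex.IsKInjective.homotopyZero g (acyclic_map hK)
  have h1 : Homotopy ((G.mapHomologicalComplex (ComplexShape.up ℤ)).map g)
      ((G.mapHomologicalComplex (ComplexShape.up ℤ)).map 0) := G.mapHomotopy h0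
  have h2 := h1.compLeft (adjC.unit.app K)
  refine ⟨(Homotopy.ofEq hg).trans (h2.trans (Homotopy.ofEq ?_))⟩
  simp

end Groth.Agent.Helper10.AdjKInj
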