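import Mathlib
import Groth.Prelude.Def_BigSite

/-!
# Almost cocontinuous functors between large sites

Universe-generalised versions of the arguments of S6440 / S6441: for a continuous and almost
cocontinuous functor `u : C ⥤ D` between sites with `C D : Type (u+1)`, `Category.{u}`, the
pushforward of `Type (u+1)`-valued sheaves preserves finite connected colimits, and pushforward of
abelian sheaves preserves epimorphisms (local surjectivity).
-/

set_option autoImplicit false

namespace Groth.Agent.Helper10.AlmostCocontBig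

open CategoryTheory CategoryTheory.Limits Opposite

universe u

variable {C D : Type (u + 1)} [Category.{u} C] [Category.{u} D]
    (J : GrothendieckTopology C) (K : GrothendieckTopology D) (F : C ⥤ D)

/-- a sheaf has exactly one section over an object covered by the empty sieve -/
lemma sheaf_unique_of_bot (G : Dᵒᵖ ⥤ Type (u + 1)) (hG : Presheaf.IsSheaf K G) (V : D)
    (hV : (⊥ : Sieve V) ∈ K V) : Nonempty (Unique (G.obj (op V))) := by
  have hs := (isSheaf_iff_isSheaf_of_type K G).1 hG _ hV
  let x : Presieve.FamilyOfElements G (⊥ : Sieve V).arrows := fun Y f hf => hf.elim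
  have hx : x.Compatible := by
    intro Y₁ Y₂ Z g₁ g₂ f₁ f₂ h₁ h₂ w
    exact h₁.elim
  refine ⟨⟨⟨hs.amalgamate x hx⟩, fun a => ?_⟩⟩
  apply hs.isSeparatedFor.ext
  intro Y f hf
  exact hf.elim

lemma locInj (hu : BigSite.IsAlmostCocontinuous F J K) {G H : Dᵒᵖ ⥤ Type (u + 1)} (φ : G ⟶ H)
    [Presheaf.IsLocallyInjective K φ]
    (hG : ∀ V : D, (⊥ : Sieve V) ∈ K V → Subsingleton (G.obj (op V))) :
    Presheaf.IsLocallyInjective J (Functor.whiskerLeft F.op φ) where
  equalizerSieve_mem {X} x y h := by
    have h1 : Presheaf.equalizerSieve (F := G) (X := op (F.obj X.unop)) x y ∈ K (F.obj X.unop) :=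
      Presheaf.equalizerSieve_mem K φ (X := op (F.obj X.unop)) x y h
    obtain ⟨R', hR', hR⟩ := hu X.unop _ h1
    refine J.superset_covering ?_ hR'
    intro V g hg
    rcases hR g hg with h2 | h2
    · have := hG _ h2
      exact Subsingleton.elim _ _
    · exact h2

lemma locSurj (hu : BigSite.IsAlmostCocontinuous F J K) {G H : Dᵒᵖ ⥤ Type (u + 1)} (φ : G ⟶ H)
    [Presheaf.IsLocallySurjective K φ]
    (hG : ∀ V : D, (⊥ : Sieve V) ∈ K V → Nonempty (G.obj (op V)))
    (hH : ∀ V : D, (⊥ : Sieve V) ∈ K V → Subsingleton (H.obj (op V))) :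
    Presheaf.IsLocallySurjective J (Functor.whiskerLeft F.op φ) where
  imageSieve_mem {U} s := by
    have h1 : Presheaf.imageSieve φ (U := F.obj U) s ∈ K (F.obj U) :=
      Presheaf.imageSieve_mem K φ (U := op (F.obj U)) s
    obtain ⟨R', hR', hR⟩ := hu U _ h1
    refine J.superset_covering ?_ hR'
    intro V g hg
    rcases hR g hg with h2 | h2
    · obtain ⟨t⟩ := hG _ h2
      have := hH _ h2
      exact ⟨t, Subsingleton.elim _ _⟩
    · exact h2

theorem sheafify_comm [F.IsContinuous J K]
    (hu : BigSite.IsAlmostCocontinuous F J K) (G : Dᵒᵖ ⥤ Type (u + 1))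
    (hG : ∀ V : D, (⊥ : Sieve V) ∈ K V → Nonempty (Unique (G.obj (op V)))) :
    IsIso (((sheafificationAdjunction J (Type (u + 1))).homEquiv (F.op ⋙ G)
      ((F.sheafPushforwardContinuous (Type (u + 1)) J K).obj
        ((presheafToSheaf K (Type (u + 1))).obj G))).symm
        (Functor.whiskerLeft F.op (toSheafify K G))) := by
  have hsh : ∀ V : D, (⊥ : Sieve V) ∈ K V →
      Nonempty (Unique ((sheafify K G).obj (op V))) := fun V hV =>
    sheaf_unique_of_bot K _ ((presheafToSheaf K (Type (u + 1))).obj G).property V hV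
  have : Presheaf.IsLocallyInjective J (Functor.whiskerLeft F.op (toSheafify K G)) :=
    locInj J K F hu _ (fun V hV => by
      obtain ⟨h⟩ := hG V hV
      infer_instance)
  have : Presheaf.IsLocallySurjective J (Functor.whiskerLeft F.op (toSheafify K G)) :=
    locSurj J K F hu _ (fun V hV => by
      obtain ⟨h⟩ := hG V hV
      exact ⟨default⟩) (fun V hV => by
      obtain ⟨h⟩ := hsh V hV
      infer_instance)
  have hW : J.W (Functor.whiskerLeft F.op (toSheafify K G)) :=
    J.W_of_isLocallyBijective _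
  rw [GrothendieckTopology.W_iff] at hW
  rw [Adjunction.homEquiv_counit]
  have := hW
  refine @IsIso.comp_isIso _ _ _ _ _ _ _ hW ?_
  infer_instance

/-- connected colimit of presheaves having unique sections at `V` has unique sections at `V` -/
lemma unique_colim {I : Type} [SmallCategory I] [IsConnected I]
    (Fp : I ⥤ (Dᵒᵖ ⥤ Type (u + 1)))
    (E : Cocone Fp) (hE : IsColimit E) (V : D)
    (hV : ∀ i, Nonempty (Unique ((Fp.obj i).obj (op V)))) :
    Nonempty (Unique (E.pt.obj (op V))) := by
  classical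
  have hEV : IsColimit (((evaluation _ _).obj (op V)).mapCocone E) := isColimitOfPreserves _ hE
  let dflt : ∀ i, (Fp.obj i).obj (op V) := fun i => (hV i).some.default
  have hd : ∀ i (a : (Fp.obj i).obj (op V)), a = dflt i := fun i a => (hV i).some.uniq a
  let e : I → E.pt.obj (op V) := fun i => (E.ι.app i).app (op V) (dflt i)
  have he : ∀ i j, e i = e j := by
    apply constant_of_preserves_morphisms
    intro i j f
    have h1 : E.ι.app i = Fp.map f ≫ E.ι.app j := (E.w f).symm
    change (E.ι.app i).app (op V) (dflt i) = (E.ι.app j).app (op V) (dflt j)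
    rw [h1]
    change (E.ι.app j).app (op V) ((Fp.map f).app (op V) (dflt i)) = _
    rw [hd j ((Fp.map f).app (op V) (dflt i))]
  obtain ⟨i₀⟩ := (inferInstance : Nonempty I)
  refine ⟨⟨⟨e i₀⟩, fun x => ?_⟩⟩
  obtain ⟨i, a, rfl⟩ := Types.jointly_surjective_of_isColimit hEV x
  change (E.ι.app i).app (op V) a = e i₀
  rw [hd i a]
  exact he i i₀

theorem preserves_connected [F.IsContinuous J K]
    (hu : BigSite.IsAlmostCocontinuous F J K) (I : Type) [SmallCategory I] [FinCategory I]
    [IsConnected I] :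
    PreservesColimitsOfShape I (F.sheafPushforwardContinuous (Type (u + 1)) J K) := by
  constructor
  intro T
  let us := F.sheafPushforwardContinuous (Type (u + 1)) J K
  let Fp := T ⋙ sheafToPresheaf K (Type (u + 1))
  let E : Cocone Fp := colimit.cocone Fp
  have hE : IsColimit E := colimit.isColimit Fp
  let c : Cocone T := Sheaf.sheafifyCocone E
  have hc : IsColimit c := Sheaf.isColimitSheafifyCocone E hE
  refine preservesColimit_of_preserves_colimit_cocone hc ?_
  let E' : Cocone ((T ⋙ us) ⋙ sheafToPresheaf J (Type (u + 1))) :=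
    ((Functor.whiskeringLeft _ _ (Type (u + 1))).obj F.op).mapCocone E
  have hE' : IsColimit E' :=
    isColimitOfPreserves ((Functor.whiskeringLeft _ _ (Type (u + 1))).obj F.op) hE
  let c' : Cocone (T ⋙ us) := Sheaf.sheafifyCocone E'
  have hc' : IsColimit c' := Sheaf.isColimitSheafifyCocone E' hE'
  have hG : ∀ V : D, (⊥ : Sieve V) ∈ K V → Nonempty (Unique (E.pt.obj (op V))) := by
    intro V hV
    apply unique_colim Fp E hE V
    intro i
    exact sheaf_unique_of_bot K _ (T.obj i).property V hV
  have hiso := sheafify_comm J K F hu E.pt hG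
  let φ := ((sheafificationAdjunction J (Type (u + 1))).homEquiv (F.op ⋙ E.pt)
      (us.obj ((presheafToSheaf K (Type (u + 1))).obj E.pt))).symm
        (Functor.whiskerLeft F.op (toSheafify K E.pt))
  haveI : IsIso φ := hiso
  let ψ : c'.pt ≅ (us.mapCocone c).pt := @asIso _ _ _ _ φ hiso
  refine IsColimit.ofIsoColimit hc' (Cocone.ext ψ ?_)
  intro i
  apply Sheaf.hom_ext
  have key : toSheafify J (F.op ⋙ E.pt) ≫ φ.hom =
      Functor.whiskerLeft F.op (toSheafify K E.pt) := by
    have h1 := ((sheafificationAdjunction J (Type (u + 1))).homEquiv (F.op ⋙ E.pt)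
      (us.obj ((presheafToSheaf K (Type (u + 1))).obj E.pt))).apply_symm_apply
        (Functor.whiskerLeft F.op (toSheafify K E.pt))
    rw [Adjunction.homEquiv_unit] at h1
    exact h1
  have e1 : (c'.ι.app i).hom = E'.ι.app i ≫ toSheafify J E'.pt :=
    Sheaf.sheafifyCocone_ι_app_val E' i
  have e2 : (c.ι.app i).hom = E.ι.app i ≫ toSheafify K E.pt :=
    Sheaf.sheafifyCocone_ι_app_val E i
  have e1' : (c'.ι.app i).hom = (Functor.whiskerLeft F.op (E.ι.app i) ≫
      toSheafify J (F.op ⋙ E.pt) : F.op ⋙ Fp.obj i ⟶ sheafify J (F.op ⋙ E.pt)) := e1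
  have e3 : (Functor.whiskerLeft F.op (E.ι.app i) ≫
      toSheafify J (F.op ⋙ E.pt) : F.op ⋙ Fp.obj i ⟶ sheafify J (F.op ⋙ E.pt)) ≫ φ.hom =
      Functor.whiskerLeft F.op (E.ι.app i ≫ toSheafify K E.pt) := by
    rw [Category.assoc, key]
    rfl
  have e4 : (c'.ι.app i).hom ≫ φ.hom =
      Functor.whiskerLeft F.op (E.ι.app i ≫ toSheafify K E.pt) := by
    rw [← e3]
    exact congrArg (· ≫ φ.hom) e1'
  change (c'.ι.app i).hom ≫ φ.hom = Functor.whiskerLeft F.op (c.ι.app i).hom
  rw [e2]
  exact e4

section Ab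

lemma ab_subsingleton_of_bot (H : Sheaf K AddCommGrpCat.{u + 1}) (V : D)
    (hV : (⊥ : Sieve V) ∈ K V) : Subsingleton (H.obj.obj (op V)) := by
  have h1 : Presheaf.IsSheaf K (H.obj ⋙ forget AddCommGrpCat.{u + 1}) :=
    (Presheaf.isSheaf_iff_isSheaf_forget K H.obj (forget _)).1 H.property
  obtain ⟨h⟩ := sheaf_unique_of_bot K _ h1 V hV
  exact (inferInstance : Subsingleton ((H.obj ⋙ forget AddCommGrpCat.{u + 1}).obj (op V)))

lemma locSurjAb (hu : BigSite.IsAlmostCocontinuous F J K) {G H : Sheaf K AddCommGrpCat.{u + 1}}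
    (φ : G ⟶ H) [Presheaf.IsLocallySurjective K φ.hom] :
    Presheaf.IsLocallySurjective J (Functor.whiskerLeft F.op φ.hom) where
  imageSieve_mem {U} s := by
    have h1 : Presheaf.imageSieve φ.hom (U := F.obj U) s ∈ K (F.obj U) :=
      Presheaf.imageSieve_mem K φ.hom (U := op (F.obj U)) s
    obtain ⟨R', hR', hR⟩ := hu U _ h1
    refine J.superset_covering ?_ hR'
    intro V g hg
    rcases hR g hg with h2 | h2
    · have := ab_subsingleton_of_bot K H _ h2
      exact ⟨0, Subsingleton.elim _ _⟩
    · exact h2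

theorem preserves_epi_ab [F.IsContinuous J K] (hu : BigSite.IsAlmostCocontinuous F J K)
    {G H : Sheaf K AddCommGrpCat.{u + 1}} (φ : G ⟶ H) [Epi φ] :
    Epi ((F.sheafPushforwardContinuous AddCommGrpCat.{u + 1} J K).map φ) := by
  have h1 : Sheaf.IsLocallySurjective φ := (Sheaf.isLocallySurjective_iff_epi' AddCommGrpCat.{u + 1} φ).2 inferInstance
  have h2 : Presheaf.IsLocallySurjective K φ.hom := h1
  have h3 : Sheaf.IsLocallySurjective
      ((F.sheafPushforwardContinuous AddCommGrpCat.{u + 1} J K).map φ) :=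
    locSurjAb J K F hu φ
  exact (Sheaf.isLocallySurjective_iff_epi' AddCommGrpCat.{u + 1} _).1 h3

theorem preservesFiniteColimits_ab [F.IsContinuous J K]
    (hu : BigSite.IsAlmostCocontinuous F J K)
    [(F.sheafPushforwardContinuous AddCommGrpCat.{u + 1} J K).Additive]
    [PreservesFiniteLimits (F.sheafPushforwardContinuous AddCommGrpCat.{u + 1} J K)] :
    PreservesFiniteColimits (F.sheafPushforwardContinuous AddCommGrpCat.{u + 1} J K) := by
  rw [Functor.preservesFiniteColimits_iff_forall_exact_map_and_epi]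
  intro S hS
  have := hS.epi_g
  have hlim : PreservesFiniteLimits (F.sheafPushforwardContinuous AddCommGrpCat.{u + 1} J K) :=
    inferInstance
  have h0 := ((Functor.preservesFiniteLimits_tfae
    (F.sheafPushforwardContinuous AddCommGrpCat.{u + 1} J K)).out 3 0).1 hlim
  exact ⟨(h0 S hS).1, preserves_epi_ab J K F hu S.g⟩

end Ab

end Groth.Agent.Helper10.AlmostCocontBig
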