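import Mathlib
import Groth.Prelude.Def_FlatCA

/-!
# Universal injectivity for projective modules at a prime (helper10)

* `sum_tmul_eq_zero_imp`: `M` flat, `v i` linearly independent in `κ(t) ⊗ M`, `Q` a module on which every
  element outside `t` acts injectively; then `∑ qᵢ ⊗ vᵢ = 0` in `Q ⊗ M` forces all `qᵢ = 0`.
* `lTensor_injective_of_free`, `lTensor_injective_of_projective`: consequences for maps from free modules
  to flat modules and endomorphisms of projective modules.
* `psi`, `theta`: the identification `(κ(p) ⊗[R] S) ⊗[S] N ≃ κ(p) ⊗[R] N` (underlying type of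
  `FlatCA.fiberMod p S N`) as additive maps, with `psi_smul` the compatibility with the `S`-action.
-/

set_option linter.unusedSectionVars false

open TensorProduct

namespace Groth.Agent.Helper10.ProjLocal

universe u

section A
variable {R : Type*} [CommRing R] (t : Ideal R) [t.IsPrime]
variable {M : Type*} [AddCommGroup M] [Module R M]

theorem one_tmul_smul (a : R) (m : M) :
    (1 : t.ResidueField) ⊗ₜ[R] (a • m) = algebraMap R t.ResidueField a • ((1 : t.ResidueField) ⊗ₜ[R] m) := by
  rw [TensorProduct.tmul_smul, TensorProduct.smul_tmul', TensorProduct.smul_tmul', Algebra.smul_def, mul_one,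
    smul_eq_mul, mul_one]

theorem sum_tmul_eq_zero_imp [Module.Flat R M] {ι : Type*} (v : ι → M)
    (h : LinearIndependent t.ResidueField (fun i => (1 : t.ResidueField) ⊗ₜ[R] v i))
    {Q : Type*} [AddCommGroup Q] [Module R Q]
    (hQ : ∀ a : R, a ∉ t → ∀ q : Q, a • q = 0 → q = 0)
    (s : Finset ι) (q : ι → Q) (hq : ∑ i ∈ s, q i ⊗ₜ[R] v i = 0) : ∀ i ∈ s, q i = 0 := by
  classical
  induction s using Finset.induction generalizing v with
  | empty => simp
  | insert n s hn ih =>
    have hq' : ∑ i : ↥(insert n s), q i ⊗ₜ[R] v i = 0 := by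
      rw [← hq]; exact Finset.sum_coe_sort (insert n s) (fun i => q i ⊗ₜ[R] v i)
    have hinj : Function.Injective (LinearMap.rTensor M
        (Submodule.span R (Set.range fun i : ↥(insert n s) => q i)).subtype) :=
      Module.Flat.rTensor_preserves_injective_linearMap _ (Submodule.injective_subtype _)
    obtain ⟨k, a, y, hay, haq⟩ :=
      TensorProduct.vanishesTrivially_of_sum_tmul_eq_zero_of_rTensor_injective R hinj hq'
    set n' : ↥(insert n s) := ⟨n, Finset.mem_insert_self ..⟩ with n'_def
    obtain ⟨j, hj⟩ : ∃ j, a n' j ∉ t := by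
      by_contra hcon
      push Not at hcon
      apply h.ne_zero n
      show (1 : t.ResidueField) ⊗ₜ[R] v n = 0
      rw [show v n = _ from hay n', TensorProduct.tmul_sum]
      apply Finset.sum_eq_zero
      intro j _
      rw [one_tmul_smul, (Ideal.algebraMap_residueField_eq_zero).mpr (hcon j), zero_smul]
    set a₀ : R := a n' j with a₀_def
    let a' (i : ι) : R := if hi : i ∈ insert n s then a ⟨i, hi⟩ j else 0
    have a_eq (i : ↥(insert n s)) : a i j = a' i.1 := by simp_rw [a', dif_pos i.2]
    have hsum : a₀ • q n + ∑ i ∈ s, a' i • q i = 0 := by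
      have := haq j
      simp_rw [a_eq] at this
      rw [Finset.sum_coe_sort (insert n s) (fun i => a' i • q i), Finset.sum_insert hn] at this
      rw [← this]
      congr 2
      simp [a', a₀_def, n'_def]
    let c (i : ι) : R := -(if i = n then 0 else a' i)
    have hc_s : ∀ i ∈ s, c i = -a' i := by
      intro i hi
      simp only [c]
      rw [if_neg (ne_of_mem_of_not_mem hi hn)]
    have hcn : c n = 0 := by simp [c]
    -- the new family
    have hv' : ∑ i ∈ s, q i ⊗ₜ[R] (a₀ • v i + c i • v n) = 0 := by
      rw [Finset.sum_insert hn] at hq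
      have h1 : ∑ i ∈ s, q i ⊗ₜ[R] v i = -(q n ⊗ₜ[R] v n) := by
        rw [eq_neg_iff_add_eq_zero, add_comm]; exact hq
      simp_rw [TensorProduct.tmul_add, TensorProduct.tmul_smul, Finset.sum_add_distrib,
        ← Finset.smul_sum, h1]
      have h2 : ∑ i ∈ s, c i • (q i ⊗ₜ[R] v n) = (a₀ • q n) ⊗ₜ[R] v n := by
        have : a₀ • q n = ∑ i ∈ s, c i • q i := by
          rw [Finset.sum_congr rfl (fun i hi => by rw [hc_s i hi]), ]
          simp_rw [neg_smul, Finset.sum_neg_distrib]
          rw [eq_neg_iff_add_eq_zero]; exact hsum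
        rw [this, TensorProduct.sum_tmul]
        simp_rw [TensorProduct.smul_tmul']
      rw [h2, smul_neg, TensorProduct.smul_tmul', neg_add_cancel]
    have hli : LinearIndependent t.ResidueField
        (fun i => (1 : t.ResidueField) ⊗ₜ[R] (a₀ • v i + c i • v n)) := by
      have hu : IsUnit (algebraMap R t.ResidueField a₀) := by
        rw [isUnit_iff_ne_zero, ne_eq, Ideal.algebraMap_residueField_eq_zero]; exact hj
      set w : ι → t.ResidueField ⊗[R] M := fun i => (1 : t.ResidueField) ⊗ₜ[R] v i with w_def
      let c'' : ι → t.ResidueField := fun i => (algebraMap R t.ResidueField (c i)) / (algebraMap R t.ResidueField a₀)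
      have hc''n : c'' n = 0 := by simp [c'', hcn]
      have h1 : LinearIndependent t.ResidueField (w + (c'' · • w n)) :=
        (linearIndependent_add_smul_iff (c := c'') (i := n) hc''n).mpr h
      have h2 := h1.units_smul (fun _ => hu.unit)
      convert h2 using 1
      ext i
      simp only [Pi.smul_apply', Pi.add_apply, w_def]
      rw [TensorProduct.tmul_add, one_tmul_smul, one_tmul_smul, Units.smul_def, IsUnit.unit_spec,
        smul_add, smul_smul]
      congr 2
      simp only [c'']
      rw [mul_div_assoc', mul_comm, mul_div_assoc, div_self hu.ne_zero, mul_one]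
    have ih' := ih (fun i => a₀ • v i + c i • v n) hli hv'
    intro i hi
    rcases Finset.mem_insert.mp hi with rfl | hi
    · apply hQ a₀ hj
      have : ∑ i ∈ s, a' i • q i = 0 := Finset.sum_eq_zero (fun i hi => by rw [ih' i hi, smul_zero])
      rw [this, add_zero] at hsum
      exact hsum
    · exact ih' i hi

/-- free source, flat target -/
theorem lTensor_injective_of_free {F : Type*} [AddCommGroup F] [Module R F] [Module.Free R F]
    [Module.Flat R M] (u : F →ₗ[R] M)
    (h : Function.Injective (LinearMap.lTensor t.ResidueField u))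
    {Q : Type*} [AddCommGroup Q] [Module R Q]
    (hQ : ∀ a : R, a ∉ t → ∀ q : Q, a • q = 0 → q = 0) :
    Function.Injective (LinearMap.lTensor Q u) := by
  classical
  let b := Module.Free.chooseBasis R F
  have hli : LinearIndependent t.ResidueField
      (fun i => (1 : t.ResidueField) ⊗ₜ[R] u (b i)) := by
    have h0 : LinearIndependent t.ResidueField (b.baseChange t.ResidueField) :=
      (b.baseChange t.ResidueField).linearIndependent
    have hk : LinearMap.ker (u.baseChange t.ResidueField) = ⊥ := by
      rw [LinearMap.ker_eq_bot]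
      intro x y hxy
      apply h
      simpa [LinearMap.baseChange_eq_ltensor] using hxy
    have h1 := h0.map' (u.baseChange t.ResidueField) hk
    have e : (fun i => (1 : t.ResidueField) ⊗ₜ[R] u (b i)) =
        (u.baseChange t.ResidueField) ∘ (b.baseChange t.ResidueField) := by
      ext i; simp
    rw [e]; exact h1
  rw [injective_iff_map_eq_zero]
  intro x hx
  obtain ⟨c, rfl⟩ := TensorProduct.eq_repr_basis_right b x
  have hx' : ∑ i ∈ c.support, c i ⊗ₜ[R] u (b i) = 0 := by
    rw [← hx, Finsupp.sum, map_sum]
    simp
  have hz := sum_tmul_eq_zero_imp t (fun i => u (b i)) hli hQ c.support c hx'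
  have : c = 0 := by
    ext i
    by_cases hi : i ∈ c.support
    · exact hz i hi
    · simpa using hi
  rw [this]
  simp

/-- retract bookkeeping -/
theorem inj_retract {N F : Type*} [AddCommGroup N] [AddCommGroup F] [Module R N] [Module R F]
    (i : N →ₗ[R] F) (r : F →ₗ[R] N) (hri : r ∘ₗ i = LinearMap.id) (φ : N →ₗ[R] N)
    (u' : F →ₗ[R] F) (hu' : u' = i ∘ₗ φ ∘ₗ r + (LinearMap.id - i ∘ₗ r)) :
    Function.Injective u' ↔ Function.Injective φ := by
  have hri' : ∀ x, r (i x) = x := fun x => by
    have := congrArg (fun f => f x) hri; simpa using this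
  have hu'x : ∀ x, u' x = i (φ (r x)) + (x - i (r x)) := fun x => by rw [hu']; simp
  constructor
  · intro h
    rw [injective_iff_map_eq_zero]
    intro x hx
    have : u' (i x) = 0 := by
      rw [hu'x]; simp [hri', hx]
    have := (injective_iff_map_eq_zero _).mp h _ this
    rw [← hri' x, this, map_zero]
  · intro h
    rw [injective_iff_map_eq_zero]
    intro x hx
    have h1 : r (u' x) = φ (r x) := by
      rw [hu'x]; simp [hri']
    rw [hx, map_zero] at h1
    have h2 : r x = 0 := (injective_iff_map_eq_zero _).mp h _ h1.symm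
    have h3 : u' x = x := by
      rw [hu'x]; simp [h2]
    rw [← h3, hx]

theorem lTensor_retract_iff {N F : Type*} [AddCommGroup N] [AddCommGroup F] [Module R N] [Module R F]
    (i : N →ₗ[R] F) (r : F →ₗ[R] N) (hri : r ∘ₗ i = LinearMap.id) (φ : N →ₗ[R] N)
    (u' : F →ₗ[R] F) (hu' : u' = i ∘ₗ φ ∘ₗ r + (LinearMap.id - i ∘ₗ r))
    (Q' : Type*) [AddCommGroup Q'] [Module R Q'] :
    Function.Injective (LinearMap.lTensor Q' u') ↔ Function.Injective (LinearMap.lTensor Q' φ) := by
  have : LinearMap.lTensor Q' u' = (LinearMap.lTensor Q' i) ∘ₗ (LinearMap.lTensor Q' φ) ∘ₗ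
      (LinearMap.lTensor Q' r) + (LinearMap.id - (LinearMap.lTensor Q' i) ∘ₗ (LinearMap.lTensor Q' r)) := by
    rw [hu', LinearMap.lTensor_add, LinearMap.lTensor_sub, LinearMap.lTensor_comp,
      LinearMap.lTensor_comp, LinearMap.lTensor_comp, LinearMap.lTensor_id]
  apply inj_retract _ _ _ _ _ this
  rw [← LinearMap.lTensor_comp, hri, LinearMap.lTensor_id]

/-- projective module, endomorphism -/
theorem lTensor_injective_of_projective {N : Type*} [AddCommGroup N] [Module R N]
    [Module.Projective R N] (φ : N →ₗ[R] N)
    (h : Function.Injective (LinearMap.lTensor t.ResidueField φ))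
    {Q : Type*} [AddCommGroup Q] [Module R Q]
    (hQ : ∀ a : R, a ∉ t → ∀ q : Q, a • q = 0 → q = 0) :
    Function.Injective (LinearMap.lTensor Q φ) := by
  obtain ⟨i, hi⟩ := (Module.projective_def' (R := R) (P := N)).mp inferInstance
  set r : (N →₀ R) →ₗ[R] N := Finsupp.linearCombination R id with r_def
  set u' : (N →₀ R) →ₗ[R] (N →₀ R) := i ∘ₗ φ ∘ₗ r + (LinearMap.id - i ∘ₗ r) with u'_def
  rw [← lTensor_retract_iff i r hi φ u' u'_def Q]
  apply lTensor_injective_of_free t u' _ hQ
  rw [lTensor_retract_iff i r hi φ u' u'_def]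
  exact h

end A


section Fiber
variable {R : Type u} [CommRing R] (p : Ideal R) [p.IsPrime] (S : Type u) [CommRing S] [Algebra R S]
  (N : Type u) [AddCommGroup N] [Module S N] [Module R N] [IsScalarTower R S N]

attribute [local instance] Algebra.TensorProduct.rightAlgebra

/-- `b ↦ b • n` as an `R`-linear map. -/
noncomputable def actMap (n : N) : S →ₗ[R] N :=
  (LinearMap.toSpanSingleton S N n).restrictScalars R

@[simp] theorem actMap_apply (n : N) (b : S) : actMap (R := R) S N n b = b • n := rfl

noncomputable def psiAux : (p.ResidueField ⊗[R] S) →+ N →+ p.ResidueField ⊗[R] N :=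
  AddMonoidHom.flip
    { toFun := fun n => (LinearMap.lTensor p.ResidueField (actMap (R := R) S N n)).toAddMonoidHom
      map_zero' := by
        ext z
        induction z using TensorProduct.induction_on with
        | zero => simp
        | tmul c b => simp
        | add x y hx hy => simp only [map_add, hx, hy]
      map_add' := fun n n' => by
        ext z
        induction z using TensorProduct.induction_on with
        | zero => simp
        | tmul c b => simp [TensorProduct.tmul_add]
        | add x y hx hy =>
          simp only [map_add, hx, hy] }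

theorem psiAux_tmul (c : p.ResidueField) (b : S) (n : N) :
    psiAux p S N (c ⊗ₜ[R] b) n = c ⊗ₜ[R] (b • n) := rfl

theorem smul_tmul_right (b b' : S) (c : p.ResidueField) :
    b • (c ⊗ₜ[R] b' : p.ResidueField ⊗[R] S) = c ⊗ₜ[R] (b * b') := by
  rw [Algebra.smul_def, Algebra.TensorProduct.right_algebraMap_apply,
    Algebra.TensorProduct.tmul_mul_tmul, one_mul]

noncomputable def psi : (p.ResidueField ⊗[R] S) ⊗[S] N →+ p.ResidueField ⊗[R] N :=
  TensorProduct.liftAddHom (psiAux p S N) (by
    intro b z n
    induction z using TensorProduct.induction_on with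
    | zero => simp
    | tmul c b' =>
      rw [smul_tmul_right, psiAux_tmul, psiAux_tmul, mul_comm, mul_smul]
    | add x y hx hy =>
      simp only [smul_add, map_add, AddMonoidHom.add_apply, hx, hy])

theorem psi_tmul (c : p.ResidueField) (b : S) (n : N) :
    psi p S N ((c ⊗ₜ[R] b) ⊗ₜ[S] n) = c ⊗ₜ[R] (b • n) := rfl

noncomputable def thetaAux : p.ResidueField →+ N →+ (p.ResidueField ⊗[R] S) ⊗[S] N where
  toFun c := ((TensorProduct.mk S (p.ResidueField ⊗[R] S) N) (c ⊗ₜ[R] (1 : S))).toAddMonoidHom
  map_zero' := by ext n; simp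
  map_add' c c' := by ext n; simp [TensorProduct.add_tmul]

theorem thetaAux_apply (c : p.ResidueField) (n : N) :
    thetaAux p S N c n = (c ⊗ₜ[R] (1 : S)) ⊗ₜ[S] n := rfl

noncomputable def theta : p.ResidueField ⊗[R] N →+ (p.ResidueField ⊗[R] S) ⊗[S] N :=
  TensorProduct.liftAddHom (thetaAux p S N) (by
    intro r c n
    rw [thetaAux_apply, thetaAux_apply, ← algebraMap_smul S r n, ← TensorProduct.smul_tmul,
      smul_tmul_right, mul_one, TensorProduct.smul_tmul, Algebra.smul_def, mul_one])

theorem theta_tmul (c : p.ResidueField) (n : N) :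
    theta p S N (c ⊗ₜ[R] n) = (c ⊗ₜ[R] (1 : S)) ⊗ₜ[S] n := rfl

theorem theta_psi (z : (p.ResidueField ⊗[R] S) ⊗[S] N) : theta p S N (psi p S N z) = z := by
  induction z using TensorProduct.induction_on with
  | zero => simp
  | tmul w n =>
    induction w using TensorProduct.induction_on with
    | zero => simp
    | tmul c b =>
      rw [psi_tmul, theta_tmul, ← TensorProduct.smul_tmul, smul_tmul_right, mul_one]
    | add x y hx hy => rw [TensorProduct.add_tmul, map_add, map_add, hx, hy]
  | add x y hx hy => rw [map_add, map_add, hx, hy]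

theorem psi_injective : Function.Injective (psi p S N) :=
  Function.LeftInverse.injective (theta_psi p S N)

theorem psi_smul (b : S) (z : (p.ResidueField ⊗[R] S) ⊗[S] N) :
    psi p S N (b • z) =
      LinearMap.lTensor p.ResidueField ((LinearMap.lsmul S N b).restrictScalars R) (psi p S N z) := by
  induction z using TensorProduct.induction_on with
  | zero => simp
  | tmul w n =>
    induction w using TensorProduct.induction_on with
    | zero => simp
    | tmul c b' =>
      rw [TensorProduct.smul_tmul', smul_tmul_right, psi_tmul, psi_tmul, LinearMap.lTensor_tmul,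
        LinearMap.restrictScalars_apply, LinearMap.lsmul_apply, mul_smul]
    | add x y hx hy =>
      rw [TensorProduct.add_tmul, smul_add, map_add, map_add, map_add, hx, hy]
  | add x y hx hy => rw [smul_add, map_add, map_add, map_add, hx, hy]

theorem psi_theta (z : p.ResidueField ⊗[R] N) : psi p S N (theta p S N z) = z := by
  induction z using TensorProduct.induction_on with
  | zero => simp
  | tmul c n => rw [theta_tmul, psi_tmul, one_smul]
  | add x y hx hy => rw [map_add, map_add, hx, hy]

end Fiber

end Groth.Agent.Helper10.ProjLocal
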