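import Mathlib
import Groth.Prelude.Def_FlatCA
import Groth.Agent.Lib.Helper10.ProjLocal

/-!
# Associated primes of fibre modules under base change (helper10)

* `fiberIdeal_comap`: every ideal of the fibre ring `p.Fiber S` is extended from its contraction to `S`.
* `G`, `G_injective`, `G_smul`: the comparison map `κ(t₁) ⊗[A₁] N₁ → κ(T) ⊗[A₂] N₂` attached to a base change
  `gA : N₁ → N₂` along `A₁ → A₂` and primes `T` over `t₁`; it is injective.
* `exists_assoc_over`: an associated prime of the fibre module of `N₁` over `t₁` lifts to an associated prime of the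
  fibre module of the base change `N₂` over `T` (Noetherian fibre ring).
-/

set_option linter.style.haveILetI false
set_option linter.unusedSectionVars false

open TensorProduct

namespace Groth.Agent.Helper10.AssBC

universe u

open Groth.Agent.Helper10.ProjLocal

section Ext
/-- every ideal of the fibre ring is extended from its contraction -/
theorem fiberIdeal_comap {R S : Type u} [CommRing R] [CommRing S] [Algebra R S] (p : Ideal R) [p.IsPrime]
    (𝔔 : Ideal (p.Fiber S)) :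
    FlatCA.fiberIdeal p (𝔔.comap
      (Algebra.TensorProduct.includeRight (R := R) (A := p.ResidueField) (B := S)).toRingHom) = 𝔔 := by
  apply le_antisymm
  · exact Ideal.map_comap_le
  · intro z hz
    obtain ⟨r, hr, s, e⟩ := Ideal.Fiber.exists_smul_eq_one_tmul p z
    have hu : IsUnit (algebraMap R (p.Fiber S) r) := by
      rw [IsScalarTower.algebraMap_apply R p.ResidueField (p.Fiber S)]
      apply IsUnit.map
      rw [isUnit_iff_ne_zero, ne_eq, Ideal.algebraMap_residueField_eq_zero]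
      exact hr
    have hs : (1 : p.ResidueField) ⊗ₜ[R] s ∈ 𝔔 := by
      rw [← e, Algebra.smul_def]
      exact Ideal.mul_mem_left _ _ hz
    have hs' : (1 : p.ResidueField) ⊗ₜ[R] s ∈ FlatCA.fiberIdeal p (𝔔.comap
        (Algebra.TensorProduct.includeRight (R := R) (A := p.ResidueField) (B := S)).toRingHom) :=
      Ideal.mem_map_of_mem _ (by simpa using hs)
    rw [← e, Algebra.smul_def] at hs'
    exact (Ideal.unit_mul_mem_iff_mem _ hu).mp hs'

end Ext

section Main
variable {A₁ B₁ N₁ : Type u} [CommRing A₁] [CommRing B₁] [Algebra A₁ B₁] [AddCommGroup N₁]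
  [Module B₁ N₁] [Module A₁ N₁] [IsScalarTower A₁ B₁ N₁]
  {A₂ B₂ N₂ : Type u} [CommRing A₂] [CommRing B₂] [Algebra A₂ B₂] [AddCommGroup N₂]
  [Module B₂ N₂] [Module A₂ N₂] [IsScalarTower A₂ B₂ N₂]
  [Algebra A₁ A₂] [Algebra B₁ B₂] [Module A₁ N₂] [IsScalarTower A₁ A₂ N₂]
  (gA : N₁ →ₗ[A₁] N₂)
  (t₁ : Ideal A₁) [t₁.IsPrime] (T : Ideal A₂) [T.IsPrime] [hTt : T.LiesOver t₁]

/-- the residue field map -/
noncomputable def iota : t₁.ResidueField →ₐ[A₁] T.ResidueField :=
  Ideal.ResidueField.mapₐ t₁ T (Algebra.ofId A₁ A₂) hTt.over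

/-- the comparison map on `κ ⊗ N`. -/
noncomputable def G : t₁.ResidueField ⊗[A₁] N₁ →ₗ[A₁] T.ResidueField ⊗[A₂] N₂ :=
  TensorProduct.lift
    { toFun := fun c =>
        { toFun := fun n => (iota t₁ T c) ⊗ₜ[A₂] gA n
          map_add' := fun n n' => by rw [map_add, TensorProduct.tmul_add]
          map_smul' := fun a n => by
            rw [map_smul, RingHom.id_apply, TensorProduct.tmul_smul] }
      map_add' := fun c c' => by
        ext n
        simp [TensorProduct.add_tmul]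
      map_smul' := fun a c => by
        ext n
        simp [TensorProduct.smul_tmul'] }

theorem G_tmul (c : t₁.ResidueField) (n : N₁) :
    G gA t₁ T (c ⊗ₜ[A₁] n) = (iota t₁ T c) ⊗ₜ[A₂] gA n := rfl

include hTt in
theorem G_injective (hgA : IsBaseChange A₂ gA) : Function.Injective (G gA t₁ T) := by
  letI algκ : Algebra t₁.ResidueField T.ResidueField := (iota t₁ T).toRingHom.toAlgebra
  have halg : ∀ c, algebraMap t₁.ResidueField T.ResidueField c = iota t₁ T c := fun _ => rfl
  haveI tw : IsScalarTower A₁ t₁.ResidueField T.ResidueField :=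
    IsScalarTower.of_algebraMap_eq (fun a => by
      rw [halg, AlgHom.commutes])
  obtain ⟨ρ, hρ⟩ := LinearMap.exists_leftInverse_of_injective
    (Algebra.linearMap t₁.ResidueField T.ResidueField)
    (LinearMap.ker_eq_bot.mpr (algebraMap t₁.ResidueField T.ResidueField).injective)
  have hρ' : ∀ c, ρ (iota t₁ T c) = c := fun c => by
    have := congrArg (fun f => f c) hρ
    rw [← halg]
    simpa using this
  let H1 : T.ResidueField ⊗[A₂] N₂ ≃ₗ[A₂] T.ResidueField ⊗[A₂] (A₂ ⊗[A₁] N₁) :=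
    LinearEquiv.lTensor T.ResidueField hgA.equiv.symm
  let H2 : T.ResidueField ⊗[A₂] (A₂ ⊗[A₁] N₁) ≃ₗ[A₂] T.ResidueField ⊗[A₁] N₁ :=
    TensorProduct.AlgebraTensorModule.cancelBaseChange A₁ A₂ A₂ T.ResidueField N₁
  let H3 : T.ResidueField ⊗[A₁] N₁ →ₗ[A₁] t₁.ResidueField ⊗[A₁] N₁ :=
    LinearMap.rTensor N₁ (ρ.restrictScalars A₁)
  have key : ∀ x, H3 (H2 (H1 (G gA t₁ T x))) = x := by
    intro x
    induction x using TensorProduct.induction_on with
    | zero => simp
    | tmul c n =>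
      rw [G_tmul]
      have h1 : H1 ((iota t₁ T c) ⊗ₜ[A₂] gA n) = (iota t₁ T c) ⊗ₜ[A₂] ((1 : A₂) ⊗ₜ[A₁] n) := by
        simp only [H1, LinearEquiv.lTensor_tmul]
        congr 1
        rw [LinearEquiv.symm_apply_eq, IsBaseChange.equiv_tmul, one_smul]
      rw [h1]
      have h2 : H2 ((iota t₁ T c) ⊗ₜ[A₂] ((1 : A₂) ⊗ₜ[A₁] n)) = (iota t₁ T c) ⊗ₜ[A₁] n := by
        simp only [H2, TensorProduct.AlgebraTensorModule.cancelBaseChange_tmul, one_smul]
      rw [h2]
      simp only [H3, LinearMap.rTensor_tmul, LinearMap.restrictScalars_apply, hρ']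
    | add x y hx hy => simp only [map_add, hx, hy]
  intro x y hxy
  rw [← key x, ← key y, hxy]

theorem G_smul (hgB : ∀ (b : B₁) (n : N₁), gA (b • n) = algebraMap B₁ B₂ b • gA n) (b : B₁)
    (x : t₁.ResidueField ⊗[A₁] N₁) :
    G gA t₁ T (LinearMap.lTensor t₁.ResidueField ((LinearMap.lsmul B₁ N₁ b).restrictScalars A₁) x) =
      LinearMap.lTensor T.ResidueField
        ((LinearMap.lsmul B₂ N₂ (algebraMap B₁ B₂ b)).restrictScalars A₂) (G gA t₁ T x) := by
  induction x using TensorProduct.induction_on with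
  | zero => simp
  | tmul c n =>
    simp only [LinearMap.lTensor_tmul, G_tmul, LinearMap.restrictScalars_apply, LinearMap.lsmul_apply, hgB]
  | add x y hx hy => simp only [map_add, hx, hy]

attribute [local instance] Algebra.TensorProduct.rightAlgebra in
include hTt in
theorem exists_assoc_over (hgA : IsBaseChange A₂ gA)
    (hgB : ∀ (b : B₁) (n : N₁), gA (b • n) = algebraMap B₁ B₂ b • gA n)
    [IsNoetherianRing (T.Fiber B₂)]
    (P₁ : Ideal B₁) [P₁.IsPrime]
    (hass : FlatCA.fiberIdeal t₁ P₁ ∈ associatedPrimes (t₁.Fiber B₁) (FlatCA.fiberMod t₁ B₁ N₁)) :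
    ∃ P₂ : Ideal B₂, P₂.IsPrime ∧ P₂.LiesOver T ∧
      FlatCA.fiberIdeal T P₂ ∈ associatedPrimes (T.Fiber B₂) (FlatCA.fiberMod T B₂ N₂) ∧
      P₁ ≤ P₂.comap (algebraMap B₁ B₂) := by
  have hass' : IsAssociatedPrime (FlatCA.fiberIdeal t₁ P₁) ((t₁.Fiber B₁) ⊗[B₁] N₁) := hass
  obtain ⟨hprime, m₁, hm₁⟩ := hass'
  have hm0 : m₁ ≠ 0 := by
    rintro rfl
    apply hprime.ne_top
    rw [hm₁, Ideal.radical_eq_top, Ideal.eq_top_iff_one, Submodule.mem_colon_singleton]
    simp
  -- transport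
  set x₁ : t₁.ResidueField ⊗[A₁] N₁ := psi t₁ B₁ N₁ m₁ with x₁_def
  have hx₁ : x₁ ≠ 0 := fun h => hm0 ((injective_iff_map_eq_zero _).mp (psi_injective t₁ B₁ N₁) _ h)
  set v : (T.Fiber B₂) ⊗[B₂] N₂ := theta T B₂ N₂ (G gA t₁ T x₁) with v_def
  have hv : v ≠ 0 := by
    intro h
    apply hx₁
    apply (injective_iff_map_eq_zero _).mp (G_injective gA t₁ T hgA)
    rw [← psi_theta T B₂ N₂ (G gA t₁ T x₁), ← v_def, h, map_zero]
  obtain ⟨𝔔, h𝔔, hle⟩ := exists_le_isAssociatedPrime_of_isNoetherianRing (T.Fiber B₂) v hv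
  haveI := h𝔔.isPrime
  refine ⟨𝔔.comap (Algebra.TensorProduct.includeRight (R := A₂) (A := T.ResidueField) (B := B₂)).toRingHom,
    Ideal.comap_isPrime _ _, ?_, ?_, ?_⟩
  · have h2 := ((PrimeSpectrum.primesOverOrderIsoFiber A₂ B₂ T).symm ⟨𝔔, h𝔔.isPrime⟩).2.2
    rw [PrimeSpectrum.coe_primesOverOrderIsoFiber_symm_apply] at h2
    exact h2
  · rw [fiberIdeal_comap]
    exact h𝔔
  · intro b hb
    have hmem : (Algebra.TensorProduct.includeRight (R := A₁) (A := t₁.ResidueField) (B := B₁)) b ∈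
        FlatCA.fiberIdeal t₁ P₁ := Ideal.mem_map_of_mem _ hb
    rw [hm₁] at hmem
    obtain ⟨k, hk⟩ := hmem
    rw [Submodule.mem_colon_singleton, Submodule.mem_bot, ← map_pow] at hk
    -- `b^k • m₁ = 0`
    have hk' : (b ^ k) • m₁ = 0 := by
      rw [← hk, ← algebraMap_smul (t₁.Fiber B₁) (b ^ k) m₁]
      rfl
    have h1 : LinearMap.lTensor t₁.ResidueField ((LinearMap.lsmul B₁ N₁ (b ^ k)).restrictScalars A₁) x₁ = 0 := by
      rw [x₁_def, ← psi_smul, hk', map_zero]
    have h2 : (algebraMap B₁ B₂ (b ^ k)) • v = 0 := by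
      apply psi_injective T B₂ N₂
      rw [psi_smul, v_def, psi_theta, ← G_smul gA t₁ T hgB, h1, map_zero, map_zero]
    have h3 : (Algebra.TensorProduct.includeRight (R := A₂) (A := T.ResidueField) (B := B₂))
        (algebraMap B₁ B₂ (b ^ k)) ∈ 𝔔 := by
      apply hle
      rw [Submodule.mem_colon_singleton, Submodule.mem_bot, ← h2,
        ← algebraMap_smul (T.Fiber B₂) (algebraMap B₁ B₂ (b ^ k)) v]
      rfl
    rw [map_pow, map_pow] at h3
    rw [Ideal.mem_comap, Ideal.mem_comap]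
    exact Ideal.IsPrime.mem_of_pow_mem inferInstance k h3

end Main

end Groth.Agent.Helper10.AssBC
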