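import Mathlib

/-!
# Abstract base change maps (mates) and their pasting (helper10)

For functors `F : 𝒜 ⥤ ℬ`, `F' : 𝒜' ⥤ ℬ'`, adjunctions `Gs ⊣ G` (`G : ℬ' ⥤ ℬ`), `G's ⊣ G'`
(`G' : 𝒜' ⥤ 𝒜`) and `θ : G' ⋙ F ⟶ F' ⋙ G`, the base change map `bc adj adj' θ A : Gs (F A) ⟶ F' (G's A)`.
* `bc_vcomp`: pasting of two squares w.r.t. composite adjunctions;
* `bc_changeLeft`: dependence on the choice of left adjoints;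
* `bc_ofNatIsoRight`: transport along isomorphisms of the right adjoints.
-/

set_option autoImplicit false

namespace Groth.Agent.Helper10.MatePaste

open CategoryTheory

universe v₁ v₂ v₃ v₄ v₅ v₆ u₁ u₂ u₃ u₄ u₅ u₆

section

variable {𝒜 : Type u₁} [Category.{v₁} 𝒜] {ℬ : Type u₂} [Category.{v₂} ℬ]
  {𝒜' : Type u₃} [Category.{v₃} 𝒜'] {ℬ' : Type u₄} [Category.{v₄} ℬ']
  {F : 𝒜 ⥤ ℬ} {F' : 𝒜' ⥤ ℬ'} {G : ℬ' ⥤ ℬ} {Gs : ℬ ⥤ ℬ'} {G' : 𝒜' ⥤ 𝒜} {G's : 𝒜 ⥤ 𝒜'}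

/-- The abstract base change map. -/
def bc (adj : Gs ⊣ G) (adj' : G's ⊣ G') (θ : G' ⋙ F ⟶ F' ⋙ G) (A : 𝒜) :
    Gs.obj (F.obj A) ⟶ F'.obj (G's.obj A) :=
  (adj.homEquiv _ _).symm (F.map (adj'.unit.app A) ≫ θ.app (G's.obj A))

lemma bc_eq (adj : Gs ⊣ G) (adj' : G's ⊣ G') (θ : G' ⋙ F ⟶ F' ⋙ G) (A : 𝒜) :
    bc adj adj' θ A =
      Gs.map (F.map (adj'.unit.app A) ≫ θ.app (G's.obj A)) ≫ adj.counit.app _ := by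
  rw [bc, Adjunction.homEquiv_counit]

lemma homEquiv_symm_changeLeft {L₁ L₂ : ℬ ⥤ ℬ'} (adj₁ : L₁ ⊣ G) (adj₂ : L₂ ⊣ G) {X : ℬ} {Y : ℬ'}
    (ψ : X ⟶ G.obj Y) :
    (adj₂.homEquiv X Y).symm ψ =
      (Adjunction.leftAdjointUniq adj₂ adj₁).hom.app X ≫ (adj₁.homEquiv X Y).symm ψ := by
  apply (adj₂.homEquiv X Y).injective
  rw [Equiv.apply_symm_apply, Adjunction.homEquiv_unit, Functor.map_comp,
    ← Category.assoc, Adjunction.unit_leftAdjointUniq_hom_app, ← Adjunction.homEquiv_unit,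
    Equiv.apply_symm_apply]

/-- Dependence on the left adjoints. -/
lemma bc_changeLeft {Gs₂ : ℬ ⥤ ℬ'} {G's₂ : 𝒜 ⥤ 𝒜'} (adj₁ : Gs ⊣ G) (adj₁' : G's ⊣ G')
    (adj₂ : Gs₂ ⊣ G) (adj₂' : G's₂ ⊣ G') (θ : G' ⋙ F ⟶ F' ⋙ G) (A : 𝒜) :
    bc adj₂ adj₂' θ A =
      (Adjunction.leftAdjointUniq adj₂ adj₁).hom.app _ ≫ bc adj₁ adj₁' θ A ≫
        F'.map ((Adjunction.leftAdjointUniq adj₁' adj₂').hom.app A) := by
  have h1 : adj₂'.unit.app A =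
      adj₁'.unit.app A ≫ G'.map ((Adjunction.leftAdjointUniq adj₁' adj₂').hom.app A) :=
    (Adjunction.unit_leftAdjointUniq_hom_app adj₁' adj₂' A).symm
  have hθ := θ.naturality ((Adjunction.leftAdjointUniq adj₁' adj₂').hom.app A)
  simp only [Functor.comp_obj, Functor.comp_map] at hθ
  have h3 : F.map (adj₂'.unit.app A) ≫ θ.app (G's₂.obj A) =
      (F.map (adj₁'.unit.app A) ≫ θ.app (G's.obj A)) ≫
        G.map (F'.map ((Adjunction.leftAdjointUniq adj₁' adj₂').hom.app A)) := by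
    rw [h1, Functor.map_comp, Category.assoc, hθ, Category.assoc]
  unfold bc
  rw [h3, Adjunction.homEquiv_naturality_right_symm, homEquiv_symm_changeLeft adj₁ adj₂,
    Category.assoc]

lemma isIso_bc_changeLeft {Gs₂ : ℬ ⥤ ℬ'} {G's₂ : 𝒜 ⥤ 𝒜'} (adj₁ : Gs ⊣ G) (adj₁' : G's ⊣ G')
    (adj₂ : Gs₂ ⊣ G) (adj₂' : G's₂ ⊣ G') (θ : G' ⋙ F ⟶ F' ⋙ G) (A : 𝒜)
    [IsIso (bc adj₁ adj₁' θ A)] : IsIso (bc adj₂ adj₂' θ A) := by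
  rw [bc_changeLeft adj₁ adj₁' adj₂ adj₂']
  infer_instance

/-- Transport along isomorphisms of the right adjoints. -/
lemma bc_ofNatIsoRight {G₂ : ℬ' ⥤ ℬ} {G'₂ : 𝒜' ⥤ 𝒜} (adj : Gs ⊣ G) (adj' : G's ⊣ G')
    (e : G ≅ G₂) (e' : G' ≅ G'₂) (θ : G' ⋙ F ⟶ F' ⋙ G) (θ₂ : G'₂ ⋙ F ⟶ F' ⋙ G₂)
    (hθ : ∀ A' : 𝒜', F.map (e'.hom.app A') ≫ θ₂.app A' = θ.app A' ≫ e.hom.app (F'.obj A'))
    (A : 𝒜) :
    bc (adj.ofNatIsoRight e) (adj'.ofNatIsoRight e') θ₂ A = bc adj adj' θ A := by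
  unfold bc
  rw [Adjunction.homEquiv_ofNatIsoRight_symm_apply]
  congr 1
  have : (adj'.ofNatIsoRight e').unit.app A = adj'.unit.app A ≫ e'.hom.app (G's.obj A) := by
    simp [Adjunction.ofNatIsoRight]
  rw [this, Functor.map_comp, Category.assoc, Category.assoc, reassoc_of% (hθ (G's.obj A))]
  simp

end

section vcomp

variable {𝒜 : Type u₁} [Category.{v₁} 𝒜] {ℬ : Type u₂} [Category.{v₂} ℬ]
  {𝒜' : Type u₃} [Category.{v₃} 𝒜'] {ℬ' : Type u₄} [Category.{v₄} ℬ']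
  {𝒜'' : Type u₅} [Category.{v₅} 𝒜''] {ℬ'' : Type u₆} [Category.{v₆} ℬ'']
  {F : 𝒜 ⥤ ℬ} {F' : 𝒜' ⥤ ℬ'} {F'' : 𝒜'' ⥤ ℬ''}
  {G : ℬ' ⥤ ℬ} {Gs : ℬ ⥤ ℬ'} {G' : 𝒜' ⥤ 𝒜} {G's : 𝒜 ⥤ 𝒜'}
  {K : ℬ'' ⥤ ℬ'} {Ks : ℬ' ⥤ ℬ''} {K' : 𝒜'' ⥤ 𝒜'} {K's : 𝒜' ⥤ 𝒜''}

/-- The vertical composite of two squares. -/
def θcomp (θ₁ : G' ⋙ F ⟶ F' ⋙ G) (θ₂ : K' ⋙ F' ⟶ F'' ⋙ K) :
    (K' ⋙ G') ⋙ F ⟶ F'' ⋙ (K ⋙ G) where
  app A'' := θ₁.app (K'.obj A'') ≫ G.map (θ₂.app A'')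
  naturality A B f := by
    have h1 := θ₁.naturality (K'.map f)
    have h2 := θ₂.naturality f
    simp only [Functor.comp_obj, Functor.comp_map] at h1 h2 ⊢
    rw [reassoc_of% h1, Category.assoc, ← G.map_comp, ← G.map_comp, h2]

@[simp]
lemma θcomp_app (θ₁ : G' ⋙ F ⟶ F' ⋙ G) (θ₂ : K' ⋙ F' ⟶ F'' ⋙ K) (A'' : 𝒜'') :
    (θcomp θ₁ θ₂).app A'' = θ₁.app (K'.obj A'') ≫ G.map (θ₂.app A'') := rfl

/-- Pasting of base change maps. -/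
lemma bc_vcomp (adjG : Gs ⊣ G) (adjG' : G's ⊣ G') (adjK : Ks ⊣ K) (adjK' : K's ⊣ K')
    (θ₁ : G' ⋙ F ⟶ F' ⋙ G) (θ₂ : K' ⋙ F' ⟶ F'' ⋙ K) (A : 𝒜) :
    bc (adjG.comp adjK) (adjG'.comp adjK') (θcomp θ₁ θ₂) A =
      Ks.map (bc adjG adjG' θ₁ A) ≫ bc adjK adjK' θ₂ (G's.obj A) := by
  have h1 := θ₁.naturality (adjK'.unit.app (G's.obj A))
  simp only [Functor.comp_obj, Functor.comp_map, Functor.id_obj] at h1
  have h3 : F.map ((adjG'.comp adjK').unit.app A) ≫ (θcomp θ₁ θ₂).app ((G's ⋙ K's).obj A) =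
      (F.map (adjG'.unit.app A) ≫ θ₁.app (G's.obj A)) ≫
        G.map (F'.map (adjK'.unit.app (G's.obj A)) ≫ θ₂.app (K's.obj (G's.obj A))) := by
    rw [Adjunction.comp_unit_app, θcomp_app, Functor.map_comp, Functor.map_comp, Category.assoc,
      Category.assoc]
    congr 1
    exact (reassoc_of% h1) (G.map (θ₂.app (K's.obj (G's.obj A))))
  have h4 : ∀ {X : ℬ} {Y : ℬ''} (ψ : X ⟶ (K ⋙ G).obj Y),
      ((adjG.comp adjK).homEquiv X Y).symm ψ =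
        (adjK.homEquiv _ _).symm ((adjG.homEquiv _ _).symm ψ) := by
    intro X Y ψ
    rw [Adjunction.comp_homEquiv]
    rfl
  unfold bc
  rw [h3, h4, Adjunction.homEquiv_naturality_right_symm,
    Adjunction.homEquiv_naturality_left_symm]
  rfl

end vcomp

end Groth.Agent.Helper10.MatePaste
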