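import Mathlib
import Groth.Prelude.Def_SGA4b
import Groth.Prelude.Def_EtBCD
import Groth.Agent.Lib.Helper10.MatePaste

/-!
# Pasting of base change maps for sheaves of sets on small étale sites (helper10)

`exists_paste`, `exists_paste'`: the base change map `EtBC.baseChange0Sh` of a pasted rectangle is, up to
isomorphisms, the composite of the base change maps of the two squares.
-/

set_option autoImplicit false

namespace Groth.Agent.Helper10.BCSh

open CategoryTheory CategoryTheory.Limits AlgebraicGeometry Opposite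
open Groth.Agent.Helper10.MatePaste

universe u

section Basic

variable {X S X' S' : Scheme.{u}}

/-- The comparison of iterated pushforwards attached to a commutative square. -/
noncomputable def θSh (f : X ⟶ S) (g : S' ⟶ S) (f' : X' ⟶ S') (g' : X' ⟶ X)
    (w : g' ≫ f = f' ≫ g) :
    EtDesc.pushSh g' ⋙ EtDesc.pushSh f ⟶ EtDesc.pushSh f' ⋙ EtDesc.pushSh g :=
  (EtDesc.pushCompSh f g').hom ≫ (EtBC.pushCongrSh w).hom ≫ (EtDesc.pushCompSh g f').inv

lemma baseChange0Sh_eq (f : X ⟶ S) (g : S' ⟶ S) (f' : X' ⟶ S') (g' : X' ⟶ X)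
    (w : g' ≫ f = f' ≫ g) (F : EtDesc.Sh X) :
    EtBC.baseChange0Sh f g f' g' w F =
      bc (EtDesc.adjSh g) (EtDesc.adjSh g') (θSh f g f' g' w) F := rfl

end Basic

section Site

/-- the small étale site as a `MorphismProperty.Over` category (to help unification) -/
abbrev Et (X : Scheme.{u}) := MorphismProperty.Over EtCoh.etaleMP.{u} ⊤ X

/-- base change of étale schemes -/
noncomputable abbrev pb {X Y : Scheme.{u}} (f : X ⟶ Y) : Et Y ⥤ Et X :=
  MorphismProperty.Over.pullback EtCoh.etaleMP.{u} ⊤ f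

variable {Z X Y : Scheme.{u}}

/-- the first projection of a base change -/
noncomputable def p1 (k : Z ⟶ X) (B : Et X) : ((pb k).obj B).left ⟶ B.left :=
  pullback.fst B.hom k

@[reassoc]
lemma pbComp_inv_p1 (g : Z ⟶ X) (f : X ⟶ Y) (V : Et Y) :
    ((MorphismProperty.Over.pullbackComp (P := EtCoh.etaleMP) (Q := ⊤) g f).inv.app V).left ≫
      p1 (g ≫ f) V = p1 g ((pb f).obj V) ≫ p1 f V := by
  unfold p1
  simp
  exact pullbackLeftPullbackSndIso_hom_fst _ _ _

@[reassoc]
lemma pbComp_hom_p1_p1 (g : Z ⟶ X) (f : X ⟶ Y) (V : Et Y) :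
    ((MorphismProperty.Over.pullbackComp (P := EtCoh.etaleMP) (Q := ⊤) g f).hom.app V).left ≫
      p1 g ((pb f).obj V) ≫ p1 f V = p1 (g ≫ f) V := by
  unfold p1
  simp
  exact pullbackLeftPullbackSndIso_inv_fst _ _ _

@[reassoc]
lemma pbCongr_inv_p1 {f f' : X ⟶ Y} (h : f = f') (V : Et Y) :
    ((MorphismProperty.Over.pullbackCongr (P := EtCoh.etaleMP) (Q := ⊤) h).inv.app V).left ≫
      p1 f V = p1 f' V := by
  subst h
  unfold p1
  simp [MorphismProperty.Over.pullbackCongr]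
  exact Category.id_comp _

@[reassoc]
lemma pb_map_p1 (k : Z ⟶ X) {A B : Et X} (m : A ⟶ B) :
    ((pb k).map m).left ≫ p1 k B = p1 k A ≫ m.left := by
  unfold p1
  simp
  exact pullback.lift_fst _ _ _

/-- morphisms into a base change are determined by their first projection -/
lemma pb_hom_ext (k : Z ⟶ X) {A : Et Z} {B : Et X} (m₁ m₂ : A ⟶ (pb k).obj B)
    (h : m₁.left ≫ p1 k B = m₂.left ≫ p1 k B) : m₁ = m₂ := by
  apply MorphismProperty.Over.Hom.ext
  apply pullback.hom_ext h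
  have h1 := MorphismProperty.Over.w m₁
  have h2 := MorphismProperty.Over.w m₂
  exact h1.trans h2.symm

section Square

variable {X S X' S' : Scheme.{u}}

/-- the comparison morphism of étale schemes -/
noncomputable def ι (f : X ⟶ S) (g : S' ⟶ S) (f' : X' ⟶ S') (g' : X' ⟶ X)
    (w : g' ≫ f = f' ≫ g) (V : Et S) :
    (pb f').obj ((pb g).obj V) ⟶ (pb g').obj ((pb f).obj V) :=
  (MorphismProperty.Over.pullbackComp (P := EtCoh.etaleMP) (Q := ⊤) f' g).inv.app V ≫
    (MorphismProperty.Over.pullbackCongr (P := EtCoh.etaleMP) (Q := ⊤) w).inv.app V ≫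
    (MorphismProperty.Over.pullbackComp (P := EtCoh.etaleMP) (Q := ⊤) g' f).hom.app V

@[reassoc]
lemma ι_p1_p1 (f : X ⟶ S) (g : S' ⟶ S) (f' : X' ⟶ S') (g' : X' ⟶ X)
    (w : g' ≫ f = f' ≫ g) (V : Et S) :
    (ι f g f' g' w V).left ≫ p1 g' ((pb f).obj V) ≫ p1 f V =
      p1 f' ((pb g).obj V) ≫ p1 g V := by
  unfold ι
  rw [MorphismProperty.Comma.comp_left, MorphismProperty.Comma.comp_left, Category.assoc,
    Category.assoc, pbComp_hom_p1_p1, pbCongr_inv_p1, pbComp_inv_p1]

end Square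

section Coherence

variable {S T X Y W Z : Scheme.{u}} (g : T ⟶ S) (f : X ⟶ S) (h : Y ⟶ X) (e : Y ⟶ T)
  (w : e ≫ g = h ≫ f) (i : W ⟶ X) (j : Z ⟶ W) (k : Z ⟶ Y) (w' : k ≫ h = j ≫ i)
  (w'' : (k ≫ e) ≫ g = j ≫ (i ≫ f))

/-- morphisms into a triple base change are determined by their projection to the base object -/
lemma pb3_hom_ext {A : Et Z} (V : Et S)
    (m₁ m₂ : A ⟶ (pb k).obj ((pb e).obj ((pb g).obj V)))
    (hm : m₁.left ≫ p1 k ((pb e).obj ((pb g).obj V)) ≫ p1 e ((pb g).obj V) ≫ p1 g V =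
      m₂.left ≫ p1 k ((pb e).obj ((pb g).obj V)) ≫ p1 e ((pb g).obj V) ≫ p1 g V) : m₁ = m₂ := by
  apply pb_hom_ext
  have c1 : p1 k ((pb e).obj ((pb g).obj V)) ≫ pullback.snd ((pb g).obj V).hom e =
      pullback.snd ((pb e).obj ((pb g).obj V)).hom k ≫ k := pullback.condition
  have c2 : p1 e ((pb g).obj V) ≫ pullback.snd V.hom g =
      pullback.snd ((pb g).obj V).hom e ≫ e := pullback.condition
  have t1 : ∀ m : A ⟶ (pb k).obj ((pb e).obj ((pb g).obj V)),
      (m.left ≫ p1 k ((pb e).obj ((pb g).obj V))) ≫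
        pullback.snd ((pb g).obj V).hom e = A.hom ≫ k := by
    intro m
    have s : m.left ≫ pullback.snd ((pb e).obj ((pb g).obj V)).hom k = A.hom :=
      MorphismProperty.Over.w m
    calc (m.left ≫ p1 k ((pb e).obj ((pb g).obj V))) ≫ pullback.snd ((pb g).obj V).hom e
        = m.left ≫ (p1 k ((pb e).obj ((pb g).obj V)) ≫
          pullback.snd ((pb g).obj V).hom e) := Category.assoc _ _ _
      _ = m.left ≫ (pullback.snd ((pb e).obj ((pb g).obj V)).hom k ≫ k) :=
          congrArg (fun t => m.left ≫ t) c1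
      _ = (m.left ≫ pullback.snd ((pb e).obj ((pb g).obj V)).hom k) ≫ k :=
          (Category.assoc _ _ _).symm
      _ = A.hom ≫ k := congrArg (fun t => t ≫ k) s
  have t2 : ∀ m : A ⟶ (pb k).obj ((pb e).obj ((pb g).obj V)),
      ((m.left ≫ p1 k ((pb e).obj ((pb g).obj V))) ≫
        p1 e ((pb g).obj V)) ≫ pullback.snd V.hom g = (A.hom ≫ k) ≫ e := by
    intro m
    calc ((m.left ≫ p1 k ((pb e).obj ((pb g).obj V))) ≫ p1 e ((pb g).obj V)) ≫
          pullback.snd V.hom g
        = (m.left ≫ p1 k ((pb e).obj ((pb g).obj V))) ≫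
          (p1 e ((pb g).obj V) ≫ pullback.snd V.hom g) := Category.assoc _ _ _
      _ = (m.left ≫ p1 k ((pb e).obj ((pb g).obj V))) ≫
          (pullback.snd ((pb g).obj V).hom e ≫ e) :=
          congrArg (fun t => (m.left ≫ p1 k ((pb e).obj ((pb g).obj V))) ≫ t) c2
      _ = ((m.left ≫ p1 k ((pb e).obj ((pb g).obj V))) ≫
          pullback.snd ((pb g).obj V).hom e) ≫ e := (Category.assoc _ _ _).symm
      _ = (A.hom ≫ k) ≫ e := congrArg (fun t => t ≫ e) (t1 m)
  apply pullback.hom_ext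
  · apply pullback.hom_ext
    · refine (Category.assoc _ _ _).trans ((Category.assoc _ _ _).trans (hm.trans ?_))
      exact ((Category.assoc _ _ _).trans (Category.assoc _ _ _)).symm
    · exact (t2 m₁).trans (t2 m₂).symm
  · exact (t1 m₁).trans (t1 m₂).symm

/-- coherence of the comparison morphisms under pasting of squares -/
lemma ι_paste (V : Et S) :
    ι g (i ≫ f) j (k ≫ e) w'' V ≫
        (MorphismProperty.Over.pullbackComp (P := EtCoh.etaleMP) (Q := ⊤) k e).hom.app
          ((pb g).obj V) =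
      (pb j).map ((MorphismProperty.Over.pullbackComp (P := EtCoh.etaleMP) (Q := ⊤) i f).hom.app V) ≫
        ι h i j k w' ((pb f).obj V) ≫ (pb k).map (ι g f h e w V) := by
  apply pb3_hom_ext
  simp only [MorphismProperty.Comma.comp_left, Category.assoc]
  rw [pbComp_hom_p1_p1_assoc, ι_p1_p1, pb_map_p1_assoc, ι_p1_p1, ι_p1_p1_assoc]
  erw [pb_map_p1_assoc]
  rw [pbComp_hom_p1_p1]

end Coherence

end Site



section Sheaf

variable {X S X' S' : Scheme.{u}}

/-- the underlying presheaf, with source category written as `Et X` -/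
def psh (A : EtDesc.Sh X) : (Et X)ᵒᵖ ⥤ Type (u + 1) := A.obj

lemma θSh_app_hom_app (f : X ⟶ S) (g : S' ⟶ S) (f' : X' ⟶ S') (g' : X' ⟶ X)
    (w : g' ≫ f = f' ≫ g) (A : EtDesc.Sh X') (V : Et S) :
    ((θSh f g f' g' w).app A).hom.app (op V) = (psh A).map (ι f g f' g' w V).op := by
  have : ((θSh f g f' g' w).app A).hom.app (op V) =
      (psh A).map ((MorphismProperty.Over.pullbackComp (P := EtCoh.etaleMP) (Q := ⊤) g' f).hom.app V).op ≫
      (psh A).map ((MorphismProperty.Over.pullbackCongr (P := EtCoh.etaleMP) (Q := ⊤) w).inv.app V).op ≫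
      (psh A).map ((MorphismProperty.Over.pullbackComp (P := EtCoh.etaleMP) (Q := ⊤) f' g).inv.app V).op := rfl
  refine this.trans ?_
  unfold ι
  rw [op_comp, op_comp, Functor.map_comp, Functor.map_comp, Category.assoc]

lemma pushCompSh_hom_app_hom_app {Z X Y : Scheme.{u}} (f : X ⟶ Y) (g : Z ⟶ X) (A : EtDesc.Sh Z)
    (V : Et Y) :
    ((EtDesc.pushCompSh f g).hom.app A).hom.app (op V) =
      (psh A).map ((MorphismProperty.Over.pullbackComp (P := EtCoh.etaleMP) (Q := ⊤) g f).hom.app V).op :=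
  rfl

end Sheaf

section Paste

variable {S T X Y W Z : Scheme.{u}} (g : T ⟶ S) (f : X ⟶ S) (h : Y ⟶ X) (e : Y ⟶ T)
  (w : e ≫ g = h ≫ f) (i : W ⟶ X) (j : Z ⟶ W) (k : Z ⟶ Y) (w' : k ≫ h = j ≫ i)
  (w'' : (k ≫ e) ≫ g = j ≫ (i ≫ f))

lemma θSh_coherence (A' : EtDesc.Sh Z) :
    (EtDesc.pushSh g).map ((EtDesc.pushCompSh e k).hom.app A') ≫
        (θSh g (i ≫ f) j (k ≫ e) w'').app A' =
      (θcomp (θSh g f h e w) (θSh h i j k w')).app A' ≫
        (EtDesc.pushCompSh f i).hom.app ((EtDesc.pushSh j).obj A') := by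
  apply Sheaf.hom_ext
  apply NatTrans.ext
  funext V'
  obtain ⟨V'⟩ := V'
  let V : Et S := V'
  have hL : ((EtDesc.pushSh g).map ((EtDesc.pushCompSh e k).hom.app A') ≫
        (θSh g (i ≫ f) j (k ≫ e) w'').app A').hom.app (op V') =
      (psh A').map ((MorphismProperty.Over.pullbackComp (P := EtCoh.etaleMP) (Q := ⊤) k e).hom.app
          ((pb g).obj V)).op ≫ (psh A').map (ι g (i ≫ f) j (k ≫ e) w'' V).op := by
    have := θSh_app_hom_app g (i ≫ f) j (k ≫ e) w'' A' V
    exact congrArg (fun t => (psh A').map ((MorphismProperty.Over.pullbackComp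
      (P := EtCoh.etaleMP) (Q := ⊤) k e).hom.app ((pb g).obj V)).op ≫ t) this
  have hR : ((θcomp (θSh g f h e w) (θSh h i j k w')).app A' ≫
        (EtDesc.pushCompSh f i).hom.app ((EtDesc.pushSh j).obj A')).hom.app (op V') =
      (psh A').map ((pb k).map (ι g f h e w V)).op ≫
        (psh A').map (ι h i j k w' ((pb f).obj V)).op ≫
        (psh A').map ((pb j).map ((MorphismProperty.Over.pullbackComp (P := EtCoh.etaleMP)
          (Q := ⊤) i f).hom.app V)).op := by
    have h1 := θSh_app_hom_app g f h e w ((EtDesc.pushSh k).obj A') V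
    have h2 := θSh_app_hom_app h i j k w' A' ((pb f).obj V)
    have e1 : ((θcomp (θSh g f h e w) (θSh h i j k w')).app A' ≫
        (EtDesc.pushCompSh f i).hom.app ((EtDesc.pushSh j).obj A')).hom.app (op V') =
        ((θSh g f h e w).app ((EtDesc.pushSh k).obj A')).hom.app (op V) ≫
        ((θSh h i j k w').app A').hom.app (op ((pb f).obj V)) ≫
        ((EtDesc.pushCompSh f i).hom.app ((EtDesc.pushSh j).obj A')).hom.app (op V) := rfl
    rw [e1, h1, h2]
    rfl
  rw [hL, hR, ← Functor.map_comp, ← Functor.map_comp, ← Functor.map_comp, ← op_comp, ← op_comp,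
    ← op_comp, Category.assoc]
  exact congrArg (fun t => (psh A').map t.op) (ι_paste g f h e w i j k w' w'' V)

/-- **Pasting of base change maps for sheaves of sets.** -/
theorem exists_paste (F : EtDesc.Sh T) :
    ∃ (α : (EtDesc.pullSh (i ≫ f)).obj ((EtDesc.pushSh g).obj F) ≅
        (EtDesc.pullSh i).obj ((EtDesc.pullSh f).obj ((EtDesc.pushSh g).obj F)))
      (β : (EtDesc.pullSh k).obj ((EtDesc.pullSh e).obj F) ≅ (EtDesc.pullSh (k ≫ e)).obj F),
      EtBC.baseChange0Sh g (i ≫ f) j (k ≫ e) w'' F =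
        α.hom ≫ (EtDesc.pullSh i).map (EtBC.baseChange0Sh g f h e w F) ≫
          EtBC.baseChange0Sh h i j k w' ((EtDesc.pullSh e).obj F) ≫
            (EtDesc.pushSh j).map β.hom := by
  let adjO := ((EtDesc.adjSh f).comp (EtDesc.adjSh i)).ofNatIsoRight (EtDesc.pushCompSh f i)
  let adjO' := ((EtDesc.adjSh e).comp (EtDesc.adjSh k)).ofNatIsoRight (EtDesc.pushCompSh e k)
  have h1 : bc adjO adjO' (θSh g (i ≫ f) j (k ≫ e) w'') F =
      (EtDesc.pullSh i).map (EtBC.baseChange0Sh g f h e w F) ≫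
        EtBC.baseChange0Sh h i j k w' ((EtDesc.pullSh e).obj F) := by
    rw [bc_ofNatIsoRight ((EtDesc.adjSh f).comp (EtDesc.adjSh i))
      ((EtDesc.adjSh e).comp (EtDesc.adjSh k)) (EtDesc.pushCompSh f i) (EtDesc.pushCompSh e k)
      (θcomp (θSh g f h e w) (θSh h i j k w')) (θSh g (i ≫ f) j (k ≫ e) w'')
      (θSh_coherence g f h e w i j k w' w'') F, bc_vcomp]
    rfl
  refine ⟨(Adjunction.leftAdjointUniq (EtDesc.adjSh (i ≫ f)) adjO).app _,
    (Adjunction.leftAdjointUniq adjO' (EtDesc.adjSh (k ≫ e))).app F, ?_⟩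
  rw [baseChange0Sh_eq, bc_changeLeft adjO adjO' (EtDesc.adjSh (i ≫ f)) (EtDesc.adjSh (k ≫ e)), h1,
    Category.assoc]
  rfl

/-- pasting, with the composites as variables -/
theorem exists_paste' (φ : W ⟶ S) (ε : Z ⟶ T) (hφ : φ = i ≫ f) (hε : ε = k ≫ e)
    (wo : ε ≫ g = j ≫ φ) (F : EtDesc.Sh T) :
    ∃ (α : (EtDesc.pullSh φ).obj ((EtDesc.pushSh g).obj F) ≅
        (EtDesc.pullSh i).obj ((EtDesc.pullSh f).obj ((EtDesc.pushSh g).obj F)))
      (β : (EtDesc.pullSh k).obj ((EtDesc.pullSh e).obj F) ≅ (EtDesc.pullSh ε).obj F),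
      EtBC.baseChange0Sh g φ j ε wo F =
        α.hom ≫ (EtDesc.pullSh i).map (EtBC.baseChange0Sh g f h e w F) ≫
          EtBC.baseChange0Sh h i j k w' ((EtDesc.pullSh e).obj F) ≫
            (EtDesc.pushSh j).map β.hom := by
  subst hφ hε
  exact exists_paste g f h e w i j k w' wo F

end Paste

end Groth.Agent.Helper10.BCSh
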