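import Mathlib
import Groth.Prelude.Def_SGA4b
import Groth.Prelude.Def_EtBCD
import Groth.Agent.Lib.Helper10.BCShPaste
import Groth.Agent.Lib.Helper10.EtLoc

set_option autoImplicit false

namespace Groth.Agent.Helper10.BCSh

open CategoryTheory CategoryTheory.Limits AlgebraicGeometry Opposite
open Groth.Agent.Helper10.MatePaste

universe w u

lemma map_op_comp3 {C : Type*} [Category C] (P : Cᵒᵖ ⥤ Type (u + 1)) {a b c d : C} (x : a ⟶ b)
    (y : b ⟶ c) (z : c ⟶ d) :
    P.map z.op ≫ P.map y.op ≫ P.map x.op = P.map (x ≫ y ≫ z).op := by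
  simp only [op_comp, Functor.map_comp, Category.assoc]

section Res

variable {V Y : Scheme.{u}} (j : V ⟶ Y) [Etale j]

/-- composition with an étale morphism, on `Et` -/
noncomputable abbrev ph : Et V ⥤ Et Y := EtLoc.phi j

/-- `ph j ⊣ pb j` -/
noncomputable abbrev phAdj : ph j ⊣ pb j := EtLoc.phiAdj j

/-- restriction of sheaves of sets along an étale morphism -/
noncomputable abbrev resSh : EtDesc.Sh Y ⥤ EtDesc.Sh V :=
  (EtLoc.phi j).sheafPushforwardContinuous (Type (u + 1)) V.smallEtaleTopology
    Y.smallEtaleTopology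

/-- `resSh j ⊣ pushSh j` -/
noncomputable def resAdj : resSh j ⊣ EtDesc.pushSh j :=
  Adjunction.sheafPushforwardContinuous (E := Type (u + 1)) (EtLoc.phiAdj j)
    V.smallEtaleTopology Y.smallEtaleTopology

/-- `pullSh j ≅ resSh j` -/
noncomputable def pullIsoRes : EtDesc.pullSh j ≅ resSh j :=
  Adjunction.leftAdjointUniq (EtDesc.adjSh j) (resAdj j)

lemma resAdj_unit_app_hom_app (P : EtDesc.Sh Y) (W : Et Y) :
    ((resAdj j).unit.app P).hom.app (op W) = (psh P).map ((phAdj j).counit.app W).op := rfl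

lemma resAdj_counit_app_hom_app (Q : EtDesc.Sh V) (W' : Et V) :
    ((resAdj j).counit.app Q).hom.app (op W') = (psh Q).map ((phAdj j).unit.app W').op := rfl

lemma ph_map_left {A B : Et V} (m : A ⟶ B) : ((ph j).map m).left = m.left := rfl

lemma phAdj_counit_left (B : Et Y) : ((phAdj j).counit.app B).left = p1 j B := rfl

@[reassoc]
lemma phAdj_unit_left_p1 (A : Et V) :
    ((phAdj j).unit.app A).left ≫ p1 j ((ph j).obj A) = 𝟙 A.left := by
  unfold p1
  exact pullback.lift_fst _ _ _

end Res

section EtBC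

variable {S T V TV : Scheme.{u}} (g : T ⟶ S) (j : V ⟶ S) [Etale j] (gV : TV ⟶ V) (t : TV ⟶ T)
  [Etale t] (c : IsPullback t gV g j)

/-- the comparison morphism on sites for the étale base change map -/
noncomputable def mEt (W' : Et V) :
    (ph t).obj ((pb gV).obj W') ⟶ (pb g).obj ((ph j).obj W') :=
  (ph t).map ((pb gV).map ((phAdj j).unit.app W')) ≫
    (ph t).map (ι g j gV t c.w ((ph j).obj W')) ≫ (phAdj t).counit.app ((pb g).obj ((ph j).obj W'))

lemma mEt_left_fst (W' : Et V) :
    (mEt g j gV t c W').left ≫ p1 g ((ph j).obj W') = p1 gV W' := by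
  unfold mEt
  rw [MorphismProperty.Comma.comp_left, MorphismProperty.Comma.comp_left, ph_map_left,
    ph_map_left, phAdj_counit_left, Category.assoc, Category.assoc]
  erw [ι_p1_p1, pb_map_p1_assoc, phAdj_unit_left_p1]
  exact Category.comp_id _

lemma mEt_left_snd (W' : Et V) :
    (mEt g j gV t c W').left ≫ pullback.snd ((ph j).obj W').hom g =
      pullback.snd W'.hom gV ≫ t :=
  MorphismProperty.Over.w (mEt g j gV t c W')

omit [Etale j] [Etale t] in
include c in
lemma isPullback_big (W' : Et V) :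
    IsPullback (p1 gV W') (pullback.snd W'.hom gV ≫ t) (W'.hom ≫ j) g := by
  have h1 : IsPullback (pullback.snd W'.hom gV) (pullback.fst W'.hom gV) gV W'.hom :=
    (IsPullback.of_hasPullback W'.hom gV).flip
  exact (h1.paste_horiz c).flip

instance isIso_mEt_left (W' : Et V) : IsIso (mEt g j gV t c W').left := by
  have P₁ := isPullback_big g j gV t c W'
  have P₂ : IsPullback (pullback.fst (W'.hom ≫ j) g) (pullback.snd (W'.hom ≫ j) g) (W'.hom ≫ j) g :=
    IsPullback.of_hasPullback _ _
  have e : (mEt g j gV t c W').left = (P₁.isoIsPullback _ _ P₂).hom := by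
    apply P₂.hom_ext
    · exact (mEt_left_fst g j gV t c W').trans (IsPullback.isoIsPullback_hom_fst _ _ P₁ P₂).symm
    · exact (mEt_left_snd g j gV t c W').trans (IsPullback.isoIsPullback_hom_snd _ _ P₁ P₂).symm
  rw [e]
  infer_instance

instance isIso_mEt (W' : Et V) : IsIso (mEt g j gV t c W') := by
  have : IsIso ((MorphismProperty.Over.forget EtCoh.etaleMP ⊤ T ⋙ Over.forget T).map
      (mEt g j gV t c W')) := isIso_mEt_left g j gV t c W'
  exact isIso_of_reflects_iso _ (MorphismProperty.Over.forget EtCoh.etaleMP ⊤ T ⋙ Over.forget T)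

/-- the base change map for the restriction adjunctions, sectionwise -/
lemma bc_res_hom_app (F : EtDesc.Sh T) (W' : Et V) :
    (bc (resAdj j) (resAdj t) (θSh g j gV t c.w) F).hom.app (op W') =
      (psh F).map (mEt g j gV t c W').op := by
  have e1 : (bc (resAdj j) (resAdj t) (θSh g j gV t c.w) F).hom.app (op W') =
      ((EtDesc.pushSh g).map ((resAdj t).unit.app F)).hom.app (op ((ph j).obj W')) ≫
        ((θSh g j gV t c.w).app ((resSh t).obj F)).hom.app (op ((ph j).obj W')) ≫
          ((resAdj j).counit.app ((EtDesc.pushSh gV).obj ((resSh t).obj F))).hom.app (op W') := by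
    rw [bc_eq]
    rfl
  have e2 : ((EtDesc.pushSh g).map ((resAdj t).unit.app F)).hom.app (op ((ph j).obj W')) =
      (psh F).map ((phAdj t).counit.app ((pb g).obj ((ph j).obj W'))).op := rfl
  have e3 := θSh_app_hom_app g j gV t c.w ((resSh t).obj F) ((ph j).obj W')
  have e3' : (psh ((resSh t).obj F)).map (ι g j gV t c.w ((ph j).obj W')).op =
      (psh F).map ((ph t).map (ι g j gV t c.w ((ph j).obj W'))).op := rfl
  have e4 : ((resAdj j).counit.app ((EtDesc.pushSh gV).obj ((resSh t).obj F))).hom.app (op W') =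
      (psh F).map ((ph t).map ((pb gV).map ((phAdj j).unit.app W'))).op := rfl
  rw [e1, e2, e3, e3', e4]
  exact map_op_comp3 (psh F) _ _ _

instance isIso_bc_res (F : EtDesc.Sh T) :
    IsIso (bc (resAdj j) (resAdj t) (θSh g j gV t c.w) F) := by
  rw [← isIso_iff_of_reflects_iso _ (sheafToPresheaf _ _), NatTrans.isIso_iff_isIso_app]
  intro W
  obtain ⟨W⟩ := W
  have := bc_res_hom_app g j gV t c F W
  have h2 : IsIso ((psh F).map (mEt g j gV t c W).op) := inferInstance
  rw [← this] at h2
  exact h2

/-- **Étale base change** for direct images of sheaves of sets. -/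
theorem isIso_baseChange0Sh_of_etale (F : EtDesc.Sh T) :
    IsIso (EtBC.baseChange0Sh g j gV t c.w F) := by
  rw [baseChange0Sh_eq]
  have := isIso_bc_res g j gV t c F
  exact isIso_bc_changeLeft (resAdj j) (resAdj t) (EtDesc.adjSh j) (EtDesc.adjSh t) _ F

end EtBC


section Conservative

variable {X : Scheme.{u}} {ι : Type u} (U : ι → X.Etale) (hU : EtCoh.Covers U)

/-- the sieve on `W` generated by the projections `W ×_X U_i ⟶ W` -/
noncomputable def coverSieve (W : X.Etale) : Sieve W :=
  Sieve.generate (fun Z q => ∃ (i : ι), ∃ (e : Z = (ph (U i).hom).obj ((pb (U i).hom).obj W)),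
    q = eqToHom e ≫ (phAdj (U i).hom).counit.app W)

include hU in
lemma coverSieve_mem (W : X.Etale) : coverSieve U W ∈ X.smallEtaleTopology W := by
  rw [EtLoc.mem_iff]
  intro x
  obtain ⟨i, y, hy⟩ := hU (W.hom.base x)
  obtain ⟨z, hz, -⟩ := Scheme.Pullback.exists_preimage_pullback (f := W.hom) (g := (U i).hom) x y
    hy.symm
  refine ⟨(ph (U i).hom).obj ((pb (U i).hom).obj W), (phAdj (U i).hom).counit.app W, z, ?_, hz⟩
  exact Sieve.le_generate _ _ _ ⟨i, rfl, (Category.id_comp _).symm⟩

lemma isIso_of_locBij {C : Type*} [Category C] {J : GrothendieckTopology C}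
    {F G : Sheaf J (Type w)} (f : F ⟶ G)
    (h₁ : Sheaf.IsLocallyInjective f) (h₂ : Sheaf.IsLocallySurjective f) : IsIso f := by
  rw [Sheaf.isLocallyInjective_iff_injective] at h₁
  suffices ∀ (X : Cᵒᵖ), Function.Surjective (f.hom.app X) by
    rw [← isIso_iff_of_reflects_iso _ (sheafToPresheaf _ _), NatTrans.isIso_iff_isIso_app]
    intro X
    rw [isIso_iff_bijective]
    exact ⟨h₁ X, this X⟩
  intro X s
  have H := (isSheaf_iff_isSheaf_of_type J F.obj).1 F.property _
    (Presheaf.imageSieve_mem J f.hom s)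
  let t : Presieve.FamilyOfElements F.obj (Presheaf.imageSieve f.hom s).arrows :=
    fun Y g hg => Presheaf.localPreimage f.hom s g hg
  have ht : t.Compatible := by
    intro Y₁ Y₂ W g₁ g₂ f₁ f₂ hf₁ hf₂ w
    apply h₁
    have eq₁ := NatTrans.naturality_apply f.hom g₁.op (t f₁ hf₁)
    have eq₂ := NatTrans.naturality_apply f.hom g₂.op (t f₂ hf₂)
    have eq₃ := congr_arg (G.obj.map g₁.op) (Presheaf.app_localPreimage f.hom s _ hf₁)
    have eq₄ := congr_arg (G.obj.map g₂.op) (Presheaf.app_localPreimage f.hom s _ hf₂)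
    refine eq₁.trans (eq₃.trans (Eq.trans ?_ (eq₄.symm.trans eq₂.symm)))
    rw [← Functor.map_comp_apply, ← Functor.map_comp_apply]
    simp only [← op_comp, w]
  refine ⟨H.amalgamate t ht, ?_⟩
  · apply (((isSheaf_iff_isSheaf_of_type J G.obj).1 G.property).isSeparated _
      (Presheaf.imageSieve_mem J f.hom s)).ext
    intro Y g hg
    rw [← NatTrans.naturality_apply, H.valid_glue ht]
    exact Presheaf.app_localPreimage f.hom s g hg

lemma isIso_of_bijective_on_res {A B : EtDesc.Sh X} (φ : A ⟶ B)
    (h : ∀ (i : ι) (W' : Et (U i).left),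
      Function.Bijective (φ.hom.app (op ((ph (U i).hom).obj W'))))
    (hU : EtCoh.Covers U) : IsIso φ := by
  apply isIso_of_locBij
  · constructor
    intro W x y hxy
    obtain ⟨W⟩ := W
    refine X.smallEtaleTopology.superset_covering ?_ (coverSieve_mem U hU W)
    intro Z q hq
    obtain ⟨Z', q', q₀, ⟨i, e, rfl⟩, rfl⟩ := hq
    subst e
    simp only [eqToHom_refl, Category.id_comp]
    change A.obj.map (q' ≫ (phAdj (U i).hom).counit.app W).op x =
      A.obj.map (q' ≫ (phAdj (U i).hom).counit.app W).op y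
    rw [op_comp, A.obj.map_comp]
    change A.obj.map q'.op (A.obj.map ((phAdj (U i).hom).counit.app W).op x) =
      A.obj.map q'.op (A.obj.map ((phAdj (U i).hom).counit.app W).op y)
    congr 1
    apply (h i ((pb (U i).hom).obj W)).1
    have n1 := NatTrans.naturality_apply φ.hom ((phAdj (U i).hom).counit.app W).op x
    have n2 := NatTrans.naturality_apply φ.hom ((phAdj (U i).hom).counit.app W).op y
    exact n1.trans ((congrArg _ hxy).trans n2.symm)
  · constructor
    intro W s
    refine X.smallEtaleTopology.superset_covering ?_ (coverSieve_mem U hU W)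
    intro Z q hq
    obtain ⟨Z', q', q₀, ⟨i, e, rfl⟩, rfl⟩ := hq
    subst e
    simp only [eqToHom_refl, Category.id_comp]
    obtain ⟨t₀, ht₀⟩ := (h i ((pb (U i).hom).obj W)).2
      (B.obj.map ((phAdj (U i).hom).counit.app W).op s)
    refine ⟨A.obj.map q'.op t₀, ?_⟩
    have n1 := NatTrans.naturality_apply φ.hom q'.op t₀
    refine n1.trans ?_
    rw [ht₀]
    change B.obj.map q'.op (B.obj.map ((phAdj (U i).hom).counit.app W).op s) =
      B.obj.map (q' ≫ (phAdj (U i).hom).counit.app W).op s
    rw [op_comp, B.obj.map_comp]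
    rfl

/-- An étale covering family is jointly conservative for sheaves of sets. -/
theorem isIso_of_isIso_pullSh_cover {A B : EtDesc.Sh X} (φ : A ⟶ B)
    (h : ∀ i, IsIso ((EtDesc.pullSh (U i).hom).map φ)) (hU : EtCoh.Covers U) : IsIso φ := by
  apply isIso_of_bijective_on_res U φ _ hU
  intro i W'
  have h1 : IsIso ((resSh (U i).hom).map φ) :=
    (NatIso.isIso_map_iff (pullIsoRes (U i).hom) φ).1 (h i)
  have h2 : IsIso (((resSh (U i).hom).map φ).hom.app (op W')) := by
    have : IsIso ((sheafToPresheaf _ _).map ((resSh (U i).hom).map φ)) := inferInstance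
    exact (NatTrans.isIso_iff_isIso_app _).1 this (op W')
  exact (isIso_iff_bijective _).1 h2

end Conservative

end Groth.Agent.Helper10.BCSh
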