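import Mathlib

/-!
# Right derived functors and exact functors

If `Φ ⋙ E ≅ E' ⋙ Φ'` with `E`, `E'` exact and `E'` preserving injectives, then
`E ∘ R^q Φ ≅ R^q Φ' ∘ E'` on objects.
-/

set_option autoImplicit false

open CategoryTheory CategoryTheory.Limits

namespace Groth.Agent.Helper10.RDerComm

universe v₁ v₂ v₃ v₄ u₁ u₂ u₃ u₄

section MapRes

variable {A : Type u₁} [Category.{v₁} A] [Abelian A] {B : Type u₂} [Category.{v₂} B] [Abelian B]

/-- Image of an injective resolution under an exact functor sending its terms to injectives. -/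
noncomputable def mapRes (G : A ⥤ B) [G.Additive] [PreservesFiniteLimits G]
    [PreservesFiniteColimits G] {Z : A} (J : InjectiveResolution Z)
    (hinj : ∀ n, Injective (G.obj (J.cocomplex.X n))) : InjectiveResolution (G.obj Z) where
  cocomplex := (G.mapHomologicalComplex _).obj J.cocomplex
  injective := hinj
  ι := (HomologicalComplex.singleMapHomologicalComplex G (ComplexShape.up ℕ) 0).inv.app Z ≫
    (G.mapHomologicalComplex _).map J.ι
  quasiIso := by
    have : QuasiIso ((G.mapHomologicalComplex (ComplexShape.up ℕ)).map J.ι) := inferInstance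
    infer_instance

@[simp]
lemma mapRes_cocomplex (G : A ⥤ B) [G.Additive] [PreservesFiniteLimits G]
    [PreservesFiniteColimits G] {Z : A} (J : InjectiveResolution Z)
    (hinj : ∀ n, Injective (G.obj (J.cocomplex.X n))) :
    (mapRes G J hinj).cocomplex = (G.mapHomologicalComplex _).obj J.cocomplex := rfl

end MapRes

section Comm

variable {A : Type u₁} [Category.{v₁} A] [Abelian A] {B : Type u₂} [Category.{v₂} B] [Abelian B]
  {A' : Type u₃} [Category.{v₃} A'] [Abelian A'] {B' : Type u₄} [Category.{v₄} B'] [Abelian B']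
  [HasInjectiveResolutions A] [HasInjectiveResolutions A']

/-- An exact functor commutes with the homology of complexes. -/
noncomputable def mapHomologyIso (E : B ⥤ B') [E.Additive] [PreservesFiniteLimits E]
    [PreservesFiniteColimits E] (K : CochainComplex B ℕ) (q : ℕ) :
    ((E.mapHomologicalComplex _).obj K).homology q ≅ E.obj (K.homology q) :=
  (K.sc q).mapHomologyIso E

/-- Commutation of right derived functors with exact functors. -/
theorem rightDerived_comm (Φ : A ⥤ B) (Φ' : A' ⥤ B') (E : B ⥤ B') (E' : A ⥤ A')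
    [Φ.Additive] [Φ'.Additive] [E.Additive] [E'.Additive]
    [PreservesFiniteLimits E] [PreservesFiniteColimits E]
    [PreservesFiniteLimits E'] [PreservesFiniteColimits E']
    (hinj : ∀ I : A, Injective I → Injective (E'.obj I))
    (e : Φ ⋙ E ≅ E' ⋙ Φ') (F : A) (q : ℕ) :
    Nonempty (E.obj ((Φ.rightDerived q).obj F) ≅ (Φ'.rightDerived q).obj (E'.obj F)) := by
  let I := injectiveResolution F
  let I' : InjectiveResolution (E'.obj F) :=
    mapRes E' I (fun n => hinj _ (I.injective n))
  let iso1 := I.isoRightDerivedObj Φ q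
  let iso1' := I'.isoRightDerivedObj Φ' q
  let iso2 := mapHomologyIso E ((Φ.mapHomologicalComplex _).obj I.cocomplex) q
  let iso3 : ((Φ ⋙ E).mapHomologicalComplex (ComplexShape.up ℕ)).obj I.cocomplex ≅
      ((E' ⋙ Φ').mapHomologicalComplex (ComplexShape.up ℕ)).obj I.cocomplex :=
    (NatIso.mapHomologicalComplex e (ComplexShape.up ℕ)).app I.cocomplex
  let iso4 := (HomologicalComplex.homologyFunctor B' (ComplexShape.up ℕ) q).mapIso iso3
  exact ⟨E.mapIso iso1 ≪≫ iso2.symm ≪≫ iso4 ≪≫ iso1'.symm⟩

end Comm

end Groth.Agent.Helper10.RDerComm
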