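import Mathlib
import Groth.Prelude.Def_RDer
import Groth.Agent.Lib.Helper29.EdgeA
import Groth.Agent.Lib.Helper29.EdgeB
import Groth.Agent.Lib.Helper10.RDerComm

/-!
# Abstract étale base change in degree `q` (helper10)

If, in the abstract setting of `Helper29.EdgeB.bcA`, the left adjoints `Λ`, `L` are exact, `Λ`
preserves injectives and the degree-`0` base change map is an isomorphism, then the transpose of
`bcA` is an isomorphism in every degree.
-/

set_option autoImplicit false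

open CategoryTheory CategoryTheory.Limits HomologicalComplex RDer

namespace Groth.Agent.Helper10.BcQAbs

open Groth.Agent.Helper29 Groth.Agent.Helper29.EdgeB

universe v₁ v₂ v₃ v₄ u₁ u₂ u₃ u₄

section Exact

variable {B : Type u₁} [Category.{v₁} B] [Abelian B] {C : Type u₂} [Category.{v₂} C] [Abelian C]
  (Ψ : B ⥤ C) [Ψ.Additive] [PreservesFiniteLimits Ψ]
  {ι' : Type*} {c : ComplexShape ι'} (K : HomologicalComplex B c) (i : ι')

lemma isIso_cyclesComparison : IsIso (cyclesComparison Ψ K i) := by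
  have hm : Mono (Ψ.map (K.iCycles i)) := inferInstance
  refine ⟨((Ψ.mapHomologicalComplex c).obj K).liftCycles (Ψ.map (K.iCycles i)) (c.next i) rfl (by
      show Ψ.map (K.iCycles i) ≫ Ψ.map (K.d i (c.next i)) = 0
      rw [← Ψ.map_comp, K.iCycles_d, Ψ.map_zero]), ?_, ?_⟩
  · apply (cancel_mono (((Ψ.mapHomologicalComplex c).obj K).iCycles i)).1
    rw [Category.assoc, HomologicalComplex.liftCycles_i]
    erw [cyclesComparison_i]
    rw [Category.id_comp]
  · apply (cancel_mono (Ψ.map (K.iCycles i))).1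
    rw [Category.assoc]
    erw [cyclesComparison_i]
    erw [HomologicalComplex.liftCycles_i]
    rw [Category.id_comp]

/-- for an exact functor the comparison `H(ΨK) ⟶ Ψ(HK)` is an isomorphism -/
lemma isIso_homologyComparison [PreservesFiniteColimits Ψ] :
    IsIso (homologyComparison Ψ K i) := by
  haveI := isIso_cyclesComparison Ψ K i
  -- `Ψ(H K)` is a cokernel of `Ψ(toCycles)`
  have hcok := CokernelCofork.mapIsColimit _ (K.homologyIsCokernel (c.prev i) i rfl) Ψ
  have w : Ψ.map (K.toCycles (c.prev i) i) ≫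
      (inv (cyclesComparison Ψ K i) ≫ ((Ψ.mapHomologicalComplex c).obj K).homologyπ i) = 0 := by
    rw [← toCycles_cyclesComparison]
    erw [Category.assoc, IsIso.hom_inv_id_assoc]
    exact ((Ψ.mapHomologicalComplex c).obj K).toCycles_comp_homologyπ (c.prev i) i
  refine ⟨hcok.desc (CokernelCofork.ofπ _ w), ?_, ?_⟩
  · rw [← cancel_epi (((Ψ.mapHomologicalComplex c).obj K).homologyπ i)]
    rw [homologyπ_homologyComparison_assoc, Category.comp_id]
    have h1 : Ψ.map (K.homologyπ i) ≫ hcok.desc (CokernelCofork.ofπ _ w) =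
        inv (cyclesComparison Ψ K i) ≫ ((Ψ.mapHomologicalComplex c).obj K).homologyπ i :=
      hcok.fac _ WalkingParallelPair.one
    rw [h1, IsIso.hom_inv_id_assoc]
  · have hepi : Epi (Ψ.map (K.homologyπ i)) := inferInstance
    rw [← cancel_epi (Ψ.map (K.homologyπ i))]
    have h1 : Ψ.map (K.homologyπ i) ≫ hcok.desc (CokernelCofork.ofπ _ w) =
        inv (cyclesComparison Ψ K i) ≫ ((Ψ.mapHomologicalComplex c).obj K).homologyπ i :=
      hcok.fac _ WalkingParallelPair.one
    rw [reassoc_of% h1, homologyπ_homologyComparison, IsIso.inv_hom_id_assoc, Category.comp_id]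

end Exact

section LemB

variable {A : Type u₁} [Category.{v₁} A] [Abelian A] {D : Type u₂} [Category.{v₂} D] [Abelian D]

/-- a comparison between two injective resolutions of the same object induces isomorphisms on the
cohomology of the image under any additive functor -/
lemma isIso_homologyMap_of_lift {Z : A} (P J : InjectiveResolution Z) (Ψ : A ⥤ D) [Ψ.Additive]
    (t : P.cocomplex ⟶ J.cocomplex) (ht : P.ι.f 0 ≫ t.f 0 = J.ι.f 0) (q : ℕ) :
    IsIso (homologyMap ((Ψ.mapHomologicalComplex _).map t) q) := by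
  let s : J.cocomplex ⟶ P.cocomplex := InjectiveResolution.desc (𝟙 Z) P J
  have hs : J.ι.f 0 ≫ s.f 0 = P.ι.f 0 := by
    have := InjectiveResolution.desc_commutes_zero (𝟙 Z) P J
    rw [Category.id_comp] at this
    exact this
  haveI : ∀ n, Injective (P.cocomplex.X n) := P.injective
  haveI : ∀ n, Injective (J.cocomplex.X n) := J.injective
  have h1 := EdgeA.homologyMap_eq_of_lifts P P.cocomplex Ψ (t ≫ s) (𝟙 _) (by
    rw [comp_f, ← Category.assoc, ht, hs, id_f, Category.comp_id]) q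
  have h2 := EdgeA.homologyMap_eq_of_lifts J J.cocomplex Ψ (s ≫ t) (𝟙 _) (by
    rw [comp_f, ← Category.assoc, hs, ht, id_f, Category.comp_id]) q
  refine ⟨homologyMap ((Ψ.mapHomologicalComplex _).map s) q, ?_, ?_⟩
  · rw [← homologyMap_comp, ← Functor.map_comp, h1, CategoryTheory.Functor.map_id, homologyMap_id]
  · rw [← homologyMap_comp, ← Functor.map_comp, h2, CategoryTheory.Functor.map_id, homologyMap_id]

lemma mapRes_ι_f_zero {B : Type u₃} [Category.{v₃} B] [Abelian B] (G : A ⥤ B) [G.Additive]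
    [PreservesFiniteLimits G] [PreservesFiniteColimits G] {Z : A} (J : InjectiveResolution Z)
    (hinj : ∀ n, Injective (G.obj (J.cocomplex.X n))) :
    (RDerComm.mapRes G J hinj).ι.f 0 = G.map (J.ι.f 0) := by
  simp [RDerComm.mapRes, HomologicalComplex.singleMapHomologicalComplex_inv_app_self]
  exact Category.id_comp _

end LemB

section Main

variable {𝒯 : Type u₁} [Category.{v₁} 𝒯] [Abelian 𝒯] [HasInjectiveResolutions 𝒯]
  {𝒴 : Type u₂} [Category.{v₂} 𝒴] [Abelian 𝒴] [HasInjectiveResolutions 𝒴]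
  {𝒳 : Type u₃} [Category.{v₃} 𝒳] [Abelian 𝒳]
  {𝒮 : Type u₄} [Category.{v₄} 𝒮] [Abelian 𝒮]
  (Φ : 𝒴 ⥤ 𝒯) [Φ.Additive] [Φ.PreservesInjectiveObjects] (Ψ : 𝒯 ⥤ 𝒮) [Ψ.Additive]
  (Φ' : 𝒴 ⥤ 𝒳) [Φ'.Additive] (Ψ' : 𝒳 ⥤ 𝒮) [Ψ'.Additive] [PreservesFiniteLimits Ψ']
  (σ : Φ ⋙ Ψ ≅ Φ' ⋙ Ψ') {Λ : 𝒯 ⥤ 𝒴} (adjE : Λ ⊣ Φ) {L : 𝒮 ⥤ 𝒳} (adjF : L ⊣ Ψ')
  [Λ.Additive] [PreservesFiniteLimits Λ] [PreservesFiniteColimits Λ]
  [L.Additive] [PreservesFiniteLimits L] [PreservesFiniteColimits L]

/-- the degree-zero base change map -/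
def gam (A : 𝒯) : L.obj (Ψ.obj A) ⟶ Φ'.obj (Λ.obj A) :=
  L.map (Ψ.map (adjE.unit.app A)) ≫ L.map (σ.hom.app (Λ.obj A)) ≫
    adjF.counit.app (Φ'.obj (Λ.obj A))

omit [HasInjectiveResolutions 𝒯] [HasInjectiveResolutions 𝒴] [Φ.PreservesInjectiveObjects]
  [PreservesFiniteLimits Ψ'] [PreservesFiniteLimits Λ] [PreservesFiniteColimits Λ]
  [PreservesFiniteLimits L] [PreservesFiniteColimits L] [Λ.Additive] [L.Additive]
  [Φ.Additive] [Ψ.Additive] [Φ'.Additive] [Ψ'.Additive] in
lemma gam_naturality {A A' : 𝒯} (a : A ⟶ A') :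
    L.map (Ψ.map a) ≫ gam Φ Ψ Φ' Ψ' σ adjE adjF A' =
      gam Φ Ψ Φ' Ψ' σ adjE adjF A ≫ Φ'.map (Λ.map a) := by
  unfold gam
  have h1 : Ψ.map a ≫ Ψ.map (adjE.unit.app A') =
      Ψ.map (adjE.unit.app A) ≫ Ψ.map (Φ.map (Λ.map a)) := by
    rw [← Ψ.map_comp, ← Ψ.map_comp]
    congr 1
    exact adjE.unit.naturality a
  have h2 : Ψ.map (Φ.map (Λ.map a)) ≫ σ.hom.app (Λ.obj A') =
      σ.hom.app (Λ.obj A) ≫ Ψ'.map (Φ'.map (Λ.map a)) := σ.hom.naturality (Λ.map a)
  have h3 : L.map (Ψ'.map (Φ'.map (Λ.map a))) ≫ adjF.counit.app (Φ'.obj (Λ.obj A')) =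
      adjF.counit.app (Φ'.obj (Λ.obj A)) ≫ Φ'.map (Λ.map a) :=
    adjF.counit.naturality (Φ'.map (Λ.map a))
  have hxy : Ψ.map a ≫ Ψ.map (adjE.unit.app A') ≫ σ.hom.app (Λ.obj A') =
      Ψ.map (adjE.unit.app A) ≫ σ.hom.app (Λ.obj A) ≫ Ψ'.map (Φ'.map (Λ.map a)) := by
    rw [← Category.assoc, h1, Category.assoc, h2]
  calc L.map (Ψ.map a) ≫ L.map (Ψ.map (adjE.unit.app A')) ≫ L.map (σ.hom.app (Λ.obj A')) ≫
        adjF.counit.app (Φ'.obj (Λ.obj A'))
      = L.map (Ψ.map a ≫ Ψ.map (adjE.unit.app A') ≫ σ.hom.app (Λ.obj A')) ≫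
        adjF.counit.app (Φ'.obj (Λ.obj A')) := by
        simp only [Functor.map_comp, Category.assoc]
    _ = L.map (Ψ.map (adjE.unit.app A) ≫ σ.hom.app (Λ.obj A) ≫ Ψ'.map (Φ'.map (Λ.map a))) ≫
        adjF.counit.app (Φ'.obj (Λ.obj A')) := by rw [hxy]
    _ = L.map (Ψ.map (adjE.unit.app A)) ≫ L.map (σ.hom.app (Λ.obj A)) ≫
        (L.map (Ψ'.map (Φ'.map (Λ.map a))) ≫ adjF.counit.app (Φ'.obj (Λ.obj A'))) := by
        simp only [Functor.map_comp, Category.assoc]
    _ = _ := by
        rw [h3]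
        simp only [Category.assoc]

/-- the degree-zero base change, as a morphism of complexes -/
def gamChain (K : CochainComplex 𝒯 ℕ) :
    (L.mapHomologicalComplex _).obj ((Ψ.mapHomologicalComplex _).obj K) ⟶
      (Φ'.mapHomologicalComplex _).obj ((Λ.mapHomologicalComplex _).obj K) where
  f k := gam Φ Ψ Φ' Ψ' σ adjE adjF (K.X k)
  comm' i j _ := (gam_naturality Φ Ψ Φ' Ψ' σ adjE adjF (K.d i j)).symm

/-- the unit, as a morphism of complexes -/
def unitChain (K : CochainComplex 𝒯 ℕ) :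
    K ⟶ (Φ.mapHomologicalComplex _).obj ((Λ.mapHomologicalComplex _).obj K) where
  f k := adjE.unit.app (K.X k)
  comm' i j _ := (adjE.unit.naturality (K.d i j)).symm

/-- the counit, as a morphism of complexes -/
def counitChain (K : CochainComplex 𝒳 ℕ) :
    (L.mapHomologicalComplex _).obj ((Ψ'.mapHomologicalComplex _).obj K) ⟶ K where
  f k := adjF.counit.app (K.X k)
  comm' i j _ := (adjF.counit.naturality (K.d i j)).symm

end Main

section Main2

variable {𝒯 : Type u₁} [Category.{v₁} 𝒯] [Abelian 𝒯] [HasInjectiveResolutions 𝒯]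
  {𝒴 : Type u₂} [Category.{v₂} 𝒴] [Abelian 𝒴] [HasInjectiveResolutions 𝒴]
  {𝒳 : Type u₃} [Category.{v₃} 𝒳] [Abelian 𝒳]
  {𝒮 : Type u₄} [Category.{v₄} 𝒮] [Abelian 𝒮]
  (Φ : 𝒴 ⥤ 𝒯) [Φ.Additive] [Φ.PreservesInjectiveObjects] (Ψ : 𝒯 ⥤ 𝒮) [Ψ.Additive]
  (Φ' : 𝒴 ⥤ 𝒳) [Φ'.Additive] (Ψ' : 𝒳 ⥤ 𝒮) [Ψ'.Additive] [PreservesFiniteLimits Ψ']
  (σ : Φ ⋙ Ψ ≅ Φ' ⋙ Ψ') {Λ : 𝒯 ⥤ 𝒴} (adjE : Λ ⊣ Φ) {L : 𝒮 ⥤ 𝒳} (adjF : L ⊣ Ψ')
  [Λ.Additive] [PreservesFiniteLimits Λ] [PreservesFiniteColimits Λ]
  [L.Additive] [PreservesFiniteLimits L] [PreservesFiniteColimits L]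

omit [PreservesFiniteColimits L] in
/-- compatibility of the comparison maps with the counit -/
lemma hc_counit (K : CochainComplex 𝒳 ℕ) (q : ℕ) :
    homologyComparison L ((Ψ'.mapHomologicalComplex _).obj K) q ≫
      L.map (homologyComparison Ψ' K q) ≫ adjF.counit.app (K.homology q) =
        homologyMap (counitChain Ψ' adjF K) q := by
  rw [← cancel_epi (((L.mapHomologicalComplex _).obj ((Ψ'.mapHomologicalComplex _).obj K)).homologyπ q)]
  rw [homologyπ_homologyComparison_assoc, homologyπ_naturality]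
  have h1 : L.map (((Ψ'.mapHomologicalComplex _).obj K).homologyπ q) ≫
      L.map (homologyComparison Ψ' K q) =
      L.map (cyclesComparison Ψ' K q) ≫ L.map (Ψ'.map (K.homologyπ q)) := by
    rw [← L.map_comp, ← L.map_comp, homologyπ_homologyComparison]
  have h2 : L.map (Ψ'.map (K.homologyπ q)) ≫ adjF.counit.app (K.homology q) =
      adjF.counit.app (K.cycles q) ≫ K.homologyπ q := adjF.counit.naturality (K.homologyπ q)
  rw [reassoc_of% h1, h2, ← Category.assoc, ← Category.assoc]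
  congr 1
  rw [← cancel_mono (K.iCycles q), Category.assoc, Category.assoc, cyclesMap_i]
  have h3 : adjF.counit.app (K.cycles q) ≫ K.iCycles q =
      L.map (Ψ'.map (K.iCycles q)) ≫ adjF.counit.app (K.X q) :=
    (adjF.counit.naturality (K.iCycles q)).symm
  rw [h3, ← Category.assoc (L.map _), ← L.map_comp, cyclesComparison_i]
  exact (Category.assoc _ _ _).symm.trans (congrArg (· ≫ adjF.counit.app (K.X q))
    (cyclesComparison_i L ((Ψ'.mapHomologicalComplex _).obj K) q))

omit [HasInjectiveResolutions 𝒯] [HasInjectiveResolutions 𝒴] [Φ.PreservesInjectiveObjects]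
  [PreservesFiniteLimits Ψ'] [PreservesFiniteLimits Λ] [PreservesFiniteColimits Λ]
  [PreservesFiniteLimits L] [PreservesFiniteColimits L] [Λ.Additive] [L.Additive]
  [Φ.Additive] [Ψ.Additive] [Φ'.Additive] [Ψ'.Additive] in
lemma comp_key {A : 𝒯} {B : 𝒴} (tk : Λ.obj A ⟶ B) :
    L.map (Ψ.map (adjE.unit.app A ≫ Φ.map tk) ≫ σ.hom.app B) ≫ adjF.counit.app (Φ'.obj B) =
      gam Φ Ψ Φ' Ψ' σ adjE adjF A ≫ Φ'.map tk := by
  unfold gam
  have h2 : Ψ.map (Φ.map tk) ≫ σ.hom.app B =
      σ.hom.app (Λ.obj A) ≫ Ψ'.map (Φ'.map tk) := σ.hom.naturality tk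
  have h3 : L.map (Ψ'.map (Φ'.map tk)) ≫ adjF.counit.app (Φ'.obj B) =
      adjF.counit.app (Φ'.obj (Λ.obj A)) ≫ Φ'.map tk :=
    adjF.counit.naturality (Φ'.map tk)
  calc L.map (Ψ.map (adjE.unit.app A ≫ Φ.map tk) ≫ σ.hom.app B) ≫
        adjF.counit.app (Φ'.obj B)
      = L.map (Ψ.map (adjE.unit.app A) ≫ Ψ.map (Φ.map tk) ≫ σ.hom.app B) ≫
        adjF.counit.app (Φ'.obj B) := by
        simp only [Functor.map_comp, Category.assoc]
    _ = L.map (Ψ.map (adjE.unit.app A) ≫ σ.hom.app (Λ.obj A) ≫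
          Ψ'.map (Φ'.map tk)) ≫ adjF.counit.app (Φ'.obj B) := by rw [h2]
    _ = L.map (Ψ.map (adjE.unit.app A)) ≫ L.map (σ.hom.app (Λ.obj A)) ≫
        (L.map (Ψ'.map (Φ'.map tk)) ≫ adjF.counit.app (Φ'.obj B)) := by
        simp only [Functor.map_comp, Category.assoc]
    _ = _ := by
        rw [h3]
        simp only [Category.assoc]

omit [HasInjectiveResolutions 𝒯] [HasInjectiveResolutions 𝒴] [Φ.PreservesInjectiveObjects]
  [PreservesFiniteLimits Ψ'] [PreservesFiniteLimits Λ] [PreservesFiniteColimits Λ]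
  [PreservesFiniteLimits L] [PreservesFiniteColimits L] in
/-- the key identity of chain maps -/
lemma beta_eq (K : CochainComplex 𝒯 ℕ) (J : CochainComplex 𝒴 ℕ)
    (t : (Λ.mapHomologicalComplex _).obj K ⟶ J)
    (τ : (Ψ.mapHomologicalComplex _).obj K ⟶
      (Ψ'.mapHomologicalComplex _).obj ((Φ'.mapHomologicalComplex _).obj J))
    (hτ : ∀ k, τ.f k = Ψ.map (adjE.unit.app (K.X k) ≫ Φ.map (t.f k)) ≫ σ.hom.app (J.X k)) :
    (L.mapHomologicalComplex _).map τ ≫ counitChain Ψ' adjF ((Φ'.mapHomologicalComplex _).obj J) =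
      gamChain Φ Ψ Φ' Ψ' σ adjE adjF K ≫ (Φ'.mapHomologicalComplex _).map t := by
  ext k
  exact (congrArg (fun x => L.map x ≫ adjF.counit.app (Φ'.obj (J.X k))) (hτ k)).trans
    (comp_key Φ Ψ Φ' Ψ' σ adjE adjF (t.f k))

omit [HasInjectiveResolutions 𝒯] [HasInjectiveResolutions 𝒴] [Φ.PreservesInjectiveObjects]
  [Φ.Additive] [Λ.Additive] [PreservesFiniteLimits Λ] [PreservesFiniteColimits Λ] in
lemma unit_key {F' A : 𝒯} {B : 𝒴} (a : F' ⟶ A) (tk : Λ.obj A ⟶ B) :
    a ≫ (adjE.unit.app A ≫ Φ.map tk) = adjE.unit.app F' ≫ Φ.map (Λ.map a ≫ tk) := by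
  rw [Φ.map_comp, ← Category.assoc, ← Category.assoc]
  congr 1
  exact adjE.unit.naturality a

variable (hinj : ∀ I : 𝒯, Injective I → Injective (Λ.obj I))

include hinj in
/-- **Abstract base change in degree `q`.** -/
theorem isIso_transpose_bcA
    (hγ : ∀ A : 𝒯, Injective A → IsIso (gam Φ Ψ Φ' Ψ' σ adjE adjF A)) (q : ℕ) (F : 𝒯) :
    IsIso ((adjF.homEquiv _ _).symm (bcA Φ Ψ Φ' Ψ' σ adjE q F)) := by
  let I := injectiveResolution F
  let P : InjectiveResolution (Λ.obj F) :=
    RDerComm.mapRes Λ I (fun n => hinj _ (I.injective n))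
  let J := injectiveResolution (Λ.obj F)
  let t : P.cocomplex ⟶ J.cocomplex := InjectiveResolution.desc (𝟙 _) J P
  have ht : P.ι.f 0 ≫ t.f 0 = J.ι.f 0 := by
    have := InjectiveResolution.desc_commutes_zero (𝟙 (Λ.obj F)) J P
    rw [Category.id_comp] at this
    exact this
  have ht' : Λ.map (I.ι.f 0) ≫ t.f 0 = J.ι.f 0 := by
    rw [← mapRes_ι_f_zero Λ I (fun n => hinj _ (I.injective n))]
    exact ht
  let θ : IR F ⟶ (Φ.mapHomologicalComplex _).obj (IR (Λ.obj F)) :=
    unitChain Φ adjE I.cocomplex ≫ (Φ.mapHomologicalComplex _).map t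
  have hθ : IsLift Φ (adjE.unit.app F) θ := by
    unfold IsLift
    exact (unit_key Φ adjE (I.ι.f 0) (t.f 0)).trans
      (congrArg (fun x => adjE.unit.app F ≫ Φ.map x) ht')
  have hb := bcA_eq Φ Ψ Φ' Ψ' σ adjE q F θ hθ
  rw [hb]
  let K : CochainComplex 𝒳 ℕ := (Φ'.mapHomologicalComplex _).obj (IR (Λ.obj F))
  let τ : (Ψ.mapHomologicalComplex _).obj (IR F) ⟶ (Ψ'.mapHomologicalComplex _).obj K :=
    (Ψ.mapHomologicalComplex _).map θ ≫
      (NatTrans.mapHomologicalComplex σ.hom _).app (IR (Λ.obj F))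
  have hτ : ∀ k, τ.f k = Ψ.map (adjE.unit.app (I.cocomplex.X k) ≫ Φ.map (t.f k)) ≫
      σ.hom.app (J.cocomplex.X k) := fun k => rfl
  -- the key isomorphism
  let m := L.map (homologyMap τ q) ≫ L.map (homologyComparison Ψ' K q) ≫
    adjF.counit.app (K.homology q)
  have hm : IsIso m := by
    have hS : IsIso (homologyComparison L ((Ψ.mapHomologicalComplex _).obj (IR F)) q) :=
      isIso_homologyComparison L _ q
    have e1 := homologyMap_homologyComparison L τ q
    have e2 := hc_counit Ψ' adjF K q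
    have hβ := beta_eq Φ Ψ Φ' Ψ' σ adjE adjF I.cocomplex J.cocomplex t τ hτ
    have hcomp : homologyComparison L ((Ψ.mapHomologicalComplex _).obj (IR F)) q ≫ m =
        homologyMap (gamChain Φ Ψ Φ' Ψ' σ adjE adjF I.cocomplex) q ≫
          homologyMap ((Φ'.mapHomologicalComplex _).map t) q := by
      calc homologyComparison L ((Ψ.mapHomologicalComplex _).obj (IR F)) q ≫ m
          = (homologyComparison L ((Ψ.mapHomologicalComplex _).obj (IR F)) q ≫
              L.map (homologyMap τ q)) ≫ L.map (homologyComparison Ψ' K q) ≫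
                adjF.counit.app (K.homology q) := (Category.assoc _ _ _).symm
        _ = (homologyMap ((L.mapHomologicalComplex _).map τ) q ≫
              homologyComparison L ((Ψ'.mapHomologicalComplex _).obj K) q) ≫
              L.map (homologyComparison Ψ' K q) ≫ adjF.counit.app (K.homology q) :=
            congrArg (· ≫ L.map (homologyComparison Ψ' K q) ≫ adjF.counit.app (K.homology q))
              e1.symm
        _ = homologyMap ((L.mapHomologicalComplex _).map τ) q ≫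
              (homologyComparison L ((Ψ'.mapHomologicalComplex _).obj K) q ≫
              L.map (homologyComparison Ψ' K q) ≫ adjF.counit.app (K.homology q)) :=
            Category.assoc _ _ _
        _ = homologyMap ((L.mapHomologicalComplex _).map τ) q ≫
              homologyMap (counitChain Ψ' adjF K) q :=
            congrArg (homologyMap ((L.mapHomologicalComplex _).map τ) q ≫ ·) e2
        _ = homologyMap ((L.mapHomologicalComplex _).map τ ≫ counitChain Ψ' adjF K) q :=
            (homologyMap_comp _ _ q).symm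
        _ = homologyMap (gamChain Φ Ψ Φ' Ψ' σ adjE adjF I.cocomplex ≫
              (Φ'.mapHomologicalComplex _).map t) q := by rw [hβ]
        _ = _ := homologyMap_comp _ _ q
    haveI h1 : IsIso (gamChain Φ Ψ Φ' Ψ' σ adjE adjF I.cocomplex) := by
      haveI : ∀ k, IsIso ((gamChain Φ Ψ Φ' Ψ' σ adjE adjF I.cocomplex).f k) :=
        fun k => hγ _ (I.injective k)
      exact HomologicalComplex.Hom.isIso_of_components _
    haveI h2 : IsIso (homologyMap ((Φ'.mapHomologicalComplex _).map t) q) :=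
      isIso_homologyMap_of_lift P J Φ' t ht q
    have h1' : IsIso (homologyMap (gamChain Φ Ψ Φ' Ψ' σ adjE adjF I.cocomplex) q) :=
      Iso.isIso_hom ((homologyFunctor _ _ q).mapIso
          (@asIso _ _ _ _ (gamChain Φ Ψ Φ' Ψ' σ adjE adjF I.cocomplex) h1))
    have h3 : IsIso (homologyComparison L ((Ψ.mapHomologicalComplex _).obj (IR F)) q ≫ m) := by
      rw [hcomp]
      exact @IsIso.comp_isIso _ _ _ _ _ _ _ h1' h2
    exact IsIso.of_isIso_comp_left (homologyComparison L ((Ψ.mapHomologicalComplex _).obj (IR F)) q) m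
  -- assemble
  unfold ind
  rw [Adjunction.homEquiv_counit]
  have hnat : L.map (Ψ'.map ((injectiveResolution (Λ.obj F)).isoRightDerivedObj Φ' q).inv) ≫
      adjF.counit.app ((Φ'.rightDerived q).obj (Λ.obj F)) =
      adjF.counit.app (K.homology q) ≫
        ((injectiveResolution (Λ.obj F)).isoRightDerivedObj Φ' q).inv :=
    adjF.counit.naturality _
  have hfinal : L.map (((injectiveResolution F).isoRightDerivedObj Ψ q).hom ≫
      homologyMap τ q ≫ homologyComparison Ψ' K q ≫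
        Ψ'.map ((injectiveResolution (Λ.obj F)).isoRightDerivedObj Φ' q).inv) ≫
      adjF.counit.app ((Φ'.rightDerived q).obj (Λ.obj F)) =
      L.map ((injectiveResolution F).isoRightDerivedObj Ψ q).hom ≫ m ≫
        ((injectiveResolution (Λ.obj F)).isoRightDerivedObj Φ' q).inv := by
    calc L.map (((injectiveResolution F).isoRightDerivedObj Ψ q).hom ≫
          homologyMap τ q ≫ homologyComparison Ψ' K q ≫
            Ψ'.map ((injectiveResolution (Λ.obj F)).isoRightDerivedObj Φ' q).inv) ≫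
          adjF.counit.app ((Φ'.rightDerived q).obj (Λ.obj F))
        = (L.map ((injectiveResolution F).isoRightDerivedObj Ψ q).hom ≫
            L.map (homologyMap τ q) ≫ L.map (homologyComparison Ψ' K q) ≫
            L.map (Ψ'.map ((injectiveResolution (Λ.obj F)).isoRightDerivedObj Φ' q).inv)) ≫
          adjF.counit.app ((Φ'.rightDerived q).obj (Λ.obj F)) := by
          congr 1
          simp only [Functor.map_comp]
      _ = L.map ((injectiveResolution F).isoRightDerivedObj Ψ q).hom ≫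
            L.map (homologyMap τ q) ≫ L.map (homologyComparison Ψ' K q) ≫
            (L.map (Ψ'.map ((injectiveResolution (Λ.obj F)).isoRightDerivedObj Φ' q).inv) ≫
          adjF.counit.app ((Φ'.rightDerived q).obj (Λ.obj F))) := by
          simp only [Category.assoc]
      _ = L.map ((injectiveResolution F).isoRightDerivedObj Ψ q).hom ≫
            L.map (homologyMap τ q) ≫ L.map (homologyComparison Ψ' K q) ≫
            (adjF.counit.app (K.homology q) ≫
              ((injectiveResolution (Λ.obj F)).isoRightDerivedObj Φ' q).inv) :=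
          congrArg (fun x => L.map ((injectiveResolution F).isoRightDerivedObj Ψ q).hom ≫
            L.map (homologyMap τ q) ≫ L.map (homologyComparison Ψ' K q) ≫ x) hnat
      _ = L.map ((injectiveResolution F).isoRightDerivedObj Ψ q).hom ≫
            (L.map (homologyMap τ q) ≫ L.map (homologyComparison Ψ' K q) ≫
            adjF.counit.app (K.homology q)) ≫
              ((injectiveResolution (Λ.obj F)).isoRightDerivedObj Φ' q).inv := by
          rw [Category.assoc, Category.assoc]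
  refine (congrArg IsIso hfinal).mpr ?_
  have hA : IsIso (L.map ((injectiveResolution F).isoRightDerivedObj Ψ q).hom) :=
    Iso.isIso_hom (L.mapIso ((injectiveResolution F).isoRightDerivedObj Ψ q))
  have hB : IsIso ((injectiveResolution (Λ.obj F)).isoRightDerivedObj Φ' q).inv :=
    Iso.isIso_inv _
  exact @IsIso.comp_isIso _ _ _ _ _ _ _ hA (@IsIso.comp_isIso _ _ _ _ _ _ _ hm hB)

end Main2

end Groth.Agent.Helper10.BcQAbs
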