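import Mathlib

/-!
# Iterated mates for a square of left adjoints with further adjoints (helper10)

`P ⊣ Pr`, `P' ⊣ Pr'`, `L ⊣ R ⊣ Rr`, `L' ⊣ R' ⊣ Rr'` and an isomorphism
`θ₀ : Rr' ⋙ Pr ≅ Pr' ⋙ Rr` of right adjoints.  Its conjugate `θ : R ⋙ P' ⟶ P ⋙ R'` is an
isomorphism, the mate of `θ` w.r.t. `P ⊣ Pr`, `P' ⊣ Pr'` is the mate `γ` of `θ₀` w.r.t. `R' ⊣ Rr'`,
`R ⊣ Rr`, and if `γ` is an isomorphism so is the mate `β : P' ⋙ L' ⟶ L ⋙ P` of `θ`.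
-/

set_option autoImplicit false

open CategoryTheory

namespace Groth.Agent.Helper10.MateIter

universe v₁ v₂ v₃ v₄ u₁ u₂ u₃ u₄

variable {𝒜 : Type u₁} [Category.{v₁} 𝒜] {𝒜' : Type u₂} [Category.{v₂} 𝒜']
  {ℬ : Type u₃} [Category.{v₃} ℬ] {ℬ' : Type u₄} [Category.{v₄} ℬ']
  {P : 𝒜 ⥤ ℬ} {Pr : ℬ ⥤ 𝒜} {P' : 𝒜' ⥤ ℬ'} {Pr' : ℬ' ⥤ 𝒜'}
  {R : 𝒜 ⥤ 𝒜'} {Rr : 𝒜' ⥤ 𝒜} {L : 𝒜' ⥤ 𝒜}
  {R' : ℬ ⥤ ℬ'} {Rr' : ℬ' ⥤ ℬ} {L' : ℬ' ⥤ ℬ}
  (adjP : P ⊣ Pr) (adjP' : P' ⊣ Pr') (adjR : R ⊣ Rr) (adjR' : R' ⊣ Rr')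
  (adjL : L ⊣ R) (adjL' : L' ⊣ R') (θ₀ : Rr' ⋙ Pr ⟶ Pr' ⋙ Rr)

/-- the conjugate of `θ₀` -/
def theta : R ⋙ P' ⟶ P ⋙ R' :=
  (conjugateEquiv (adjP.comp adjR') (adjR.comp adjP')).symm θ₀

instance [IsIso θ₀] : IsIso (theta adjP adjP' adjR adjR' θ₀) := by
  unfold theta
  infer_instance

/-- the base change map: mate of `θ₀` w.r.t. `R' ⊣ Rr'`, `R ⊣ Rr` -/
def gamma : Pr ⋙ R ⟶ R' ⋙ Pr' :=
  ((mateEquiv adjR' adjR).symm (TwoSquare.mk Rr' Pr' Pr Rr θ₀)).natTrans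

lemma gamma_app (F : ℬ) :
    (gamma adjR adjR' θ₀).app F =
      R.map (Pr.map (adjR'.unit.app F)) ≫ R.map (θ₀.app (R'.obj F)) ≫
        adjR.counit.app (Pr'.obj (R'.obj F)) := by
  simp [gamma, mateEquiv]

lemma mate_theta :
    mateEquiv adjP adjP' (TwoSquare.mk R P P' R' (theta adjP adjP' adjR adjR' θ₀)) =
      TwoSquare.mk Pr R' R Pr' (gamma adjR adjR' θ₀) := by
  have h := iterated_mateEquiv_conjugateEquiv adjP adjP' adjR adjR'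
    (TwoSquare.mk R P P' R' (theta adjP adjP' adjR adjR' θ₀))
  have h2 : conjugateEquiv (adjP.comp adjR') (adjR.comp adjP')
      (TwoSquare.mk R P P' R' (theta adjP adjP' adjR adjR' θ₀)).natTrans = θ₀ :=
    (conjugateEquiv (adjP.comp adjR') (adjR.comp adjP')).apply_symm_apply θ₀
  rw [h2] at h
  have h3 : mateEquiv adjR' adjR
      (mateEquiv adjP adjP' (TwoSquare.mk R P P' R' (theta adjP adjP' adjR adjR' θ₀))) =
      TwoSquare.mk Rr' Pr' Pr Rr θ₀ := h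
  have h4 := congrArg (mateEquiv adjR' adjR).symm h3
  rw [Equiv.symm_apply_apply] at h4
  exact h4

/-- the mate of `θ` w.r.t. `L ⊣ R`, `L' ⊣ R'` -/
def beta : P' ⋙ L' ⟶ L ⋙ P :=
  ((mateEquiv adjL adjL').symm
    (TwoSquare.mk R P P' R' (theta adjP adjP' adjR adjR' θ₀))).natTrans

lemma beta_app (A : 𝒜') :
    (beta adjP adjP' adjR adjR' adjL adjL' θ₀).app A =
      L'.map (P'.map (adjL.unit.app A)) ≫
        L'.map ((theta adjP adjP' adjR adjR' θ₀).app (L.obj A)) ≫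
          adjL'.counit.app (P.obj (L.obj A)) := by
  simp [beta, mateEquiv]

lemma isIso_beta [IsIso (gamma adjR adjR' θ₀)] :
    IsIso (beta adjP adjP' adjR adjR' adjL adjL' θ₀) := by
  have h := iterated_mateEquiv_conjugateEquiv adjL adjL' adjP' adjP
    (TwoSquare.mk P' L L' P (beta adjP adjP' adjR adjR' adjL adjL' θ₀))
  have h1 : mateEquiv adjL adjL'
      (TwoSquare.mk P' L L' P (beta adjP adjP' adjR adjR' adjL adjL' θ₀)) =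
      TwoSquare.mk R P P' R' (theta adjP adjP' adjR adjR' θ₀) :=
    (mateEquiv adjL adjL').apply_symm_apply _
  rw [h1, mate_theta] at h
  have h2 : IsIso (conjugateEquiv (adjL.comp adjP) (adjP'.comp adjL')
      (beta adjP adjP' adjR adjR' adjL adjL' θ₀)) := by
    have : conjugateEquiv (adjL.comp adjP) (adjP'.comp adjL')
        (beta adjP adjP' adjR adjR' adjL adjL' θ₀) = gamma adjR adjR' θ₀ := h.symm
    rw [this]
    infer_instance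
  exact conjugateEquiv_of_iso (adjL.comp adjP) (adjP'.comp adjL') _

end Groth.Agent.Helper10.MateIter
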