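import Mathlib
import Groth.Prelude.Def_EtBase
import Groth.Agent.Lib.Helper10.EtLoc
import Groth.Agent.Lib.Helper10.BCShEt
import Groth.Agent.Lib.Helper10.MateIter

/-!
# Étale localization base change for abelian sheaves (helper10)

For a cartesian square `t, gV, g, j` with `j` (hence `t`) étale, the base change map
`res_j (g_* F) ⟶ gV_* (res_t F)` of abelian étale sheaves is an isomorphism.
-/

set_option autoImplicit false

namespace Groth.Agent.Helper10.EtBCLocAb

open CategoryTheory CategoryTheory.Limits AlgebraicGeometry Opposite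
open Groth.Agent.Helper10.BCSh

universe u

lemma map_op_comp3 {C : Type*} [Category C] (P : Cᵒᵖ ⥤ AddCommGrpCat.{u + 1}) {a b c d : C}
    (x : a ⟶ b) (y : b ⟶ c) (z : c ⟶ d) :
    P.map z.op ≫ P.map y.op ≫ P.map x.op = P.map (x ≫ y ≫ z).op := by
  simp only [op_comp, Functor.map_comp, Category.assoc]

section Res

variable {V Y : Scheme.{u}} (j : V ⟶ Y) [Etale j]

/-- `res j ⊣ push j` for abelian sheaves, from the site adjunction. -/
noncomputable def resAdj : EtLoc.res j ⊣ EtCoh.push j :=
  Adjunction.sheafPushforwardContinuous (E := AddCommGrpCat.{u + 1}) (EtLoc.phiAdj j)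
    V.smallEtaleTopology Y.smallEtaleTopology

/-- the underlying presheaf, with source category written as `Et X` -/
def pshAb {X : Scheme.{u}} (A : EtCoh.Ab X) : (Et X)ᵒᵖ ⥤ AddCommGrpCat.{u + 1} := A.obj

lemma resAdj_unit_app_hom_app (P : EtCoh.Ab Y) (W : Et Y) :
    ((resAdj j).unit.app P).hom.app (op W) = (pshAb P).map ((phAdj j).counit.app W).op := rfl

lemma resAdj_counit_app_hom_app (Q : EtCoh.Ab V) (W' : Et V) :
    ((resAdj j).counit.app Q).hom.app (op W') = (pshAb Q).map ((phAdj j).unit.app W').op := rfl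

end Res

section Square

variable {X S X' S' : Scheme.{u}}

/-- The comparison of iterated pushforwards attached to a commutative square. -/
noncomputable def θAb (f : X ⟶ S) (g : S' ⟶ S) (f' : X' ⟶ S') (g' : X' ⟶ X)
    (w : g' ≫ f = f' ≫ g) :
    EtCoh.push g' ⋙ EtCoh.push f ⟶ EtCoh.push f' ⋙ EtCoh.push g :=
  (EtCoh.pushComp f g').hom ≫ (EtCoh.pushCongr w).hom ≫ (EtCoh.pushComp g f').inv

instance (f : X ⟶ S) (g : S' ⟶ S) (f' : X' ⟶ S') (g' : X' ⟶ X) (w : g' ≫ f = f' ≫ g) :
    IsIso (θAb f g f' g' w) := by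
  unfold θAb
  infer_instance

lemma θAb_app_hom_app (f : X ⟶ S) (g : S' ⟶ S) (f' : X' ⟶ S') (g' : X' ⟶ X)
    (w : g' ≫ f = f' ≫ g) (A : EtCoh.Ab X') (V : Et S) :
    ((θAb f g f' g' w).app A).hom.app (op V) = (pshAb A).map (ι f g f' g' w V).op := by
  have : ((θAb f g f' g' w).app A).hom.app (op V) =
      (pshAb A).map ((MorphismProperty.Over.pullbackComp (P := EtCoh.etaleMP) (Q := ⊤) g' f).hom.app V).op ≫
      (pshAb A).map ((MorphismProperty.Over.pullbackCongr (P := EtCoh.etaleMP) (Q := ⊤) w).inv.app V).op ≫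
      (pshAb A).map ((MorphismProperty.Over.pullbackComp (P := EtCoh.etaleMP) (Q := ⊤) f' g).inv.app V).op := rfl
  refine this.trans ?_
  unfold ι
  rw [op_comp, op_comp, Functor.map_comp, Functor.map_comp, Category.assoc]

end Square

section EtBC

variable {S T V TV : Scheme.{u}} (g : T ⟶ S) (j : V ⟶ S) [Etale j] (gV : TV ⟶ V) (t : TV ⟶ T)
  [Etale t] (c : IsPullback t gV g j)

/-- the base change map, sectionwise -/
lemma gamma_hom_app (F : EtCoh.Ab T) (W' : Et V) :
    ((MateIter.gamma (resAdj j) (resAdj t) (θAb g j gV t c.w)).app F).hom.app (op W') =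
      (pshAb F).map (mEt g j gV t c W').op := by
  have e1 : ((MateIter.gamma (resAdj j) (resAdj t) (θAb g j gV t c.w)).app F).hom.app (op W') =
      ((EtCoh.push g).map ((resAdj t).unit.app F)).hom.app (op ((ph j).obj W')) ≫
        ((θAb g j gV t c.w).app ((EtLoc.res t).obj F)).hom.app (op ((ph j).obj W')) ≫
          ((resAdj j).counit.app ((EtCoh.push gV).obj ((EtLoc.res t).obj F))).hom.app (op W') := by
    rw [MateIter.gamma_app]
    rfl
  have e2 : ((EtCoh.push g).map ((resAdj t).unit.app F)).hom.app (op ((ph j).obj W')) =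
      (pshAb F).map ((phAdj t).counit.app ((pb g).obj ((ph j).obj W'))).op := rfl
  have e3 := θAb_app_hom_app g j gV t c.w ((EtLoc.res t).obj F) ((ph j).obj W')
  have e3' : (pshAb ((EtLoc.res t).obj F)).map (ι g j gV t c.w ((ph j).obj W')).op =
      (pshAb F).map ((ph t).map (ι g j gV t c.w ((ph j).obj W'))).op := rfl
  have e4 : ((resAdj j).counit.app ((EtCoh.push gV).obj ((EtLoc.res t).obj F))).hom.app (op W') =
      (pshAb F).map ((ph t).map ((pb gV).map ((phAdj j).unit.app W'))).op := rfl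
  rw [e1, e2, e3, e3', e4]
  exact map_op_comp3 (pshAb F) _ _ _

lemma isIso_gamma_app (F : EtCoh.Ab T) :
    IsIso ((MateIter.gamma (resAdj j) (resAdj t) (θAb g j gV t c.w)).app F) := by
  rw [← isIso_iff_of_reflects_iso _ (sheafToPresheaf _ _), NatTrans.isIso_iff_isIso_app]
  intro W
  obtain ⟨W⟩ := W
  have := gamma_hom_app g j gV t c F W
  have h2 : IsIso ((pshAb F).map (mEt g j gV t c W).op) := inferInstance
  rw [← this] at h2
  exact h2

lemma isIso_gamma : IsIso (MateIter.gamma (resAdj j) (resAdj t) (θAb g j gV t c.w)) := by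
  have : ∀ F, IsIso ((MateIter.gamma (resAdj j) (resAdj t) (θAb g j gV t c.w)).app F) :=
    fun F => isIso_gamma_app g j gV t c F
  exact NatIso.isIso_of_isIso_app _

end EtBC

end Groth.Agent.Helper10.EtBCLocAb
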