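import Mathlib
import Groth.Prelude.Def_EtDual
import Groth.Agent.Lib.Helper10.EtLoc
import Groth.Agent.Lib.Helper10.BCShEt
import Groth.Agent.Lib.Helper10.RDerComm

/-!
# Local cohomology sheaves commute with étale localization (helper10)

For a cartesian square `t, gV, g, j` with `g` an open immersion and `j` étale,
`res_j (H^p_Y(F)) ≅ H^p_{Y_V}(res_j F)`.  Also: a sheaf vanishing on an étale covering vanishes.
-/

set_option autoImplicit false

namespace Groth.Agent.Helper10.LocCohLoc

open CategoryTheory CategoryTheory.Limits AlgebraicGeometry Opposite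
open Groth.Agent.Helper10.BCSh

universe u

section Unit

variable {X U : Scheme.{u}} (j : U ⟶ X) [IsOpenImmersion j]

lemma unit_app_app (I : EtCoh.Ab X) (W : X.Etale) :
    ((EtLoc.resPushAdj j).unit.app I).hom.app (op W) =
      I.obj.map ((EtLoc.phiAdj j).counit.app W).op := by
  have h := Adjunction.map_restrictFullyFaithful_unit_app
    (adj := Adjunction.whiskerLeft AddCommGrpCat.{u + 1} (EtLoc.phiAdj j).op)
    (fullyFaithfulSheafToPresheaf X.smallEtaleTopology AddCommGrpCat.{u + 1})
    (fullyFaithfulSheafToPresheaf U.smallEtaleTopology AddCommGrpCat.{u + 1})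
    ((EtLoc.phi j).sheafPushforwardContinuousCompSheafToPresheafIso AddCommGrpCat.{u + 1}
      U.smallEtaleTopology X.smallEtaleTopology).symm
    ((EtCoh.bc j).sheafPushforwardContinuousCompSheafToPresheafIso AddCommGrpCat.{u + 1}
      X.smallEtaleTopology U.smallEtaleTopology).symm I
  have h' := congrArg (fun t => t.app (op W)) h
  simp at h'
  refine h'.trans ?_
  erw [Category.id_comp]
  exact Category.comp_id _

lemma unitApp_eq (G : EtCoh.Ab X) :
    EtDual.unitApp j G = (EtLoc.resPushAdj j).unit.app G ≫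
      (EtCoh.push j).map ((EtLoc.pullIsoRes j).inv.app G) := by
  have h := Adjunction.unit_leftAdjointUniq_hom_app (EtCoh.pullPushAdj j) (EtLoc.resPushAdj j) G
  unfold EtLoc.pullIsoRes
  rw [← h, Category.assoc, ← Functor.map_comp, Iso.hom_inv_id_app, CategoryTheory.Functor.map_id]
  exact (Category.comp_id _).symm

/-- sectionwise vanishing criterion -/
lemma comp_unitApp_app_eq_zero_iff (F : EtCoh.Ab X) (W : X.Etale) {T : AddCommGrpCat.{u + 1}}
    (y : T ⟶ F.obj.obj (op W)) :
    y ≫ (EtDual.unitApp j F).hom.app (op W) = 0 ↔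
      y ≫ F.obj.map ((EtLoc.phiAdj j).counit.app W).op = 0 := by
  have h1 : IsIso ((EtCoh.push j).map ((EtLoc.pullIsoRes j).inv.app F)) := inferInstance
  have h2 : IsIso ((sheafToPresheaf _ _).map
      ((EtCoh.push j).map ((EtLoc.pullIsoRes j).inv.app F))) := inferInstance
  have h3 : IsIso (((EtCoh.push j).map ((EtLoc.pullIsoRes j).inv.app F)).hom.app (op W)) :=
    (NatTrans.isIso_iff_isIso_app _).1 h2 (op W)
  have e : (EtDual.unitApp j F).hom.app (op W) =
      F.obj.map ((EtLoc.phiAdj j).counit.app W).op ≫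
        ((EtCoh.push j).map ((EtLoc.pullIsoRes j).inv.app F)).hom.app (op W) := by
    rw [unitApp_eq, ← unit_app_app]
    rfl
  rw [e, ← Category.assoc]
  generalize ((EtCoh.push j).map ((EtLoc.pullIsoRes j).inv.app F)).hom.app (op W) = m at h3 ⊢
  constructor
  · intro h
    exact (cancel_mono m).1 (h.trans zero_comp.symm)
  · intro h
    rw [h, zero_comp]

lemma hom_eq_zero_iff {Y : Scheme.{u}} {A B : EtCoh.Ab Y} (φ : A ⟶ B) :
    φ = 0 ↔ ∀ W : Y.Etale, φ.hom.app (op W) = 0 := by
  constructor
  · rintro rfl W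
    rfl
  · intro h
    apply Sheaf.hom_ext
    ext W : 2
    obtain ⟨W⟩ := W
    exact h W

/-- vanishing criterion -/
lemma comp_unitApp_eq_zero_iff {A F : EtCoh.Ab X} (φ : A ⟶ F) :
    φ ≫ EtDual.unitApp j F = 0 ↔
      ∀ W : X.Etale, φ.hom.app (op W) ≫ F.obj.map ((EtLoc.phiAdj j).counit.app W).op = 0 := by
  rw [hom_eq_zero_iff]
  refine forall_congr' (fun W => ?_)
  exact comp_unitApp_app_eq_zero_iff j F W (φ.hom.app (op W))

end Unit

section Square

variable {S T V TV : Scheme.{u}} (g : T ⟶ S) [IsOpenImmersion g] (j : V ⟶ S) [Etale j]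
  (gV : TV ⟶ V) [IsOpenImmersion gV] (t : TV ⟶ T) [Etale t] (c : IsPullback t gV g j)

include c in
/-- the comparison on sites, as a morphism in `Et S` -/
noncomputable def mu (W' : Et V) :
    (ph j).obj ((ph gV).obj ((pb gV).obj W')) ⟶ (ph g).obj ((pb g).obj ((ph j).obj W')) :=
  MorphismProperty.Over.homMk (mEt g j gV t c W').left (by
    have h := mEt_left_snd g j gV t c W'
    have e : (mEt g j gV t c W').left ≫ (pullback.snd ((ph j).obj W').hom g ≫ g) =
        (pullback.snd W'.hom gV ≫ gV) ≫ j := by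
      calc _ = ((mEt g j gV t c W').left ≫ pullback.snd ((ph j).obj W').hom g) ≫ g :=
            (Category.assoc _ _ _).symm
        _ = (pullback.snd W'.hom gV ≫ t) ≫ g := congrArg (· ≫ g) h
        _ = pullback.snd W'.hom gV ≫ (t ≫ g) := Category.assoc _ _ _
        _ = pullback.snd W'.hom gV ≫ (gV ≫ j) := by rw [c.w]
        _ = _ := (Category.assoc _ _ _).symm
    exact e)

lemma mu_left (W' : Et V) : (mu g j gV t c W').left = (mEt g j gV t c W').left := rfl

instance isIso_mu (W' : Et V) : IsIso (mu g j gV t c W') := by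
  have : IsIso ((MorphismProperty.Over.forget EtCoh.etaleMP ⊤ S ⋙ Over.forget S).map
      (mu g j gV t c W')) := isIso_mEt_left g j gV t c W'
  exact isIso_of_reflects_iso _ (MorphismProperty.Over.forget EtCoh.etaleMP ⊤ S ⋙ Over.forget S)

lemma mu_counit (W' : Et V) :
    mu g j gV t c W' ≫ (phAdj g).counit.app ((ph j).obj W') =
      (ph j).map ((phAdj gV).counit.app W') := by
  apply MorphismProperty.Over.Hom.ext
  rw [MorphismProperty.Comma.comp_left, mu_left, phAdj_counit_left]
  exact mEt_left_fst g j gV t c W'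

include c in
/-- the two support conditions agree after étale localization -/
lemma comp_res_unitApp_eq_zero_iff (F : EtCoh.Ab S) {A : EtCoh.Ab V}
    (φ : A ⟶ (EtLoc.res j).obj F) :
    φ ≫ (EtLoc.res j).map (EtDual.unitApp g F) = 0 ↔
      φ ≫ EtDual.unitApp gV ((EtLoc.res j).obj F) = 0 := by
  rw [comp_unitApp_eq_zero_iff, hom_eq_zero_iff]
  refine forall_congr' (fun W' => ?_)
  have h1 : (φ ≫ (EtLoc.res j).map (EtDual.unitApp g F)).hom.app (op W') =
      φ.hom.app (op W') ≫ (EtDual.unitApp g F).hom.app (op ((ph j).obj W')) := rfl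
  rw [h1]
  have h2 := comp_unitApp_app_eq_zero_iff g F ((ph j).obj W') (φ.hom.app (op W'))
  refine h2.trans ?_
  have h3 : ((EtLoc.res j).obj F).obj.map ((EtLoc.phiAdj gV).counit.app W').op =
      F.obj.map ((phAdj g).counit.app ((ph j).obj W')).op ≫
        F.obj.map (mu g j gV t c W').op := by
    have e : F.obj.map ((ph j).map ((phAdj gV).counit.app W')).op =
        F.obj.map (mu g j gV t c W' ≫ (phAdj g).counit.app ((ph j).obj W')).op := by
      rw [mu_counit]
    exact e.trans (F.obj.map_comp ((phAdj g).counit.app ((ph j).obj W')).op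
      (mu g j gV t c W').op)
  rw [h3]
  have hm : IsIso (F.obj.map (mu g j gV t c W').op) :=
    Iso.isIso_hom (F.obj.mapIso (asIso (mu g j gV t c W')).op)
  constructor
  · intro h
    exact ((Category.assoc _ _ _).symm.trans
      ((congrArg (· ≫ F.obj.map (mu g j gV t c W').op) h).trans zero_comp))
  · intro h
    exact (cancel_mono (F.obj.map (mu g j gV t c W').op)).1
      (((Category.assoc _ _ _).trans h).trans zero_comp.symm)

end Square

section KerIso

variable {S T V TV : Scheme.{u}} (g : T ⟶ S) [IsOpenImmersion g] (j : V ⟶ S) [Etale j]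
  (gV : TV ⟶ V) [IsOpenImmersion gV] (t : TV ⟶ T) [Etale t] (c : IsPullback t gV g j)

instance res_preservesFiniteLimits : PreservesFiniteLimits (EtLoc.res j) := by
  have : PreservesLimitsOfSize.{0, 0} (EtLoc.res j) :=
    (EtLoc.shriekAdj j).rightAdjoint_preservesLimits
  exact PreservesLimitsOfSize.preservesFiniteLimits _

instance res_preservesFiniteColimits : PreservesFiniteColimits (EtLoc.res j) := by
  have : PreservesColimitsOfSize.{0, 0} (EtLoc.res j) :=
    (EtLoc.resPushAdj j).leftAdjoint_preservesColimits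
  exact PreservesColimitsOfSize.preservesFiniteColimits _

include c in
lemma res_kι_comp (F : EtCoh.Ab S) :
    (EtLoc.res j).map (kernel.ι (EtDual.unitApp g F)) ≫
      EtDual.unitApp gV ((EtLoc.res j).obj F) = 0 := by
  rw [← comp_res_unitApp_eq_zero_iff g j gV t c, ← Functor.map_comp, kernel.condition,
    Functor.map_zero]

/-- `res_j (ker (F → g_* g^* F))` is a kernel of `res_j F → gV_* gV^* res_j F` -/
noncomputable def resKerIsLimit (F : EtCoh.Ab S) :
    IsLimit (KernelFork.ofι (f := EtDual.unitApp gV ((EtLoc.res j).obj F))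
      ((EtLoc.res j).map (kernel.ι (EtDual.unitApp g F))) (res_kι_comp g j gV t c F)) :=
  KernelFork.isLimitOfIsLimitOfIff'
    (KernelFork.mapIsLimit _ (kernelIsKernel (EtDual.unitApp g F)) (EtLoc.res j)) _
    (fun _ φ => comp_res_unitApp_eq_zero_iff g j gV t c F φ)

/-- the comparison iso on sections with support -/
noncomputable def secSuppResIso (F : EtCoh.Ab S) :
    (EtLoc.res j).obj (kernel (EtDual.unitApp g F)) ≅
      kernel (EtDual.unitApp gV ((EtLoc.res j).obj F)) :=
  IsLimit.conePointUniqueUpToIso (resKerIsLimit g j gV t c F)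
    (t := KernelFork.ofι (kernel.ι (EtDual.unitApp gV ((EtLoc.res j).obj F)))
      (kernel.condition _))
    (kernelIsKernel (EtDual.unitApp gV ((EtLoc.res j).obj F)))

@[reassoc]
lemma secSuppResIso_hom_ι (F : EtCoh.Ab S) :
    (secSuppResIso g j gV t c F).hom ≫ kernel.ι (EtDual.unitApp gV ((EtLoc.res j).obj F)) =
      (EtLoc.res j).map (kernel.ι (EtDual.unitApp g F)) :=
  IsLimit.conePointUniqueUpToIso_hom_comp (resKerIsLimit g j gV t c F)
    (t := KernelFork.ofι (kernel.ι (EtDual.unitApp gV ((EtLoc.res j).obj F)))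
      (kernel.condition _))
    (kernelIsKernel (EtDual.unitApp gV ((EtLoc.res j).obj F))) WalkingParallelPair.zero

/-- `Γ_Y` commutes with étale localization -/
noncomputable def secSuppResNatIso :
    EtDual.secSupp g ⋙ EtLoc.res j ≅ EtLoc.res j ⋙ EtDual.secSupp gV :=
  NatIso.ofComponents (fun F => secSuppResIso g j gV t c F) (by
    intro F G f
    apply (cancel_mono (kernel.ι (EtDual.unitApp gV ((EtLoc.res j).obj G)))).1
    rw [Category.assoc, secSuppResIso_hom_ι]
    dsimp only [Functor.comp_map, EtDual.secSupp]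
    rw [← Functor.map_comp, kernel.lift_ι, Category.assoc]
    erw [kernel.lift_ι]
    rw [secSuppResIso_hom_ι_assoc, Functor.map_comp])

include c in
/-- local cohomology sheaves commute with étale localization -/
theorem res_locCoh (F : EtCoh.Ab S) (p : ℕ) :
    Nonempty ((EtLoc.res j).obj ((EtDual.locCoh g p).obj F) ≅
      (EtDual.locCoh gV p).obj ((EtLoc.res j).obj F)) := by
  unfold EtDual.locCoh
  exact RDerComm.rightDerived_comm (EtDual.secSupp g) (EtDual.secSupp gV) (EtLoc.res j)
    (EtLoc.res j) (fun I _ => EtLoc.injective_res j I) (secSuppResNatIso g j gV t c) F p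

end KerIso

section ZeroLocal

variable {X : Scheme.{u}} {ι : Type u} (U : ι → X.Etale) (hU : EtCoh.Covers U)

include hU in
/-- a sheaf vanishing on all `W'` over the members of a covering vanishes -/
lemma isZero_of_cover (G : EtCoh.Ab X)
    (h : ∀ (i : ι) (W' : Et (U i).left), IsZero (G.obj.obj (op ((ph (U i).hom).obj W')))) :
    IsZero G := by
  rw [IsZero.iff_id_eq_zero, hom_eq_zero_iff]
  intro W
  have key : ∀ s : G.obj.obj (op W), s = 0 := by
    intro s
    have hsh : Presieve.IsSheaf X.smallEtaleTopology (G.obj ⋙ forget AddCommGrpCat) :=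
      (isSheaf_iff_isSheaf_of_type _ _).1
        ((Presheaf.isSheaf_iff_isSheaf_forget _ G.obj (forget AddCommGrpCat)).1 G.property)
    apply (hsh.isSeparated _ (coverSieve_mem U hU W)).ext
    intro Y f hf
    obtain ⟨Z, a, q, ⟨i, e, hq⟩, rfl⟩ := hf
    subst e
    have hz := h i ((pb (U i).hom).obj W)
    have h0 : ∀ x : G.obj.obj (op ((ph (U i).hom).obj ((pb (U i).hom).obj W))), x = 0 := by
      intro x
      have := AddCommGrpCat.isZero_iff_subsingleton.1 hz
      exact Subsingleton.elim _ _
    change (G.obj.map (a ≫ q).op) s = (G.obj.map (a ≫ q).op) 0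
    rw [op_comp, Functor.map_comp]
    change (G.obj.map a.op) ((G.obj.map q.op) s) = (G.obj.map a.op) ((G.obj.map q.op) 0)
    rw [h0 ((G.obj.map q.op) s), h0 ((G.obj.map q.op) 0)]
  ext s
  exact key s

end ZeroLocal

end Groth.Agent.Helper10.LocCohLoc
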