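import Mathlib
import Groth.Prelude.Def_EtBC2
import Groth.Agent.Lib.Helper10.BcQAbs
import Groth.Agent.Lib.Helper10.EtBCLocAb
import Groth.Agent.Lib.Helper10.LocCohLoc
import Groth.Agent.Lib.Helper29.EdgeE

/-!
# Étale base change for higher direct images (helper10)

For a cartesian square with `f : X ⟶ S` étale, the base change map
`f⁻¹ R^q g_* F ⟶ R^q h_* e⁻¹ F` is an isomorphism.
-/

set_option autoImplicit false

open CategoryTheory CategoryTheory.Limits AlgebraicGeometry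

namespace Groth.Agent.Helper10.BcQEt

open Groth.Agent.Helper10 Groth.Agent.Helper10.BcQAbs Groth.Agent.Helper29
  Groth.Agent.Helper29.EdgeB

universe v₁ v₂ v₃ v₄ u₁ u₂ u₃ u₄ u

section Abs

variable {𝒯 : Type u₁} [Category.{v₁} 𝒯] {𝒴 : Type u₂} [Category.{v₂} 𝒴]
  {𝒳 : Type u₃} [Category.{v₃} 𝒳] {𝒮 : Type u₄} [Category.{v₄} 𝒮]
  [Abelian 𝒯] [Abelian 𝒴] [Abelian 𝒳] [Abelian 𝒮]
  (Φ : 𝒴 ⥤ 𝒯) (Ψ : 𝒯 ⥤ 𝒮) (Φ' : 𝒴 ⥤ 𝒳) (Ψ' : 𝒳 ⥤ 𝒮)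
  (σ : Φ ⋙ Ψ ≅ Φ' ⋙ Ψ') {Λ Λ₂ : 𝒯 ⥤ 𝒴} (adjE : Λ ⊣ Φ) (adjE₂ : Λ₂ ⊣ Φ)
  {L L₂ : 𝒮 ⥤ 𝒳} (adjF : L ⊣ Ψ') (adjF₂ : L₂ ⊣ Ψ')

/-- the degree-zero base change map does not depend on the choice of left adjoints -/
lemma gam_change (A : 𝒯) :
    gam Φ Ψ Φ' Ψ' σ adjE adjF A ≫
        Φ'.map ((Adjunction.leftAdjointUniq adjE adjE₂).hom.app A) =
      (Adjunction.leftAdjointUniq adjF adjF₂).hom.app (Ψ.obj A) ≫
        gam Φ Ψ Φ' Ψ' σ adjE₂ adjF₂ A := by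
  rw [← comp_key Φ Ψ Φ' Ψ' σ adjE adjF ((Adjunction.leftAdjointUniq adjE adjE₂).hom.app A)]
  rw [Adjunction.unit_leftAdjointUniq_hom_app adjE adjE₂ A]
  rw [← Adjunction.leftAdjointUniq_hom_app_counit adjF adjF₂ (Φ'.obj (Λ₂.obj A))]
  have hn : L.map (Ψ.map (adjE₂.unit.app A) ≫ σ.hom.app (Λ₂.obj A)) ≫
      (Adjunction.leftAdjointUniq adjF adjF₂).hom.app (Ψ'.obj (Φ'.obj (Λ₂.obj A))) =
      (Adjunction.leftAdjointUniq adjF adjF₂).hom.app (Ψ.obj A) ≫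
        L₂.map (Ψ.map (adjE₂.unit.app A) ≫ σ.hom.app (Λ₂.obj A)) :=
    (Adjunction.leftAdjointUniq adjF adjF₂).hom.naturality
      (Ψ.map (adjE₂.unit.app A) ≫ σ.hom.app (Λ₂.obj A))
  rw [← Category.assoc, hn, Category.assoc]
  congr 1
  unfold gam
  rw [L₂.map_comp, Category.assoc]

lemma isIso_gam_of_isIso (A : 𝒯) (h : IsIso (gam Φ Ψ Φ' Ψ' σ adjE₂ adjF₂ A)) :
    IsIso (gam Φ Ψ Φ' Ψ' σ adjE adjF A) := by
  have e := gam_change Φ Ψ Φ' Ψ' σ adjE adjE₂ adjF adjF₂ A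
  have h1 : IsIso ((Adjunction.leftAdjointUniq adjF adjF₂).hom.app (Ψ.obj A) ≫
      gam Φ Ψ Φ' Ψ' σ adjE₂ adjF₂ A) := by
    have h0 : IsIso ((Adjunction.leftAdjointUniq adjF adjF₂).hom.app (Ψ.obj A)) := inferInstance
    exact @IsIso.comp_isIso _ _ _ _ _ _ _ h0 h
  rw [← e] at h1
  have h2 : IsIso (Φ'.map ((Adjunction.leftAdjointUniq adjE adjE₂).hom.app A)) := inferInstance
  exact @IsIso.of_isIso_comp_right _ _ _ _ _ _ _ h2 h1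

end Abs

section Et

variable {X S Y T : Scheme.{u}}

/-- inverse image along an étale morphism is left exact -/
lemma pull_preservesFiniteLimits_of_etale (j : X ⟶ S) [Etale j] :
    PreservesFiniteLimits (EtCoh.pull j) :=
  preservesFiniteLimits_of_natIso (EtLoc.pullIsoRes j).symm

variable (f : X ⟶ S) (g : T ⟶ S) (h : Y ⟶ X) (e : Y ⟶ T) (c : IsPullback e h g f)
  [Etale f] [Etale e] [PreservesFiniteLimits (EtCoh.pull e)]

/-- **Étale base change in every degree.** -/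
theorem isIso_bcQ_of_etale (q : ℕ) (F : EtCoh.Ab T) : IsIso (EtBC.bcQ g f h e c.w q F) := by
  haveI : PreservesFiniteLimits (EtCoh.pull f) := pull_preservesFiniteLimits_of_etale f
  unfold EtBC.bcQ
  rw [EdgeE.bcQAdj_eq_bcA f g h e c.w q F]
  refine isIso_transpose_bcA (EtCoh.push e) (EtCoh.push g) (EtCoh.push h) (EtCoh.push f)
    (EdgeD.σAb g f h e c.w) (EtCoh.pullPushAdj e) (EtCoh.pullPushAdj f)
    (fun I hI => @EtLoc.injective_pull _ _ e _ I hI) ?_ q F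
  intro A _
  refine isIso_gam_of_isIso (EtCoh.push e) (EtCoh.push g) (EtCoh.push h) (EtCoh.push f)
    (EdgeD.σAb g f h e c.w) (EtCoh.pullPushAdj e) (EtBCLocAb.resAdj e) (EtCoh.pullPushAdj f)
    (EtBCLocAb.resAdj f) A ?_
  have h0 := EtBCLocAb.isIso_gamma_app g f h e c A
  rw [MateIter.gamma_app] at h0
  exact h0

end Et

end Groth.Agent.Helper10.BcQEt
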