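import Mathlib

/-!
Helper lemmas on vanishing of Hom groups in (pre)triangulated categories, used for Postnikov systems.
-/

universe v u

set_option linter.unusedSectionVars false

namespace Groth.Agent.Helper10.Postnikov

open CategoryTheory CategoryTheory.Limits CategoryTheory.Pretriangulated

variable {D : Type u} [Category.{v} D] [Preadditive D] [HasZeroObject D] [HasShift D ℤ]
    [∀ n : ℤ, (shiftFunctor D n).Additive] [Pretriangulated D]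

/-- all morphisms from `A` to `B` vanish -/
def HomZero (A B : D) : Prop := ∀ ψ : A ⟶ B, ψ = 0

lemma HomZero.of_iso {A B A' B' : D} (h : HomZero A B) (e : A ≅ A') (e' : B ≅ B') :
    HomZero A' B' := by
  intro ψ
  have h1 := h (e.hom ≫ ψ ≫ e'.inv)
  have h2 : ψ = e.inv ≫ (e.hom ≫ ψ ≫ e'.inv) ≫ e'.hom := by simp
  rw [h2, h1]; simp

lemma HomZero.shift {A B : D} (h : HomZero A B) (t : ℤ) : HomZero (A⟦t⟧) (B⟦t⟧) := by
  intro ψ
  obtain ⟨ψ', rfl⟩ := (shiftFunctor D t).map_surjective ψ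
  rw [h ψ', Functor.map_zero]

lemma HomZero.of_shift {A B : D} (t : ℤ) (h : HomZero (A⟦t⟧) (B⟦t⟧)) : HomZero A B := by
  intro ψ
  apply (shiftFunctor D t).map_injective
  rw [h ((shiftFunctor D t).map ψ), Functor.map_zero]

/-- change of shifts on both sides -/
lemma HomZero.shift_change {A B : D} {p q : ℤ} (h : HomZero (A⟦p⟧) (B⟦q⟧)) (r s : ℤ)
    (hpq : q - p = s - r) : HomZero (A⟦r⟧) (B⟦s⟧) := by
  apply HomZero.of_shift (p - r)
  exact h.of_iso ((shiftFunctorAdd' D r (p - r) p (by omega)).app A)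
    ((shiftFunctorAdd' D s (p - r) q (by omega)).app B)

lemma HomZero.zero_right {A B : D} (h : HomZero A B) : HomZero A (B⟦(0 : ℤ)⟧) :=
  h.of_iso (Iso.refl _) ((shiftFunctorZero D ℤ).app B).symm

lemma HomZero.zero_left {A B : D} (h : HomZero A B) : HomZero (A⟦(0 : ℤ)⟧) B :=
  h.of_iso ((shiftFunctorZero D ℤ).app A).symm (Iso.refl _)

lemma HomZero.of_zero_right {A B : D} (h : HomZero A (B⟦(0 : ℤ)⟧)) : HomZero A B :=
  h.of_iso (Iso.refl _) ((shiftFunctorZero D ℤ).app B)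

lemma HomZero.of_zero_left {A B : D} (h : HomZero (A⟦(0 : ℤ)⟧) B) : HomZero A B :=
  h.of_iso ((shiftFunctorZero D ℤ).app A) (Iso.refl _)

/-- from `Hom(A[p], B) = 0` to `Hom(A[r], B[s]) = 0` when `s = r - p` -/
lemma HomZero.change_right {A B : D} {p : ℤ} (h : HomZero (A⟦p⟧) B) (r s : ℤ) (hs : s = r - p) :
    HomZero (A⟦r⟧) (B⟦s⟧) :=
  h.zero_right.shift_change r s (by omega)

/-- from `Hom(A, B[q]) = 0` to `Hom(A[r], B[s]) = 0` when `s = r + q` -/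
lemma HomZero.change_left {A B : D} {q : ℤ} (h : HomZero A (B⟦q⟧)) (r s : ℤ) (hs : s = r + q) :
    HomZero (A⟦r⟧) (B⟦s⟧) :=
  h.zero_left.shift_change r s (by omega)

/-- from `Hom(A[p], B[q]) = 0` to `Hom(A, B[s]) = 0` when `s = q - p` -/
lemma HomZero.to_left {A B : D} {p q : ℤ} (h : HomZero (A⟦p⟧) (B⟦q⟧)) (s : ℤ) (hs : s = q - p) :
    HomZero A (B⟦s⟧) :=
  (h.shift_change 0 s (by omega)).of_zero_left

/-- from `Hom(A[p], B[q]) = 0` to `Hom(A[r], B) = 0` when `r = p - q` -/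
lemma HomZero.to_right {A B : D} {p q : ℤ} (h : HomZero (A⟦p⟧) (B⟦q⟧)) (r : ℤ) (hr : r = p - q) :
    HomZero (A⟦r⟧) B :=
  (h.shift_change r 0 (by omega)).of_zero_right

section Exact

variable {T : Triangle D} (hT : T ∈ distTriang D) {S : D}
include hT

lemma homZero_to_obj₂ (h1 : HomZero S T.obj₁) (h3 : HomZero S T.obj₃) : HomZero S T.obj₂ := by
  intro ψ
  obtain ⟨g, rfl⟩ := Pretriangulated.Triangle.coyoneda_exact₂ T hT ψ (h3 _)
  rw [h1 g, zero_comp]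

lemma homZero_from_obj₂ (h1 : HomZero T.obj₁ S) (h3 : HomZero T.obj₃ S) : HomZero T.obj₂ S := by
  intro ψ
  obtain ⟨g, rfl⟩ := Pretriangulated.Triangle.yoneda_exact₂ T hT ψ (h1 _)
  rw [h3 g, comp_zero]

lemma homZero_to_obj₁ (h3 : HomZero S (T.obj₃⟦(-1 : ℤ)⟧)) (h2 : HomZero S T.obj₂) :
    HomZero S T.obj₁ :=
  homZero_to_obj₂ (inv_rot_of_distTriang _ hT) h3 h2

lemma homZero_from_obj₁ (h3 : HomZero (T.obj₃⟦(-1 : ℤ)⟧) S) (h2 : HomZero T.obj₂ S) :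
    HomZero T.obj₁ S :=
  homZero_from_obj₂ (inv_rot_of_distTriang _ hT) h3 h2

lemma homZero_to_obj₃ (h2 : HomZero S T.obj₂) (h1 : HomZero S (T.obj₁⟦(1 : ℤ)⟧)) :
    HomZero S T.obj₃ :=
  homZero_to_obj₂ (rot_of_distTriang _ hT) h2 h1

lemma homZero_from_obj₃ (h2 : HomZero T.obj₂ S) (h1 : HomZero (T.obj₁⟦(1 : ℤ)⟧) S) :
    HomZero T.obj₃ S :=
  homZero_from_obj₂ (rot_of_distTriang _ hT) h2 h1

end Exact


lemma eq_zero_of_comp_mor₁ {T : Triangle D} (hT : T ∈ distTriang D) {S : D} (f : S ⟶ T.obj₁)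
    (hf : f ≫ T.mor₁ = 0) (h3 : HomZero S (T.obj₃⟦(-1 : ℤ)⟧)) : f = 0 := by
  obtain ⟨g, rfl⟩ := Pretriangulated.Triangle.coyoneda_exact₂ _ (inv_rot_of_distTriang _ hT) f hf
  have hg : g = 0 := h3 g
  subst hg
  exact zero_comp

lemma eq_zero_of_mor₁_comp {T : Triangle D} (hT : T ∈ distTriang D) {S : D} (f : T.obj₂ ⟶ S)
    (hf : T.mor₁ ≫ f = 0) (h3 : HomZero T.obj₃ S) : f = 0 := by
  obtain ⟨g, rfl⟩ := Pretriangulated.Triangle.yoneda_exact₂ _ hT f hf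
  rw [h3 g, comp_zero]

lemma eq_zero_of_comp_mor₂ {T : Triangle D} (hT : T ∈ distTriang D) {S : D} (f : S ⟶ T.obj₂)
    (hf : f ≫ T.mor₂ = 0) (h1 : HomZero S T.obj₁) : f = 0 := by
  obtain ⟨g, rfl⟩ := Pretriangulated.Triangle.coyoneda_exact₂ _ hT f hf
  rw [h1 g, zero_comp]


lemma eq_zero_of_mor₃_comp {T : Triangle D} (hT : T ∈ distTriang D) {S : D} (f : T.obj₁ ⟶ S)
    (hf : T.mor₃ ≫ (shiftFunctor D (1 : ℤ)).map f = 0) (h2 : HomZero T.obj₂ S) : f = 0 := by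
  obtain ⟨s, hs⟩ := Pretriangulated.Triangle.yoneda_exact₃ _ (rot_of_distTriang _ hT)
    ((shiftFunctor D (1 : ℤ)).map f) hf
  have hs0 : s = 0 := (h2.shift 1) s
  apply (shiftFunctor D (1 : ℤ)).map_injective
  rw [hs, hs0, comp_zero, Functor.map_zero]
  rfl


lemma exists_fac_of_mor₃_comp {T : Triangle D} (hT : T ∈ distTriang D) {S : D} (f : T.obj₁ ⟶ S)
    (hf : T.mor₃ ≫ (shiftFunctor D (1 : ℤ)).map f = 0) : ∃ t : T.obj₂ ⟶ S, f = T.mor₁ ≫ t := by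
  obtain ⟨s, hs⟩ := Pretriangulated.Triangle.yoneda_exact₃ _ (rot_of_distTriang _ hT)
    ((shiftFunctor D (1 : ℤ)).map f) hf
  obtain ⟨s', hs'⟩ : ∃ s' : T.obj₂ ⟶ S, (shiftFunctor D (1 : ℤ)).map s' = s :=
    (shiftFunctor D (1 : ℤ)).map_surjective s
  refine ⟨-s', ?_⟩
  apply (shiftFunctor D (1 : ℤ)).map_injective
  have e : T.rotate.mor₃ = -(shiftFunctor D (1 : ℤ)).map T.mor₁ := rfl
  have e2 : (shiftFunctor D (1 : ℤ)).map f = (-(shiftFunctor D (1 : ℤ)).map T.mor₁) ≫ s := by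
    rw [← e]; exact hs
  rw [e2, ← hs', Preadditive.neg_comp, Preadditive.comp_neg, Functor.map_neg, Functor.map_comp]

lemma HomZero.shift_eq {A B : D} {p p' : ℤ} (h : HomZero (A⟦p⟧) B) (e : p = p') :
    HomZero (A⟦p'⟧) B := e ▸ h

lemma HomZero.shift_eq' {A B : D} {p p' : ℤ} (h : HomZero A (B⟦p⟧)) (e : p = p') :
    HomZero A (B⟦p'⟧) := e ▸ h

end Groth.Agent.Helper10.Postnikov
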