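import Mathlib
import Groth.Agent.Lib.Helper10.Postnikov

set_option autoImplicit false
set_option linter.unusedSectionVars false

universe v₁ u₁ v₂ u₂ v₃ u₃

namespace Groth.Agent.Helper10.SibBuilt

open CategoryTheory CategoryTheory.Limits CategoryTheory.Pretriangulated
open Groth.Agent.Helper10.Postnikov

variable {ℬ : Type u₁} [Category.{v₁} ℬ] [Preadditive ℬ] [HasZeroObject ℬ] [HasShift ℬ ℤ]
  [∀ n : ℤ, (shiftFunctor ℬ n).Additive] [Pretriangulated ℬ]
  {A : Type u₂} [Category.{v₂} A] (i : A ⥤ ℬ)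

/-- objects built from shifted images of `i` by successive cones, all "bottom" terms at shift `m` -/
inductive Built (m : ℤ) : ℬ → Prop
  | single (K : ℬ) (X : A) (e : K ≅ (i.obj X)⟦m⟧) : Built m K
  | step (K L : ℬ) (X : A) (p : K ⟶ (i.obj X)⟦m⟧) (δ : (i.obj X)⟦m⟧ ⟶ L) (r : L ⟶ K⟦(1 : ℤ)⟧)
      (dist : Triangle.mk p δ r ∈ distTriang ℬ) (hL : Built m L) : Built m K

variable {D : Type u₃} [Category.{v₃} D] [Preadditive D] [HasZeroObject D] [HasShift D ℤ]
  [∀ n : ℤ, (shiftFunctor D n).Additive] [Pretriangulated D]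
  (F F' : ℬ ⥤ D) [F.CommShift ℤ] [F.IsTriangulated] [F'.CommShift ℤ] [F'.IsTriangulated]
  (t : i ⋙ F ≅ i ⋙ F')

/-- the induced isomorphism on shifted singles -/
noncomputable def Tm (m : ℤ) (X : A) : F.obj ((i.obj X)⟦m⟧) ≅ F'.obj ((i.obj X)⟦m⟧) :=
  (F.commShiftIso m).app _ ≪≫ (shiftFunctor D m).mapIso (t.app X) ≪≫
    ((F'.commShiftIso m).app _).symm

lemma Tm_natural [i.Full] (m : ℤ) {X X' : A} (ε : (i.obj X)⟦m⟧ ⟶ (i.obj X')⟦m⟧) :
    F.map ε ≫ (Tm i F F' t m X').hom = (Tm i F F' t m X).hom ≫ F'.map ε := by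
  obtain ⟨ε', rfl⟩ := (shiftFunctor ℬ m).map_surjective ε
  obtain ⟨e, rfl⟩ := i.map_surjective ε'
  have h1 := (F.commShiftIso m).hom.naturality (i.map e)
  have h2 := (F'.commShiftIso m).inv.naturality (i.map e)
  have h3 := t.hom.naturality e
  simp only [Functor.comp_obj, Functor.comp_map] at h1 h2 h3
  simp only [Tm, Iso.trans_hom, Iso.app_hom, Functor.mapIso_hom, Iso.symm_hom, Iso.app_inv,
    Category.assoc]
  rw [reassoc_of% h1, ← h2, ← Functor.map_comp_assoc, h3, Functor.map_comp_assoc]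


/-- `F (Z⟦q+1⟧) ≅ (F (Z⟦q⟧))⟦1⟧` -/
noncomputable def shiftOneIso (Z : ℬ) (q q' : ℤ) (h : q + 1 = q') :
    F.obj (Z⟦q'⟧) ≅ (F.obj (Z⟦q⟧))⟦(1 : ℤ)⟧ :=
  F.mapIso ((shiftFunctorAdd' ℬ q 1 q' h).app Z) ≪≫ (F.commShiftIso (1 : ℤ)).app (Z⟦q⟧)

variable (h2 : ∀ (X Y : A) (q : ℤ), q < 0 →
      ∀ f : F.obj (i.obj X) ⟶ (shiftFunctor D q).obj (F.obj (i.obj Y)), f = 0)
include h2 t

lemma vanish_single (X Y : A) (m q : ℤ) (hq : m < q) :
    HomZero (F.obj ((i.obj X)⟦q⟧)) (F'.obj ((i.obj Y)⟦m⟧)) := by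
  have h0 : HomZero (F.obj (i.obj X)) ((F.obj (i.obj Y))⟦m - q⟧) := h2 X Y (m - q) (by omega)
  have h1 : HomZero ((F.obj (i.obj X))⟦q⟧) ((F.obj (i.obj Y))⟦m⟧) :=
    h0.change_left q m (by omega)
  exact h1.of_iso ((F.commShiftIso q).app _).symm
    ((shiftFunctor D m).mapIso (t.app Y) ≪≫ ((F'.commShiftIso m).app _).symm)

lemma vanish_built (m : ℤ) (L : ℬ) (hL : Built i m L) :
    ∀ (X : A) (q : ℤ), m < q → HomZero (F.obj ((i.obj X)⟦q⟧)) (F'.obj L) := by
  induction hL with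
  | single K Y e =>
    intro X q hq
    exact (vanish_single i F F' t h2 X Y m q hq).of_iso (Iso.refl _) (F'.mapIso e.symm)
  | step K L Y p δ r dist hL ih =>
    intro X q hq
    have hT := F'.map_distinguished _ dist
    refine homZero_to_obj₁ hT ?_ ?_
    · have h3 : HomZero (F.obj ((i.obj X)⟦q + 1⟧)) (F'.obj L) := ih X (q + 1) (by omega)
      have h4 : HomZero ((F.obj ((i.obj X)⟦q⟧))⟦(1 : ℤ)⟧) (F'.obj L) :=
        h3.of_iso (shiftOneIso F (i.obj X) q (q + 1) rfl) (Iso.refl _)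
      exact h4.zero_right.to_left (-1) (by omega)
    · exact vanish_single i F F' t h2 X Y m q hq


/-- the inductive invariant -/
def Inv (m : ℤ) (K : ℬ) : Prop :=
  ∃ (X : A) (p : K ⟶ (i.obj X)⟦m⟧) (φ : F.obj K ≅ F'.obj K),
    φ.hom ≫ F'.map p = F.map p ≫ (Tm i F F' t m X).hom ∧
    (IsIso p ∨ ∃ (L' : ℬ) (δ : (i.obj X)⟦m⟧ ⟶ L') (r : L' ⟶ K⟦(1 : ℤ)⟧),
      Triangle.mk p δ r ∈ distTriang ℬ ∧ Built i m L')

lemma inv_of_built [i.Full] (m : ℤ) (K : ℬ) (hK : Built i m K) : Inv i F F' t m K := by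
  induction hK with
  | single K X e =>
    refine ⟨X, e.hom, F.mapIso e ≪≫ Tm i F F' t m X ≪≫ (F'.mapIso e).symm, ?_, Or.inl inferInstance⟩
    simp only [Iso.trans_hom, Functor.mapIso_hom, Iso.symm_hom, Functor.mapIso_inv, Category.assoc]
    rw [← F'.map_comp, e.inv_hom_id, F'.map_id, Category.comp_id]
  | step K L X p δ r dist hL ih =>
    obtain ⟨Y, pL, φL, compL, alt⟩ := ih
    -- the key commutation
    have key : F.map δ ≫ φL.hom = (Tm i F F' t m X).hom ≫ F'.map δ := by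
      rw [← sub_eq_zero]
      have hΔ : (F.map δ ≫ φL.hom - (Tm i F F' t m X).hom ≫ F'.map δ) ≫ F'.map pL = 0 := by
        rw [Preadditive.sub_comp, Category.assoc, Category.assoc, compL, ← F'.map_comp,
          ← F.map_comp_assoc, Tm_natural i F F' t m (δ ≫ pL), sub_self]
      rcases alt with hiso | ⟨L', δ', r', dist', hL'⟩
      · have : IsIso (F'.map pL) := inferInstance
        exact (cancel_mono (F'.map pL)).1 (by rw [hΔ, zero_comp])
      · have hT := F'.map_distinguished _ dist'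
        refine eq_zero_of_comp_mor₁ hT _ hΔ ?_
        have h3 : HomZero (F.obj ((i.obj X)⟦m + 1⟧)) (F'.obj L') :=
          vanish_built i F F' t h2 m L' hL' X (m + 1) (by omega)
        have h4 : HomZero ((F.obj ((i.obj X)⟦m⟧))⟦(1 : ℤ)⟧) (F'.obj L') :=
          h3.of_iso (shiftOneIso F (i.obj X) m (m + 1) rfl) (Iso.refl _)
        exact h4.zero_right.to_left (-1) (by omega)
    have hT₁ := F.map_distinguished _ dist
    have hT₂ := F'.map_distinguished _ dist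
    obtain ⟨a, ha₁, ha₂⟩ := complete_distinguished_triangle_morphism₁ _ _ hT₁ hT₂
      (Tm i F F' t m X).hom φL.hom key
    let ψ : F.mapTriangle.obj (Triangle.mk p δ r) ⟶ F'.mapTriangle.obj (Triangle.mk p δ r) :=
      { hom₁ := a
        hom₂ := (Tm i F F' t m X).hom
        hom₃ := φL.hom
        comm₁ := ha₁
        comm₂ := key
        comm₃ := ha₂ }
    have hiso : IsIso a := isIso₁_of_isIso₂₃ ψ hT₁ hT₂ (by dsimp [ψ]; infer_instance)
      (by dsimp [ψ]; infer_instance)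
    exact ⟨X, p, @asIso _ _ _ _ a hiso, ha₁.symm, Or.inr ⟨L, δ, r, dist, hL⟩⟩

theorem nonempty_iso_of_built [i.Full] (m : ℤ) (K : ℬ) (hK : Built i m K) :
    Nonempty (F.obj K ≅ F'.obj K) := by
  obtain ⟨_, _, φ, _⟩ := inv_of_built i F F' t h2 m K hK
  exact ⟨φ⟩

end Groth.Agent.Helper10.SibBuilt
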