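import Mathlib
import Groth.Prelude.Def_W4stkfunctorsequivSib
import Groth.Agent.Lib.Helper10.SibBuilt

set_option autoImplicit false
set_option linter.unusedSectionVars false

universe w v u

namespace Groth.Agent.Helper10.SibGen

open CategoryTheory CategoryTheory.Limits CategoryTheory.Pretriangulated DerivedCategory
open Groth.Agent.Helper10.SibBuilt

variable {A : Type u} [Category.{v} A] [Abelian A] [HasDerivedCategory.{w} A]

/-- identification of shifted singles -/
noncomputable def singleIso (X : A) (a : ℤ) :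
    (Bounded.ι (C := A)).obj (((DEquiv.singleB A).obj X)⟦-a⟧) ≅
      Q.obj ((HomologicalComplex.single A (ComplexShape.up ℤ) a).obj X) :=
  ((Bounded.ι (C := A)).commShiftIso (-a)).app _ ≪≫
    ((singleFunctors A).shiftIso (-a) a 0 (by omega)).app X ≪≫
    (singleFunctorIsoCompQ A a).app X

section complexes

variable (C : CochainComplex A ℤ) (a : ℤ) [C.IsStrictlyGE a]

/-- projection to the bottom term -/
noncomputable def piBot : C ⟶ (HomologicalComplex.single A (ComplexShape.up ℤ) a).obj (C.X a) :=
  HomologicalComplex.mkHomToSingle (𝟙 _) (fun i (hi : i + 1 = a) =>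
    (C.isZero_of_isStrictlyGE a i (by omega)).eq_of_src _ _)

instance isIso_piBot_f : IsIso ((piBot C a).f a) := by
  rw [piBot, HomologicalComplex.mkHomToSingle_f]
  infer_instance

instance epi_piBot : Epi (piBot C a) := by
  apply HomologicalComplex.epi_of_epi_f
  intro i
  by_cases hi : i = a
  · subst hi
    infer_instance
  · exact (HomologicalComplex.isZero_single_obj_X (ComplexShape.up ℤ) a (C.X a) i hi).epi _

/-- the short exact sequence `0 → σ_{>a} C → C → C^a[-a] → 0` -/
noncomputable def sesBot : ShortComplex (CochainComplex A ℤ) :=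
  ShortComplex.mk (kernel.ι (piBot C a)) (piBot C a) (kernel.condition _)

lemma sesBot_shortExact : (sesBot C a).ShortExact where
  exact := ShortComplex.exact_of_f_is_kernel _ (kernelIsKernel _)
  mono_f := by dsimp [sesBot]; infer_instance
  epi_g := by dsimp [sesBot]; infer_instance

lemma isZero_kernel_X_of_isZero (i : ℤ) (hi : IsZero (C.X i)) :
    IsZero ((kernel (piBot C a)).X i) :=
  IsZero.of_mono ((kernel.ι (piBot C a)).f i) hi

lemma isZero_kernel_X_self : IsZero ((kernel (piBot C a)).X a) := by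
  have h : (kernel.ι (piBot C a)).f a ≫ (piBot C a).f a = 0 := by
    rw [← HomologicalComplex.comp_f, kernel.condition, HomologicalComplex.zero_f]
  have h0 : (kernel.ι (piBot C a)).f a = 0 := by
    rw [← cancel_mono ((piBot C a).f a), h, zero_comp]
  exact IsZero.of_mono_eq_zero _ h0

instance isStrictlyGE_kernel : (kernel (piBot C a)).IsStrictlyGE (a + 1) := by
  rw [CochainComplex.isStrictlyGE_iff]
  intro i hi
  by_cases h : i = a
  · subst h
    exact isZero_kernel_X_self C i
  · exact isZero_kernel_X_of_isZero C a i (C.isZero_of_isStrictlyGE a i (by omega))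

lemma isStrictlyLE_kernel (b : ℤ) [C.IsStrictlyLE b] : (kernel (piBot C a)).IsStrictlyLE b := by
  rw [CochainComplex.isStrictlyLE_iff]
  intro i hi
  exact isZero_kernel_X_of_isZero C a i (C.isZero_of_isStrictlyLE b i hi)

end complexes


theorem built_of_iso_Q (n : ℕ) : ∀ (a : ℤ) (C : CochainComplex A ℤ)
    (_ : C.IsStrictlyGE a) (_ : C.IsStrictlyLE (a + n))
    (K : DerivedCategory.Bounded A) (_ : (Bounded.ι (C := A)).obj K ≅ Q.obj C),
    Built (DEquiv.singleB A) (-a) K := by
  induction n with
  | zero =>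
    intro a C _ h2 K e
    have : C.IsStrictlyLE a := by simpa using h2
    obtain ⟨Y, ⟨e'⟩⟩ := CochainComplex.exists_iso_single C a
    refine Built.single K Y ?_
    exact (Bounded.ι (C := A)).preimageIso (e ≪≫ Q.mapIso e' ≪≫ (singleIso Y a).symm)
  | succ n ih =>
    intro a C _ h2 K e
    let X := C.X a
    let iXm : Bounded A := ((DEquiv.singleB A).obj X)⟦-a⟧
    let e2 := singleIso X a
    let p : K ⟶ iXm := (Bounded.ι (C := A)).preimage (e.hom ≫ Q.map (piBot C a) ≫ e2.inv)
    obtain ⟨L, δ, r, dist⟩ := distinguished_cocone_triangle p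
    have hT₁ := (Bounded.ι (C := A)).map_distinguished _ dist
    have hT₂ := rot_of_distTriang _ (triangleOfSES_distinguished (sesBot_shortExact C a))
    have comm : ((Bounded.ι (C := A)).mapTriangle.obj (Triangle.mk p δ r)).mor₁ ≫ e2.hom =
        e.hom ≫ (triangleOfSES (sesBot_shortExact C a)).rotate.mor₁ := by
      change (Bounded.ι (C := A)).map p ≫ e2.hom = e.hom ≫ Q.map (piBot C a)
      rw [Functor.map_preimage, Category.assoc, Category.assoc, Iso.inv_hom_id, Category.comp_id]
    let τ := isoTriangleOfIso₁₂ _ _ hT₁ hT₂ e e2 comm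
    let e3 : (Bounded.ι (C := A)).obj L ≅ (Q.obj (kernel (piBot C a)))⟦(1 : ℤ)⟧ :=
      Triangle.π₃.mapIso τ
    have hGE : ((kernel (piBot C a))⟦(1 : ℤ)⟧).IsStrictlyGE a :=
      CochainComplex.isStrictlyGE_shift _ (a + 1) 1 a (by omega)
    have hLE' : (kernel (piBot C a)).IsStrictlyLE (a + (n + 1 : ℕ)) := isStrictlyLE_kernel C a _
    have hLE : ((kernel (piBot C a))⟦(1 : ℤ)⟧).IsStrictlyLE (a + n) :=
      CochainComplex.isStrictlyLE_shift _ (a + (n + 1 : ℕ)) 1 (a + n) (by push_cast; omega)
    have hL := ih a ((kernel (piBot C a))⟦(1 : ℤ)⟧) hGE hLE L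
      (e3 ≪≫ ((Q.commShiftIso (1 : ℤ)).app _).symm)
    exact Built.step K L X p δ r dist hL

/-- every object of the bounded derived category is zero or built from shifted singles -/
theorem isZero_or_built (K : DerivedCategory.Bounded A) :
    IsZero K ∨ ∃ m : ℤ, Built (DEquiv.singleB A) m K := by
  obtain ⟨⟨a, ha⟩, ⟨b, hb⟩⟩ := K.property
  obtain ⟨C, hC1, hC2, ⟨e⟩⟩ := DerivedCategory.exists_iso_Q_obj_of_isGE_of_isLE K.obj a b
  by_cases hab : a ≤ b
  · right
    obtain ⟨n, rfl⟩ := Int.le.dest hab
    exact ⟨-a, built_of_iso_Q n a C hC1 hC2 K e⟩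
  · left
    have hz : IsZero K.obj := TStructure.t.isZero K.obj b a (by omega)
    rw [IsZero.iff_id_eq_zero] at hz ⊢
    exact (Bounded.ι (C := A)).map_injective (by simpa using hz)

end Groth.Agent.Helper10.SibGen
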