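import Mathlib
import Groth.Prelude.Def_W4stkfunctorsequivSib
import Groth.Agent.Lib.Helper10.SibBuilt
import Groth.Agent.Lib.Helper10.SibGen

set_option autoImplicit false
set_option linter.unusedSectionVars false

universe w v u

namespace Groth.Agent.Helper10.SibEff

open CategoryTheory CategoryTheory.Limits CategoryTheory.Pretriangulated DerivedCategory

variable {A : Type u} [Category.{v} A] [Abelian A] [HasDerivedCategory.{w} A]

local notation "sg" => HomologicalComplex.single A (ComplexShape.up ℤ)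

/-- every class in `Ext^{>0}` is killed by an epimorphism in the first variable -/
lemma coefface (X Y : A) (a : ℤ) (ha : a < 0)
    (φ : Q.obj ((sg 0).obj X) ⟶ Q.obj ((sg a).obj Y)) :
    ∃ (P : A) (π : P ⟶ X), Epi π ∧ Q.map ((sg 0).map π) ≫ φ = 0 := by
  have : CochainComplex.IsStrictlyLE ((sg 0).obj X) 0 := inferInstance
  obtain ⟨X', hX', s, hs, g, hφ⟩ := right_fac_of_isStrictlyLE φ 0
  let P := X'.X 0
  let π : P ⟶ X := s.f 0 ≫ (HomologicalComplex.singleObjXSelf (ComplexShape.up ℤ) 0 X).hom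
  let σ : (sg 0).obj P ⟶ X' := HomologicalComplex.mkHomFromSingle (𝟙 _)
    (fun k (hk : 0 + 1 = k) => (X'.isZero_of_isStrictlyLE 0 k (by omega)).eq_of_tgt _ _)
  have h1 : σ ≫ s = (sg 0).map π := by
    apply HomologicalComplex.from_single_hom_ext
    rw [HomologicalComplex.comp_f, HomologicalComplex.mkHomFromSingle_f,
      HomologicalComplex.single_map_f_self]
    simp [π]
  have h2 : σ ≫ g = 0 := by
    apply HomologicalComplex.from_single_hom_ext
    apply (HomologicalComplex.isZero_single_obj_X (ComplexShape.up ℤ) a Y 0 (by omega)).eq_of_tgt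
  refine ⟨P, π, ?_, ?_⟩
  · apply Preadditive.epi_of_cancel_zero
    intro Z u hu
    have h3 : s ≫ (sg 0).map u = 0 := by
      apply HomologicalComplex.to_single_hom_ext
      rw [HomologicalComplex.comp_f, HomologicalComplex.single_map_f_self,
        HomologicalComplex.zero_f]
      have : s.f 0 ≫ (HomologicalComplex.singleObjXSelf (ComplexShape.up ℤ) 0 X).hom ≫ u = 0 := by
        rw [← Category.assoc]; exact hu
      rw [reassoc_of% this, zero_comp]
    have h4 : Q.map ((sg 0).map u) = 0 := by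
      rw [← cancel_epi (Q.map s), ← Q.map_comp, h3, Q.map_zero, comp_zero]
    have h5 : (singleFunctor A 0).map u = 0 := by
      have nat := (singleFunctorIsoCompQ A 0).hom.naturality u
      rw [← cancel_mono ((singleFunctorIsoCompQ A 0).hom.app Z), nat]
      simp only [Functor.comp_map, zero_comp]
      erw [h4, comp_zero]
    exact (singleFunctor A 0).map_injective (by rw [h5, Functor.map_zero])
  · rw [hφ, ← h1, Q.map_comp, Category.assoc, IsIso.hom_inv_id_assoc, ← Q.map_comp, h2, Q.map_zero]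



/-- identification of shifted singles -/
noncomputable def singleIso' (X : A) (m a : ℤ) (h : m + a = 0) :
    (Bounded.ι (C := A)).obj (((DEquiv.singleB A).obj X)⟦m⟧) ≅ Q.obj ((sg a).obj X) :=
  ((Bounded.ι (C := A)).commShiftIso m).app _ ≪≫
    ((singleFunctors A).shiftIso m a 0 h).app X ≪≫
    (singleFunctorIsoCompQ A a).app X

/-- the identification `ι (i X) ≅ Q (X[0])` -/
noncomputable def e0 (X : A) : (Bounded.ι (C := A)).obj ((DEquiv.singleB A).obj X) ≅ Q.obj ((sg 0).obj X) :=
  (singleFunctorIsoCompQ A 0).app X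

lemma e0_natural {P X : A} (π : P ⟶ X) :
    (Bounded.ι (C := A)).map ((DEquiv.singleB A).map π) ≫ (e0 X).hom = (e0 P).hom ≫ Q.map ((sg 0).map π) :=
  (singleFunctorIsoCompQ A 0).hom.naturality π

lemma negAll (X Y : A) (q : ℤ) (hq : q < 0) (ξ : (DEquiv.singleB A).obj X ⟶ ((DEquiv.singleB A).obj Y)⟦q⟧) : ξ = 0 := by
  apply (Bounded.ι (C := A)).map_injective
  rw [Functor.map_zero]
  have : TStructure.t.IsLE ((singleFunctor A 0).obj X) 0 := inferInstance
  have : TStructure.t.IsGE ((singleFunctor A 0).obj Y) 0 := inferInstance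
  have : TStructure.t.IsGE (((singleFunctor A 0).obj Y)⟦q⟧) (-q) :=
    TStructure.t.isGE_shift _ 0 q (-q) (by omega)
  have h0 : (Bounded.ι (C := A)).map ξ ≫ ((Bounded.ι (C := A)).commShiftIso q).hom.app ((DEquiv.singleB A).obj Y) = 0 :=
    TStructure.t.zero_of_isLE_of_isGE _ 0 (-q) (by omega)
      (inferInstanceAs (TStructure.t.IsLE ((singleFunctor A 0).obj X) 0))
      (inferInstanceAs (TStructure.t.IsGE (((singleFunctor A 0).obj Y)⟦q⟧) (-q)))
  rw [← cancel_mono (((Bounded.ι (C := A)).commShiftIso q).hom.app ((DEquiv.singleB A).obj Y)), h0, zero_comp]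

/-- the triangle in the bounded derived category attached to a short exact sequence -/
lemma exists_triangle_of_shortExact {S : ShortComplex A} (hS : S.ShortExact) :
    ∃ d : (DEquiv.singleB A).obj S.X₃ ⟶ ((DEquiv.singleB A).obj S.X₁)⟦(1 : ℤ)⟧,
      Triangle.mk ((DEquiv.singleB A).map S.f) ((DEquiv.singleB A).map S.g) d ∈ distTriang (DerivedCategory.Bounded A) := by
  let δ' : (Bounded.ι (C := A)).obj ((DEquiv.singleB A).obj S.X₃) ⟶
      (Bounded.ι (C := A)).obj (((DEquiv.singleB A).obj S.X₁)⟦(1 : ℤ)⟧) :=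
    hS.singleδ ≫ ((Bounded.ι (C := A)).commShiftIso (1 : ℤ)).inv.app ((DEquiv.singleB A).obj S.X₁)
  refine ⟨(Bounded.ι (C := A)).preimage δ', ?_⟩
  change (Bounded.ι (C := A)).mapTriangle.obj _ ∈ distTriang _
  refine isomorphic_distinguished _ hS.singleTriangle_distinguished _ ?_
  refine Triangle.isoMk _ _ (Iso.refl _) (Iso.refl _) (Iso.refl _) ?_ ?_ ?_
  · exact (Category.comp_id _).trans (Category.id_comp _).symm
  · exact (Category.comp_id _).trans (Category.id_comp _).symm
  · have h : ((Bounded.ι (C := A)).map ((Bounded.ι (C := A)).preimage δ')) ≫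
        ((Bounded.ι (C := A)).commShiftIso (1 : ℤ)).hom.app ((DEquiv.singleB A).obj S.X₁) =
        hS.singleδ := by
      rw [Functor.map_preimage]
      dsimp only [δ']
      refine (Category.assoc _ _ _).trans ?_
      refine (congrArg (fun k => hS.singleδ ≫ k)
        (((Bounded.ι (C := A)).commShiftIso (1 : ℤ)).inv_hom_id_app _)).trans ?_
      exact Category.comp_id _
    refine (congrArg (fun k => k ≫ _) h).trans ?_
    refine (congrArg (fun k => hS.singleδ ≫ k) (CategoryTheory.Functor.map_id _ _)).trans ?_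
    exact (Category.comp_id _).trans (Category.id_comp _).symm

theorem eff (X Y : A) (q : ℤ) (hq : 0 ≤ q) (ξ : (DEquiv.singleB A).obj X ⟶ (((DEquiv.singleB A).obj Y)⟦q⟧)⟦(1 : ℤ)⟧) :
    ∃ (N P : A) (f : N ⟶ P) (g : P ⟶ X) (d : (DEquiv.singleB A).obj X ⟶ ((DEquiv.singleB A).obj N)⟦(1 : ℤ)⟧),
      Triangle.mk ((DEquiv.singleB A).map f) ((DEquiv.singleB A).map g) d ∈ distTriang (DerivedCategory.Bounded A) ∧
        (DEquiv.singleB A).map g ≫ ξ = 0 := by
  let e1 : (Bounded.ι (C := A)).obj ((((DEquiv.singleB A).obj Y)⟦q⟧)⟦(1 : ℤ)⟧) ≅ Q.obj ((sg (-(q + 1))).obj Y) :=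
    (Bounded.ι (C := A)).mapIso ((shiftFunctorAdd' (DerivedCategory.Bounded A) q 1 (q + 1) rfl).app ((DEquiv.singleB A).obj Y)).symm ≪≫
      singleIso' Y (q + 1) (-(q + 1)) (by omega)
  obtain ⟨P, π, hπ, hkill⟩ := coefface X Y (-(q + 1)) (by omega)
    ((e0 X).inv ≫ (Bounded.ι (C := A)).map ξ ≫ e1.hom)
  let S : ShortComplex A := ShortComplex.mk (kernel.ι π) π (kernel.condition π)
  have hS : S.ShortExact :=
    { exact := ShortComplex.exact_of_f_is_kernel _ (kernelIsKernel π)
      mono_f := by dsimp [S]; infer_instance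
      epi_g := hπ }
  obtain ⟨d, hd⟩ := exists_triangle_of_shortExact hS
  refine ⟨kernel π, P, kernel.ι π, π, d, hd, ?_⟩
  apply (Bounded.ι (C := A)).map_injective
  rw [Functor.map_zero, Functor.map_comp]
  have h1 := e0_natural π
  have h2 : (Bounded.ι (C := A)).map ((DEquiv.singleB A).map π) = (e0 P).hom ≫ Q.map ((sg 0).map π) ≫ (e0 X).inv := by
    rw [← reassoc_of% h1, Iso.hom_inv_id, Category.comp_id]
  rw [h2, ← cancel_mono e1.hom, zero_comp]
  simp only [Category.assoc]
  rw [hkill, comp_zero]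

end Groth.Agent.Helper10.SibEff

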