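import Mathlib
import Groth.Prelude.Def_W4stkfunctorsequivSib
import Groth.Agent.Lib.Helper10.Postnikov
import Groth.Agent.Lib.Helper10.SibEff

set_option autoImplicit false
set_option linter.unusedSectionVars false

universe w v u

namespace Groth.Agent.Helper10.SibAmp

open CategoryTheory CategoryTheory.Limits CategoryTheory.Pretriangulated DerivedCategory
open Groth.Agent.Helper10.Postnikov Groth.Agent.Helper10.SibEff

variable {A : Type u} [Category.{v} A] [Abelian A] [HasDerivedCategory.{w} A]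

/-- cohomology vanishes above `n` -/
def LE (K : DerivedCategory.Bounded A) (n : ℤ) : Prop :=
  TStructure.t.IsLE ((Bounded.ι (C := A)).obj K) n

/-- cohomology vanishes below `n` -/
def GE (K : DerivedCategory.Bounded A) (n : ℤ) : Prop :=
  TStructure.t.IsGE ((Bounded.ι (C := A)).obj K) n

lemma LE.of_iso {K K' : DerivedCategory.Bounded A} {n : ℤ} (h : LE K n) (e : K ≅ K') : LE K' n := by
  have : TStructure.t.IsLE ((Bounded.ι (C := A)).obj K) n := h
  exact TStructure.t.isLE_of_iso ((Bounded.ι (C := A)).mapIso e) n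

lemma GE.of_iso {K K' : DerivedCategory.Bounded A} {n : ℤ} (h : GE K n) (e : K ≅ K') : GE K' n := by
  have : TStructure.t.IsGE ((Bounded.ι (C := A)).obj K) n := h
  exact TStructure.t.isGE_of_iso ((Bounded.ι (C := A)).mapIso e) n

lemma LE.mono {K : DerivedCategory.Bounded A} {n n' : ℤ} (h : LE K n) (hn : n ≤ n') : LE K n' := by
  have : TStructure.t.IsLE ((Bounded.ι (C := A)).obj K) n := h
  exact TStructure.t.isLE_of_le ((Bounded.ι (C := A)).obj K) n n' hn

lemma GE.mono {K : DerivedCategory.Bounded A} {n n' : ℤ} (h : GE K n) (hn : n' ≤ n) : GE K n' := by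
  have : TStructure.t.IsGE ((Bounded.ι (C := A)).obj K) n := h
  exact TStructure.t.isGE_of_ge ((Bounded.ι (C := A)).obj K) n' n hn

lemma LE.shift {K : DerivedCategory.Bounded A} {n : ℤ} (h : LE K n) (a n' : ℤ) (hn' : a + n' = n) :
    LE (K⟦a⟧) n' := by
  have : TStructure.t.IsLE ((Bounded.ι (C := A)).obj K) n := h
  have : TStructure.t.IsLE (((Bounded.ι (C := A)).obj K)⟦a⟧) n' :=
    TStructure.t.isLE_shift ((Bounded.ι (C := A)).obj K) n a n' hn'
  exact TStructure.t.isLE_of_iso (show ((Bounded.ι (C := A)).obj K)⟦a⟧ ≅ (Bounded.ι (C := A)).obj (K⟦a⟧)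
    from (((Bounded.ι (C := A)).commShiftIso a).app K).symm) n'

lemma GE.shift {K : DerivedCategory.Bounded A} {n : ℤ} (h : GE K n) (a n' : ℤ) (hn' : a + n' = n) :
    GE (K⟦a⟧) n' := by
  have : TStructure.t.IsGE ((Bounded.ι (C := A)).obj K) n := h
  have : TStructure.t.IsGE (((Bounded.ι (C := A)).obj K)⟦a⟧) n' :=
    TStructure.t.isGE_shift ((Bounded.ι (C := A)).obj K) n a n' hn'
  exact TStructure.t.isGE_of_iso (show ((Bounded.ι (C := A)).obj K)⟦a⟧ ≅ (Bounded.ι (C := A)).obj (K⟦a⟧)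
    from (((Bounded.ι (C := A)).commShiftIso a).app K).symm) n'

lemma LE.obj₂ {T : Triangle (DerivedCategory.Bounded A)}
    (hT : T ∈ distTriang (DerivedCategory.Bounded A)) {n : ℤ}
    (h₁ : LE T.obj₁ n) (h₃ : LE T.obj₃ n) : LE T.obj₂ n :=
  TStructure.t.isLE₂ _ ((Bounded.ι (C := A)).map_distinguished _ hT) n h₁ h₃

lemma GE.obj₂ {T : Triangle (DerivedCategory.Bounded A)}
    (hT : T ∈ distTriang (DerivedCategory.Bounded A)) {n : ℤ}
    (h₁ : GE T.obj₁ n) (h₃ : GE T.obj₃ n) : GE T.obj₂ n :=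
  TStructure.t.isGE₂ _ ((Bounded.ι (C := A)).map_distinguished _ hT) n h₁ h₃

lemma homZero_of_LE_GE {K M : DerivedCategory.Bounded A} {n₀ n₁ : ℤ} (hK : LE K n₀) (hM : GE M n₁)
    (h : n₀ < n₁) : HomZero K M := by
  intro ψ
  apply (Bounded.ι (C := A)).map_injective
  rw [Functor.map_zero]
  exact TStructure.t.zero_of_isLE_of_isGE _ n₀ n₁ h hK hM

lemma isZero_of_LE_GE {K : DerivedCategory.Bounded A} {n₀ n₁ : ℤ} (hK : LE K n₀) (hK' : GE K n₁)
    (h : n₀ < n₁) : IsZero K := by
  rw [IsZero.iff_id_eq_zero]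
  exact homZero_of_LE_GE hK hK' h _

lemma LE_of_isZero {K : DerivedCategory.Bounded A} (hK : IsZero K) (n : ℤ) : LE K n :=
  TStructure.t.isLE_of_isZero ((Bounded.ι (C := A)).map_isZero hK) n

lemma GE_of_isZero {K : DerivedCategory.Bounded A} (hK : IsZero K) (n : ℤ) : GE K n :=
  TStructure.t.isGE_of_isZero ((Bounded.ι (C := A)).map_isZero hK) n

lemma LE_single (X : A) (m n : ℤ) (h : m + n = 0) : LE (((DEquiv.singleB A).obj X)⟦m⟧) n := by
  have h0 : LE ((DEquiv.singleB A).obj X) 0 :=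
    (inferInstance : TStructure.t.IsLE ((singleFunctor A 0).obj X) 0)
  exact h0.shift m n h

lemma GE_single (X : A) (m n : ℤ) (h : m + n = 0) : GE (((DEquiv.singleB A).obj X)⟦m⟧) n := by
  have h0 : GE ((DEquiv.singleB A).obj X) 0 :=
    (inferInstance : TStructure.t.IsGE ((singleFunctor A 0).obj X) 0)
  exact h0.shift m n h

lemma exists_single_of_GE_LE {K : DerivedCategory.Bounded A} {b : ℤ} (h₁ : GE K b) (h₂ : LE K b) :
    ∃ X : A, Nonempty (K ≅ ((DEquiv.singleB A).obj X)⟦-b⟧) := by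
  have : TStructure.t.IsGE ((Bounded.ι (C := A)).obj K) b := h₁
  have : TStructure.t.IsLE ((Bounded.ι (C := A)).obj K) b := h₂
  obtain ⟨X, ⟨e⟩⟩ := DerivedCategory.exists_iso_singleFunctor_obj_of_isGE_of_isLE
    ((Bounded.ι (C := A)).obj K) b
  refine ⟨X, ⟨(Bounded.ι (C := A)).preimageIso (e ≪≫ (singleFunctorIsoCompQ A b).app X ≪≫
    (singleIso' X (-b) b (by omega)).symm)⟩⟩


section naturality

local notation "sg" => HomologicalComplex.single A (ComplexShape.up ℤ)

lemma singleIso'_natural {X Y : A} (f : X ⟶ Y) (m a : ℤ) (h : m + a = 0) :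
    (Bounded.ι (C := A)).map (((DEquiv.singleB A).map f)⟦m⟧') ≫ (singleIso' Y m a h).hom =
      (singleIso' X m a h).hom ≫ Q.map ((sg a).map f) := by
  have n1 := ((Bounded.ι (C := A)).commShiftIso m).hom.naturality ((DEquiv.singleB A).map f)
  have n2 := ((singleFunctors A).shiftIso m a 0 h).hom.naturality f
  have n3 := (singleFunctorIsoCompQ A a).hom.naturality f
  simp only [Functor.comp_obj, Functor.comp_map] at n1 n2 n3
  simp only [singleIso', Iso.trans_hom, Iso.app_hom, Category.assoc]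
  rw [reassoc_of% n1]
  erw [reassoc_of% n2, n3]
  rfl

end naturality

end Groth.Agent.Helper10.SibAmp
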