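import Mathlib
import Groth.Prelude.Def_W4stkfunctorsequivSib
import Groth.Agent.Lib.Helper10.Postnikov
import Groth.Agent.Lib.Helper10.SibEff
import Groth.Agent.Lib.Helper10.SibAmp

set_option autoImplicit false
set_option linter.unusedSectionVars false

universe w v u

namespace Groth.Agent.Helper10.SibPres

open CategoryTheory CategoryTheory.Limits CategoryTheory.Pretriangulated DerivedCategory
open Groth.Agent.Helper10.Postnikov Groth.Agent.Helper10.SibEff Groth.Agent.Helper10.SibAmp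

variable {A : Type u} [Category.{v} A] [Abelian A] [HasDerivedCategory.{w} A]

local notation "sg" => HomologicalComplex.single A (ComplexShape.up ℤ)

/-- the triangle attached to a short exact sequence, at shift `m` -/
lemma exists_triangle_of_shortExact_shift {S : ShortComplex A} (hS : S.ShortExact) (m a : ℤ)
    (h : m + a = 0) :
    ∃ d : ((DEquiv.singleB A).obj S.X₃)⟦m⟧ ⟶ (((DEquiv.singleB A).obj S.X₁)⟦m⟧)⟦(1 : ℤ)⟧,
      Triangle.mk (((DEquiv.singleB A).map S.f)⟦m⟧') (((DEquiv.singleB A).map S.g)⟦m⟧') d ∈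
        distTriang (DerivedCategory.Bounded A) := by
  have hS' : (S.map (sg a)).ShortExact := hS.map_of_exact (sg a)
  let e₁ := singleIso' S.X₁ m a h
  let e₂ := singleIso' S.X₂ m a h
  let e₃ := singleIso' S.X₃ m a h
  let δ₀ : Q.obj ((sg a).obj S.X₃) ⟶ (Q.obj ((sg a).obj S.X₁))⟦(1 : ℤ)⟧ := (triangleOfSES hS').mor₃
  let δ' : (Bounded.ι (C := A)).obj (((DEquiv.singleB A).obj S.X₃)⟦m⟧) ⟶
      (Bounded.ι (C := A)).obj ((((DEquiv.singleB A).obj S.X₁)⟦m⟧)⟦(1 : ℤ)⟧) :=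
    e₃.hom ≫ δ₀ ≫ e₁.inv⟦(1 : ℤ)⟧' ≫
      ((Bounded.ι (C := A)).commShiftIso (1 : ℤ)).inv.app (((DEquiv.singleB A).obj S.X₁)⟦m⟧)
  refine ⟨(Bounded.ι (C := A)).preimage δ', ?_⟩
  change (Bounded.ι (C := A)).mapTriangle.obj _ ∈ distTriang _
  refine isomorphic_distinguished _ (triangleOfSES_distinguished hS') _ ?_
  refine Triangle.isoMk _ _ e₁ e₂ e₃ ?_ ?_ ?_
  · exact singleIso'_natural S.f m a h
  · exact singleIso'_natural S.g m a h
  · change ((Bounded.ι (C := A)).map ((Bounded.ι (C := A)).preimage δ') ≫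
        ((Bounded.ι (C := A)).commShiftIso (1 : ℤ)).hom.app _) ≫ e₁.hom⟦(1 : ℤ)⟧' =
      e₃.hom ≫ δ₀
    rw [Functor.map_preimage]
    dsimp only [δ']
    simp only [Category.assoc, Iso.inv_hom_id_app_assoc]
    rw [← Functor.map_comp, Iso.inv_hom_id, CategoryTheory.Functor.map_id, Category.comp_id]


/-- every morphism from a single in degree `b` to a complex strictly below `b` is killed by an
epimorphism onto the single -/
lemma coefface' (X : A) (b : ℤ) (C' : CochainComplex A ℤ) [C'.IsStrictlyLE (b - 1)]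
    (φ : Q.obj ((sg b).obj X) ⟶ Q.obj C') :
    ∃ (P : A) (π : P ⟶ X), Epi π ∧ Q.map ((sg b).map π) ≫ φ = 0 := by
  have : CochainComplex.IsStrictlyLE ((sg b).obj X) b := inferInstance
  obtain ⟨X', hX', s, hs, g, hφ⟩ := right_fac_of_isStrictlyLE φ b
  let P := X'.X b
  let π : P ⟶ X := s.f b ≫ (HomologicalComplex.singleObjXSelf (ComplexShape.up ℤ) b X).hom
  let σ : (sg b).obj P ⟶ X' := HomologicalComplex.mkHomFromSingle (𝟙 _)
    (fun k (hk : b + 1 = k) => (X'.isZero_of_isStrictlyLE b k (by omega)).eq_of_tgt _ _)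
  have h1 : σ ≫ s = (sg b).map π := by
    apply HomologicalComplex.from_single_hom_ext
    rw [HomologicalComplex.comp_f, HomologicalComplex.mkHomFromSingle_f,
      HomologicalComplex.single_map_f_self]
    simp [π]
  have h2 : σ ≫ g = 0 := by
    apply HomologicalComplex.from_single_hom_ext
    apply (C'.isZero_of_isStrictlyLE (b - 1) b (by omega)).eq_of_tgt
  refine ⟨P, π, ?_, ?_⟩
  · apply Preadditive.epi_of_cancel_zero
    intro Z u hu
    have h3 : s ≫ (sg b).map u = 0 := by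
      apply HomologicalComplex.to_single_hom_ext
      rw [HomologicalComplex.comp_f, HomologicalComplex.single_map_f_self,
        HomologicalComplex.zero_f]
      have : s.f b ≫ (HomologicalComplex.singleObjXSelf (ComplexShape.up ℤ) b X).hom ≫ u = 0 := by
        rw [← Category.assoc]; exact hu
      rw [reassoc_of% this, zero_comp]
    have h4 : Q.map ((sg b).map u) = 0 := by
      rw [← cancel_epi (Q.map s), ← Q.map_comp, h3, Q.map_zero, comp_zero]
    have h5 : (singleFunctor A b).map u = 0 := by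
      have nat := (singleFunctorIsoCompQ A b).hom.naturality u
      rw [← cancel_mono ((singleFunctorIsoCompQ A b).hom.app Z), nat]
      simp only [Functor.comp_map, zero_comp]
      erw [h4, comp_zero]
    exact (singleFunctor A b).map_injective (by rw [h5, Functor.map_zero])
  · rw [hφ, ← h1, Q.map_comp, Category.assoc, IsIso.hom_inv_id_assoc, ← Q.map_comp, h2, Q.map_zero]

lemma coefface_gen (N : A) (b : ℤ) (M : DerivedCategory.Bounded A) (hM : LE M (b - 1))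
    (φ : ((DEquiv.singleB A).obj N)⟦-b⟧ ⟶ M) :
    ∃ (N₂ : A) (p : N₂ ⟶ N), Epi p ∧ (((DEquiv.singleB A).map p)⟦-b⟧') ≫ φ = 0 := by
  have : TStructure.t.IsLE ((Bounded.ι (C := A)).obj M) (b - 1) := hM
  obtain ⟨C', hC', ⟨e⟩⟩ := DerivedCategory.exists_iso_Q_obj_of_isLE ((Bounded.ι (C := A)).obj M) (b - 1)
  obtain ⟨N₂, p, hp, hkill⟩ := coefface' N b C'
    ((singleIso' N (-b) b (by omega)).inv ≫ (Bounded.ι (C := A)).map φ ≫ e.hom)
  refine ⟨N₂, p, hp, ?_⟩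
  apply (Bounded.ι (C := A)).map_injective
  rw [Functor.map_zero, Functor.map_comp]
  have h1 := singleIso'_natural p (-b) b (by omega)
  have h2 : (Bounded.ι (C := A)).map (((DEquiv.singleB A).map p)⟦-b⟧') =
      (singleIso' N₂ (-b) b (by omega)).hom ≫ Q.map ((sg b).map p) ≫
        (singleIso' N (-b) b (by omega)).inv := by
    rw [← reassoc_of% h1, Iso.hom_inv_id, Category.comp_id]
  rw [h2, ← cancel_mono e.hom, zero_comp]
  simp only [Category.assoc]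
  rw [hkill, comp_zero]


/-- the top truncation triangle of an object with cohomology in degrees `≤ b` -/
lemma exists_top_trunc (K : DerivedCategory.Bounded A) (b : ℤ) (hK : LE K b) :
    ∃ (M₀ : DerivedCategory.Bounded A) (H : A) (j : M₀ ⟶ K)
      (π : K ⟶ ((DEquiv.singleB A).obj H)⟦-b⟧)
      (o : ((DEquiv.singleB A).obj H)⟦-b⟧ ⟶ M₀⟦(1 : ℤ)⟧),
      Triangle.mk j π o ∈ distTriang (DerivedCategory.Bounded A) ∧ LE M₀ (b - 1) := by
  let X := (Bounded.ι (C := A)).obj K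
  have hXb : TStructure.t.IsLE X b := hK
  obtain ⟨⟨a', ha'⟩, _⟩ := K.property
  have hXa : TStructure.t.IsGE X a' := ha'
  let T := (TStructure.t.triangleLTGE b).obj X
  have hT : T ∈ distTriang (DerivedCategory A) := TStructure.t.triangleLTGE_distinguished b X
  have h1 : TStructure.t.IsLE ((TStructure.t.truncLT b).obj X) (b - 1) := inferInstance
  have h2 : TStructure.t.IsGE ((TStructure.t.truncLT b).obj X) a' := inferInstance
  have h3 : TStructure.t.IsGE ((TStructure.t.truncGE b).obj X) b := inferInstance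
  have h4 : TStructure.t.IsLE ((TStructure.t.truncGE b).obj X) b := inferInstance
  obtain ⟨H, ⟨e⟩⟩ := DerivedCategory.exists_iso_singleFunctor_obj_of_isGE_of_isLE
    ((TStructure.t.truncGE b).obj X) b
  let M₀ : DerivedCategory.Bounded A := ⟨(TStructure.t.truncLT b).obj X, ⟨⟨a', h2⟩, ⟨b - 1, h1⟩⟩⟩
  let eH : (Bounded.ι (C := A)).obj (((DEquiv.singleB A).obj H)⟦-b⟧) ≅
      (TStructure.t.truncGE b).obj X :=
    singleIso' H (-b) b (by omega) ≪≫ ((singleFunctorIsoCompQ A b).app H).symm ≪≫ e.symm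
  let j₀ : (Bounded.ι (C := A)).obj M₀ ⟶ (Bounded.ι (C := A)).obj K := (TStructure.t.truncLTι b).app X
  let π₀ : (Bounded.ι (C := A)).obj K ⟶ (Bounded.ι (C := A)).obj (((DEquiv.singleB A).obj H)⟦-b⟧) :=
    (TStructure.t.truncGEπ b).app X ≫ eH.inv
  let δ₀ : (TStructure.t.truncGE b).obj X ⟶ ((Bounded.ι (C := A)).obj M₀)⟦(1 : ℤ)⟧ :=
    (TStructure.t.truncGEδLT b).app X
  let o₀ : (Bounded.ι (C := A)).obj (((DEquiv.singleB A).obj H)⟦-b⟧) ⟶
      (Bounded.ι (C := A)).obj (M₀⟦(1 : ℤ)⟧) :=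
    eH.hom ≫ δ₀ ≫ ((Bounded.ι (C := A)).commShiftIso (1 : ℤ)).inv.app M₀
  refine ⟨M₀, H, (Bounded.ι (C := A)).preimage j₀, (Bounded.ι (C := A)).preimage π₀,
    (Bounded.ι (C := A)).preimage o₀, ?_, h1⟩
  change (Bounded.ι (C := A)).mapTriangle.obj _ ∈ distTriang _
  refine isomorphic_distinguished _ hT _ ?_
  refine Triangle.isoMk _ _ (Iso.refl _) (Iso.refl _) eH ?_ ?_ ?_
  · change (Bounded.ι (C := A)).map ((Bounded.ι (C := A)).preimage j₀) ≫ 𝟙 _ = 𝟙 _ ≫ j₀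
    rw [Functor.map_preimage, Category.comp_id, Category.id_comp]
  · change (Bounded.ι (C := A)).map ((Bounded.ι (C := A)).preimage π₀) ≫ eH.hom =
      𝟙 _ ≫ (TStructure.t.truncGEπ b).app X
    rw [Functor.map_preimage, Category.id_comp]
    dsimp only [π₀]
    rw [Category.assoc, Iso.inv_hom_id, Category.comp_id]
  · change ((Bounded.ι (C := A)).map ((Bounded.ι (C := A)).preimage o₀) ≫
        ((Bounded.ι (C := A)).commShiftIso (1 : ℤ)).hom.app M₀) ≫ (𝟙 _)⟦(1 : ℤ)⟧' = eH.hom ≫ δ₀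
    rw [Functor.map_preimage, CategoryTheory.Functor.map_id]
    refine (Category.comp_id _).trans ?_
    dsimp only [o₀]
    simp only [Category.assoc, Iso.inv_hom_id_app]
    erw [Category.comp_id]


lemma singleB_full : (DEquiv.singleB A).Full := by
  unfold DEquiv.singleB
  infer_instance

lemma homZero_to_single_of_top {K₂ M₂ : DerivedCategory.Bounded A} {H₂ : A} {b : ℤ}
    {j₂ : M₂ ⟶ K₂} {π₂ : K₂ ⟶ ((DEquiv.singleB A).obj H₂)⟦-b⟧}
    {o₂ : ((DEquiv.singleB A).obj H₂)⟦-b⟧ ⟶ M₂⟦(1 : ℤ)⟧}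
    (dist : Triangle.mk j₂ π₂ o₂ ∈ distTriang (DerivedCategory.Bounded A))
    (hM₂ : LE M₂ (b - 1)) (N : A) (hN : ∀ f : H₂ ⟶ N, f = 0) :
    HomZero K₂ (((DEquiv.singleB A).obj N)⟦-b⟧) := by
  intro φ
  have h1 : j₂ ≫ φ = 0 := homZero_of_LE_GE hM₂ (GE_single N (-b) b (by omega)) (by omega) _
  obtain ⟨ψ, hψ⟩ : ∃ ψ : ((DEquiv.singleB A).obj H₂)⟦-b⟧ ⟶ ((DEquiv.singleB A).obj N)⟦-b⟧,
      φ = π₂ ≫ ψ := Triangle.yoneda_exact₂ _ dist φ h1
  obtain ⟨ψ₀, rfl⟩ := (shiftFunctor (DerivedCategory.Bounded A) (-b)).map_surjective ψ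
  have := singleB_full (A := A)
  obtain ⟨h, rfl⟩ := (DEquiv.singleB A).map_surjective ψ₀
  rw [hψ, hN h, Functor.map_zero, Functor.map_zero, comp_zero]

theorem exists_pres (hneg : ∀ X : A, ∃ (N : A) (p : N ⟶ X), Epi p ∧ ∀ f : X ⟶ N, f = 0)
    (a b : ℤ) (hab : a < b) (K : DerivedCategory.Bounded A) (hKa : GE K a) (hKb : LE K b)
    (K₂ : DerivedCategory.Bounded A) (hK₂ : LE K₂ b)
    (M₁ M₂ : DerivedCategory.Bounded A) (hM₁ : LE M₁ (b - 1)) (hM₂ : LE M₂ (b - 1))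
    (g₁ : K ⟶ M₁) (g₂ : K ⟶ M₂) :
    ∃ (N : A) (L : DerivedCategory.Bounded A) (u : ((DEquiv.singleB A).obj N)⟦-b⟧ ⟶ K) (v : K ⟶ L)
      (w : L ⟶ (((DEquiv.singleB A).obj N)⟦-b⟧)⟦(1 : ℤ)⟧),
      Triangle.mk u v w ∈ distTriang (DerivedCategory.Bounded A) ∧ GE L a ∧ LE L (b - 1) ∧
      HomZero K (((DEquiv.singleB A).obj N)⟦-b⟧) ∧ HomZero K₂ (((DEquiv.singleB A).obj N)⟦-b⟧) ∧
      u ≫ g₁ = 0 ∧ u ≫ g₂ = 0 := by
  obtain ⟨M₀, H, j, π, o, hT, hM₀⟩ := exists_top_trunc K b hKb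
  obtain ⟨M₀', H', j', π', o', hT', hM₀'⟩ := exists_top_trunc K₂ b hK₂
  -- kill the obstruction to lifting
  obtain ⟨N₂, p₂, hp₂, hk₂⟩ := coefface_gen H b (M₀⟦(1 : ℤ)⟧)
    ((hM₀.shift 1 (b - 2) (by omega)).mono (by omega)) o
  obtain ⟨u₂, hu₂⟩ : ∃ u₂ : ((DEquiv.singleB A).obj N₂)⟦-b⟧ ⟶ K,
      ((DEquiv.singleB A).map p₂)⟦-b⟧' = u₂ ≫ π :=
    Triangle.coyoneda_exact₃ _ hT _ hk₂
  obtain ⟨N₃, p₃, hp₃, hk₃⟩ := coefface_gen N₂ b M₁ hM₁ (u₂ ≫ g₁)
  obtain ⟨N₄, p₄, hp₄, hk₄⟩ := coefface_gen N₃ b M₂ hM₂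
    (((DEquiv.singleB A).map p₃)⟦-b⟧' ≫ u₂ ≫ g₂)
  obtain ⟨N, q, hq, hqneg⟩ := hneg (N₄ ⊞ (H ⊞ H'))
  let s₁ : N₄ ⊞ (H ⊞ H') ⟶ H := biprod.snd ≫ biprod.fst
  let s₂ : N₄ ⊞ (H ⊞ H') ⟶ H' := biprod.snd ≫ biprod.snd
  have hs₁ : Epi s₁ := epi_comp _ _
  have hs₂ : Epi s₂ := epi_comp _ _
  have hHN : ∀ f : H ⟶ N, f = 0 := by
    intro f
    have h0 := hqneg (s₁ ≫ f)
    rw [← cancel_epi s₁, h0, comp_zero]
  have hH'N : ∀ f : H' ⟶ N, f = 0 := by
    intro f
    have h0 := hqneg (s₂ ≫ f)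
    rw [← cancel_epi s₂, h0, comp_zero]
  let r : N ⟶ N₂ := q ≫ biprod.fst ≫ p₄ ≫ p₃
  let p : N ⟶ H := r ≫ p₂
  have hp : Epi p := by
    dsimp only [p, r]
    infer_instance
  let u : ((DEquiv.singleB A).obj N)⟦-b⟧ ⟶ K := ((DEquiv.singleB A).map r)⟦-b⟧' ≫ u₂
  have huπ : u ≫ π = ((DEquiv.singleB A).map p)⟦-b⟧' := by
    dsimp only [u, p]
    rw [Category.assoc, ← hu₂, ← Functor.map_comp, ← Functor.map_comp]
  have hr : ((DEquiv.singleB A).map r)⟦-b⟧' =
      ((DEquiv.singleB A).map (q ≫ biprod.fst))⟦-b⟧' ≫ ((DEquiv.singleB A).map p₄)⟦-b⟧' ≫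
        ((DEquiv.singleB A).map p₃)⟦-b⟧' := by
    dsimp only [r]
    rw [← Functor.map_comp, ← Functor.map_comp, ← Functor.map_comp, ← Functor.map_comp]
    simp only [Category.assoc]
  have hug₁ : u ≫ g₁ = 0 := by
    dsimp only [u]
    rw [hr]
    simp only [Category.assoc]
    rw [hk₃, comp_zero, comp_zero]
  have hug₂ : u ≫ g₂ = 0 := by
    dsimp only [u]
    rw [hr]
    simp only [Category.assoc]
    rw [hk₄, comp_zero]
  -- the fibre of `u`
  obtain ⟨Z₁₂, v₁₂, w₁₂, h₁₂⟩ := distinguished_cocone_triangle₁ u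
  -- the short exact sequence of `p`
  let S : ShortComplex A := ShortComplex.mk (kernel.ι p) p (kernel.condition p)
  have hS : S.ShortExact :=
    { exact := ShortComplex.exact_of_f_is_kernel _ (kernelIsKernel p)
      mono_f := by dsimp [S]; infer_instance
      epi_g := hp }
  obtain ⟨d, h₁₃⟩ := exists_triangle_of_shortExact_shift hS (-b) b (by omega)
  have oct := Triangulated.someOctahedron' huπ h₁₂ hT h₁₃
  have hmem := oct.mem
  have hZ₁₂ : LE Z₁₂ b := by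
    have h' := inv_rot_of_distTriang _ hmem
    refine LE.obj₂ h' ?_ ?_
    · exact hM₀.shift (-1) b (by omega)
    · exact LE_single _ (-b) b (by omega)
  refine ⟨N, Z₁₂⟦(1 : ℤ)⟧, u, w₁₂, -v₁₂⟦(1 : ℤ)⟧', rot_of_distTriang _ h₁₂, ?_,
    hZ₁₂.shift 1 (b - 1) (by omega), ?_, ?_, hug₁, hug₂⟩
  · have h' := rot_of_distTriang _ (rot_of_distTriang _ h₁₂)
    refine GE.obj₂ h' hKa ?_
    exact ((GE_single N (-b) b (by omega)).shift 1 (b - 1) (by omega)).mono (by omega)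
  · exact homZero_to_single_of_top hT hM₀ N hHN
  · exact homZero_to_single_of_top hT' hM₀' N hH'N

end Groth.Agent.Helper10.SibPres
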