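import Mathlib
import Groth.Prelude.Def_W4stkfunctorsequivSib
import Groth.Agent.Lib.Helper10.SibBuilt
import Groth.Agent.Lib.Helper10.SibGen
import Groth.Agent.Lib.Helper10.SibEff
import Groth.Agent.Lib.Helper10.SibPres

set_option autoImplicit false
set_option linter.unusedSectionVars false

universe w v u

namespace Groth.Agent.Helper10.CntDb

open CategoryTheory CategoryTheory.Limits CategoryTheory.Pretriangulated DerivedCategory
open ZeroObject
open Groth.Agent.Helper10.SibBuilt Groth.Agent.Helper10.SibGen Groth.Agent.Helper10.SibEff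
  Groth.Agent.Helper10.SibPres

section general

variable {C : Type*} [Category C] [Preadditive C] [HasZeroObject C] [HasShift C ℤ]
  [∀ n : ℤ, (shiftFunctor C n).Additive] [Pretriangulated C]

omit [Preadditive C] [HasZeroObject C] [HasShift C ℤ] [∀ n : ℤ, (shiftFunctor C n).Additive]
  [Pretriangulated C] in
lemma cnt_iso {K L K' L' : C} (h : Countable (K ⟶ L)) (e₁ : K ≅ K') (e₂ : L ≅ L') :
    Countable (K' ⟶ L') :=
  Function.Surjective.countable (f := fun φ : K ⟶ L => e₁.inv ≫ φ ≫ e₂.hom)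
    (fun ψ => ⟨e₁.hom ≫ ψ ≫ e₂.inv, by simp⟩)

omit [HasZeroObject C] [∀ n : ℤ, (shiftFunctor C n).Additive] [Pretriangulated C] [Preadditive C] in
lemma cnt_shift {K L : C} (a : ℤ) (h : Countable (K ⟶ L)) :
    Countable ((shiftFunctor C a).obj K ⟶ (shiftFunctor C a).obj L) :=
  Function.Surjective.countable (f := fun φ : K ⟶ L => (shiftFunctor C a).map φ)
    (shiftFunctor C a).map_surjective

omit [HasZeroObject C] [∀ n : ℤ, (shiftFunctor C n).Additive] [Pretriangulated C] [Preadditive C] in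
lemma cnt_unshift {K L : C} (a : ℤ)
    (h : Countable ((shiftFunctor C a).obj K ⟶ (shiftFunctor C a).obj L)) : Countable (K ⟶ L) :=
  Function.Injective.countable (f := fun φ : K ⟶ L => (shiftFunctor C a).map φ)
    (shiftFunctor C a).map_injective

omit [HasZeroObject C] [HasShift C ℤ] [∀ n : ℤ, (shiftFunctor C n).Additive] [Pretriangulated C] in
lemma cnt_mid {Z X₁ X₂ X₃ : C} (f : X₁ ⟶ X₂) (g : X₂ ⟶ X₃)
    (hex : ∀ φ : Z ⟶ X₂, φ ≫ g = 0 → ∃ ψ : Z ⟶ X₁, φ = ψ ≫ f)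
    (h₁ : Countable (Z ⟶ X₁)) (h₃ : Countable (Z ⟶ X₃)) : Countable (Z ⟶ X₂) := by
  let R := Set.range (fun φ : Z ⟶ X₂ => φ ≫ g)
  have hσ : ∀ y : R, ∃ φ : Z ⟶ X₂, φ ≫ g = y.1 := fun y => y.2
  choose σ hσ' using hσ
  refine Function.Surjective.countable (f := fun x : (Z ⟶ X₁) × R => x.1 ≫ f + σ x.2) ?_
  intro φ
  let y : R := ⟨φ ≫ g, ⟨φ, rfl⟩⟩
  obtain ⟨ψ, hψ⟩ := hex (φ - σ y) (by rw [Preadditive.sub_comp, hσ' y, sub_self])
  exact ⟨(ψ, y), by simp only [← hψ]; abel⟩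

omit [HasZeroObject C] [HasShift C ℤ] [∀ n : ℤ, (shiftFunctor C n).Additive] [Pretriangulated C] in
lemma cnt_mid' {Z X₁ X₂ X₃ : C} (f : X₁ ⟶ X₂) (g : X₂ ⟶ X₃)
    (hex : ∀ φ : X₂ ⟶ Z, f ≫ φ = 0 → ∃ ψ : X₃ ⟶ Z, φ = g ≫ ψ)
    (h₁ : Countable (X₁ ⟶ Z)) (h₃ : Countable (X₃ ⟶ Z)) : Countable (X₂ ⟶ Z) := by
  let R := Set.range (fun φ : X₂ ⟶ Z => f ≫ φ)
  have hσ : ∀ y : R, ∃ φ : X₂ ⟶ Z, f ≫ φ = y.1 := fun y => y.2
  choose σ hσ' using hσ
  refine Function.Surjective.countable (f := fun x : (X₃ ⟶ Z) × R => g ≫ x.1 + σ x.2) ?_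
  intro φ
  let y : R := ⟨f ≫ φ, ⟨φ, rfl⟩⟩
  obtain ⟨ψ, hψ⟩ := hex (φ - σ y) (by rw [Preadditive.comp_sub, hσ' y, sub_self])
  exact ⟨(ψ, y), by simp only [← hψ]; abel⟩

lemma cnt_to_obj₁_shift {T : Triangle C} (hT : T ∈ distTriang C) (Z : C)
    (h₂ : Countable (Z ⟶ (shiftFunctor C (1 : ℤ)).obj T.obj₂)) (h₃ : Countable (Z ⟶ T.obj₃)) :
    Countable (Z ⟶ (shiftFunctor C (1 : ℤ)).obj T.obj₁) :=
  cnt_mid T.mor₃ ((shiftFunctor C (1 : ℤ)).map T.mor₁)
    (fun φ hφ => Triangle.coyoneda_exact₁ T hT φ hφ) h₃ h₂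

lemma cnt_from_obj₁_shift {T : Triangle C} (hT : T ∈ distTriang C) (Z : C)
    (h₂ : Countable ((shiftFunctor C (1 : ℤ)).obj T.obj₂ ⟶ Z)) (h₃ : Countable (T.obj₃ ⟶ Z)) :
    Countable ((shiftFunctor C (1 : ℤ)).obj T.obj₁ ⟶ Z) := by
  refine cnt_mid' T.mor₃ ((shiftFunctor C (1 : ℤ)).map T.mor₁) ?_ h₃ h₂
  intro φ hφ
  obtain ⟨g, hg⟩ : ∃ g : (shiftFunctor C (1 : ℤ)).obj T.obj₂ ⟶ Z,
      φ = (-(shiftFunctor C (1 : ℤ)).map T.mor₁) ≫ g :=
    Triangle.yoneda_exact₃ T.rotate (rot_of_distTriang _ hT) φ hφ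
  refine ⟨-g, ?_⟩
  rw [hg, Preadditive.neg_comp, Preadditive.comp_neg]

end general

section specific

variable {A : Type u} [Category.{v} A] [Abelian A] [HasDerivedCategory.{w} A]

local notation "sg" => HomologicalComplex.single A (ComplexShape.up ℤ)

theorem eff' (X Y : A) (q : ℤ) (hq : 0 ≤ q)
    (ξ : (DEquiv.singleB A).obj X ⟶ (((DEquiv.singleB A).obj Y)⟦q⟧)⟦(1 : ℤ)⟧) :
    ∃ (P : A) (π : P ⟶ X), Epi π ∧ (DEquiv.singleB A).map π ≫ ξ = 0 := by
  let e1 : (Bounded.ι (C := A)).obj ((((DEquiv.singleB A).obj Y)⟦q⟧)⟦(1 : ℤ)⟧) ≅ Q.obj ((sg (-(q + 1))).obj Y) :=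
    (Bounded.ι (C := A)).mapIso ((shiftFunctorAdd' (DerivedCategory.Bounded A) q 1 (q + 1) rfl).app ((DEquiv.singleB A).obj Y)).symm ≪≫
      singleIso' Y (q + 1) (-(q + 1)) (by omega)
  obtain ⟨P, π, hπ, hkill⟩ := coefface X Y (-(q + 1)) (by omega)
    ((e0 X).inv ≫ (Bounded.ι (C := A)).map ξ ≫ e1.hom)
  refine ⟨P, π, hπ, ?_⟩
  apply (Bounded.ι (C := A)).map_injective
  rw [Functor.map_zero, Functor.map_comp]
  have h1 := e0_natural π
  have h2 : (Bounded.ι (C := A)).map ((DEquiv.singleB A).map π) = (e0 P).hom ≫ Q.map ((sg 0).map π) ≫ (e0 X).inv := by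
    rw [← reassoc_of% h1, Iso.hom_inv_id, Category.comp_id]
  rw [h2, ← cancel_mono e1.hom, zero_comp]
  simp only [Category.assoc]
  rw [hkill, comp_zero]

variable (hhom : ∀ X Y : A, Countable (X ⟶ Y)) (e : ℕ → A)
  (he : ∀ X : A, ∃ n : ℕ, Nonempty (X ≅ e n))

include hhom in
lemma cnt_base (X Y : A) : Countable ((DEquiv.singleB A).obj X ⟶ (DEquiv.singleB A).obj Y) := by
  have := singleB_full (A := A)
  have := hhom X Y
  exact Function.Surjective.countable (f := fun φ : X ⟶ Y => (DEquiv.singleB A).map φ)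
    (DEquiv.singleB A).map_surjective

/-- the short exact sequence of an epimorphism -/
noncomputable def sesOf {P X : A} (π : P ⟶ X) : ShortComplex A :=
  ShortComplex.mk (kernel.ι π) π (kernel.condition π)

lemma sesOf_shortExact {P X : A} (π : P ⟶ X) (hπ : Epi π) : (sesOf π).ShortExact :=
  { exact := ShortComplex.exact_of_f_is_kernel _ (kernelIsKernel π)
    mono_f := by dsimp [sesOf]; infer_instance
    epi_g := hπ }

noncomputable def dOf {P X : A} (π : P ⟶ X) (hπ : Epi π) :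
    (DEquiv.singleB A).obj X ⟶ ((DEquiv.singleB A).obj (kernel π))⟦(1 : ℤ)⟧ :=
  (exists_triangle_of_shortExact (sesOf_shortExact π hπ)).choose

lemma dOf_dist {P X : A} (π : P ⟶ X) (hπ : Epi π) :
    Triangle.mk ((DEquiv.singleB A).map (kernel.ι π)) ((DEquiv.singleB A).map π) (dOf π hπ) ∈
      distTriang (DerivedCategory.Bounded A) :=
  (exists_triangle_of_shortExact (sesOf_shortExact π hπ)).choose_spec

include hhom he in
lemma cnt_ext : ∀ (q : ℕ) (X Y : A),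
    Countable ((DEquiv.singleB A).obj X ⟶ ((DEquiv.singleB A).obj Y)⟦(q : ℤ)⟧) := by
  intro q
  induction q with
  | zero =>
    intro X Y
    exact cnt_iso (cnt_base hhom X Y) (Iso.refl _)
      ((shiftFunctorZero (DerivedCategory.Bounded A) ℤ).app _).symm
  | succ q ih =>
    intro X Y
    suffices h : Countable ((DEquiv.singleB A).obj X ⟶
        (((DEquiv.singleB A).obj Y)⟦(q : ℤ)⟧)⟦(1 : ℤ)⟧) from
      cnt_iso h (Iso.refl _) ((shiftFunctorAdd' (DerivedCategory.Bounded A) (q : ℤ) 1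
        ((q + 1 : ℕ) : ℤ) (by push_cast; rfl)).app _).symm
    have := hhom
    have := ih
    classical
    let I := Σ (n : ℕ), Σ (π : e n ⟶ X),
      ((DEquiv.singleB A).obj (kernel π) ⟶ ((DEquiv.singleB A).obj Y)⟦(q : ℤ)⟧)
    let Φ : I → ((DEquiv.singleB A).obj X ⟶ (((DEquiv.singleB A).obj Y)⟦(q : ℤ)⟧)⟦(1 : ℤ)⟧) :=
      fun x => if h : Epi x.2.1 then dOf x.2.1 h ≫ (shiftFunctor _ (1 : ℤ)).map x.2.2 else 0
    refine Function.Surjective.countable (f := Φ) ?_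
    intro ξ
    obtain ⟨P, π₀, hπ₀, hkill⟩ := eff' X Y (q : ℤ) (by omega) ξ
    obtain ⟨n, ⟨ι⟩⟩ := he P
    let π : e n ⟶ X := ι.inv ≫ π₀
    have hπ : Epi π := epi_comp _ _
    have hk : (DEquiv.singleB A).map π ≫ ξ = 0 := by
      rw [Functor.map_comp, Category.assoc, hkill, comp_zero]
    obtain ⟨g, hg⟩ : ∃ g : ((DEquiv.singleB A).obj (kernel π))⟦(1 : ℤ)⟧ ⟶
        (((DEquiv.singleB A).obj Y)⟦(q : ℤ)⟧)⟦(1 : ℤ)⟧, ξ = dOf π hπ ≫ g :=
      Triangle.yoneda_exact₃ _ (dOf_dist π hπ) ξ hk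
    obtain ⟨ξ', rfl⟩ := (shiftFunctor (DerivedCategory.Bounded A) (1 : ℤ)).map_surjective g
    refine ⟨⟨n, π, ξ'⟩, ?_⟩
    show (if h : Epi π then dOf π h ≫ (shiftFunctor _ (1 : ℤ)).map ξ' else 0) = ξ
    rw [dif_pos hπ, hg]

include hhom he in
lemma cnt_single (X Y : A) (m n : ℤ) :
    Countable (((DEquiv.singleB A).obj X)⟦m⟧ ⟶ ((DEquiv.singleB A).obj Y)⟦n⟧) := by
  suffices h : Countable ((DEquiv.singleB A).obj X ⟶ ((DEquiv.singleB A).obj Y)⟦n - m⟧) from
    cnt_iso (cnt_shift m h) (Iso.refl _)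
      ((shiftFunctorAdd' (DerivedCategory.Bounded A) (n - m) m n (by omega)).app _).symm
  by_cases hq : n - m < 0
  · have : Subsingleton ((DEquiv.singleB A).obj X ⟶ ((DEquiv.singleB A).obj Y)⟦n - m⟧) :=
      ⟨fun a b => by rw [negAll X Y (n - m) hq a, negAll X Y (n - m) hq b]⟩
    infer_instance
  · obtain ⟨q, hq'⟩ := Int.eq_ofNat_of_zero_le (by omega : 0 ≤ n - m)
    rw [hq']
    exact cnt_ext hhom e he q X Y

include hhom he in
lemma cnt_built_right (n : ℤ) (L : DerivedCategory.Bounded A) (hL : Built (DEquiv.singleB A) n L) :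
    ∀ (X : A) (m : ℤ), Countable (((DEquiv.singleB A).obj X)⟦m⟧ ⟶ L) := by
  induction hL with
  | single K Y ε =>
    intro X m
    exact cnt_iso (cnt_single hhom e he X Y m n) (Iso.refl _) ε.symm
  | step K L' Y p δ r dist hL' ih =>
    intro X m
    apply cnt_unshift (1 : ℤ)
    refine cnt_to_obj₁_shift dist _ ?_ ?_
    · have h := cnt_single hhom e he X Y (m + 1) (n + 1)
      exact cnt_iso h ((shiftFunctorAdd' (DerivedCategory.Bounded A) m 1 (m + 1) rfl).app _)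
        ((shiftFunctorAdd' (DerivedCategory.Bounded A) n 1 (n + 1) rfl).app _)
    · exact cnt_iso (ih X (m + 1))
        ((shiftFunctorAdd' (DerivedCategory.Bounded A) m 1 (m + 1) rfl).app _) (Iso.refl _)

/-- the hypothesis on the target -/
def HR (L : DerivedCategory.Bounded A) : Prop :=
  ∀ (X : A) (m : ℤ), Countable (((DEquiv.singleB A).obj X)⟦m⟧ ⟶ L)

lemma HR_shift {L : DerivedCategory.Bounded A} (h : HR L) : HR (L⟦(1 : ℤ)⟧) := by
  intro X m
  have h1 := cnt_shift (1 : ℤ) (h X (m - 1))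
  exact cnt_iso h1 ((shiftFunctorAdd' (DerivedCategory.Bounded A) (m - 1) 1 m (by omega)).app _).symm
    (Iso.refl _)

lemma cnt_built_left (m : ℤ) (K : DerivedCategory.Bounded A) (hK : Built (DEquiv.singleB A) m K) :
    ∀ (L : DerivedCategory.Bounded A), HR L → Countable (K ⟶ L) := by
  induction hK with
  | single K Y ε =>
    intro L hL
    exact cnt_iso (hL Y m) ε.symm (Iso.refl _)
  | step K L' Y p δ r dist hL' ih =>
    intro L hL
    apply cnt_unshift (1 : ℤ)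
    refine cnt_from_obj₁_shift dist _ ?_ ?_
    · exact cnt_shift (1 : ℤ) (hL Y m)
    · exact ih _ (HR_shift hL)

include hhom he in
theorem cnt_hom (K L : DerivedCategory.Bounded A) : Countable (K ⟶ L) := by
  rcases isZero_or_built K with hK | ⟨m, hK⟩
  · have : Subsingleton (K ⟶ L) := ⟨fun a b => hK.eq_of_src a b⟩
    infer_instance
  rcases isZero_or_built L with hL | ⟨n, hL⟩
  · have : Subsingleton (K ⟶ L) := ⟨fun a b => hL.eq_of_tgt a b⟩
    infer_instance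
  exact cnt_built_left m K hK L (cnt_built_right hhom e he n L hL)

/-- depth-indexed version of `Built` -/
inductive BuiltN (m : ℤ) : ℕ → DerivedCategory.Bounded A → Prop
  | single (K : DerivedCategory.Bounded A) (X : A) (ε : K ≅ ((DEquiv.singleB A).obj X)⟦m⟧) :
      BuiltN m 0 K
  | step (N : ℕ) (K L : DerivedCategory.Bounded A) (X : A)
      (p : K ⟶ ((DEquiv.singleB A).obj X)⟦m⟧) (δ : ((DEquiv.singleB A).obj X)⟦m⟧ ⟶ L)
      (r : L ⟶ K⟦(1 : ℤ)⟧)
      (dist : Triangle.mk p δ r ∈ distTriang (DerivedCategory.Bounded A)) (hL : BuiltN m N L) :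
      BuiltN m (N + 1) K

lemma builtN_of_built (m : ℤ) (K : DerivedCategory.Bounded A)
    (hK : Built (DEquiv.singleB A) m K) : ∃ N, BuiltN m N K := by
  induction hK with
  | single K X ε => exact ⟨0, BuiltN.single K X ε⟩
  | step K L X p δ r dist hL ih =>
    obtain ⟨N, hN⟩ := ih
    exact ⟨N + 1, BuiltN.step N K L X p δ r dist hN⟩

/-- isomorphism classes -/
abbrev Cl (A : Type u) [Category.{v} A] [Abelian A] [HasDerivedCategory.{w} A] :=
  Quotient (isIsomorphicSetoid (DerivedCategory.Bounded A))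

noncomputable def clOf (K : DerivedCategory.Bounded A) : Cl A := Quotient.mk _ K

lemma clOf_eq_of_iso {K L : DerivedCategory.Bounded A} (ε : K ≅ L) : clOf K = clOf L :=
  Quotient.sound ⟨ε⟩

lemma iso_of_clOf_eq {K L : DerivedCategory.Bounded A} (h : clOf K = clOf L) : Nonempty (K ≅ L) :=
  Quotient.exact h

lemma out_iso (K : DerivedCategory.Bounded A) : Nonempty (K ≅ (clOf K).out) :=
  iso_of_clOf_eq (Quotient.out_eq (clOf K)).symm

/-- classes of objects built in `N` steps -/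
def SN (m : ℤ) (N : ℕ) : Set (Cl A) := {c | ∃ K, BuiltN m N K ∧ clOf K = c}

include hhom he in
lemma SN_countable (m : ℤ) : ∀ N : ℕ, (SN (A := A) m N).Countable := by
  intro N
  induction N with
  | zero =>
    refine (Set.countable_range (fun n : ℕ => clOf (((DEquiv.singleB A).obj (e n))⟦m⟧))).mono ?_
    rintro c ⟨K, hK, rfl⟩
    cases hK with
    | single K X ε =>
      obtain ⟨n, ⟨ι⟩⟩ := he X
      exact ⟨n, (clOf_eq_of_iso (ε ≪≫ (shiftFunctor _ m).mapIso ((DEquiv.singleB A).mapIso ι))).symm⟩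
  | succ N ih =>
    have : Countable (SN (A := A) m N) := ih.to_subtype
    have := fun K L => cnt_hom hhom e he (A := A) K L
    let J := Σ (n : ℕ), Σ (c : SN (A := A) m N),
      (((DEquiv.singleB A).obj (e n))⟦m⟧ ⟶ (c : Cl A).out)
    let Ψ : J → Cl A := fun x => clOf (distinguished_cocone_triangle₁ x.2.2).choose
    refine (Set.countable_range Ψ).mono ?_
    rintro c ⟨K, hK, rfl⟩
    cases hK with
    | step _ K L X p δ r dist hL =>
      obtain ⟨n, ⟨ι⟩⟩ := he X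
      obtain ⟨εL⟩ := out_iso L
      let cL : SN (A := A) m N := ⟨clOf L, ⟨L, hL, rfl⟩⟩
      let e₁ : ((DEquiv.singleB A).obj X)⟦m⟧ ≅ ((DEquiv.singleB A).obj (e n))⟦m⟧ :=
        (shiftFunctor _ m).mapIso ((DEquiv.singleB A).mapIso ι)
      let δ' : ((DEquiv.singleB A).obj (e n))⟦m⟧ ⟶ (cL : Cl A).out := e₁.inv ≫ δ ≫ εL.hom
      refine ⟨⟨n, cL, δ'⟩, ?_⟩
      obtain ⟨f', h', dist'⟩ := (distinguished_cocone_triangle₁ δ').choose_spec
      have comm : δ ≫ εL.hom = e₁.hom ≫ δ' := by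
        simp only [δ', Iso.hom_inv_id_assoc]
      let φ := isoTriangleOfIso₁₂ _ _ (rot_of_distTriang _ dist) (rot_of_distTriang _ dist')
        e₁ εL comm
      let φ₃ : K⟦(1 : ℤ)⟧ ≅ ((distinguished_cocone_triangle₁ δ').choose)⟦(1 : ℤ)⟧ :=
        Triangle.π₃.mapIso φ
      exact (clOf_eq_of_iso ((shiftFunctor _ (1 : ℤ)).preimageIso φ₃)).symm

include hhom he in
theorem countable_Cl : Countable (Cl A) := by
  let U : Set (Cl A) := {clOf 0} ∪ ⋃ (m : ℤ), ⋃ (N : ℕ), SN m N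
  have hU : U.Countable :=
    (Set.countable_singleton _).union
      (Set.countable_iUnion (fun m => Set.countable_iUnion (fun N => SN_countable hhom e he m N)))
  have huniv : U = Set.univ := by
    apply Set.eq_univ_of_forall
    intro c
    obtain ⟨K, rfl⟩ := Quotient.exists_rep c
    rcases isZero_or_built K with hK | ⟨m, hK⟩
    · left
      exact clOf_eq_of_iso (hK.iso (isZero_zero _))
    · right
      obtain ⟨N, hN⟩ := builtN_of_built m K hK
      exact Set.mem_iUnion.2 ⟨m, Set.mem_iUnion.2 ⟨N, ⟨K, hN, rfl⟩⟩⟩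
  rw [huniv] at hU
  exact Set.countable_univ_iff.1 hU

include hhom he in
theorem exists_enum : ∃ E : ℕ → DerivedCategory.Bounded A,
    ∀ K : DerivedCategory.Bounded A, ∃ n : ℕ, Nonempty (K ≅ E n) := by
  have := countable_Cl hhom e he (A := A)
  have : Nonempty (Cl A) := ⟨clOf 0⟩
  obtain ⟨f, hf⟩ := exists_surjective_nat (Cl A)
  refine ⟨fun n => (f n).out, fun K => ?_⟩
  obtain ⟨n, hn⟩ := hf (clOf K)
  refine ⟨n, ?_⟩
  show Nonempty (K ≅ (f n).out)
  rw [hn]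
  exact out_iso K

end specific

end Groth.Agent.Helper10.CntDb
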