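import Mathlib

/-!
# Sections over "quasi-compact" objects commute with filtered colimits of sheaves of sets

A general site-theoretic statement: if every covering sieve of an object of a class `B` contains a
finite covering family whose pairwise fibre products lie in `B`, then for `U ∈ B` the functor of
sections over `U` on sheaves of sets preserves filtered colimits.
-/

set_option autoImplicit false
set_option linter.style.haveILetI false
set_option linter.unusedSectionVars false

namespace Groth.Agent.Helper10.ColimSec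

open CategoryTheory CategoryTheory.Limits Opposite

universe w w' v u

/-- finitely many morphisms out of `i` can be equalised by a single morphism out of `i` -/
lemma exists_common {I : Type w} [Category.{w'} I] [IsFiltered I] {i : I} {M : Type} [Finite M] (j : M → I) (f : ∀ m, i ⟶ j m) :
    ∃ (S : I) (g : i ⟶ S) (h : ∀ m, j m ⟶ S), ∀ m, f m ≫ h m = g := by
  classical
  haveI := Fintype.ofFinite M
  let O : Finset I := insert i (Finset.univ.image j)
  have hi : i ∈ O := Finset.mem_insert_self _ _
  have hj : ∀ m, j m ∈ O := fun m =>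
    Finset.mem_insert_of_mem (Finset.mem_image_of_mem _ (Finset.mem_univ m))
  let H : Finset (Σ' (X Y : I) (_ : X ∈ O) (_ : Y ∈ O), X ⟶ Y) :=
    Finset.univ.image (fun m => ⟨i, j m, hi, hj m, f m⟩)
  obtain ⟨S, T, w⟩ := IsFiltered.sup_exists O H
  refine ⟨S, T hi, fun m => T (hj m), fun m => ?_⟩
  exact w hi (hj m) (Finset.mem_image_of_mem _ (Finset.mem_univ m))



variable {C : Type u} [Category.{v} C] (J : GrothendieckTopology C) [HasPullbacks C]

/-- the finiteness condition on the class `B` of objects -/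
def FinCov (B : Set C) : Prop :=
  ∀ V ∈ B, ∀ T ∈ J V, ∃ (K : Type) (_ : Finite K) (Y : K → C) (g : ∀ k, Y k ⟶ V),
    (∀ k, T (g k)) ∧ Sieve.generate (Presieve.ofArrows Y g) ∈ J V ∧
      ∀ k l, pullback (g k) (g l) ∈ B

section Shf

variable {J} {B : Set C} (hB : FinCov J B) (P : Cᵒᵖ ⥤ Type (max u v))
  (hsep : ∀ (V : C) (K : Type) (_ : Finite K) (Y : K → C) (g : ∀ k, Y k ⟶ V),
      Sieve.generate (Presieve.ofArrows Y g) ∈ J V → ∀ s s' : P.obj (op V),
      (∀ k, P.map (g k).op s = P.map (g k).op s') → s = s')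
  (hglue : ∀ (V : C) (K : Type) (_ : Finite K) (Y : K → C) (g : ∀ k, Y k ⟶ V),
      Sieve.generate (Presieve.ofArrows Y g) ∈ J V → ∀ x : ∀ k, P.obj (op (Y k)),
      Presieve.Arrows.PullbackCompatible P g x → ∃ s : P.obj (op V), ∀ k, P.map (g k).op s = x k)

include hB hsep in
lemma toSheafify_app_injective (V : C) (hV : V ∈ B) :
    Function.Injective ((toSheafify J P).app (op V)) := by
  intro s s' h
  have hm := Presheaf.equalizerSieve_mem J (toSheafify J P) (X := op V) s s' h
  obtain ⟨K, hK, Y, g, hT, hcov, -⟩ := hB V hV _ hm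
  exact hsep V K hK Y g hcov s s' (fun k => hT k)

include hB hsep hglue in
lemma toSheafify_app_surjective (V : C) (hV : V ∈ B) :
    Function.Surjective ((toSheafify J P).app (op V)) := by
  intro t
  have hm := Presheaf.imageSieve_mem J (toSheafify J P) (U := op V) t
  obtain ⟨K, hK, Y, g, hT, hcov, hpb⟩ := hB V hV _ hm
  choose x hx using hT
  have nat : ∀ {W W' : C} (q : W' ⟶ W) (y : P.obj (op W)),
      (toSheafify J P).app (op W') (P.map q.op y) =
        (sheafify J P).map q.op ((toSheafify J P).app (op W) y) := fun q y =>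
    congrArg (fun m => m y) ((toSheafify J P).naturality q.op)
  have hx' : ∀ k, (toSheafify J P).app (op (Y k)) (x k) = (sheafify J P).map (g k).op t := hx
  have hcomp : Presieve.Arrows.PullbackCompatible P g x := by
    intro k l
    apply toSheafify_app_injective hB P hsep _ (hpb k l)
    rw [nat, nat, hx' k, hx' l, ← Functor.map_comp_apply, ← Functor.map_comp_apply,
      ← op_comp, ← op_comp, pullback.condition]
  obtain ⟨t', ht'⟩ := hglue V K hK Y g hcov x hcomp
  refine ⟨t', ?_⟩
  have hsh : Presieve.IsSheaf J (sheafify J P) :=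
    (isSheaf_iff_isSheaf_of_type J _).1 ((presheafToSheaf J (Type (max u v))).obj P).property
  refine (hsh _ hcov).isSeparatedFor.ext ?_
  rintro W _ ⟨Z, a, _, ⟨k⟩, rfl⟩
  rw [op_comp, Functor.map_comp_apply, Functor.map_comp_apply, ← nat, ht' k, hx' k]

include hB hsep hglue in
theorem toSheafify_app_bijective (V : C) (hV : V ∈ B) :
    Function.Bijective ((toSheafify J P).app (op V)) :=
  ⟨toSheafify_app_injective hB P hsep V hV, toSheafify_app_surjective hB P hsep hglue V hV⟩

end Shf

section Filtered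

variable {I : Type (max u v)} [SmallCategory I] [IsFiltered I]

variable (D : I ⥤ (Cᵒᵖ ⥤ Type (max u v))) (E : Cocone D) (hE : IsColimit E)

/-- the evaluated cocone is a colimit -/
noncomputable def isColimitEval (V : C) :
    IsColimit (((evaluation Cᵒᵖ (Type (max u v))).obj (op V)).mapCocone E) :=
  isColimitOfPreserves _ hE

include hE in
lemma exists_rep {M : Type} [Finite M] (Z : M → C) (x : ∀ m, E.pt.obj (op (Z m))) :
    ∃ (i : I) (a : ∀ m, (D.obj i).obj (op (Z m))), ∀ m, (E.ι.app i).app (op (Z m)) (a m) = x m := by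
  classical
  haveI := Fintype.ofFinite M
  have h1 : ∀ m, ∃ (i : I) (a : (D.obj i).obj (op (Z m))), (E.ι.app i).app (op (Z m)) a = x m :=
    fun m => Types.jointly_surjective_of_isColimit (isColimitEval D E hE (Z m)) (x m)
  choose i₀ a₀ h₀ using h1
  obtain ⟨S, hS⟩ := IsFiltered.sup_objs_exists (Finset.univ.image i₀)
  have hm : ∀ m, i₀ m ∈ Finset.univ.image i₀ := fun m =>
    Finset.mem_image_of_mem _ (Finset.mem_univ m)
  refine ⟨S, fun m => (D.map (hS (hm m)).some).app (op (Z m)) (a₀ m), fun m => ?_⟩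
  have := congrArg (fun t => t.app (op (Z m)) (a₀ m)) (E.w (hS (hm m)).some)
  exact this.trans (h₀ m)

include hE in
lemma exists_eq {M : Type} [Finite M] (Z : M → C) (i : I)
    (a b : ∀ m, (D.obj i).obj (op (Z m)))
    (h : ∀ m, (E.ι.app i).app (op (Z m)) (a m) = (E.ι.app i).app (op (Z m)) (b m)) :
    ∃ (j : I) (f : i ⟶ j), ∀ m, (D.map f).app (op (Z m)) (a m) = (D.map f).app (op (Z m)) (b m) := by
  have h1 : ∀ m, ∃ (j : I) (f : i ⟶ j),
      (D.map f).app (op (Z m)) (a m) = (D.map f).app (op (Z m)) (b m) := fun m =>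
    (Types.FilteredColimit.isColimit_eq_iff' (isColimitEval D E hE (Z m)) (a m) (b m)).1 (h m)
  choose j₀ f₀ h₀ using h1
  obtain ⟨S, g, q, hq⟩ := exists_common j₀ f₀
  refine ⟨S, g, fun m => ?_⟩
  rw [← hq m, Functor.map_comp]
  exact congrArg ((D.map (q m)).app (op (Z m))) (h₀ m)

end Filtered

section Main

variable {J} {I : Type (max u v)} [SmallCategory I] [IsFiltered I]
  (F : I ⥤ Sheaf J (Type (max u v))) (E : Cocone (F ⋙ sheafToPresheaf J (Type (max u v))))
  (hE : IsColimit E)

lemma sheafFor (i : I) {V : C} {K : Type} (Y : K → C) (g : ∀ k, Y k ⟶ V)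
    (hcov : Sieve.generate (Presieve.ofArrows Y g) ∈ J V) :
    Presieve.IsSheafFor (F.obj i).obj (Presieve.ofArrows Y g) :=
  (Presieve.isSheafFor_iff_generate _).2
    (((isSheaf_iff_isSheaf_of_type J _).1 (F.obj i).property) _ hcov)

lemma leg_nat (i : I) {W W' : C} (q : W' ⟶ W) (y : (F.obj i).obj.obj (op W)) :
    (E.ι.app i).app (op W') ((F.obj i).obj.map q.op y) =
      E.pt.map q.op ((E.ι.app i).app (op W) y) :=
  congrArg (fun m => m y) ((E.ι.app i).naturality q.op)

lemma trans_nat {i j : I} (f : i ⟶ j) {W W' : C} (q : W' ⟶ W) (y : (F.obj i).obj.obj (op W)) :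
    ((F ⋙ sheafToPresheaf J (Type (max u v))).map f).app (op W') ((F.obj i).obj.map q.op y) =
      (F.obj j).obj.map q.op (((F ⋙ sheafToPresheaf J (Type (max u v))).map f).app (op W) y) :=
  congrArg (fun m => m y) (((F ⋙ sheafToPresheaf J (Type (max u v))).map f).naturality q.op)

lemma leg_trans {i j : I} (f : i ⟶ j) (W : C) (y : (F.obj i).obj.obj (op W)) :
    (E.ι.app j).app (op W) (((F ⋙ sheafToPresheaf J (Type (max u v))).map f).app (op W) y) =
      (E.ι.app i).app (op W) y :=
  congrArg (fun t => t.app (op W) y) (E.w f)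

include hE in
lemma colim_sep (V : C) (K : Type) (hK : Finite K) (Y : K → C) (g : ∀ k, Y k ⟶ V)
    (hcov : Sieve.generate (Presieve.ofArrows Y g) ∈ J V) (s s' : E.pt.obj (op V))
    (h : ∀ k, E.pt.map (g k).op s = E.pt.map (g k).op s') : s = s' := by
  obtain ⟨i, a, a', rfl, rfl⟩ :=
    Types.FilteredColimit.jointly_surjective_of_isColimit₂ (isColimitEval _ E hE V) s s'
  obtain ⟨j, f, hj⟩ := exists_eq _ E hE Y i (fun k => (F.obj i).obj.map (g k).op a)
    (fun k => (F.obj i).obj.map (g k).op a') (fun k => by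
      rw [leg_nat, leg_nat]
      exact h k)
  have e : ((F ⋙ sheafToPresheaf J (Type (max u v))).map f).app (op V) a =
      ((F ⋙ sheafToPresheaf J (Type (max u v))).map f).app (op V) a' := by
    refine (sheafFor F j Y g hcov).isSeparatedFor.ext ?_
    rintro _ _ ⟨k⟩
    rw [← trans_nat, ← trans_nat]
    exact hj k
  show (E.ι.app i).app (op V) a = (E.ι.app i).app (op V) a'
  rw [← leg_trans F E f, ← leg_trans F E f, e]

include hE in
lemma colim_glue (V : C) (K : Type) (hK : Finite K) (Y : K → C) (g : ∀ k, Y k ⟶ V)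
    (hcov : Sieve.generate (Presieve.ofArrows Y g) ∈ J V) (x : ∀ k, E.pt.obj (op (Y k)))
    (hx : Presieve.Arrows.PullbackCompatible E.pt g x) :
    ∃ s : E.pt.obj (op V), ∀ k, E.pt.map (g k).op s = x k := by
  obtain ⟨i, a, ha⟩ := exists_rep _ E hE Y x
  obtain ⟨j, f, hj⟩ := exists_eq _ E hE (fun kl : K × K => pullback (g kl.1) (g kl.2)) i
    (fun kl => (F.obj i).obj.map (pullback.fst (g kl.1) (g kl.2)).op (a kl.1))
    (fun kl => (F.obj i).obj.map (pullback.snd (g kl.1) (g kl.2)).op (a kl.2)) (fun kl => by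
      rw [leg_nat, leg_nat, ha, ha]
      exact hx kl.1 kl.2)
  obtain ⟨t, ht, -⟩ := (Presieve.isSheafFor_arrows_iff_pullbacks _ _).1 (sheafFor F j Y g hcov)
    (fun k => ((F ⋙ sheafToPresheaf J (Type (max u v))).map f).app (op (Y k)) (a k)) (fun k l => by
      rw [← trans_nat, ← trans_nat]
      exact hj (k, l))
  refine ⟨(E.ι.app j).app (op V) t, fun k => ?_⟩
  rw [← leg_nat, ht k, leg_trans, ha]

include hE in
theorem isColimit_sections {B : Set C} (hB : FinCov J B) (U : C) (hU : U ∈ B) :
    Nonempty (IsColimit ((sheafToPresheaf J (Type (max u v)) ⋙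
      (evaluation Cᵒᵖ (Type (max u v))).obj (op U)).mapCocone (Sheaf.sheafifyCocone E))) := by
  have hbij := toSheafify_app_bijective hB E.pt (colim_sep F E hE) (colim_glue F E hE) U hU
  have hEU := isColimitEval _ E hE U
  have hm : IsIso ((toSheafify J E.pt).app (op U)) := (isIso_iff_bijective _).2 hbij
  refine ⟨IsColimit.ofIsoColimit hEU
    (Cocone.ext (@asIso _ _ _ _ ((toSheafify J E.pt).app (op U)) hm) (fun i => ?_))⟩
  have h := congrArg (fun t => t.app (op U)) (Sheaf.sheafifyCocone_ι_app_val E i)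
  exact h.symm

theorem preservesColimit_sections {B : Set C} (hB : FinCov J B) (U : C) (hU : U ∈ B) :
    PreservesColimit F (sheafToPresheaf J (Type (max u v)) ⋙
      (evaluation Cᵒᵖ (Type (max u v))).obj (op U)) := by
  let E₀ := colimit.cocone (F ⋙ sheafToPresheaf J (Type (max u v)))
  have hE₀ : IsColimit E₀ := colimit.isColimit _
  obtain ⟨h⟩ := isColimit_sections F E₀ hE₀ hB U hU
  exact preservesColimit_of_preserves_colimit_cocone (Sheaf.isColimitSheafifyCocone E₀ hE₀) h

end Main

end Groth.Agent.Helper10.ColimSec
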