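import Mathlib

/-!
# Chains of retrocompact opens adapted to finitely many constructible sets
-/

set_option autoImplicit false
set_option linter.unusedSectionVars false

open Topology Set

namespace Groth.Agent.Helper10.ConsChain

variable {X : Type*} [TopologicalSpace X]

/-- `D` is contained in `C` or disjoint from it. -/
def Decides (D C : Set X) : Prop := D ⊆ C ∨ Disjoint D C

lemma Decides.mono {D D' C : Set X} (h : Decides D C) (hD : D' ⊆ D) : Decides D' C :=
  h.elim (fun h => Or.inl (hD.trans h)) (fun h => Or.inr (h.mono_left hD))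

lemma Decides.compl {D C : Set X} (h : Decides D C) : Decides D Cᶜ :=
  h.elim (fun h => Or.inr (disjoint_compl_right_iff_subset.2 h))
    (fun h => Or.inl h.subset_compl_right)

lemma Decides.union {D C₁ C₂ : Set X} (h₁ : Decides D C₁) (h₂ : Decides D C₂) :
    Decides D (C₁ ∪ C₂) := by
  rcases h₁ with h₁ | h₁
  · exact Or.inl (h₁.trans subset_union_left)
  rcases h₂ with h₂ | h₂
  · exact Or.inl (h₂.trans subset_union_right)
  · exact Or.inr (disjoint_union_right.2 ⟨h₁, h₂⟩)

/-- A constructible set is decided by every set decided by a suitable finite family of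
retrocompact opens. -/
lemma exists_list_decides {C : Set X} (hC : IsConstructible C) :
    ∃ L : List (Set X), (∀ O ∈ L, IsOpen O ∧ IsRetrocompact O) ∧
      ∀ D : Set X, (∀ O ∈ L, Decides D O) → Decides D C := by
  induction hC using IsConstructible.empty_union_induction with
  | open_retrocompact U hUo hUc =>
    refine ⟨[U], ?_, fun D h => h U (List.mem_singleton.2 rfl)⟩
    intro O hO
    rw [List.mem_singleton] at hO
    subst hO
    exact ⟨hUo, hUc⟩
  | union s hs t ht hs' ht' =>
    obtain ⟨L₁, h₁, h₁'⟩ := hs'
    obtain ⟨L₂, h₂, h₂'⟩ := ht'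
    refine ⟨L₁ ++ L₂, ?_, ?_⟩
    · intro O hO
      rcases List.mem_append.1 hO with h | h
      · exact h₁ O h
      · exact h₂ O h
    · intro D hD
      exact (h₁' D fun O hO => hD O (List.mem_append.2 (Or.inl hO))).union
        (h₂' D fun O hO => hD O (List.mem_append.2 (Or.inr hO)))
  | compl s hs hs' =>
    obtain ⟨L, h, h'⟩ := hs'
    exact ⟨L, h, fun D hD => (h' D hD).compl⟩

/-- An increasing chain of retrocompact opens from `∅` to `univ`. -/
structure IsChain (W : ℕ → Set X) (N : ℕ) : Prop where
  isOpen : ∀ k, IsOpen (W k)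
  retro : ∀ k, IsRetrocompact (W k)
  zero : W 0 = ∅
  top : W N = univ
  mono : ∀ k, W k ⊆ W (k + 1)

lemma exists_chain_list (L : List (Set X)) (hL : ∀ O ∈ L, IsOpen O ∧ IsRetrocompact O) :
    ∃ (N : ℕ) (W : ℕ → Set X), 0 < N ∧ IsChain W N ∧
      ∀ k < N, ∀ O ∈ L, Decides (W (k + 1) \ W k) O := by
  induction L with
  | nil =>
    refine ⟨1, fun k => if k = 0 then ∅ else univ, Nat.one_pos, ?_, ?_⟩
    · refine ⟨?_, ?_, ?_, ?_, ?_⟩
      · intro k
        by_cases hk : k = 0
        · simp [hk]
        · simp [hk]
      · intro k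
        by_cases hk : k = 0
        · simp [hk]
        · simp [hk]
      · simp
      · simp
      · intro k
        simp
    · intro k _ O hO
      simp at hO
  | cons O L ih =>
    obtain ⟨N, W, hN, hW, hdec⟩ := ih (fun O' hO' => hL O' (List.mem_cons_of_mem _ hO'))
    obtain ⟨hOo, hOr⟩ := hL O List.mem_cons_self
    let W' : ℕ → Set X := fun m => if m ≤ N then W m ∩ O else O ∪ W (m - N)
    have hge : ∀ m, N ≤ m → W' m = O ∪ W (m - N) := by
      intro m hm
      by_cases hmN : m ≤ N
      · have : m = N := le_antisymm hmN hm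
        subst this
        simp only [W', le_refl, if_true, Nat.sub_self, hW.top, hW.zero, univ_inter, union_empty]
      · simp only [W', hmN, if_false]
    have hle : ∀ m, m ≤ N → W' m = W m ∩ O := by
      intro m hm
      simp only [W', hm, if_true]
    refine ⟨N + N, W', by omega, ⟨?_, ?_, ?_, ?_, ?_⟩, ?_⟩
    · intro m
      by_cases hm : m ≤ N
      · rw [hle m hm]
        exact (hW.isOpen m).inter hOo
      · rw [hge m (by omega)]
        exact hOo.union (hW.isOpen _)
    · intro m
      by_cases hm : m ≤ N
      · rw [hle m hm]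
        exact (hW.retro m).inter_isOpen hOr hOo
      · rw [hge m (by omega)]
        exact hOr.union (hW.retro _)
    · rw [hle 0 (Nat.zero_le _), hW.zero, empty_inter]
    · rw [hge (N + N) (by omega), Nat.add_sub_cancel, hW.top, union_univ]
    · intro m
      by_cases hm : m + 1 ≤ N
      · rw [hle m (by omega), hle (m + 1) hm]
        exact inter_subset_inter_left _ (hW.mono m)
      · by_cases hm' : m ≤ N
        · have : m = N := by omega
          subst this
          rw [hle m le_rfl, hge (m + 1) (by omega)]
          exact inter_subset_right.trans subset_union_left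
        · rw [hge m (by omega), hge (m + 1) (by omega)]
          have : m + 1 - N = (m - N) + 1 := by omega
          rw [this]
          exact union_subset_union_right _ (hW.mono _)
    · intro k hk O' hO'
      by_cases hkN : k + 1 ≤ N
      · rw [hle k (by omega), hle (k + 1) hkN]
        have hsub : (W (k + 1) ∩ O) \ (W k ∩ O) ⊆ W (k + 1) \ W k := by
          rintro x ⟨⟨hx1, hxO⟩, hx2⟩
          exact ⟨hx1, fun h => hx2 ⟨h, hxO⟩⟩
        rcases List.mem_cons.1 hO' with rfl | hO'
        · exact Or.inl fun x hx => hx.1.2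
        · exact (hdec k (by omega) O' hO').mono hsub
      · rw [hge k (by omega), hge (k + 1) (by omega)]
        have e : k + 1 - N = (k - N) + 1 := by omega
        rw [e]
        have hsub : (O ∪ W (k - N + 1)) \ (O ∪ W (k - N)) ⊆ W (k - N + 1) \ W (k - N) := by
          rintro x ⟨hx1, hx2⟩
          rcases hx1 with hx1 | hx1
          · exact (hx2 (Or.inl hx1)).elim
          · exact ⟨hx1, fun h => hx2 (Or.inr h)⟩
        rcases List.mem_cons.1 hO' with rfl | hO'
        · refine Or.inr (Set.disjoint_left.2 ?_)
          rintro x ⟨-, hx2⟩ hxO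
          exact hx2 (Or.inl hxO)
        · exact (hdec (k - N) (by omega) O' hO').mono hsub

/-- A chain of retrocompact opens all of whose successive differences lie in a member of a given
finite constructible cover. -/
theorem exists_chain {n : ℕ} (C : Fin n → Set X) (hC : ∀ i, IsConstructible (C i))
    (hcov : (⋃ i, C i) = univ) :
    ∃ (N : ℕ) (W : ℕ → Set X), IsChain W N ∧ ∀ k < N, ∃ i, W (k + 1) \ W k ⊆ C i := by
  rcases Nat.eq_zero_or_pos n with hn | hn
  · subst hn
    have hempty : (∅ : Set X) = univ := by
      rw [← hcov]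
      simp
    refine ⟨0, fun _ => ∅, ⟨fun _ => isOpen_empty, fun _ => .empty, rfl, hempty, fun _ => le_rfl⟩, ?_⟩
    intro k hk
    omega
  · choose L hL hL' using fun i => exists_list_decides (hC i)
    obtain ⟨N, W, -, hW, hdec⟩ := exists_chain_list ((List.finRange n).flatMap L) (by
      intro O hO
      obtain ⟨i, -, hi⟩ := List.mem_flatMap.1 hO
      exact hL i O hi)
    refine ⟨N, W, hW, fun k hk => ?_⟩
    have hd : ∀ i, Decides (W (k + 1) \ W k) (C i) := fun i =>
      hL' i _ fun O hO => hdec k hk O (List.mem_flatMap.2 ⟨i, List.mem_finRange i, hO⟩)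
    rcases (W (k + 1) \ W k).eq_empty_or_nonempty with he | ⟨x, hx⟩
    · exact ⟨⟨0, hn⟩, by rw [he]; exact empty_subset _⟩
    · have hxu : x ∈ ⋃ i, C i := by rw [hcov]; trivial
      obtain ⟨i, hi⟩ := mem_iUnion.1 hxu
      refine ⟨i, ?_⟩
      rcases hd i with h | h
      · exact h
      · exact (Set.disjoint_left.1 h hx hi).elim

end Groth.Agent.Helper10.ConsChain
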