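import Mathlib
import Groth.Prelude.Def_EtBase

/-!
# An étale covering over which `Φ_n` has a root (helper10)

For a scheme `X` on which `n` is invertible there is an étale surjective `k : V ⟶ X` and a root of
the `n`-th cyclotomic polynomial in `Γ(V, ⊤)`.
-/

set_option autoImplicit false

open CategoryTheory CategoryTheory.Limits AlgebraicGeometry Polynomial

namespace Groth.Agent.Helper10.CycloCover

universe u

/-- the standard étale pair `(Φ_n, n)` -/
noncomputable def pair (R : Type u) [CommRing R] (n : ℕ) : StandardEtalePair R where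
  f := cyclotomic n R
  monic_f := cyclotomic.monic n R
  g := C (n : R)
  cond := by
    obtain ⟨Q, hQ⟩ := cyclotomic.dvd_X_pow_sub_one n R
    refine ⟨X * Q, X * derivative Q - C (n : R) * Q, 1, ?_⟩
    have h1 : C (n : R) * X ^ (n - 1) =
        derivative (cyclotomic n R) * Q + cyclotomic n R * derivative Q := by
      have hd := congrArg derivative hQ
      rw [derivative_sub, derivative_X_pow, derivative_one, sub_zero, derivative_mul] at hd
      exact hd
    have h3 : C (n : R) * (X * X ^ (n - 1)) = C (n : R) * X ^ n := by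
      rcases Nat.eq_zero_or_pos n with h0 | hpos
      · subst h0
        simp
      · rw [← pow_succ', Nat.sub_add_cancel hpos]
    rw [pow_one]
    linear_combination (-X) * h1 + C (n : R) * hQ + h3

variable (n : ℕ)

/-- the base ring `ℤ`, in universe `u` -/
abbrev Zu := ULift.{u} ℤ

/-- the étale `ℤ`-scheme carrying a universal root of `Φ_n` -/
noncomputable def E : Scheme.{u} := Spec (CommRingCat.of (pair Zu.{u} n).Ring)

/-- its structure map -/
noncomputable def p : E.{u} n ⟶ Spec (CommRingCat.of Zu.{u}) :=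
  Spec.map (CommRingCat.ofHom (algebraMap Zu.{u} (pair Zu.{u} n).Ring))

instance etale_p : Etale (p.{u} n) :=
  (HasRingHomProperty.Spec_iff (P := @Etale)
    (φ := CommRingCat.ofHom (algebraMap Zu.{u} (pair Zu.{u} n).Ring))).2
    (RingHom.etale_algebraMap.2 inferInstance)

variable (X : Scheme.{u})

/-- the covering scheme -/
noncomputable def V : Scheme.{u} := pullback (specULiftZIsTerminal.from X) (p.{u} n)

/-- the covering map -/
noncomputable def k : V n X ⟶ X := pullback.fst _ _

instance etale_k : Etale (k n X) :=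
  MorphismProperty.pullback_fst (P := @Etale) _ _ (etale_p.{u} n)

/-- the root of unity on the covering scheme -/
noncomputable def ζ : Γ(V n X, ⊤) :=
  (pullback.snd (specULiftZIsTerminal.from X) (p.{u} n)).appTop.hom
    ((Scheme.ΓSpecIso (CommRingCat.of (pair Zu.{u} n).Ring)).inv.hom (pair Zu.{u} n).X)

lemma aeval_int_of_aeval {R S : Type*} [CommRing R] [CommRing S] [Algebra R S] (x : S)
    (h : aeval x (cyclotomic n R) = 0) : aeval x (cyclotomic n ℤ) = 0 := by
  have h1 : aeval x (cyclotomic n ℤ) = aeval x ((cyclotomic n ℤ).map (algebraMap ℤ R)) :=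
    (aeval_map_algebraMap R x (cyclotomic n ℤ)).symm
  rw [h1, algebraMap_int_eq, map_cyclotomic_int]
  exact h

lemma aeval_ringHom {R R' : Type*} [CommRing R] [CommRing R'] (φ : R →+* R') (x : R)
    (h : aeval x (cyclotomic n ℤ) = 0) : aeval (φ x) (cyclotomic n ℤ) = 0 := by
  have h1 : aeval (φ x) (cyclotomic n ℤ) = φ (aeval x (cyclotomic n ℤ)) := by
    rw [aeval_def, aeval_def, hom_eval₂]
    congr 1
    exact Subsingleton.elim _ _
  rw [h1, h, map_zero]

lemma aeval_ζ : aeval (ζ n X) (cyclotomic n ℤ) = 0 := by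
  unfold ζ
  apply aeval_ringHom
  apply aeval_ringHom
  exact aeval_int_of_aeval n _ (pair Zu.{u} n).hasMap_X.1

/-- the covering map is surjective when `n` is invertible on `X` -/
lemma k_surjective (hn : IsUnit ((n : ℕ) : Γ(X, ⊤))) (x : X) : ∃ v : V n X, (k n X) v = x := by
  let κ := X.residueField x
  let K := AlgebraicClosure κ
  have hnκ : IsUnit ((n : ℕ) : κ) := by
    have := hn.map (X.evaluation ⊤ x trivial).hom
    rwa [map_natCast] at this
  have hK0 : ((n : ℕ) : K) ≠ 0 := by
    intro h0
    have h1 : (algebraMap κ K) ((n : ℕ) : κ) = 0 := by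
      rw [map_natCast]
      exact h0
    exact hnκ.ne_zero ((map_eq_zero (algebraMap κ K)).1 h1)
  haveI : NeZero ((n : ℕ) : K) := ⟨hK0⟩
  haveI : NeZero n := NeZero.of_neZero_natCast K
  have hpos : 0 < n := Nat.pos_of_ne_zero (NeZero.ne n)
  obtain ⟨μ, hμ⟩ := HasEnoughRootsOfUnity.exists_primitiveRoot K n
  letI : Algebra Zu.{u} K :=
    ((Int.castRingHom K).comp (ULift.ringEquiv (R := ℤ)).toRingHom).toAlgebra
  have hmap : (pair Zu.{u} n).HasMap μ := by
    constructor
    · show aeval μ (cyclotomic n Zu.{u}) = 0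
      rw [aeval_def, ← Polynomial.eval_map, map_cyclotomic]
      exact hμ.isRoot_cyclotomic hpos
    · show IsUnit (aeval μ (C ((n : ℕ) : Zu.{u})))
      rw [aeval_C, map_natCast]
      exact (NeZero.ne ((n : ℕ) : K)).isUnit
  let φ : (pair Zu.{u} n).Ring →ₐ[Zu.{u}] K := (pair Zu.{u} n).lift μ hmap
  let yK : Spec (CommRingCat.of K) ⟶ E.{u} n := Spec.map (CommRingCat.ofHom φ.toRingHom)
  let xK : Spec (CommRingCat.of K) ⟶ X :=
    Spec.map (CommRingCat.ofHom (algebraMap κ K)) ≫ X.fromSpecResidueField x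
  let l : Spec (CommRingCat.of K) ⟶ V n X :=
    pullback.lift xK yK (specULiftZIsTerminal.hom_ext _ _)
  let pt : Spec (CommRingCat.of K) := ⟨⊥, Ideal.isPrime_bot⟩
  refine ⟨l pt, ?_⟩
  have h1 : l ≫ k n X = xK := pullback.lift_fst _ _ _
  have h2 : (k n X) (l pt) = (l ≫ k n X) pt := (Scheme.Hom.comp_apply l (k n X) pt).symm
  rw [h2, h1]
  show (Spec.map (CommRingCat.ofHom (algebraMap κ K)) ≫ X.fromSpecResidueField x) pt = x
  rw [Scheme.Hom.comp_apply]
  exact Scheme.fromSpecResidueField_apply x _

/-- **The cyclotomic covering.** -/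
theorem exists_cover (hn : IsUnit ((n : ℕ) : Γ(X, ⊤))) :
    ∃ (W : X.Etale), (∀ x : X, ∃ y : W.left, W.hom y = x) ∧
      ∃ z : Γ(W.left, ⊤), aeval z (cyclotomic n ℤ) = 0 :=
  ⟨Scheme.Etale.mk (k n X), k_surjective n X hn, ζ n X, aeval_ζ n X⟩

end Groth.Agent.Helper10.CycloCover
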