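import Mathlib
import Groth.Prelude.Def_Red

universe u
open CategoryTheory CategoryTheory.Limits AlgebraicGeometry

namespace Groth.Agent.Helper10.DSFlat

theorem hom_diag (R : Type u) [CommRing R] (M : Type) [AddCommGroup M] :
    (Red.diag R M).hom =
      Spec.map (CommRingCat.ofHom (algebraMap R (MonoidAlgebra R (Multiplicative M)))) := rfl

instance noeth : IsNoetherianRing (ULift.{u} ℤ) :=
  isNoetherianRing_of_ringEquiv ℤ ULift.ringEquiv.symm

theorem flat_diag (R : Type u) [CommRing R] (M : Type) [AddCommGroup M] :
    Flat (Red.diag R M).hom := by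
  have : Flat (Spec.map
      (CommRingCat.ofHom (algebraMap R (MonoidAlgebra R (Multiplicative M))))) := by
    rw [HasRingHomProperty.Spec_iff (P := @Flat)]
    rw [CommRingCat.hom_ofHom, RingHom.flat_algebraMap_iff]
    infer_instance
  exact this

theorem lfp_diag (R : Type u) [CommRing R] [IsNoetherianRing R] (M : Type) [AddCommGroup M]
    (hM : AddGroup.FG M) :
    LocallyOfFinitePresentation (Red.diag R M).hom := by
  have : LocallyOfFinitePresentation (Spec.map
      (CommRingCat.ofHom (algebraMap R (MonoidAlgebra R (Multiplicative M))))) := ?_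
  · exact this
  rw [HasRingHomProperty.Spec_iff (P := @LocallyOfFinitePresentation)]
  rw [CommRingCat.hom_ofHom]
  haveI : AddMonoid.FG M := AddGroup.fg_iff_addMonoid_fg.mp hM
  haveI : Monoid.FG (Multiplicative M) := AddMonoid.fg_iff_mul_fg.mp inferInstance
  have hft : Algebra.FiniteType R (MonoidAlgebra R (Multiplicative M)) := inferInstance
  have hfp : Algebra.FinitePresentation R (MonoidAlgebra R (Multiplicative M)) :=
    Algebra.FinitePresentation.of_finiteType.mp hft
  exact (RingHom.finitePresentation_algebraMap).mpr hfp

/-- (DSF) `D_S(M)` is flat and locally of finite presentation over `S` for f.g. `M`. -/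
theorem flat_lfp_DS (S : Scheme.{u}) (M : Type) [AddCommGroup M] (hM : AddGroup.FG M) :
    Flat (Red.DS S M).hom ∧ LocallyOfFinitePresentation (Red.DS S M).hom := by
  have h1 : Flat (Red.diag (ULift.{u} ℤ) M).hom := flat_diag _ M
  have h2 : LocallyOfFinitePresentation (Red.diag (ULift.{u} ℤ) M).hom := lfp_diag _ M hM
  constructor
  · change Flat (pullback.snd (Red.diag (ULift.{u} ℤ) M).hom _)
    infer_instance
  · change LocallyOfFinitePresentation (pullback.snd (Red.diag (ULift.{u} ℤ) M).hom _)
    infer_instance

end Groth.Agent.Helper10.DSFlat
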