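import Mathlib

/-!
# Coproducts of cochain complexes in an AB4 abelian category and the derived category

We construct an explicit coproduct `sigmaCx K` of a family of cochain complexes, show that
coproducts of quasi-isomorphisms are quasi-isomorphisms (AB4) and that `Q` sends the coproduct
cofan to a colimit cofan in the derived category.
-/

set_option autoImplicit false
open CategoryTheory CategoryTheory.Limits

universe w v u

namespace Groth.Agent.Helper10.DSigma

variable {A : Type u} [Category.{v} A] [Abelian A] {J : Type w}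

/-- The complex of functors attached to a family of complexes. -/
@[simps]
def famCx (K : J → CochainComplex A ℤ) : CochainComplex (Discrete J ⥤ A) ℤ where
  X n := Discrete.functor (fun j => (K j).X n)
  d n m := Discrete.natTrans (fun j => (K j.as).d n m)
  shape n m h := by
    ext ⟨j⟩
    exact (K j).shape n m h
  d_comp_d' n m k _ _ := by
    ext ⟨j⟩
    exact (K j).d_comp_d n m k

/-- The morphism of complexes of functors attached to a family of morphisms. -/
@[simps]
def famMap {K L : J → CochainComplex A ℤ} (f : ∀ j, K j ⟶ L j) : famCx K ⟶ famCx L where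
  f n := Discrete.natTrans (fun j => (f j.as).f n)
  comm' n m _ := by
    ext ⟨j⟩
    exact (f j).comm n m

lemma quasiIso_famMap {K L : J → CochainComplex A ℤ} (f : ∀ j, K j ⟶ L j)
    (hf : ∀ j, QuasiIso (f j)) : QuasiIso (famMap f) := by
  rw [HomologicalComplex.quasiIso_iff_evaluation]
  rintro ⟨j⟩
  exact hf j

section sigma

variable [HasCoproductsOfShape J A]

instance : (Functor.const (Discrete J) : A ⥤ _).Additive where
  map_add := by intros; ext; rfl

instance : (colim : (Discrete J ⥤ A) ⥤ A).Additive := colimConstAdj.left_adjoint_additive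

/-- The coproduct complex. -/
noncomputable def sigmaCx (K : J → CochainComplex A ℤ) : CochainComplex A ℤ :=
  ((colim : (Discrete J ⥤ A) ⥤ A).mapHomologicalComplex _).obj (famCx K)

lemma sigmaCx_X (K : J → CochainComplex A ℤ) (n : ℤ) :
    (sigmaCx K).X n = ∐ (fun j => (K j).X n) := rfl

lemma sigmaCx_d (K : J → CochainComplex A ℤ) (n m : ℤ) :
    (sigmaCx K).d n m = Limits.Sigma.map (fun j => (K j).d n m) := rfl

/-- The coproduct of a family of morphisms. -/
noncomputable def sigmaMap {K L : J → CochainComplex A ℤ} (f : ∀ j, K j ⟶ L j) :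
    sigmaCx K ⟶ sigmaCx L :=
  ((colim : (Discrete J ⥤ A) ⥤ A).mapHomologicalComplex _).map (famMap f)

lemma sigmaMap_f {K L : J → CochainComplex A ℤ} (f : ∀ j, K j ⟶ L j) (n : ℤ) :
    (sigmaMap f).f n = Limits.Sigma.map (fun j => (f j).f n) := rfl

/-- The inclusions into the coproduct complex. -/
noncomputable def sigmaι (K : J → CochainComplex A ℤ) (j : J) : K j ⟶ sigmaCx K where
  f n := Limits.Sigma.ι (fun j => (K j).X n) j
  comm' n m _ := by
    change Limits.Sigma.ι (fun j => (K j).X n) j ≫ Limits.Sigma.map (fun j => (K j).d n m) = _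
    rw [Sigma.ι_map]
    rfl

/-- The morphism out of the coproduct complex. -/
noncomputable def sigmaDesc {K : J → CochainComplex A ℤ} {L : CochainComplex A ℤ}
    (g : ∀ j, K j ⟶ L) : sigmaCx K ⟶ L where
  f n := Limits.Sigma.desc (fun j => (g j).f n)
  comm' n m _ := by
    change Limits.Sigma.desc (fun j => (g j).f n) ≫ L.d n m =
      Limits.Sigma.map (fun j => (K j).d n m) ≫ Limits.Sigma.desc (fun j => (g j).f m)
    apply Limits.Sigma.hom_ext
    intro j
    rw [Sigma.ι_desc_assoc, Sigma.ι_map_assoc, Sigma.ι_desc]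
    exact (g j).comm n m

@[reassoc (attr := simp)]
lemma sigmaι_desc {K : J → CochainComplex A ℤ} {L : CochainComplex A ℤ}
    (g : ∀ j, K j ⟶ L) (j : J) : sigmaι K j ≫ sigmaDesc g = g j := by
  ext n
  change Limits.Sigma.ι (fun j => (K j).X n) j ≫ Limits.Sigma.desc (fun j => (g j).f n) = _
  rw [Sigma.ι_desc]

lemma sigma_hom_ext {K : J → CochainComplex A ℤ} {L : CochainComplex A ℤ}
    {a b : sigmaCx K ⟶ L} (h : ∀ j, sigmaι K j ≫ a = sigmaι K j ≫ b) : a = b := by
  ext n
  let a' : ∐ (fun j => (K j).X n) ⟶ L.X n := a.f n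
  let b' : ∐ (fun j => (K j).X n) ⟶ L.X n := b.f n
  change a' = b'
  apply Limits.Sigma.hom_ext
  intro j
  exact congrArg (fun φ => φ.f n) (h j)

@[reassoc (attr := simp)]
lemma sigmaι_map {K L : J → CochainComplex A ℤ} (f : ∀ j, K j ⟶ L j) (j : J) :
    sigmaι K j ≫ sigmaMap f = f j ≫ sigmaι L j := by
  ext n
  change Limits.Sigma.ι (fun j => (K j).X n) j ≫ Limits.Sigma.map (fun j => (f j).f n) = _
  rw [Sigma.ι_map]
  rfl

lemma quasiIso_sigmaMap [HasExactColimitsOfShape (Discrete J) A]
    {K L : J → CochainComplex A ℤ} (f : ∀ j, K j ⟶ L j)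
    (hf : ∀ j, QuasiIso (f j)) : QuasiIso (sigmaMap f) := by
  have := quasiIso_famMap f hf
  have : PreservesFiniteColimits (colim : (Discrete J ⥤ A) ⥤ A) := by
    have : PreservesColimitsOfSize.{0, 0} (colim : (Discrete J ⥤ A) ⥤ A) :=
      colimConstAdj.leftAdjoint_preservesColimits
    exact PreservesColimitsOfSize.preservesFiniteColimits _
  exact HomologicalComplex.quasiIso_map_of_preservesHomology (famMap f)
    (colim : (Discrete J ⥤ A) ⥤ A)

/-- Assembling null-homotopies on a coproduct complex. -/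
noncomputable def sigmaHomotopy {K : J → CochainComplex A ℤ} {L : CochainComplex A ℤ}
    (F : sigmaCx K ⟶ L) (H : ∀ j, Homotopy (sigmaι K j ≫ F) 0) : Homotopy F 0 where
  hom n m := Limits.Sigma.desc (fun j => (H j).hom n m)
  zero n m h := by
    change Limits.Sigma.desc (fun j => (H j).hom n m) = 0
    apply Limits.Sigma.hom_ext
    intro j
    rw [Sigma.ι_desc, comp_zero]
    exact (H j).zero n m h
  comm n := by
    rw [dNext_eq _ (show (ComplexShape.up ℤ).Rel n (n + 1) from rfl),
      prevD_eq _ (show (ComplexShape.up ℤ).Rel (n - 1) n by simp)]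
    let a' : ∐ (fun j => (K j).X n) ⟶ L.X n := F.f n
    change a' = Limits.Sigma.map (fun j => (K j).d n (n + 1)) ≫
      Limits.Sigma.desc (fun j => (H j).hom (n + 1) n) +
      Limits.Sigma.desc (fun j => (H j).hom n (n - 1)) ≫ L.d (n - 1) n +
      (0 : ∐ (fun j => (K j).X n) ⟶ L.X n)
    apply Limits.Sigma.hom_ext
    intro j
    have h1 := (H j).comm n
    rw [dNext_eq _ (show (ComplexShape.up ℤ).Rel n (n + 1) from rfl),
      prevD_eq _ (show (ComplexShape.up ℤ).Rel (n - 1) n by simp)] at h1
    rw [Preadditive.comp_add, Preadditive.comp_add, Sigma.ι_map_assoc, Sigma.ι_desc,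
      Sigma.ι_desc_assoc]
    refine Eq.trans ?_ (h1.trans ?_)
    · rfl
    · simp

end sigma

section derived

universe w'

variable [HasDerivedCategory.{w'} A]

open DerivedCategory

lemma exists_qis_homotopy_zero {X Y : CochainComplex A ℤ} (f : X ⟶ Y) (hf : Q.map f = 0) :
    ∃ (X' : CochainComplex A ℤ) (t : X' ⟶ X) (_ : QuasiIso t), Nonempty (Homotopy (t ≫ f) 0) := by
  have h1 : Qh.map ((HomotopyCategory.quotient _ _).map f) =
      Qh.map ((HomotopyCategory.quotient _ _).map (0 : X ⟶ Y)) := by
    rw [← cancel_mono ((quotientCompQhIso A).hom.app Y), quotientCompQhIso_hom_naturality,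
      quotientCompQhIso_hom_naturality, hf, Functor.map_zero]
  obtain ⟨Z, s, hs, fac⟩ := (MorphismProperty.map_eq_iff_precomp Qh
    (HomotopyCategory.quasiIso A (ComplexShape.up ℤ)) _ _).1 h1
  obtain ⟨X', rfl⟩ := HomotopyCategory.quotient_obj_surjective Z
  obtain ⟨t, rfl⟩ := (HomotopyCategory.quotient _ _).map_surjective s
  rw [HomotopyCategory.quotient_map_mem_quasiIso_iff] at hs
  refine ⟨X', t, hs, ?_⟩
  rw [← HomotopyCategory.quotient_map_eq_zero_iff, Functor.map_comp, fac, Functor.map_zero,
    comp_zero]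

variable [HasCoproductsOfShape J A] [HasExactColimitsOfShape (Discrete J) A]

lemma cofanQ_surj (K : J → CochainComplex A ℤ) (L : CochainComplex A ℤ)
    (φ : ∀ j, Q.obj (K j) ⟶ Q.obj L) :
    ∃ Φ : Q.obj (sigmaCx K) ⟶ Q.obj L, ∀ j, Q.map (sigmaι K j) ≫ Φ = φ j := by
  have h := fun j => right_fac (φ j)
  choose K' s hs g hg using h
  have hs' : ∀ j, QuasiIso (s j) := fun j => (isIso_Q_map_iff_quasiIso A _).1 (hs j)
  have hT : QuasiIso (sigmaMap s) := quasiIso_sigmaMap s hs'
  have hT' : IsIso (Q.map (sigmaMap s)) := (isIso_Q_map_iff_quasiIso A _).2 hT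
  refine ⟨inv (Q.map (sigmaMap s)) ≫ Q.map (sigmaDesc g), fun j => ?_⟩
  have := hs j
  have e1 : Q.map (sigmaι K j) ≫ inv (Q.map (sigmaMap s)) =
      inv (Q.map (s j)) ≫ Q.map (sigmaι K' j) := by
    rw [← cancel_mono (Q.map (sigmaMap s)), Category.assoc, IsIso.inv_hom_id, Category.comp_id,
      Category.assoc, ← Functor.map_comp, sigmaι_map, Functor.map_comp, IsIso.inv_hom_id_assoc]
  rw [← Category.assoc, e1, Category.assoc, ← Functor.map_comp, sigmaι_desc, hg j]

lemma cofanQ_inj (K : J → CochainComplex A ℤ) (L : CochainComplex A ℤ)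
    (ψ : Q.obj (sigmaCx K) ⟶ Q.obj L) (h : ∀ j, Q.map (sigmaι K j) ≫ ψ = 0) : ψ = 0 := by
  obtain ⟨L', g, s, hs, rfl⟩ := left_fac ψ
  have h0 : ∀ j, Q.map (sigmaι K j ≫ g) = 0 := fun j => by
    have := h j
    rw [← Category.assoc, ← Functor.map_comp] at this
    rw [← cancel_mono (inv (Q.map s)), this, zero_comp]
  have h1 := fun j => exists_qis_homotopy_zero _ (h0 j)
  choose X' t ht H using h1
  have hT : QuasiIso (sigmaMap t) := quasiIso_sigmaMap t ht
  have hT' : IsIso (Q.map (sigmaMap t)) := (isIso_Q_map_iff_quasiIso A _).2 hT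
  have H' : ∀ j, Homotopy (sigmaι X' j ≫ sigmaMap t ≫ g) 0 := fun j =>
    (Homotopy.ofEq (by rw [sigmaι_map_assoc])).trans (H j).some
  have h2 : Q.map (sigmaMap t ≫ g) = 0 := by
    rw [Q_map_eq_of_homotopy A (sigmaHomotopy _ H'), Functor.map_zero]
  have h3 : Q.map g = 0 := by
    rw [← cancel_epi (Q.map (sigmaMap t)), ← Functor.map_comp, h2, comp_zero]
  rw [h3, zero_comp]

/-- The image under `Q` of the coproduct cofan of complexes. -/
noncomputable def cofanQ (K : J → CochainComplex A ℤ) : Cofan (fun j => Q.obj (K j)) :=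
  Cofan.mk (Q.obj (sigmaCx K)) (fun j => Q.map (sigmaι K j))

lemma cofanQ_bij (K : J → CochainComplex A ℤ) (Y : DerivedCategory A) :
    Function.Bijective (fun (Φ : Q.obj (sigmaCx K) ⟶ Y) => fun j => Q.map (sigmaι K j) ≫ Φ) := by
  let e : Q.obj (Q.objPreimage Y) ≅ Y := Q.objObjPreimageIso Y
  constructor
  · intro a b hab
    have h1 : (a - b) ≫ e.inv = 0 := by
      apply cofanQ_inj K
      intro j
      have := congrFun hab j
      dsimp at this
      rw [Preadditive.sub_comp, Preadditive.comp_sub, ← Category.assoc, ← Category.assoc, this,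
        sub_self]
    have h2 : a - b = 0 := by
      rw [← cancel_mono e.inv, h1, zero_comp]
    exact sub_eq_zero.1 h2
  · intro φ
    obtain ⟨Φ, hΦ⟩ := cofanQ_surj K (Q.objPreimage Y) (fun j => φ j ≫ e.inv)
    refine ⟨Φ ≫ e.hom, ?_⟩
    funext j
    dsimp
    rw [← Category.assoc, hΦ j, Category.assoc, e.inv_hom_id, Category.comp_id]

/-- `Q` sends the coproduct of complexes to a coproduct in the derived category. -/
noncomputable def isColimitCofanQ (K : J → CochainComplex A ℤ) : IsColimit (cofanQ K) :=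
  Cofan.IsColimit.mk (cofanQ K)
    (fun s => ((cofanQ_bij K s.pt).2 (fun j => s.inj j)).choose)
    (fun s j => congrFun ((cofanQ_bij K s.pt).2 (fun j => s.inj j)).choose_spec j)
    (fun s m hm => (cofanQ_bij K s.pt).1 (by
      funext j
      exact (hm j).trans
        (congrFun ((cofanQ_bij K s.pt).2 (fun j => s.inj j)).choose_spec j).symm))

lemma hasCoproduct_Q (K : J → CochainComplex A ℤ) : HasCoproduct (fun j => Q.obj (K j)) :=
  ⟨⟨⟨_, isColimitCofanQ K⟩⟩⟩

lemma hasCoproductsOfShape_derivedCategory : HasCoproductsOfShape J (DerivedCategory A) := by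
  constructor
  intro F
  let K : J → CochainComplex A ℤ := fun j => Q.objPreimage (F.obj ⟨j⟩)
  have := hasCoproduct_Q K
  have e : Discrete.functor (fun j => Q.obj (K j)) ≅ F :=
    Discrete.natIso (fun ⟨j⟩ => Q.objObjPreimageIso (F.obj ⟨j⟩))
  exact hasColimit_of_iso e.symm

end derived

end Groth.Agent.Helper10.DSigma
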