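import Mathlib
import Groth.Prelude.Def_ModSite
import Groth.Prelude.Def_ModSite2
import Groth.Agent.Lib.Helper17.GN4

/-!
# Germs of sections at a point of a ringed space
-/

set_option autoImplicit false
set_option linter.unusedSectionVars false
set_option linter.unusedVariables false

open CategoryTheory Limits Opposite TopologicalSpace

namespace Groth.Agent.Helper10.GermSp

open Groth.Agent.Helper17.MT Groth.Agent.Helper17.GN Groth.Agent.Helper17.ST

universe u

variable {X : TopCat.{u}} (O : TopCat.Sheaf CommRingCat.{u} X) (x : X)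

/-- the point of the site of opens attached to `x` -/
noncomputable abbrev pt : GrothendieckTopology.Point.{u} (Opens.grothendieckTopology X) :=
  Opens.pointGrothendieckTopology x

variable {O}

/-- germ of a section at `x` -/
noncomputable def gm (F : ModSite.Mod O) {U : Opens X} (hx : x ∈ U) (s : ModSite.sect F U) :
    ModSite.stalkAb (pt x) F :=
  ModSite.germ (pt x) F U (fibElt x U hx) s

/-- germ of a function at `x` -/
noncomputable def gr {U : Opens X} (hx : x ∈ U) (a : O.obj.obj (op U)) :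
    ModSite.stalkRing (pt x) O :=
  ModSite.germRing (pt x) U (fibElt x U hx) a

theorem gm_res (F : ModSite.Mod O) {U V : Opens X} (g : V ⟶ U) (hxV : x ∈ V) (hxU : x ∈ U)
    (s : ModSite.sect F U) : gm x F hxV (res F g s) = gm x F hxU s :=
  germ_res' (pt x) F g _ _ (Subsingleton.elim _ _) s

theorem gr_res {U V : Opens X} (g : V ⟶ U) (hxV : x ∈ V) (hxU : x ∈ U)
    (a : O.obj.obj (op U)) : gr x hxV (rres g a) = gr x hxU a :=
  germRing_res' (pt x) g _ _ (Subsingleton.elim _ _) a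

theorem gm_sum (F : ModSite.Mod O) {U : Opens X} (hx : x ∈ U) {ι : Type*} (s : Finset ι)
    (f : ι → ModSite.sect F U) : gm x F hx (∑ i ∈ s, f i) = ∑ i ∈ s, gm x F hx (f i) :=
  germ_sum (pt x) F U _ s f

theorem gm_zero (F : ModSite.Mod O) {U : Opens X} (hx : x ∈ U) : gm x F hx 0 = 0 :=
  germ_zero (pt x) F U _

theorem gm_smul (F : ModSite.Mod O) {U : Opens X} (hx : x ∈ U) (a : O.obj.obj (op U))
    (s : ModSite.sect F U) : gm x F hx (a • s) = gr x hx a • gm x F hx s :=
  ModSite.germ_smul (pt x) F U _ a s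

theorem gr_sum {U : Opens X} (hx : x ∈ U) {ι : Type*} (s : Finset ι)
    (f : ι → O.obj.obj (op U)) : gr x hx (∑ i ∈ s, f i) = ∑ i ∈ s, gr x hx (f i) :=
  germRing_sum (pt x) U _ s f

theorem gr_mul {U : Opens X} (hx : x ∈ U) (a b : O.obj.obj (op U)) :
    gr x hx (a * b) = gr x hx a * gr x hx b :=
  germRing_mul (pt x) U _ a b

theorem gr_zero {U : Opens X} (hx : x ∈ U) : gr (O := O) x hx 0 = 0 :=
  germRing_zero (pt x) U _

theorem gr_one {U : Opens X} (hx : x ∈ U) : gr (O := O) x hx 1 = 1 :=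
  germRing_one (pt x) U _

theorem gm_eq_zero (F : ModSite.Mod O) {U : Opens X} (hx : x ∈ U) (s : ModSite.sect F U)
    (h : gm x F hx s = 0) : ∃ (V : Opens X) (g : V ⟶ U), x ∈ V ∧ res F g s = 0 := by
  obtain ⟨V, g, y, _, hs⟩ := (germ_eq_zero_iff (pt x) F U _ s).mp h
  exact ⟨V, g, mem_of_fib x V y, hs⟩

theorem gr_eq {U : Opens X} (hx : x ∈ U) (a b : O.obj.obj (op U))
    (h : gr x hx a = gr x hx b) : ∃ (V : Opens X) (g : V ⟶ U), x ∈ V ∧ rres g a = rres g b := by
  obtain ⟨V, g, y, _, hs⟩ := (germRing_eq_iff (pt x) U _ a b).mp h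
  exact ⟨V, g, mem_of_fib x V y, hs⟩

theorem gm_surj_finite (F : ModSite.Mod O) {ι : Type*} [Finite ι]
    (z : ι → ModSite.stalkAb (pt x) F) (U : Opens X) (hx : x ∈ U) :
    ∃ (V : Opens X) (g : V ⟶ U) (hxV : x ∈ V) (s : ι → ModSite.sect F V),
      ∀ i, gm x F hxV (s i) = z i := by
  obtain ⟨V, g, y, s, _, hs⟩ := exists_nbhd_finite (pt x) (ModSite.toAb F).obj z U (fibElt x U hx)
  refine ⟨V, g, mem_of_fib x V y, s, fun i => ?_⟩
  refine Eq.trans ?_ (hs i)
  unfold gm
  congr 1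

theorem gr_surj_finite {ι : Type*} [Finite ι]
    (z : ι → ModSite.stalkRing (pt x) O) (U : Opens X) (hx : x ∈ U) :
    ∃ (V : Opens X) (g : V ⟶ U) (hxV : x ∈ V) (s : ι → O.obj.obj (op V)),
      ∀ i, gr x hxV (s i) = z i := by
  obtain ⟨V, g, y, s, _, hs⟩ := exists_nbhd_finite (pt x) O.obj z U (fibElt x U hx)
  refine ⟨V, g, mem_of_fib x V y, s, fun i => ?_⟩
  refine Eq.trans ?_ (hs i)
  unfold gr
  congr 1

end Groth.Agent.Helper10.GermSp
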