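import Mathlib
import Groth.Prelude.Def_ModSite
import Groth.Agent.Lib.Helper17.GN4

/-!
# Relations of a finite presentation, in terms of sections
-/

set_option autoImplicit false
set_option linter.unusedSectionVars false
set_option linter.unusedVariables false

open CategoryTheory Limits Opposite TopologicalSpace

namespace Groth.Agent.Helper10.PresRel

open Groth.Agent.Helper17.MT Groth.Agent.Helper17.GN Groth.Agent.Helper17.FS

universe u

section Site

variable {C : Type u} [SmallCategory C] {J : GrothendieckTopology C} (O : Sheaf J CommRingCat.{u})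

section Free

variable {I : Type u} [Fintype I] [DecidableEq I]

/-- coordinates, valued in the commutative ring of sections -/
noncomputable def cc {Y : C} (k : I)
    (x : (SheafOfModules.free (R := ModSite.ringSh O) I).val.obj (op Y)) : O.obj.obj (op Y) :=
  cB O k x

theorem cc_res {Y Y' : C} (g : Y' ⟶ Y) (k : I)
    (x : (SheafOfModules.free (R := ModSite.ringSh O) I).val.obj (op Y)) :
    cc O k (res (SheafOfModules.free (R := ModSite.ringSh O) I) g x) = rres g (cc O k x) :=
  PresheafOfModules.naturality_apply (freeπ (ModSite.ringSh O) k).val g.op x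

theorem cc_sum {Y : C} (k : I) {ι : Type*} (T : Finset ι)
    (x : ι → (SheafOfModules.free (R := ModSite.ringSh O) I).val.obj (op Y)) :
    cc O k (∑ i ∈ T, x i) = ∑ i ∈ T, cc O k (x i) :=
  map_sum ((freeπ (ModSite.ringSh O) k).val.app (op Y)).hom x T

theorem cc_smul {Y : C} (k : I) (a : O.obj.obj (op Y))
    (x : (SheafOfModules.free (R := ModSite.ringSh O) I).val.obj (op Y)) :
    cc O k (a • x) = a * cc O k x :=
  ((freeπ (ModSite.ringSh O) k).val.app (op Y)).hom.map_smul a x

theorem cc_eB {Y : C} (j k : I) : cc O k (eB O j (X := Y)) = if j = k then 1 else 0 :=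
  cB_eB O j k

theorem cc_comb {Y : C} (k : I) (v : I → O.obj.obj (op Y)) :
    cc O k (∑ j, v j • eB O j (X := Y)) = v k := by
  rw [cc_sum]
  simp_rw [cc_smul, cc_eB]
  rw [Finset.sum_eq_single k]
  · rw [if_pos rfl, mul_one]
  · intro j _ hj
    rw [if_neg hj, mul_zero]
  · intro h
    exact (h (Finset.mem_univ k)).elim

end Free

theorem map_res_site {G F : ModSite.Mod O} (φ : G ⟶ F) {V W : C} (g : W ⟶ V)
    (t : ModSite.sect G V) :
    (φ.val.app (op W)).hom (res G g t) = res F g ((φ.val.app (op V)).hom t) :=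
  PresheafOfModules.naturality_apply φ.val g.op t

section Rel

variable {Kg Kr : Type u} [Fintype Kg] [DecidableEq Kg] [Fintype Kr] [DecidableEq Kr]
  (M : ModSite.Mod O) (s : Kg → M.sections)
  (ρ : Kr → (kernel (πS O M s)).sections)

/-- the coordinates of the relations -/
noncomputable def relC (e : Kr) (k : Kg) (Y : C) : O.obj.obj (op Y) :=
  cc O k (((kernel.ι (πS O M s)).val.app (op Y)).hom (secAt O (kernel (πS O M s)) (ρ e) Y))

theorem relC_res {Y Y' : C} (g : Y' ⟶ Y) (e : Kr) (k : Kg) :
    rres g (relC O M s ρ e k Y) = relC O M s ρ e k Y' := by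
  unfold relC
  rw [← cc_res, ← map_res_site, res_secAt]

/-- the relations are relations -/
theorem relC_rel (e : Kr) (Y : C) :
    ∑ k, relC O M s ρ e k Y • secAt O M (s k) Y = 0 := by
  have h0 : ((πS O M s).val.app (op Y)).hom
      (((kernel.ι (πS O M s)).val.app (op Y)).hom (secAt O (kernel (πS O M s)) (ρ e) Y)) = 0 := by
    have h := congrArg (fun (m : kernel (πS O M s) ⟶ M) =>
      (m.val.app (op Y)).hom (secAt O (kernel (πS O M s)) (ρ e) Y)) (kernel.condition (πS O M s))
    exact h
  rw [eq_sum_cB O (((kernel.ι (πS O M s)).val.app (op Y)).hom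
    (secAt O (kernel (πS O M s)) (ρ e) Y)), map_sum] at h0
  refine Eq.trans (Finset.sum_congr rfl (fun k _ => ?_)) h0
  rw [← πS_eB O M s k Y]
  exact (((πS O M s).val.app (op Y)).hom.map_smul _ _).symm

/-- every relation between the generators is locally a combination of the given relations -/
theorem rel_site [Epi (πS O M s)] [Epi (πS O (kernel (πS O M s)) ρ)]
    (Y : C) (v : Kg → O.obj.obj (op Y)) (hv : ∑ k, v k • secAt O M (s k) Y = 0) :
    ∃ S ∈ J Y, ∀ ⦃Y' : C⦄ (g : Y' ⟶ Y), S g → ∃ d : Kr → O.obj.obj (op Y'),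
      ∀ k, rres g (v k) = ∑ e, d e * relC O M s ρ e k Y' := by
  let w : (SheafOfModules.free (R := ModSite.ringSh O) Kg).val.obj (op Y) :=
    ∑ k, v k • eB O k (X := Y)
  have hw : ((πS O M s).val.app (op Y)).hom w = 0 := by
    rw [map_sum]
    refine Eq.trans (Finset.sum_congr rfl (fun k _ => ?_)) hv
    rw [← πS_eB O M s k Y]
    exact ((πS O M s).val.app (op Y)).hom.map_smul _ _
  let S : ShortComplex (ModSite.Mod O) :=
    ShortComplex.mk (kernel.ι (πS O M s)) (πS O M s) (kernel.condition _)
  have hS : S.ShortExact :=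
    { exact := ShortComplex.exact_of_f_is_kernel _ (kernelIsKernel (πS O M s))
      mono_f := inferInstanceAs (Mono (kernel.ι (πS O M s)))
      epi_g := inferInstanceAs (Epi (πS O M s)) }
  obtain ⟨n, hn⟩ := exact_sections O S hS Y w hw
  obtain ⟨S₀, hS₀, hloc⟩ := locally_combination O (kernel (πS O M s)) ρ Y n
  refine ⟨S₀, hS₀, fun Y' g hg => ?_⟩
  obtain ⟨d, hd⟩ := hloc g hg
  refine ⟨d, fun k => ?_⟩
  have e1 : rres g (v k) = cc O k (res (SheafOfModules.free (R := ModSite.ringSh O) Kg) g w) := by
    rw [cc_res, cc_comb]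
  rw [e1]
  have e2 : res (SheafOfModules.free (R := ModSite.ringSh O) Kg) g w =
      ((kernel.ι (πS O M s)).val.app (op Y')).hom (res (kernel (πS O M s)) g n) := by
    rw [map_res_site]
    exact congrArg _ hn.symm
  rw [e2, hd, map_sum, cc_sum]
  refine Finset.sum_congr rfl (fun e _ => ?_)
  have e3 : ((kernel.ι (πS O M s)).val.app (op Y')).hom
      (d e • secAt O (kernel (πS O M s)) (ρ e) Y') =
      d e • ((kernel.ι (πS O M s)).val.app (op Y')).hom (secAt O (kernel (πS O M s)) (ρ e) Y') :=
    ((kernel.ι (πS O M s)).val.app (op Y')).hom.map_smul _ _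
  rw [e3, cc_smul]
  rfl

end Rel

end Site

section Space

variable {X : TopCat.{u}} (O : TopCat.Sheaf CommRingCat.{u} X)

/-- a finite presentation near a point, in terms of sections -/
theorem exists_presentation_near (F : ModSite.Mod O)
    [SheafOfModules.IsFinitePresentation (R := ModSite.ringSh O) F] (x : X) :
    ∃ (U : Opens X) (_ : x ∈ U) (Kg Kr : Type u) (_ : Fintype Kg) (_ : DecidableEq Kg)
      (_ : Fintype Kr) (_ : DecidableEq Kr)
      (f : Kg → ModSite.sect F U) (r : Kr → Kg → O.obj.obj (op U)),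
      (∀ (W : Opens X) (a : W ⟶ U) (m : ModSite.sect F W) (y : X), y ∈ W →
        ∃ (W' : Opens X) (h : W' ⟶ W), y ∈ W' ∧ ∃ c : Kg → O.obj.obj (op W'),
          res F h m = ∑ k, c k • res F (h ≫ a) (f k)) ∧
      (∀ e, ∑ k, r e k • f k = 0) ∧
      (∀ (W : Opens X) (a : W ⟶ U) (v : Kg → O.obj.obj (op W)) (y : X), y ∈ W →
        ∑ k, v k • res F a (f k) = 0 →
        ∃ (W' : Opens X) (h : W' ⟶ W), y ∈ W' ∧ ∃ d : Kr → O.obj.obj (op W'),
          ∀ k, rres h (v k) = ∑ e, d e * rres (h ≫ a) (r e k)) := by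
  classical
  obtain ⟨σ, hσ⟩ := SheafOfModules.IsFinitePresentation.exists_quasicoherentData
    (R := ModSite.ringSh O) F
  have hcov := σ.coversTop ⊤
  obtain ⟨V, f₀, hf₀, hxV⟩ := hcov x (by trivial)
  obtain ⟨i, ⟨hi⟩⟩ := (Sieve.mem_ofObjects_iff ..).mp hf₀
  have hfin := hσ.isFinite_presentation i
  have hfin1 : Finite (σ.presentation i).generators.I :=
    (SheafOfModules.Presentation.IsFinite.isFiniteType_generators (p := σ.presentation i)).finite
  have hfin2 : Finite (σ.presentation i).relations.I :=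
    (SheafOfModules.Presentation.IsFinite.isFiniteType_relations (p := σ.presentation i)).finite
  let U : Opens X := σ.X i
  let Kg := (σ.presentation i).generators.I
  let Kr := (σ.presentation i).relations.I
  let _ : Fintype Kg := Fintype.ofFinite _
  let _ : Fintype Kr := Fintype.ofFinite _
  let s : Kg → ((ModSite.restr O U).obj F).sections := (σ.presentation i).generators.s
  have hs : Epi (πS (O.over U) ((ModSite.restr O U).obj F) s) := (σ.presentation i).generators.epi
  let ρ : Kr → (kernel (πS (O.over U) ((ModSite.restr O U).obj F) s)).sections :=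
    (σ.presentation i).relations.s
  have hρ : Epi (πS (O.over U) (kernel (πS (O.over U) ((ModSite.restr O U).obj F) s)) ρ) :=
    (σ.presentation i).relations.epi
  refine ⟨U, leOfHom hi hxV, Kg, Kr, inferInstance, inferInstance, inferInstance, inferInstance,
    fun k => secAt (O.over U) ((ModSite.restr O U).obj F) (s k) (Over.mk (𝟙 U)),
    fun e k => relC (O.over U) ((ModSite.restr O U).obj F) s ρ e k (Over.mk (𝟙 U)), ?_, ?_, ?_⟩
  · intro W a m y hy
    exact loc_comb_space O F U s W a m y hy
  · intro e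
    exact relC_rel (O.over U) ((ModSite.restr O U).obj F) s ρ e (Over.mk (𝟙 U))
  · intro W a v y hy hv
    let v' : Kg → (O.over U).obj.obj (op (Over.mk a)) := v
    have hv' : ∑ k, v' k • secAt (O.over U) ((ModSite.restr O U).obj F) (s k) (Over.mk a) = 0 := by
      refine Eq.trans (Finset.sum_congr rfl (fun k _ => ?_)) hv
      congr 1
      exact (res_secAt (O.over U) ((ModSite.restr O U).obj F) (s k)
        (Over.homMk a : Over.mk a ⟶ Over.mk (𝟙 U))).symm
    obtain ⟨S₀, hS₀, hloc⟩ := rel_site (O.over U) ((ModSite.restr O U).obj F) s ρ (Over.mk a) v' hv'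
    have hS : Sieve.overEquiv (Over.mk a) S₀ ∈ Opens.grothendieckTopology X W :=
      ((Opens.grothendieckTopology X).mem_over_iff S₀).mp hS₀
    obtain ⟨W', h, hh, hyW'⟩ := hS y hy
    have hh' : S₀ (Over.homMk h : Over.mk (h ≫ a) ⟶ Over.mk a) :=
      (Sieve.overEquiv_iff S₀ h).mp hh
    obtain ⟨d, hd⟩ := hloc _ hh'
    refine ⟨W', h, hyW', d, fun k => ?_⟩
    refine (hd k).trans (Finset.sum_congr rfl (fun e _ => ?_))
    congr 1
    exact (relC_res (O.over U) ((ModSite.restr O U).obj F) s ρ
      (Over.homMk (h ≫ a) : Over.mk (h ≫ a) ⟶ Over.mk (𝟙 U)) e k).symm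

end Space

end Groth.Agent.Helper10.PresRel
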