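import Mathlib
import Groth.Prelude.Def_ModSite
import Groth.Agent.Lib.Helper10.PresRel

/-!
# Building finite presentations of modules on a ringed space from sections
-/

set_option autoImplicit false
set_option linter.unusedSectionVars false
set_option linter.unusedVariables false

open CategoryTheory Limits Opposite TopologicalSpace

namespace Groth.Agent.Helper10.PresLocal

open Groth.Agent.Helper17.MT Groth.Agent.Helper17.GN Groth.Agent.Helper17.FS
open Groth.Agent.Helper10.PresRel

universe u

section Site

variable {C : Type u} [SmallCategory C] {J : GrothendieckTopology C} (O : Sheaf J CommRingCat.{u})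

/-- a family of sections which locally generates is generating -/
theorem epi_πS_of_locally {K : Type u} [Fintype K] [DecidableEq K] (N : ModSite.Mod O)
    (ρ : K → N.sections)
    (h : ∀ (Y : C) (n : ModSite.sect N Y), ∃ S ∈ J Y, ∀ ⦃Y' : C⦄ (g : Y' ⟶ Y), S g →
      ∃ c : K → O.obj.obj (op Y'), res N g n = ∑ k, c k • secAt O N (ρ k) Y') :
    Epi (πS O N ρ) := by
  rw [epi_iff_isLocallySurjective]
  refine ⟨fun {Y} n => ?_⟩
  obtain ⟨S, hS, hloc⟩ := h Y n
  refine J.superset_covering ?_ hS
  intro Y' g hg
  obtain ⟨c, hc⟩ := hloc g hg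
  refine ⟨∑ k, c k • eB O k (X := Y'), ?_⟩
  change (πS O N ρ).val.app (op Y') _ = res N g n
  rw [hc]
  refine (map_sum ((πS O N ρ).val.app (op Y')).hom _ _).trans
    (Finset.sum_congr rfl (fun k _ => ?_))
  refine (((πS O N ρ).val.app (op Y')).hom.map_smul _ _).trans ?_
  congr 1
  exact πS_eB O N ρ k Y'

theorem ι_injective_site {G F : ModSite.Mod O} (θ : G ⟶ F) (W : C) :
    Function.Injective ((kernel.ι θ).val.app (op W)).hom := by
  have h1 : Mono ((SheafOfModules.forget _).map (kernel.ι θ)) := inferInstance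
  exact (PresheafOfModules.mono_iff_surjective _).mp h1 (X := op W)

section Rel

variable {Kg Kr : Type u} [Fintype Kg] [DecidableEq Kg] [Fintype Kr] [DecidableEq Kr]
  (M : ModSite.Mod O) (s : Kg → M.sections)
  (ρ : Kr → (kernel (πS O M s)).sections)

/-- sections of the kernel are determined by relations between the generators -/
theorem epi_rel_site
    (h : ∀ (Y : C) (v : Kg → O.obj.obj (op Y)), ∑ k, v k • secAt O M (s k) Y = 0 →
      ∃ S ∈ J Y, ∀ ⦃Y' : C⦄ (g : Y' ⟶ Y), S g → ∃ d : Kr → O.obj.obj (op Y'),
        ∀ k, rres g (v k) = ∑ e, d e * relC O M s ρ e k Y') :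
    Epi (πS O (kernel (πS O M s)) ρ) := by
  apply epi_πS_of_locally
  intro Y n
  let w : (SheafOfModules.free (R := ModSite.ringSh O) Kg).val.obj (op Y) :=
    ((kernel.ι (πS O M s)).val.app (op Y)).hom n
  let v : Kg → O.obj.obj (op Y) := fun k => cc O k w
  have hw : w = ∑ k, v k • eB O k (X := Y) := eq_sum_cB O w
  have hv : ∑ k, v k • secAt O M (s k) Y = 0 := by
    have h0 : ((πS O M s).val.app (op Y)).hom w = 0 := by
      have h := congrArg (fun (m : kernel (πS O M s) ⟶ M) => (m.val.app (op Y)).hom n)
        (kernel.condition (πS O M s))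
      exact h
    rw [hw, map_sum] at h0
    refine Eq.trans (Finset.sum_congr rfl (fun k _ => ?_)) h0
    rw [← πS_eB O M s k Y]
    exact (((πS O M s).val.app (op Y)).hom.map_smul _ _).symm
  obtain ⟨S, hS, hloc⟩ := h Y v hv
  refine ⟨S, hS, fun Y' g hg => ?_⟩
  obtain ⟨d, hd⟩ := hloc g hg
  refine ⟨d, ?_⟩
  apply ι_injective_site O (πS O M s) Y'
  rw [map_res_site]
  change res (SheafOfModules.free (R := ModSite.ringSh O) Kg) g w = _
  rw [eq_sum_cB O (res (SheafOfModules.free (R := ModSite.ringSh O) Kg) g w), map_sum]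
  have e1 : ∀ e, ((kernel.ι (πS O M s)).val.app (op Y')).hom
      (d e • secAt O (kernel (πS O M s)) (ρ e) Y') =
      ∑ k, (d e * relC O M s ρ e k Y') • eB O k (X := Y') := by
    intro e
    refine (((kernel.ι (πS O M s)).val.app (op Y')).hom.map_smul _ _).trans ?_
    rw [eq_sum_cB O (((kernel.ι (πS O M s)).val.app (op Y')).hom
      (secAt O (kernel (πS O M s)) (ρ e) Y')), Finset.smul_sum]
    refine Finset.sum_congr rfl (fun k _ => ?_)
    rw [smul_smul]
    rfl
  rw [Finset.sum_congr rfl (fun e _ => e1 e), Finset.sum_comm]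
  refine Finset.sum_congr rfl (fun k _ => ?_)
  rw [← Finset.sum_smul]
  congr 1
  have e2 : cB O k (res (SheafOfModules.free (R := ModSite.ringSh O) Kg) g w) = rres g (v k) :=
    cc_res O g k w
  exact e2.trans (hd k)

end Rel

end Site

section Space

variable {X : TopCat.{u}} (O : TopCat.Sheaf CommRingCat.{u} X)

theorem res_id (M : ModSite.Mod O) (U : Opens X) (m : ModSite.sect M U) :
    res M (𝟙 U) m = m :=
  (PresheafOfModules.congr_map_apply M.val (op_id) m).trans
    (CategoryTheory.congr_fun (M.val.presheaf.map_id _) m)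

theorem rres_eq {U V : Opens X} (g g' : V ⟶ U) (a : O.obj.obj (op U)) :
    rres (O := O) g a = rres g' a := by
  rw [Subsingleton.elim g g']

/-- a finite presentation of the restriction to an open, built from sections -/
theorem presentation_of_pointwise (M : ModSite.Mod O) (U : Opens X) {Kg Kr : Type u}
    [Fintype Kg] [DecidableEq Kg] [Fintype Kr] [DecidableEq Kr]
    (f : Kg → ModSite.sect M U) (r : Kr → Kg → O.obj.obj (op U))
    (hgen : ∀ (W : Opens X) (a : W ⟶ U) (m : ModSite.sect M W) (y : X), y ∈ W →
      ∃ (W' : Opens X) (h : W' ⟶ W), y ∈ W' ∧ ∃ c : Kg → O.obj.obj (op W'),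
        res M h m = ∑ k, c k • res M (h ≫ a) (f k))
    (hrel : ∀ e, ∑ k, r e k • f k = 0)
    (hrelgen : ∀ (W : Opens X) (a : W ⟶ U) (v : Kg → O.obj.obj (op W)) (y : X), y ∈ W →
      ∑ k, v k • res M a (f k) = 0 →
      ∃ (W' : Opens X) (h : W' ⟶ W), y ∈ W' ∧ ∃ d : Kr → O.obj.obj (op W'),
        ∀ k, rres h (v k) = ∑ e, d e * rres (h ≫ a) (r e k)) :
    ∃ P : ((ModSite.restr O U).obj M).Presentation, P.IsFinite := by
  let M' : ModSite.Mod (O.over U) := (ModSite.restr O U).obj M
  let T : Over U := Over.mk (𝟙 U)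
  let s : Kg → M'.sections := fun k => secOf O U M (f k)
  have hs : Epi (πS (O.over U) M' s) := epi_πS_of_pointwise O M U f hgen
  have hsT : ∀ k, secAt (O.over U) M' (s k) T = f k := fun k =>
    (secAt_secOf O U M (f k) T).trans (res_id O M U (f k))
  let r' : Kr → Kg → (O.over U).obj.obj (op T) := r
  let w : Kr → (SheafOfModules.free (R := ModSite.ringSh (O.over U)) Kg).val.obj (op T) :=
    fun e => ∑ k, r' e k • eB (O.over U) k (X := T)
  have hw : ∀ e, ((πS (O.over U) M' s).val.app (op T)).hom (w e) = 0 := by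
    intro e
    rw [map_sum]
    refine Eq.trans (Finset.sum_congr rfl (fun k _ => ?_)) (hrel e)
    refine (((πS (O.over U) M' s).val.app (op T)).hom.map_smul _ _).trans ?_
    congr 1
    exact (πS_eB (O.over U) M' s k T).trans (hsT k)
  let S : ShortComplex (ModSite.Mod (O.over U)) :=
    ShortComplex.mk (kernel.ι (πS (O.over U) M' s)) (πS (O.over U) M' s) (kernel.condition _)
  have hS : S.ShortExact :=
    { exact := ShortComplex.exact_of_f_is_kernel _ (kernelIsKernel (πS (O.over U) M' s))
      mono_f := inferInstanceAs (Mono (kernel.ι (πS (O.over U) M' s)))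
      epi_g := inferInstanceAs (Epi (πS (O.over U) M' s)) }
  choose n hn using fun e => exact_sections (O.over U) S hS T (w e) (hw e)
  let ρ : Kr → (kernel (πS (O.over U) M' s)).sections := fun e =>
    (sectionsEquivTerminal O U (kernel (πS (O.over U) M' s)).val).symm (n e)
  have hρsec : ∀ e (Y : Over U), secAt (O.over U) (kernel (πS (O.over U) M' s)) (ρ e) Y =
      res (kernel (πS (O.over U) M' s)) (Over.homMk Y.hom : Y ⟶ T) (n e) := fun e Y => rfl
  have hrelC : ∀ e k (Y : Over U),
      relC (O.over U) M' s ρ e k Y = rres (O := O) Y.hom (r e k) := by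
    intro e k Y
    unfold relC
    rw [hρsec, map_res_site]
    have hn' : ((kernel.ι (πS (O.over U) M' s)).val.app (op T)).hom (n e) = w e := hn e
    rw [hn', cc_res]
    have e1 : cc (O.over U) k (w e) = r' e k := cc_comb (O.over U) k (r' e)
    rw [e1]
    rfl
  have hρ : Epi (πS (O.over U) (kernel (πS (O.over U) M' s)) ρ) := by
    apply epi_rel_site
    intro Y v hv
    let v₀ : Kg → O.obj.obj (op Y.left) := v
    let SW : Sieve Y.left :=
      { arrows := fun W' h => ∃ d : Kr → O.obj.obj (op W'),
          ∀ k, rres h (v₀ k) = ∑ e, d e * rres (h ≫ Y.hom) (r e k)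
        downward_closed := by
          rintro W' W'' h ⟨d, hd⟩ h'
          refine ⟨fun e => rres h' (d e), fun k => ?_⟩
          rw [rres_comp, hd k, rres_sum]
          refine Finset.sum_congr rfl (fun e _ => ?_)
          rw [rres_mul, ← rres_comp]
          congr 1 }
    have hSW : SW ∈ Opens.grothendieckTopology X Y.left := by
      intro y hy
      have hv' : ∑ k, v₀ k • res M Y.hom (f k) = 0 := by
        refine Eq.trans (Finset.sum_congr rfl (fun k _ => ?_)) hv
        congr 1
      obtain ⟨W', h, hyW', d, hd⟩ := hrelgen Y.left Y.hom v₀ y hy hv'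
      exact ⟨W', h, ⟨d, hd⟩, hyW'⟩
    refine ⟨(Sieve.overEquiv Y).symm SW,
      (Opens.grothendieckTopology X).overEquiv_symm_mem_over Y SW hSW, ?_⟩
    intro Y' g hg
    obtain ⟨d, hd⟩ := (Sieve.overEquiv_symm_iff SW g).mp hg
    refine ⟨d, fun k => ?_⟩
    refine Eq.trans ?_ ((hd k).trans (Finset.sum_congr rfl (fun e _ => ?_)))
    · rfl
    · rw [hrelC]
      congr 1
  let P : M'.Presentation :=
    { generators := { I := Kg, s := s, epi := hs }
      relations := { I := Kr, s := ρ, epi := hρ } }
  refine ⟨P, ?_⟩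
  exact { isFiniteType_generators := { finite := Finite.of_fintype Kg }
          isFiniteType_relations := { finite := Finite.of_fintype Kr } }

/-- a module which is locally finitely presented is of finite presentation -/
theorem isFinitePresentation_of_local (M : ModSite.Mod O)
    (h : ∀ x : X, ∃ (U : Opens X) (_ : x ∈ U)
      (P : ((ModSite.restr O U).obj M).Presentation), P.IsFinite) :
    SheafOfModules.IsFinitePresentation (R := ModSite.ringSh O) M := by
  choose U hU P hP using h
  let σ : SheafOfModules.QuasicoherentData.{u} (R := ModSite.ringSh O) M :=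
    { I := X
      X := U
      coversTop := by
        intro W y hy
        refine ⟨W ⊓ U y, homOfLE inf_le_left, ?_, ⟨hy, hU y⟩⟩
        exact (Sieve.mem_ofObjects_iff ..).mpr ⟨y, ⟨homOfLE inf_le_right⟩⟩
      presentation := P }
  have hσ : σ.IsFinitePresentation := { isFinite_presentation := hP }
  constructor
  exact ⟨σ, hσ⟩

end Space

end Groth.Agent.Helper10.PresLocal
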