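import Groth.Agent.S6834
import Groth.Agent.S6848
import Groth.Agent.S6846

/-!
# Directed colimits of modules on a ringed space: local vanishing at a stage, gluing of sections
-/

set_option autoImplicit false
set_option linter.unusedSectionVars false
set_option linter.unusedVariables false
universe u
open CategoryTheory CategoryTheory.Limits TopologicalSpace
open ModSite

namespace Groth.Agent.Helper10.DirCol

open Opposite
open Groth.Agent.Helper17.MT Groth.Agent.Helper17.GN Groth.Agent.Helper17.FS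
open Groth.Agent.Helper10.PresRel Groth.Agent.Helper10.PresLocal Groth.Agent.Helper10.GermSp

section Space

variable {X : TopCat.{u}} (O : TopCat.Sheaf CommRingCat.{u} X)
  {I : Type u} [Preorder I] [Nonempty I] [IsDirected I (· ≤ ·)] (D : I ⥤ ModSite.Mod O)
  (c : Cocone D) (hc : IsColimit c)

/-- the germ of the image of a section under a morphism -/
theorem gm_map {F G : ModSite.Mod O} (φ : F ⟶ G) (y : X) {W : Opens X} (hy : y ∈ W)
    (s : ModSite.sect F W) :
    ((pt y).sheafFiber.map ((SheafOfModules.toSheaf (ModSite.ringSh O)).map φ)).hom (gm y F hy s) =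
      gm y G hy ((φ.val.app (op W)).hom s) :=
  (pt y).toPresheafFiber_naturality_apply
    ((SheafOfModules.toSheaf (ModSite.ringSh O)).map φ).hom W (fibElt y W hy) s

include hc

/-- a section of a stage which dies in the colimit dies locally at a later stage -/
theorem zloc (i : I) (W : Opens X) (s : ModSite.sect (D.obj i) W)
    (hs : ((c.ι.app i).val.app (op W)).hom s = 0) (y : X) (hy : y ∈ W) :
    ∃ (W' : Opens X) (h : W' ⟶ W), y ∈ W' ∧ ∃ (j : I) (hij : i ≤ j),
      ((D.map (homOfLE hij)).val.app (op W')).hom (res (D.obj i) h s) = 0 := by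
  let T := SheafOfModules.toSheaf.{u} (ModSite.ringSh O)
  let Φ := (pt y).sheafFiber (A := AddCommGrpCat.{u})
  have hp := Groth.Agent.Helper10.LocFinMod.preservesColimits_toSheaf (ModSite.ringSh O)
  have hc' : IsColimit ((T ⋙ Φ).mapCocone c) := isColimitOfPreserves (T ⋙ Φ) hc
  have e1 : ((T ⋙ Φ).mapCocone c).ι.app i (gm y (D.obj i) hy s) =
      ((T ⋙ Φ).mapCocone c).ι.app i (0 : ModSite.stalkAb (pt y) (D.obj i)) := by
    have := gm_map O (c.ι.app i) y hy s
    rw [hs, gm_zero] at this
    refine this.trans ?_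
    exact (map_zero _).symm
  obtain ⟨k, f, g, hfg⟩ := Concrete.isColimit_exists_of_rep_eq (D ⋙ T ⋙ Φ) hc' _ _ e1
  have hik : i ≤ k := leOfHom f
  have e2 : gm y (D.obj k) hy (((D.map (homOfLE hik)).val.app (op W)).hom s) = 0 := by
    have := gm_map O (D.map (homOfLE hik)) y hy s
    rw [← this]
    have hf : f = homOfLE hik := Subsingleton.elim _ _
    rw [hf] at hfg
    refine hfg.trans ?_
    exact map_zero _
  obtain ⟨W', h, hyW', hW'⟩ := gm_eq_zero y (D.obj k) hy _ e2
  refine ⟨W', h, hyW', k, hik, ?_⟩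
  rw [map_res]
  exact hW'

omit hc in
theorem D_comp {i j k : I} (h1 : i ≤ j) (h2 : j ≤ k) (W : Opens X)
    (x : ModSite.sect (D.obj i) W) :
    ((D.map (homOfLE (h1.trans h2))).val.app (op W)).hom x =
      ((D.map (homOfLE h2)).val.app (op W)).hom (((D.map (homOfLE h1)).val.app (op W)).hom x) := by
  have : D.map (homOfLE (h1.trans h2)) = D.map (homOfLE h1) ≫ D.map (homOfLE h2) := by
    rw [← D.map_comp]
    rfl
  rw [this]
  rfl

theorem zloc_fin {K : Type u} [Fintype K] (i : I) (W : Opens X)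
    (s : K → ModSite.sect (D.obj i) W)
    (hs : ∀ l, ((c.ι.app i).val.app (op W)).hom (s l) = 0) (y : X) (hy : y ∈ W) :
    ∃ (W' : Opens X) (h : W' ⟶ W), y ∈ W' ∧ ∃ (j : I) (hij : i ≤ j), ∀ l,
      ((D.map (homOfLE hij)).val.app (op W')).hom (res (D.obj i) h (s l)) = 0 := by
  classical
  obtain ⟨V, hyV, hV⟩ := exists_common_open y
    (fun (l : K) (V : Opens X) => ∃ (h : V ⟶ W) (j : I) (hij : i ≤ j),
      ((D.map (homOfLE hij)).val.app (op V)).hom (res (D.obj i) h (s l)) = 0)
    (by
      rintro l V V' hle ⟨h, j, hij, hz⟩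
      refine ⟨homOfLE hle ≫ h, j, hij, ?_⟩
      rw [res_comp, map_res, hz]
      exact res_zero _ _)
    (by
      intro l
      obtain ⟨W', h, hyW', j, hij, hz⟩ := zloc O D c hc i W (s l) (hs l) y hy
      exact ⟨W', hyW', h, j, hij, hz⟩)
  choose h j hij hz using hV
  obtain ⟨j₀, hj₀⟩ := Finset.exists_le (Finset.univ.image j)
  have hjl : ∀ l, j l ≤ j₀ := fun l => hj₀ (j l) (Finset.mem_image_of_mem j (Finset.mem_univ l))
  rcases isEmpty_or_nonempty K with hK | ⟨⟨l₀⟩⟩
  · exact ⟨W, 𝟙 W, hy, i, le_rfl, fun l => isEmptyElim l⟩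
  · refine ⟨V, h l₀, hyV, j₀, (hij l₀).trans (hjl l₀), fun l => ?_⟩
    have e1 : h l₀ = h l := Subsingleton.elim _ _
    rw [e1]
    have e2 := D_comp O D (hij l) (hjl l) V (res (D.obj i) (h l) (s l))
    refine e2.trans ?_
    rw [hz l]
    exact map_zero _

end Space

section Glue

variable {X : TopCat.{u}} (O : TopCat.Sheaf CommRingCat.{u} X)

/-- gluing of sections of a sheaf of modules on a space -/
theorem glue (M : ModSite.Mod O) (W : Opens X) {ι : Type u} (U : ι → Opens X)
    (hle : ∀ i, U i ≤ W) (hcov : ∀ y ∈ W, ∃ i, y ∈ U i) (s : ∀ i, ModSite.sect M (U i))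
    (hcompat : ∀ i j, res M (homOfLE (inf_le_left : U i ⊓ U j ≤ U i)) (s i) =
      res M (homOfLE (inf_le_right : U i ⊓ U j ≤ U j)) (s j)) :
    ∃ t : ModSite.sect M W, ∀ i, res M (homOfLE (hle i)) t = s i := by
  let F : TopCat.Sheaf AddCommGrpCat.{u} X := ModSite.toAb M
  have hc' : TopCat.Presheaf.IsCompatible F.obj U (fun i => (s i : ToType (F.obj.obj (op (U i))))) :=
    fun i j => hcompat i j
  obtain ⟨t, ht, _⟩ := F.existsUnique_gluing' U W (fun i => homOfLE (hle i))
    (fun y hy => Opens.mem_iSup.mpr (hcov y hy)) _ hc'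
  exact ⟨t, ht⟩

/-- two sections which agree locally are equal -/
theorem eq_of_locally (M : ModSite.Mod O) (W : Opens X) (m m' : ModSite.sect M W)
    (h : ∀ y ∈ W, ∃ (W' : Opens X) (g : W' ⟶ W), y ∈ W' ∧ res M g m = res M g m') : m = m' := by
  have : m - m' = 0 := by
    apply Groth.Agent.S6848.eq_zero_of_locally O M W
    intro y hy
    obtain ⟨W', g, hyW', hg⟩ := h y hy
    refine ⟨W', g, hyW', ?_⟩
    rw [res_sub, hg, sub_self]
  exact sub_eq_zero.mp this

end Glue

end Groth.Agent.Helper10.DirCol
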