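import Mathlib

/-!
# Gluing two copies of a scheme along an open subscheme
-/

set_option autoImplicit false

open CategoryTheory CategoryTheory.Limits AlgebraicGeometry

namespace Groth.Agent.Helper10.DoubleGlue

universe u

variable {V U : Scheme.{u}} (g : V ⟶ U) [IsOpenImmersion g]

instance span_isOpenImmersion {i j : WalkingSpan} (f : i ⟶ j) :
    IsOpenImmersion ((span g g).map f) := by
  change WidePushoutShape.Hom i j at f
  cases f with
  | id =>
    have : (span g g).map (WidePushoutShape.Hom.id i) = 𝟙 _ := (span g g).map_id i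
    rw [this]
    infer_instance
  | init k =>
    cases k
    · exact inferInstanceAs (IsOpenImmersion g)
    · exact inferInstanceAs (IsOpenImmersion g)

instance hasPushout_self : HasPushout g g :=
  inferInstanceAs (HasColimit (span g g))

instance inl_isOpenImmersion : IsOpenImmersion (pushout.inl g g) :=
  inferInstanceAs (IsOpenImmersion (colimit.ι (span g g) WalkingSpan.left))

instance inr_isOpenImmersion : IsOpenImmersion (pushout.inr g g) :=
  inferInstanceAs (IsOpenImmersion (colimit.ι (span g g) WalkingSpan.right))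

lemma apex_eq : (colimit.ι (span g g) WalkingSpan.zero : V ⟶ pushout g g) = g ≫ pushout.inl g g :=
  (colimit.w (span g g) WalkingSpan.Hom.fst).symm

/-- The two copies of `U` cover the glued scheme. -/
lemma inl_or_inr (x : ↥(pushout g g)) :
    (∃ y : U, pushout.inl g g y = x) ∨ (∃ y : U, pushout.inr g g y = x) := by
  obtain ⟨i, xi, hx⟩ := Scheme.IsLocallyDirected.ι_jointly_surjective (span g g) x
  rcases i with _ | k
  · left
    refine ⟨g xi, ?_⟩
    rw [← hx]
    have key : ∀ (f₁ f₂ : V ⟶ pushout g g) (z : V), f₁ = f₂ → f₁ z = f₂ z := by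
      intro f₁ f₂ z h
      rw [h]
    exact (key _ _ xi (apex_eq g)).symm
  · cases k
    · exact Or.inl ⟨xi, hx⟩
    · exact Or.inr ⟨xi, hx⟩

/-- The two copies of `U` intersect in `V`. -/
lemma exists_of_inl_eq_inr {y₁ y₂ : U} (h : pushout.inl g g y₁ = pushout.inr g g y₂) :
    ∃ z : V, g z = y₁ ∧ g z = y₂ := by
  have h' : colimit.ι (span g g) WalkingSpan.left y₁ = colimit.ι (span g g) WalkingSpan.right y₂ := h
  obtain ⟨k, fi, fj, z, hz₁, hz₂⟩ := (Scheme.IsLocallyDirected.ι_eq_ι_iff (span g g)).1 h'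
  change WidePushoutShape.Hom k WalkingSpan.left at fi
  change WidePushoutShape.Hom k WalkingSpan.right at fj
  cases fi with
  | id => cases fj
  | init =>
    cases fj with
    | init => exact ⟨z, hz₁, hz₂⟩

/-- The pullback property of the glued scheme. -/
lemma exists_lift {T : Scheme.{u}} (t₁ t₂ : T ⟶ U)
    (h : t₁ ≫ pushout.inl g g = t₂ ≫ pushout.inr g g) :
    ∃ s : T ⟶ V, s ≫ g = t₁ ∧ s ≫ g = t₂ := by
  have hpt : ∀ x : T, ∃ z : V, g z = t₁ x ∧ g z = t₂ x := by
    intro x
    apply exists_of_inl_eq_inr g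
    change (t₁ ≫ pushout.inl g g) x = (t₂ ≫ pushout.inr g g) x
    rw [h]
  have h₁ : Set.range t₁ ⊆ Set.range g := by
    rintro _ ⟨x, rfl⟩
    obtain ⟨z, hz, -⟩ := hpt x
    exact ⟨z, hz⟩
  have h₂ : Set.range t₂ ⊆ Set.range g := by
    rintro _ ⟨x, rfl⟩
    obtain ⟨z, -, hz⟩ := hpt x
    exact ⟨z, hz⟩
  let s₁ := IsOpenImmersion.lift g t₁ h₁
  let s₂ := IsOpenImmersion.lift g t₂ h₂
  have e₁ : s₁ ≫ g = t₁ := IsOpenImmersion.lift_fac g t₁ h₁
  have e₂ : s₂ ≫ g = t₂ := IsOpenImmersion.lift_fac g t₂ h₂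
  have hs : s₁ = s₂ := by
    have : Mono (g ≫ pushout.inl g g) := inferInstance
    rw [← cancel_mono (g ≫ pushout.inl g g)]
    calc s₁ ≫ g ≫ pushout.inl g g = t₁ ≫ pushout.inl g g := by rw [← Category.assoc, e₁]
      _ = t₂ ≫ pushout.inr g g := h
      _ = s₂ ≫ g ≫ pushout.inr g g := by rw [← Category.assoc, e₂]
      _ = s₂ ≫ g ≫ pushout.inl g g := by rw [pushout.condition]
  exact ⟨s₁, e₁, by rw [hs]; exact e₂⟩

/-- The structure map of the glued scheme is étale. -/
lemma etale_desc {X : Scheme.{u}} (a : U ⟶ X) [Etale a] :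
    Etale (pushout.desc a a rfl : pushout g g ⟶ X) := by
  refine IsZariskiLocalAtSource.of_openCover (P := @Etale)
    (Scheme.IsLocallyDirected.openCover (span g g)) ?_
  intro i
  change Etale (colimit.ι (span g g) i ≫ pushout.desc a a rfl)
  rcases i with _ | k
  · have key : ∀ (f₁ f₂ : V ⟶ pushout g g), f₁ = f₂ →
        Etale (f₂ ≫ (pushout.desc a a rfl : pushout g g ⟶ X)) →
        Etale (f₁ ≫ (pushout.desc a a rfl : pushout g g ⟶ X)) := by
      intro f₁ f₂ h h'
      rw [h]
      exact h'
    refine key _ _ (apex_eq g) ?_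
    rw [Category.assoc, pushout.inl_desc]
    infer_instance
  · cases k
    · change Etale (pushout.inl g g ≫ pushout.desc a a rfl)
      rw [pushout.inl_desc]
      infer_instance
    · change Etale (pushout.inr g g ≫ pushout.desc a a rfl)
      rw [pushout.inr_desc]
      infer_instance

end Groth.Agent.Helper10.DoubleGlue
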