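import Mathlib
import Groth.Prelude.Def_FibCat2

/-!
# A criterion for equivalences over the base (helper10)

A functor over `C` which is fully faithful and essentially surjective "over identities" is an
equivalence over `C` in the sense of `FibCat.IsEquivOver`.
-/

set_option autoImplicit false

namespace Groth.Agent.Helper10

open CategoryTheory FibCat Functor

universe v₃ u₃ v₂ u₂ v u

variable {C : Type u} [Category.{v} C] {𝒳 : BasedCategory.{v₂, u₂} C}
  {𝒴 : BasedCategory.{v₃, u₃} C}

theorem isEquivOver_of_ff_ess (F : 𝒳 ⥤ᵇ 𝒴) [F.toFunctor.Full] [F.toFunctor.Faithful]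
    (hess : ∀ y : 𝒴.obj, ∃ (x : 𝒳.obj) (e : F.obj x ≅ y),
      𝒴.p.IsHomLift (𝟙 (𝒴.p.obj y)) e.hom) :
    IsEquivOver F := by
  choose X e he using hess
  have he' : ∀ y, 𝒴.p.IsHomLift (𝟙 (𝒴.p.obj y)) (e y).inv := fun y => by
    have := he y; infer_instance
  let G₀ : 𝒴.obj ⥤ 𝒳.obj :=
    { obj := X
      map := fun {y y'} g => F.toFunctor.preimage ((e y).hom ≫ g ≫ (e y').inv)
      map_id := fun y => by
        apply F.toFunctor.map_injective
        simp
      map_comp := fun {y y' y''} g g' => by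
        apply F.toFunctor.map_injective
        simp }
  have hFG : ∀ {y y' : 𝒴.obj} (g : y ⟶ y'), F.map (G₀.map g) = (e y).hom ≫ g ≫ (e y').inv :=
    fun g => F.toFunctor.map_preimage _
  have hlift : ∀ {y y' : 𝒴.obj} (g : y ⟶ y'), 𝒳.p.IsHomLift (𝒴.p.map g) (G₀.map g) := by
    intro y y' g
    rw [← BasedFunctor.isHomLift_iff F, hFG]
    have := he y
    have := he' y'
    infer_instance
  have hobj : ∀ y : 𝒴.obj, 𝒳.p.obj (X y) = 𝒴.p.obj y := fun y =>
    (F.w_obj (X y)).symm.trans (IsHomLift.domain_eq 𝒴.p (𝟙 (𝒴.p.obj y)) (e y).hom)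
  let G : 𝒴 ⥤ᵇ 𝒳 :=
    { toFunctor := G₀
      w := CategoryTheory.Functor.ext hobj (fun y y' g => by
        have := hlift g
        exact IsHomLift.fac' 𝒳.p (𝒴.p.map g) (G₀.map g)) }
  refine ⟨G, ⟨?_⟩, ⟨?_⟩⟩
  · refine BasedNatIso.mkNatIso
      (NatIso.ofComponents (fun x => F.toFunctor.preimageIso (e (F.obj x))) ?_) ?_
    · intro x x' f
      apply F.toFunctor.map_injective
      have h1 := hFG (F.map f)
      simp only [Functor.map_comp, Functor.preimageIso_hom, Functor.map_preimage]
      show F.map (G₀.map (F.map f)) ≫ (e (F.obj x')).hom = (e (F.obj x)).hom ≫ F.map f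
      rw [h1]
      simp
    · intro x
      rw [← BasedFunctor.isHomLift_iff F]
      show 𝒴.p.IsHomLift _ (F.toFunctor.map (F.toFunctor.preimage (e (F.obj x)).hom))
      rw [Functor.map_preimage]
      have h0 := he (F.obj x)
      have e1 : 𝒴.p.obj (F.obj x) = 𝒳.p.obj x := F.w_obj x
      rw [← e1]
      exact h0
  · refine BasedNatIso.mkNatIso (NatIso.ofComponents (fun y => e y) ?_) ?_
    · intro y y' g
      show F.map (G₀.map g) ≫ (e y').hom = (e y).hom ≫ g
      rw [hFG]
      simp
    · intro y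
      exact he y

end Groth.Agent.Helper10
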