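import Mathlib

/-!
# Transfer (trace) on sections of an abelian sheaf along a locally split morphism

Let `p : T' ⟶ T` be a morphism of a site such that locally on `T` it has a complete finite family
of pairwise disjoint sections.  Then for every abelian sheaf `F` there is a transfer map
`F(T') → F(T)` which is locally the sum of the pullbacks along the sections.
-/

set_option autoImplicit false

namespace Groth.Agent.Helper10.Transfer

open CategoryTheory CategoryTheory.Limits Opposite

universe v u

variable {C : Type u} [Category.{v} C] {J : GrothendieckTopology C}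

section Basic

variable (F : Sheaf J AddCommGrpCat.{max u v})

lemma isSheaf_forget : Presieve.IsSheaf J (F.obj ⋙ forget AddCommGrpCat.{max u v}) :=
  (isSheaf_iff_isSheaf_of_type J _).1
    ((Presheaf.isSheaf_iff_isSheaf_forget J F.obj (forget AddCommGrpCat.{max u v})).1 F.property)

lemma ext_of_cover {W : C} (R : Sieve W) (hR : R ∈ J W) (a b : F.obj.obj (op W))
    (h : ∀ ⦃V : C⦄ (u : V ⟶ W), R u → F.obj.map u.op a = F.obj.map u.op b) : a = b :=
  ((isSheaf_forget F) R hR).isSeparatedFor.ext (fun V u hu => h u hu)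

lemma exists_glue {W : C} (R : Sieve W) (hR : R ∈ J W)
    (x : ∀ ⦃V : C⦄ (u : V ⟶ W), R u → F.obj.obj (op V))
    (hx : ∀ ⦃V : C⦄ (u : V ⟶ W) (hu : R u) ⦃V' : C⦄ (v : V' ⟶ V),
      x (v ≫ u) (R.downward_closed hu v) = F.obj.map v.op (x u hu)) :
    ∃ t : F.obj.obj (op W), ∀ ⦃V : C⦄ (u : V ⟶ W) (hu : R u), F.obj.map u.op t = x u hu := by
  let fam : Presieve.FamilyOfElements (F.obj ⋙ forget AddCommGrpCat.{max u v}) R.arrows :=
    fun V u hu => x u hu
  have hc : fam.Compatible := by
    rw [Presieve.compatible_iff_sieveCompatible]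
    intro V V' u v hu
    exact hx u hu v
  obtain ⟨t, ht, -⟩ := (isSheaf_forget F) R hR fam hc
  exact ⟨t, fun V u hu => ht u hu⟩

lemma subsingleton_of_bot {W : C} (hW : ⊥ ∈ J W) (a b : F.obj.obj (op W)) : a = b :=
  ext_of_cover F ⊥ hW a b (fun _ _ h => h.elim)

end Basic

section Split

variable (J) {T' T : C} (p : T' ⟶ T)

/-- The sieve on `V` where `τ` agrees with one of the sections `σ i` (restricted along `v`). -/
def eqSieve {W V : C} {n : ℕ} (σ : Fin n → (W ⟶ T')) (v : V ⟶ W) (τ : V ⟶ T') : Sieve V where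
  arrows V' u := ∃ i, u ≫ τ = u ≫ v ≫ σ i
  downward_closed := by
    rintro V₁ V₂ u ⟨i, hi⟩ g
    exact ⟨i, by rw [Category.assoc, hi, Category.assoc]⟩

/-- A complete finite family of pairwise disjoint sections of `p` over `w : W ⟶ T`. -/
structure Split {W : C} (w : W ⟶ T) where
  n : ℕ
  σ : Fin n → (W ⟶ T')
  sec : ∀ i, σ i ≫ p = w
  complete : ∀ ⦃V : C⦄ (v : V ⟶ W) (τ : V ⟶ T'), τ ≫ p = v ≫ w → eqSieve σ v τ ∈ J V
  disjoint : ∀ ⦃V : C⦄ (v : V ⟶ W) (i j : Fin n), i ≠ j → v ≫ σ i = v ≫ σ j → ⊥ ∈ J V

variable {J p}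

/-- Restriction of a split along `v : V ⟶ W`. -/
def Split.comp {W : C} {w : W ⟶ T} (S : Split J p w) {V : C} (v : V ⟶ W) : Split J p (v ≫ w) where
  n := S.n
  σ i := v ≫ S.σ i
  sec i := by rw [Category.assoc, S.sec]
  complete V' v' τ h := by
    have h' : τ ≫ p = (v' ≫ v) ≫ w := by rw [h, Category.assoc]
    refine J.superset_covering ?_ (S.complete (v' ≫ v) τ h')
    rintro V'' u ⟨i, hi⟩
    exact ⟨i, by rw [hi, Category.assoc]⟩
  disjoint V' v' i j hij h := S.disjoint (v' ≫ v) i j hij (by
    rw [Category.assoc, Category.assoc]; exact h)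

variable (F : Sheaf J AddCommGrpCat.{max u v})

/-- The sum of the pullbacks along the sections. -/
noncomputable def Split.sum {W : C} {w : W ⟶ T} (S : Split J p w) (s : F.obj.obj (op T')) :
    F.obj.obj (op W) :=
  ∑ i, F.obj.map (S.σ i).op s

lemma Split.map_sum {W : C} {w : W ⟶ T} (S : Split J p w) (s : F.obj.obj (op T')) {V : C}
    (v : V ⟶ W) : F.obj.map v.op (S.sum F s) = (S.comp v).sum F s := by
  unfold Split.sum
  rw [_root_.map_sum]
  refine Finset.sum_congr rfl (fun i _ => ?_)
  show F.obj.map v.op (F.obj.map (S.σ i).op s) = F.obj.map (v ≫ S.σ i).op s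
  rw [op_comp, F.obj.map_comp]
  rfl

/-- Two splits over the same `w` give the same sum. -/
theorem Split.sum_eq {W : C} {w : W ⟶ T} (S S' : Split J p w) (s : F.obj.obj (op T')) :
    S.sum F s = S'.sum F s := by
  classical
  -- the sieve where every section of `S'` agrees with a section of `S`
  let R : Sieve W := Finset.univ.inf (fun j : Fin S'.n => eqSieve S.σ (𝟙 W) (S'.σ j))
  have hR : R ∈ J W := by
    have : ∀ (t : Finset (Fin S'.n)),
        t.inf (fun j : Fin S'.n => eqSieve S.σ (𝟙 W) (S'.σ j)) ∈ J W := by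
      intro t
      induction t using Finset.induction_on with
      | empty => simp
      | insert a t _ ih =>
        rw [Finset.inf_insert]
        refine J.intersection_covering ?_ ih
        exact S.complete (𝟙 W) (S'.σ a) (by rw [S'.sec, Category.id_comp])
    exact this _
  apply ext_of_cover F R hR
  intro V u hu
  by_cases hV : ⊥ ∈ J V
  · exact subsingleton_of_bot F hV _ _
  · have hu' : ∀ j : Fin S'.n, ∃ i : Fin S.n, u ≫ S'.σ j = u ≫ S.σ i := by
      intro j
      have h1 : (eqSieve S.σ (𝟙 W) (S'.σ j)) u := by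
        have hle : R ≤ eqSieve S.σ (𝟙 W) (S'.σ j) :=
          Finset.inf_le (f := fun j : Fin S'.n => eqSieve S.σ (𝟙 W) (S'.σ j))
            (Finset.mem_univ j)
        exact hle _ hu
      obtain ⟨i, hi⟩ := h1
      exact ⟨i, by rw [hi, Category.id_comp]⟩
    choose f hf using hu'
    -- symmetric statement
    have hinj : Function.Injective f := by
      intro j j' hjj
      by_contra hne
      exact hV (S'.disjoint u j j' hne (by rw [hf j, hf j', hjj]))
    -- every section of `S` is locally one of `S'`: use completeness of `S'` to get surjectivity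
    have hsurj : Function.Surjective f := by
      intro i
      by_contra hi
      rw [not_exists] at hi
      apply hV
      have hc := S'.complete u (u ≫ S.σ i) (by rw [Category.assoc, S.sec])
      refine J.transitive hc ⊥ ?_
      rintro V' g ⟨j, hj⟩
      -- on `V'`, `σ i = σ' j = σ (f j)` with `f j ≠ i`
      have h2 : (g ≫ u) ≫ S.σ i = (g ≫ u) ≫ S.σ (f j) := by
        rw [Category.assoc, hj, Category.assoc, ← hf j]
      have h3 := S.disjoint (g ≫ u) i (f j) (fun h => hi j h.symm) h2
      have h4 : (⊥ : Sieve V).pullback g = ⊥ := by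
        ext V'' k
        simp
      rw [h4]
      exact h3
    rw [Split.map_sum, Split.map_sum]
    symm
    calc (S'.comp u).sum F s = ∑ j, F.obj.map (u ≫ S.σ (f j)).op s :=
          Finset.sum_congr rfl (fun j _ => by
            show F.obj.map (u ≫ S'.σ j).op s = _
            rw [hf j])
      _ = ∑ i, F.obj.map (u ≫ S.σ i).op s :=
          Function.Bijective.sum_comp ⟨hinj, hsurj⟩ (fun i => F.obj.map (u ≫ S.σ i).op s)

/-- Where two splits meet (in a non-empty object), they have the same number of sections. -/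
theorem Split.n_eq {W : C} {w : W ⟶ T} (S S' : Split J p w) (hW : ⊥ ∉ J W) : S.n = S'.n := by
  classical
  let R : Sieve W := Finset.univ.inf (fun j : Fin S'.n => eqSieve S.σ (𝟙 W) (S'.σ j))
  have hR : R ∈ J W := by
    have : ∀ (t : Finset (Fin S'.n)),
        t.inf (fun j : Fin S'.n => eqSieve S.σ (𝟙 W) (S'.σ j)) ∈ J W := by
      intro t
      induction t using Finset.induction_on with
      | empty => simp
      | insert a t _ ih =>
        rw [Finset.inf_insert]
        refine J.intersection_covering ?_ ih
        exact S.complete (𝟙 W) (S'.σ a) (by rw [S'.sec, Category.id_comp])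
    exact this _
  by_contra hne
  apply hW
  refine J.transitive hR ⊥ ?_
  intro V u hu
  have h4 : (⊥ : Sieve W).pullback u = ⊥ := by
    ext V'' k
    simp
  rw [h4]
  by_contra hV
  have hu' : ∀ j : Fin S'.n, ∃ i : Fin S.n, u ≫ S'.σ j = u ≫ S.σ i := by
    intro j
    have hle : R ≤ eqSieve S.σ (𝟙 W) (S'.σ j) :=
      Finset.inf_le (f := fun j : Fin S'.n => eqSieve S.σ (𝟙 W) (S'.σ j)) (Finset.mem_univ j)
    obtain ⟨i, hi⟩ := hle _ hu
    exact ⟨i, by rw [hi, Category.id_comp]⟩
  choose f hf using hu'
  have hinj : Function.Injective f := by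
    intro j j' hjj
    by_contra hne
    exact hV (S'.disjoint u j j' hne (by rw [hf j, hf j', hjj]))
  have hsurj : Function.Surjective f := by
    intro i
    by_contra hi
    rw [not_exists] at hi
    apply hV
    have hc := S'.complete u (u ≫ S.σ i) (by rw [Category.assoc, S.sec])
    refine J.transitive hc ⊥ ?_
    rintro V' g ⟨j, hj⟩
    have h2 : (g ≫ u) ≫ S.σ i = (g ≫ u) ≫ S.σ (f j) := by
      rw [Category.assoc, hj, Category.assoc, ← hf j]
    have h3 := S.disjoint (g ≫ u) i (f j) (fun h => hi j h.symm) h2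
    have h5 : (⊥ : Sieve V).pullback g = ⊥ := by
      ext V'' k
      simp
    rw [h5]
    exact h3
  have := Fintype.card_of_bijective ⟨hinj, hsurj⟩
  simp only [Fintype.card_fin] at this
  exact hne this.symm

/-- The sieve of those `w` over which `p` splits. -/
def splitSieve (J : GrothendieckTopology C) {T' T : C} (p : T' ⟶ T) : Sieve T where
  arrows W w := Nonempty (Split J p w)
  downward_closed := by
    rintro W V w ⟨S⟩ v
    exact ⟨S.comp v⟩

variable (hp : splitSieve J p ∈ J T)
include hp

theorem exists_transfer (s : F.obj.obj (op T')) :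
    ∃ t : F.obj.obj (op T), ∀ ⦃W : C⦄ (w : W ⟶ T) (S : Split J p w),
      F.obj.map w.op t = S.sum F s := by
  obtain ⟨t, ht⟩ := exists_glue F (splitSieve J p) hp
    (fun W w hw => (Classical.choice hw).sum F s) (by
      intro W w hw V v
      rw [Split.map_sum]
      exact Split.sum_eq F _ _ s)
  refine ⟨t, fun W w S => ?_⟩
  rw [ht w ⟨S⟩]
  exact Split.sum_eq F _ _ s

/-- The transfer `F(T') → F(T)`. -/
noncomputable def transfer (s : F.obj.obj (op T')) : F.obj.obj (op T) :=
  (exists_transfer F hp s).choose

lemma map_transfer (s : F.obj.obj (op T')) {W : C} (w : W ⟶ T) (S : Split J p w) :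
    F.obj.map w.op (transfer F hp s) = S.sum F s :=
  (exists_transfer F hp s).choose_spec w S

/-- `tr (p^* t)` is locally `n • t`. -/
lemma map_transfer_map (t : F.obj.obj (op T)) {W : C} (w : W ⟶ T) (S : Split J p w) :
    F.obj.map w.op (transfer F hp (F.obj.map p.op t)) = S.n • F.obj.map w.op t := by
  rw [map_transfer F hp _ w S]
  unfold Split.sum
  have : ∀ i : Fin S.n, F.obj.map (S.σ i).op (F.obj.map p.op t) = F.obj.map w.op t := by
    intro i
    have h1 : F.obj.map (S.σ i).op (F.obj.map p.op t) = F.obj.map (S.σ i ≫ p).op t := by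
      rw [op_comp, F.obj.map_comp]
      rfl
    rw [h1, S.sec]
  rw [Finset.sum_congr rfl (fun i _ => this i)]
  simp

/-- Naturality of the transfer in the sheaf. -/
lemma transfer_naturality {G : Sheaf J AddCommGrpCat.{max u v}} (φ : F ⟶ G)
    (s : F.obj.obj (op T')) :
    φ.hom.app (op T) (transfer F hp s) = transfer G hp (φ.hom.app (op T') s) := by
  apply ext_of_cover G (splitSieve J p) hp
  rintro W w ⟨S⟩
  rw [map_transfer G hp _ w S]
  have h1 : G.obj.map w.op (φ.hom.app (op T) (transfer F hp s)) =
      φ.hom.app (op W) (F.obj.map w.op (transfer F hp s)) := by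
    have := ConcreteCategory.congr_hom (φ.hom.naturality w.op) (transfer F hp s)
    rw [ConcreteCategory.comp_apply, ConcreteCategory.comp_apply] at this
    exact this.symm
  rw [h1, map_transfer F hp _ w S]
  unfold Split.sum
  rw [_root_.map_sum]
  refine Finset.sum_congr rfl (fun i _ => ?_)
  have := ConcreteCategory.congr_hom (φ.hom.naturality (S.σ i).op) s
  rw [ConcreteCategory.comp_apply, ConcreteCategory.comp_apply] at this
  exact this

end Split

end Groth.Agent.Helper10.Transfer
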