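import Mathlib
import Groth.Prelude.Def_EtBase
import Groth.Agent.Lib.Helper10.EtLoc
import Groth.Agent.Lib.Helper10.Transfer
import Groth.Agent.S9559

/-!
# Finite étale morphisms of the small étale site are locally split
-/

set_option autoImplicit false

namespace Groth.Agent.Helper10.TransferEt

open CategoryTheory CategoryTheory.Limits AlgebraicGeometry Opposite
open Groth.Agent.Helper10 Groth.Agent.Helper10.Transfer

universe u

variable {X : Scheme.{u}} {T' T : X.Etale} (p : T' ⟶ T)

section Local

variable {U : Scheme.{u}} (g : U ⟶ T.left) [Etale g] {n : ℕ} (V : Fin n → Scheme.{u})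
  (c : ∀ j, V j ⟶ U) (hc : ∀ j, IsIso (c j)) (e : (∐ V) ≅ pullback p.left g)
  (he : ∀ j, Sigma.ι V j ≫ e.hom ≫ pullback.snd p.left g = c j)

/-- The étale neighbourhood as an object of the site. -/
noncomputable abbrev Wob : X.Etale := Scheme.Etale.mk (g ≫ T.hom)

/-- Its structure map to `T`. -/
noncomputable abbrev wmap : Wob g ⟶ T := MorphismProperty.Over.homMk g rfl trivial

/-- The `j`-th section, on schemes. -/
noncomputable abbrev secL (j : Fin n) : U ⟶ T'.left :=
  haveI := hc j
  inv (c j) ≫ Sigma.ι V j ≫ e.hom ≫ pullback.fst p.left g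

include he in
lemma secL_comp (j : Fin n) : secL p g V c hc e j ≫ p.left = g := by
  haveI := hc j
  show (inv (c j) ≫ Sigma.ι V j ≫ e.hom ≫ pullback.fst p.left g) ≫ p.left = g
  simp only [Category.assoc]
  rw [pullback.condition, ← Category.assoc e.hom, ← Category.assoc (Sigma.ι V j),
    ← Category.assoc (Sigma.ι V j), Category.assoc (Sigma.ι V j), he j, ← Category.assoc,
    IsIso.inv_hom_id, Category.id_comp]

/-- The `j`-th section as a morphism of the site. -/
noncomputable def sec (j : Fin n) : Wob g ⟶ T' :=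
  MorphismProperty.Over.homMk (secL p g V c hc e j) (by
    show secL p g V c hc e j ≫ T'.hom = g ≫ T.hom
    have h1 : p.left ≫ T.hom = T'.hom := Over.w p.hom
    rw [← h1, ← Category.assoc, secL_comp p g V c hc e he j]) trivial

lemma sec_left (j : Fin n) : (sec p g V c hc e he j).left = secL p g V c hc e j := rfl

include he in
lemma lift_eq {A : Scheme.{u}} (a : A ⟶ T'.left) (b : A ⟶ U) (hab : a ≫ p.left = b ≫ g)
    (j : Fin n) (ρj : A ⟶ V j)
    (hρ : ρj ≫ Sigma.ι V j = pullback.lift a b hab ≫ e.inv) :
    a = b ≫ secL p g V c hc e j := by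
  haveI := hc j
  have h1 : ρj ≫ c j = b := by
    rw [← he j, ← Category.assoc, hρ, Category.assoc, ← Category.assoc e.inv, e.inv_hom_id,
      Category.id_comp, pullback.lift_snd]
  have h2 : b ≫ inv (c j) = ρj := by
    rw [← h1, Category.assoc, IsIso.hom_inv_id, Category.comp_id]
  show a = b ≫ inv (c j) ≫ Sigma.ι V j ≫ e.hom ≫ pullback.fst p.left g
  rw [← Category.assoc, h2, ← Category.assoc, hρ, Category.assoc, ← Category.assoc e.inv,
    e.inv_hom_id, Category.id_comp, pullback.lift_fst]

include he in
lemma disjoint_aux (i j : Fin n) (hij : i ≠ j) {A : Scheme.{u}} (a : A ⟶ U)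
    (hl : a ≫ secL p g V c hc e i = a ≫ secL p g V c hc e j) (x : A) : False := by
  apply hij
  have hi := hc i
  have hj := hc j
  have h1 : (a ≫ inv (c i) ≫ Sigma.ι V i) ≫ e.hom =
      (a ≫ inv (c j) ≫ Sigma.ι V j) ≫ e.hom := by
    apply pullback.hom_ext
    · simp only [Category.assoc]
      exact hl
    · simp only [Category.assoc]
      rw [he i, he j, IsIso.inv_hom_id, IsIso.inv_hom_id]
  have h2 := (cancel_mono e.hom).1 h1
  have h3 : (Sigma.ι V i).base ((inv (c i)).base (a.base x)) =
      (Sigma.ι V j).base ((inv (c j)).base (a.base x)) :=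
    congrArg (fun m => m.base x) h2
  exact congrArg Sigma.fst ((sigmaι_eq_iff V i j _ _).1 h3)

/-- The splitting of `p` over the neighbourhood `U`. -/
noncomputable def split : Split X.smallEtaleTopology p (wmap (T := T) g) where
  n := n
  σ := sec p g V c hc e he
  sec j := by
    apply MorphismProperty.Over.Hom.ext
    exact secL_comp p g V c hc e he j
  complete := by
    intro V₀ v τ h
    rw [EtLoc.mem_iff]
    intro x
    have hl : τ.left ≫ p.left = v.left ≫ g := congrArg (fun m => m.left) h
    let ρ : V₀.left ⟶ pullback p.left g := pullback.lift τ.left v.left hl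
    let r : V₀.left ⟶ ∐ V := ρ ≫ e.inv
    obtain ⟨j, y, hy⟩ := (sigmaOpenCover V).exists_eq (r.base x)
    have hy' : (Sigma.ι V j).base y = r.base x := hy
    obtain ⟨z, hz1, -⟩ := Scheme.Pullback.exists_preimage_pullback (f := r) (g := Sigma.ι V j)
      x y hy'.symm
    let k₀ : pullback r (Sigma.ι V j) ⟶ V₀.left := pullback.fst r (Sigma.ι V j)
    let Z : X.Etale := Scheme.Etale.mk (k₀ ≫ V₀.hom)
    let k : Z ⟶ V₀ := MorphismProperty.Over.homMk k₀ rfl trivial
    refine ⟨Z, k, z, ⟨j, ?_⟩, hz1⟩
    apply MorphismProperty.Over.Hom.ext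
    show k₀ ≫ τ.left = k₀ ≫ v.left ≫ secL p g V c hc e j
    have hab : (k₀ ≫ τ.left) ≫ p.left = (k₀ ≫ v.left) ≫ g := by
      rw [Category.assoc, Category.assoc, hl]
    have := lift_eq p g V c hc e he (k₀ ≫ τ.left) (k₀ ≫ v.left) hab j
      (pullback.snd r (Sigma.ι V j)) (by
        rw [← pullback.condition]
        show k₀ ≫ ρ ≫ e.inv = _
        rw [← Category.assoc]
        congr 1
        apply pullback.hom_ext
        · rw [Category.assoc, pullback.lift_fst, pullback.lift_fst]
        · rw [Category.assoc, pullback.lift_snd, pullback.lift_snd])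
    exact this.trans (Category.assoc _ _ _)
  disjoint := by
    intro V₀ v i j hij h
    rw [EtLoc.mem_iff]
    intro x
    exfalso
    have hl : v.left ≫ secL p g V c hc e i = v.left ≫ secL p g V c hc e j :=
      congrArg (fun m => m.left) h
    exact disjoint_aux p g V c hc e he i j hij v.left hl x

end Local

/-- A finite (étale) morphism of the small étale site splits étale locally on the target. -/
theorem splitSieve_mem [IsFinite p.left] :
    splitSieve X.smallEtaleTopology p ∈ X.smallEtaleTopology T := by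
  rw [EtLoc.mem_iff]
  intro t
  obtain ⟨U, g, hg, u, hu, n, V, c, hc, e, he⟩ := Groth.Agent.S9559.result p.left t
  exact ⟨Wob g, wmap g, u, ⟨split p g V c hc e he⟩, hu⟩

end Groth.Agent.Helper10.TransferEt
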