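import Mathlib
import Groth.Prelude.Def_EtBase
import Groth.Prelude.Def_EtCore
import Groth.Agent.Lib.Helper10.EtLoc
import Groth.Agent.Lib.Helper10.Transfer
import Groth.Agent.Lib.Helper10.TransferEt

/-!
# Transfer on the small étale site of the spectrum of a field
-/

set_option autoImplicit false

namespace Groth.Agent.Helper10.FieldTransfer

open CategoryTheory CategoryTheory.Limits AlgebraicGeometry Opposite
open Groth.Agent.Helper10 Groth.Agent.Helper10.Transfer

universe u

/-- An étale morphism from an affine scheme to the spectrum of a field is finite. -/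
lemma isFinite_of_etale_affine {k : Type u} [Field k] {W : Scheme.{u}} [IsAffine W]
    (f : W ⟶ Spec (CommRingCat.of k)) [Etale f] : IsFinite f := by
  rw [HasAffineProperty.iff_of_isAffine (P := @IsFinite)]
  refine ⟨inferInstance, ?_⟩
  have h1 : (f.appLE ⊤ ⊤ le_top).hom.Etale :=
    f.etale_appLE (isAffineOpen_top _) (isAffineOpen_top _) _
  have h2 : f.appLE ⊤ ⊤ le_top = f.appTop := by
    simp [Scheme.Hom.appLE]
  rw [h2] at h1
  let ψ : CommRingCat.of k ⟶ Γ(W, ⊤) := (Scheme.ΓSpecIso (CommRingCat.of k)).inv ≫ f.appTop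
  have hbij : Function.Bijective (Scheme.ΓSpecIso (CommRingCat.of k)).inv.hom :=
    ConcreteCategory.bijective_of_isIso _
  have h3 : ψ.hom.Etale := by
    show ((Scheme.ΓSpecIso (CommRingCat.of k)).inv ≫ f.appTop).hom.Etale
    rw [CommRingCat.hom_comp]
    exact RingHom.Etale.stableUnderComposition _ _ (RingHom.Etale.of_bijective hbij) h1
  have h4 : ψ.hom.Finite := by
    algebraize [ψ.hom]
    have : Algebra.Etale k Γ(W, ⊤) := RingHom.etale_algebraMap.1 h3
    have : Module.Finite k Γ(W, ⊤) := Algebra.FormallyUnramified.finite_of_free k _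
    exact RingHom.finite_algebraMap.2 this
  have h5 : f.appTop = (Scheme.ΓSpecIso (CommRingCat.of k)).hom ≫ ψ := by
    simp [ψ]
  rw [h5, CommRingCat.hom_comp]
  exact h4.comp (RingHom.Finite.of_surjective _
    (ConcreteCategory.bijective_of_isIso (Scheme.ΓSpecIso (CommRingCat.of k)).hom).2)

lemma exists_affine_nbhd {X : Scheme.{u}} (U : X.Etale) (x : U.left) :
    ∃ (V : X.Etale) (g : V ⟶ U), IsAffine V.left ∧ ∃ v : V.left, g.left.base v = x := by
  obtain ⟨O, hO, hxO, -⟩ := TopologicalSpace.Opens.isBasis_iff_nbhd.mp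
    (Scheme.isBasis_affineOpens U.left) (TopologicalSpace.Opens.mem_top x)
  let O' : (U.left : Scheme.{u}).Opens := O
  let Z : X.Etale := Scheme.Etale.mk (O'.ι ≫ U.hom)
  let k : Z ⟶ U := MorphismProperty.Over.homMk O'.ι rfl trivial
  have hA : IsAffine Z.left := hO
  exact ⟨Z, k, hA, ⟨⟨x, hxO⟩, rfl⟩⟩

section Field

variable {k : Type u} [Field k]


instance : Subsingleton (Spec (CommRingCat.of k)) :=
  inferInstanceAs (Subsingleton (PrimeSpectrum k))

instance : Nonempty (Spec (CommRingCat.of k)) :=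
  inferInstanceAs (Nonempty (PrimeSpectrum k))

/-- A morphism to the terminal object from a non-empty object generates a covering sieve. -/
lemma generate_mem {W₁ : (Spec (CommRingCat.of k)).Etale} (w₁ : W₁ ⟶ EtCoh.top (Spec (CommRingCat.of k))) (z₁ : W₁.left) :
    Sieve.generate (Presieve.singleton w₁) ∈ (Spec (CommRingCat.of k)).smallEtaleTopology (EtCoh.top (Spec (CommRingCat.of k))) := by
  rw [EtLoc.mem_iff]
  intro x
  exact ⟨W₁, w₁, z₁, ⟨W₁, 𝟙 W₁, w₁, Presieve.singleton_self w₁, Category.id_comp _⟩,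
    @Subsingleton.elim (Spec (CommRingCat.of k)) _ _ _⟩

variable {W₀ : (Spec (CommRingCat.of k)).Etale} (p : W₀ ⟶ EtCoh.top (Spec (CommRingCat.of k)))

/-- The number of sheets of a split cover of a non-empty object is positive. -/
lemma split_n_pos (w₀ : W₀.left) {W₁ : (Spec (CommRingCat.of k)).Etale} {w₁ : W₁ ⟶ EtCoh.top (Spec (CommRingCat.of k))}
    (S₁ : Split (Spec (CommRingCat.of k)).smallEtaleTopology p w₁) (z₁ : W₁.left) : 0 < S₁.n := by
  rw [Nat.pos_iff_ne_zero]
  intro hn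
  let j₀ : (W₀.left : Scheme.{u}) ⟶ (Spec (CommRingCat.of k)) := W₀.hom
  let j₁ : (W₁.left : Scheme.{u}) ⟶ (Spec (CommRingCat.of k)) := W₁.hom
  haveI : Etale j₀ := W₀.prop
  haveI : Etale j₁ := W₁.prop
  let V₂ : (Spec (CommRingCat.of k)).Etale := Scheme.Etale.mk (pullback.fst j₀ j₁ ≫ j₀)
  let τ : V₂ ⟶ W₀ := MorphismProperty.Over.homMk (pullback.fst j₀ j₁) rfl trivial
  let v : V₂ ⟶ W₁ := MorphismProperty.Over.homMk (pullback.snd j₀ j₁)
    (pullback.condition (f := j₀) (g := j₁)).symm trivial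
  have h : τ ≫ p = v ≫ w₁ := (EtCore.topIsTerminal (Spec (CommRingCat.of k))).hom_ext _ _
  have hc := S₁.complete v τ h
  rw [EtLoc.mem_iff] at hc
  obtain ⟨y, -, -⟩ := Scheme.Pullback.exists_preimage_pullback (f := j₀) (g := j₁) w₀ z₁
    (Subsingleton.elim _ _)
  obtain ⟨_, _, _, ⟨i, -⟩, -⟩ := hc y
  exact (Fin.cast hn i).elim0

/-- If `q|_{W₀}` lifts along `g`, then `n • q` lifts globally, `n` the number of sheets of any
split cover of `W₀` over a non-empty `W₁`. -/
theorem lift_of_split [IsFinite p.left] {I Q : EtCoh.Ab (Spec (CommRingCat.of k))} (g : I ⟶ Q)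
    (q : Q.obj.obj (op (EtCoh.top (Spec (CommRingCat.of k))))) (s₀ : I.obj.obj (op W₀))
    (hs₀ : g.hom.app (op W₀) s₀ = Q.obj.map p.op q)
    {W₁ : (Spec (CommRingCat.of k)).Etale} {w₁ : W₁ ⟶ EtCoh.top (Spec (CommRingCat.of k))}
    (S₁ : Split (Spec (CommRingCat.of k)).smallEtaleTopology p w₁) (z₁ : W₁.left) :
    ∃ t : I.obj.obj (op (EtCoh.top (Spec (CommRingCat.of k)))),
      g.hom.app (op (EtCoh.top (Spec (CommRingCat.of k)))) t = S₁.n • q := by
  have hp := TransferEt.splitSieve_mem p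
  refine ⟨transfer I hp s₀, ?_⟩
  rw [transfer_naturality I hp g s₀, hs₀]
  apply ext_of_cover Q _ (generate_mem w₁ z₁)
  rintro V u ⟨Y, h, g', ⟨⟩, rfl⟩
  rw [op_comp, Q.obj.map_comp, ConcreteCategory.comp_apply, ConcreteCategory.comp_apply,
    map_transfer_map Q hp q w₁ S₁, map_nsmul, map_nsmul, map_nsmul]

omit p in
/-- Over a field, a section of the target of an epimorphism lifts after multiplication by a
positive integer. -/
theorem key_lift {I Q : EtCoh.Ab (Spec (CommRingCat.of k))} (g : I ⟶ Q) [Epi g]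
    (q : Q.obj.obj (op (EtCoh.top (Spec (CommRingCat.of k))))) :
    ∃ d : ℕ, 0 < d ∧ ∃ t : I.obj.obj (op (EtCoh.top (Spec (CommRingCat.of k)))),
      g.hom.app (op (EtCoh.top (Spec (CommRingCat.of k)))) t = d • q := by
  have hls : Sheaf.IsLocallySurjective g :=
    (Sheaf.isLocallySurjective_iff_epi' _ _).2 inferInstance
  have himg := Presheaf.imageSieve_mem (Spec (CommRingCat.of k)).smallEtaleTopology g.hom q
  rw [EtLoc.mem_iff] at himg
  let pt : (EtCoh.top (Spec (CommRingCat.of k))).left :=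
    (Classical.arbitrary (Spec (CommRingCat.of k)) : Spec (CommRingCat.of k))
  obtain ⟨V, a, v, ⟨s, hs⟩, -⟩ := himg pt
  obtain ⟨W₀, b, hAff, w₀, -⟩ := exists_affine_nbhd V v
  let p : W₀ ⟶ EtCoh.top (Spec (CommRingCat.of k)) := b ≫ a
  let s₀ : I.obj.obj (op W₀) := I.obj.map b.op s
  have hs₀ : g.hom.app (op W₀) s₀ = Q.obj.map p.op q := by
    have hnat := ConcreteCategory.congr_hom (g.hom.naturality b.op) s
    rw [ConcreteCategory.comp_apply, ConcreteCategory.comp_apply] at hnat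
    show g.hom.app (op W₀) (I.obj.map b.op s) = Q.obj.map (b ≫ a).op q
    rw [hnat, hs, op_comp, Q.obj.map_comp, ConcreteCategory.comp_apply]
  let j₀ : (W₀.left : Scheme.{u}) ⟶ Spec (CommRingCat.of k) := W₀.hom
  haveI : Etale j₀ := W₀.prop
  haveI : IsAffine W₀.left := hAff
  have hfin : IsFinite j₀ := isFinite_of_etale_affine j₀
  have e : p.left = j₀ := by
    have h1 : p.left ≫ 𝟙 _ = W₀.hom := Over.w p.hom
    exact (Category.comp_id _).symm.trans h1
  haveI : IsFinite p.left := e ▸ hfin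
  have hp := TransferEt.splitSieve_mem p
  rw [EtLoc.mem_iff] at hp
  obtain ⟨W₁, w₁, z₁, ⟨S₁⟩, -⟩ := hp pt
  exact ⟨S₁.n, split_n_pos p w₀ S₁ z₁, lift_of_split p g q s₀ hs₀ S₁ z₁⟩

end Field

end Groth.Agent.Helper10.FieldTransfer
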