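import Mathlib
import Groth.Prelude.Def_EtCore
import Groth.Agent.Lib.Helper10.EtLoc

/-!
# The sheaves `j_! ℤ` for étale `j : W → Y` form a separating family of `Ab(Y_et)` (helper10)
-/

set_option autoImplicit false

namespace Groth.Agent.Helper10.EtSecHom

open CategoryTheory CategoryTheory.Limits AlgebraicGeometry Opposite

universe u

/-- evaluation at the generator -/
noncomputable def evalEquiv (G : AddCommGrpCat.{u + 1}) :
    (AddCommGrpCat.of (ULift.{u + 1} ℤ) ⟶ G) ≃ G where
  toFun f := f.hom (ULift.up 1)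
  invFun s := AddCommGrpCat.ofHom ((zmultiplesHom G s).comp AddEquiv.ulift.toAddMonoidHom)
  left_inv f := by
    apply AddCommGrpCat.hom_ext
    have : ((zmultiplesHom G (f.hom (ULift.up 1))).comp AddEquiv.ulift.toAddMonoidHom).comp
        (AddEquiv.ulift.{0, u + 1} (α := ℤ)).symm.toAddMonoidHom =
        f.hom.comp (AddEquiv.ulift.{0, u + 1} (α := ℤ)).symm.toAddMonoidHom := by
      apply AddMonoidHom.ext_int
      show (zmultiplesHom G (f.hom (ULift.up 1))) (1 : ℤ) = f.hom (ULift.up 1)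
      exact one_zsmul _
    ext ⟨n⟩
    exact DFunLike.congr_fun this n
  right_inv s := by
    show (zmultiplesHom G s) (1 : ℤ) = s
    exact one_zsmul s

variable {Y : Scheme.{u}} (W : Y.Etale)

/-- the sheaf `j_! ℤ` for `j = W.hom` -/
noncomputable abbrev Zsh : EtCoh.Ab Y := (EtLoc.shriek W.hom).obj (EtCoh.const W.left ℤ)

/-- the object `(W.left = W.left → Y)` -/
noncomputable abbrev Wphi : Y.Etale := (EtLoc.phi W.hom).obj (EtCoh.top W.left)

/-- `Hom(j_! ℤ, M) ≃ M(W)` -/
noncomputable def secEquiv (M : EtCoh.Ab Y) : (Zsh W ⟶ M) ≃ M.obj.obj (op (Wphi W)) :=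
  ((EtLoc.shriekAdj W.hom).homEquiv (EtCoh.const W.left ℤ) M).trans
    (((EtCore.constAdj W.left).homEquiv (AddCommGrpCat.of (ULift.{u + 1} ℤ))
      ((EtLoc.res W.hom).obj M)).trans (evalEquiv _))

lemma secEquiv_naturality {M N : EtCoh.Ab Y} (u : Zsh W ⟶ M) (c : M ⟶ N) :
    secEquiv W N (u ≫ c) = c.hom.app (op (Wphi W)) (secEquiv W M u) := by
  unfold secEquiv
  simp only [Equiv.trans_apply]
  rw [Adjunction.homEquiv_naturality_right, Adjunction.homEquiv_naturality_right]
  rfl

/-- `Wphi W ≅ W` -/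
noncomputable def wphiIso : Wphi W ≅ W :=
  MorphismProperty.Over.isoMk (Iso.refl _) (by
    show 𝟙 _ ≫ W.hom = 𝟙 _ ≫ W.hom
    rfl)

/-- The sheaves `j_! ℤ` are separating. -/
theorem eq_zero_of_forall {M N : EtCoh.Ab Y} (c : M ⟶ N)
    (h : ∀ (W : Y.Etale) (u : Zsh W ⟶ M), u ≫ c = 0) : c = 0 := by
  apply Sheaf.hom_ext
  ext T s
  obtain ⟨T⟩ := T
  show c.hom.app (op T) s = 0
  let e := wphiIso T
  let s' : M.obj.obj (op (Wphi T)) := M.obj.map e.hom.op s
  let u : Zsh T ⟶ M := (secEquiv T M).symm s'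
  have h1 : secEquiv T N (u ≫ c) = c.hom.app (op (Wphi T)) s' := by
    rw [secEquiv_naturality, Equiv.apply_symm_apply]
  have h2 : secEquiv T N (u ≫ (0 : M ⟶ N)) = 0 := by
    rw [secEquiv_naturality]
    rfl
  rw [h T u] at h1
  rw [comp_zero] at h2
  have h3 : c.hom.app (op (Wphi T)) s' = 0 := h1.symm.trans h2
  have hnat := congrArg (fun k => k.hom s) (c.hom.naturality e.hom.op)
  simp only [AddCommGrpCat.hom_comp, AddMonoidHom.coe_comp, Function.comp_apply] at hnat
  have h4 : N.obj.map e.hom.op (c.hom.app (op T) s) = 0 := hnat.symm.trans h3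
  have h5 := congrArg (N.obj.map e.inv.op) h4
  rw [map_zero] at h5
  rw [← h5]
  have : (N.obj.map e.hom.op ≫ N.obj.map e.inv.op) = 𝟙 _ := by
    rw [← Functor.map_comp, ← op_comp, e.inv_hom_id, op_id]
    exact N.obj.map_id _
  exact (congrArg (fun k => k.hom (c.hom.app (op T) s)) this).symm

/-- Detecting isomorphisms with the sheaves `j_! ℤ`. -/
theorem isIso_of_bijective_postcomp {M N : EtCoh.Ab Y} (φ : M ⟶ N)
    (h : ∀ W : Y.Etale, Function.Bijective (fun u : Zsh W ⟶ M => u ≫ φ)) : IsIso φ := by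
  have hm : Mono φ := by
    have hk : kernel.ι φ = 0 := by
      have : (𝟙 (kernel φ) : kernel φ ⟶ kernel φ) = 0 := by
        apply eq_zero_of_forall
        intro W u
        rw [Category.comp_id]
        have h1 : (u ≫ kernel.ι φ) ≫ φ = (0 : Zsh W ⟶ M) ≫ φ := by
          rw [Category.assoc, kernel.condition, comp_zero, zero_comp]
        have h2 : u ≫ kernel.ι φ = 0 := (h W).1 h1
        rw [← cancel_mono (kernel.ι φ), h2, zero_comp]
      rw [← Category.id_comp (kernel.ι φ), this, zero_comp]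
    exact Abelian.mono_of_kernel_ι_eq_zero φ hk
  have he : Epi φ := by
    have hc : cokernel.π φ = 0 := by
      apply eq_zero_of_forall
      intro W v
      obtain ⟨u, hu⟩ := (h W).2 v
      have : u ≫ φ = v := hu
      rw [← this, Category.assoc, cokernel.condition, comp_zero]
    exact Abelian.epi_of_cokernel_π_eq_zero φ hc
  exact isIso_of_mono_of_epi φ

end Groth.Agent.Helper10.EtSecHom
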