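import Mathlib
import Groth.Agent.Lib.Helper10.ExtAdj

/-!
# Transfer of bijectivity of `Ext`-maps along a base change square of exact functors (helper10)

Exact functors `P : 𝒜 ⥤ ℬ`, `P' : 𝒜' ⥤ ℬ'`, exact adjoint pairs `L ⊣ R` (`L : 𝒜' ⥤ 𝒜`),
`L' ⊣ R'` (`L' : ℬ' ⥤ ℬ`) and `θ : R ⋙ P' ⟶ P ⋙ R'`.  With `β_A : L' P' A ⟶ P L A` the mate of
`θ`, one has `adj'⁻¹ (θ_* (P' (adj y))) = β_A ∘ P y` for `y ∈ Ext(L A, M)`.
-/

set_option autoImplicit false

open CategoryTheory CategoryTheory.Limits CategoryTheory.Abelian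

namespace Groth.Agent.Helper10.ExtBC

open Groth.Agent.Helper10.ExtAdj

universe w₁ w₂ w₃ w₄ v₁ v₂ v₃ v₄ u₁ u₂ u₃ u₄

variable {𝒜 : Type u₁} [Category.{v₁} 𝒜] [Abelian 𝒜] [HasExt.{w₁} 𝒜] [EnoughInjectives 𝒜]
  {𝒜' : Type u₂} [Category.{v₂} 𝒜'] [Abelian 𝒜'] [HasExt.{w₂} 𝒜'] [EnoughInjectives 𝒜']
  {ℬ : Type u₃} [Category.{v₃} ℬ] [Abelian ℬ] [HasExt.{w₃} ℬ] [EnoughInjectives ℬ]
  {ℬ' : Type u₄} [Category.{v₄} ℬ'] [Abelian ℬ'] [HasExt.{w₄} ℬ'] [EnoughInjectives ℬ']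
  {P : 𝒜 ⥤ ℬ} [P.Additive] [PreservesFiniteLimits P] [PreservesFiniteColimits P]
  {P' : 𝒜' ⥤ ℬ'} [P'.Additive] [PreservesFiniteLimits P'] [PreservesFiniteColimits P']
  {L : 𝒜' ⥤ 𝒜} [L.Additive] [PreservesFiniteLimits L] [PreservesFiniteColimits L]
  {R : 𝒜 ⥤ 𝒜'} [R.Additive] [PreservesFiniteLimits R] [PreservesFiniteColimits R]
  {L' : ℬ' ⥤ ℬ} [L'.Additive] [PreservesFiniteLimits L'] [PreservesFiniteColimits L']
  {R' : ℬ ⥤ ℬ'} [R'.Additive] [PreservesFiniteLimits R'] [PreservesFiniteColimits R']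
  (adjL : L ⊣ R) (adjL' : L' ⊣ R') (θ : R ⋙ P' ⟶ P ⋙ R')

/-- The mate of `θ`. -/
def beta (A : 𝒜') : L'.obj (P'.obj A) ⟶ P.obj (L.obj A) :=
  L'.map (P'.map (adjL.unit.app A)) ≫ L'.map (θ.app (L.obj A)) ≫
    adjL'.counit.app (P.obj (L.obj A))

lemma key (A : 𝒜') (M : 𝒜) (q : ℕ) (y : Ext.{w₁} (L.obj A) M q) :
    (extAdjEquiv.{w₄, w₃} adjL' (P'.obj A) (P.obj M) q).symm
      (((extAdjEquiv.{w₂, w₁} adjL A M q y).mapExactFunctor P').comp
        (Ext.mk₀ (θ.app M)) (add_zero q)) =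
      (Ext.mk₀ (beta adjL adjL' θ A)).comp (y.mapExactFunctor P) (zero_add q) := by
  have hθ := ExtMap.naturality ((ExtMap.ofFunctor.{w₁, w₂} R).comp (ExtMap.ofFunctor.{w₂, w₄} P'))
    ((ExtMap.ofFunctor.{w₁, w₃} P).comp (ExtMap.ofFunctor.{w₃, w₄} R')) θ q y
  have hθ' : (Ext.mk₀ (θ.app (L.obj A))).comp ((y.mapExactFunctor P).mapExactFunctor R')
      (zero_add q) = ((y.mapExactFunctor R).mapExactFunctor P').comp (Ext.mk₀ (θ.app M))
        (add_zero q) := hθ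
  have hε := ExtMap.naturality
    ((ExtMap.ofFunctor.{w₃, w₄} R').comp (ExtMap.ofFunctor.{w₄, w₃} L'))
    (ExtMap.id.{w₃} (C := ℬ)) adjL'.counit q (y.mapExactFunctor P)
  have hε' : (Ext.mk₀ (adjL'.counit.app (P.obj (L.obj A)))).comp (y.mapExactFunctor P)
      (zero_add q) = (((y.mapExactFunctor P).mapExactFunctor R').mapExactFunctor L').comp
        (Ext.mk₀ (adjL'.counit.app (P.obj M))) (add_zero q) := hε
  have e0 : extAdjEquiv.{w₂, w₁} adjL A M q y =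
      (Ext.mk₀ (adjL.unit.app A)).comp (y.mapExactFunctor R) (zero_add q) := rfl
  have e1 : ∀ z : Ext.{w₄} (P'.obj A) (R'.obj (P.obj M)) q,
      (extAdjEquiv.{w₄, w₃} adjL' (P'.obj A) (P.obj M) q).symm z =
        (z.mapExactFunctor L').comp (Ext.mk₀ (adjL'.counit.app (P.obj M))) (add_zero q) :=
    fun _ => rfl
  rw [e0, e1]
  -- step 1
  have s1 : ((Ext.mk₀ (adjL.unit.app A)).comp (y.mapExactFunctor R) (zero_add q)).mapExactFunctor P' =
      (Ext.mk₀ (P'.map (adjL.unit.app A))).comp ((y.mapExactFunctor R).mapExactFunctor P')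
        (zero_add q) := by
    rw [Ext.mapExactFunctor_comp, Ext.mapExactFunctor_mk₀]
  have s2 : ((Ext.mk₀ (P'.map (adjL.unit.app A))).comp
      ((y.mapExactFunctor R).mapExactFunctor P') (zero_add q)).comp (Ext.mk₀ (θ.app M))
        (add_zero q) =
      (Ext.mk₀ (P'.map (adjL.unit.app A))).comp
        ((Ext.mk₀ (θ.app (L.obj A))).comp ((y.mapExactFunctor P).mapExactFunctor R')
          (zero_add q)) (zero_add q) := by
    rw [Ext.comp_assoc_of_third_deg_zero, hθ']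
  have s3 : ((Ext.mk₀ (P'.map (adjL.unit.app A))).comp
        ((Ext.mk₀ (θ.app (L.obj A))).comp ((y.mapExactFunctor P).mapExactFunctor R')
          (zero_add q)) (zero_add q)).mapExactFunctor L' =
      (Ext.mk₀ (L'.map (P'.map (adjL.unit.app A)))).comp
        ((Ext.mk₀ (L'.map (θ.app (L.obj A)))).comp
          (((y.mapExactFunctor P).mapExactFunctor R').mapExactFunctor L')
          (zero_add q)) (zero_add q) := by
    rw [Ext.mapExactFunctor_comp, Ext.mapExactFunctor_mk₀, Ext.mapExactFunctor_comp,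
      Ext.mapExactFunctor_mk₀]
  have s4 : ((Ext.mk₀ (L'.map (P'.map (adjL.unit.app A)))).comp
        ((Ext.mk₀ (L'.map (θ.app (L.obj A)))).comp
          (((y.mapExactFunctor P).mapExactFunctor R').mapExactFunctor L')
          (zero_add q)) (zero_add q)).comp (Ext.mk₀ (adjL'.counit.app (P.obj M))) (add_zero q) =
      (Ext.mk₀ (L'.map (P'.map (adjL.unit.app A)))).comp
        ((Ext.mk₀ (L'.map (θ.app (L.obj A)))).comp
          ((Ext.mk₀ (adjL'.counit.app (P.obj (L.obj A)))).comp (y.mapExactFunctor P)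
            (zero_add q)) (zero_add q)) (zero_add q) := by
    rw [Ext.comp_assoc_of_third_deg_zero, Ext.comp_assoc_of_third_deg_zero, hε']
  have s5 : (Ext.mk₀ (beta adjL adjL' θ A)).comp (y.mapExactFunctor P) (zero_add q) =
      (Ext.mk₀ (L'.map (P'.map (adjL.unit.app A)))).comp
        ((Ext.mk₀ (L'.map (θ.app (L.obj A)))).comp
          ((Ext.mk₀ (adjL'.counit.app (P.obj (L.obj A)))).comp (y.mapExactFunctor P)
            (zero_add q)) (zero_add q)) (zero_add q) := by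
    rw [beta, ← Ext.mk₀_comp_mk₀, ← Ext.mk₀_comp_mk₀, Ext.comp_assoc_of_second_deg_zero,
      Ext.comp_assoc_of_second_deg_zero]
  rw [s1, s2, s3, s4, s5]

include adjL adjL' in
lemma injective_of (A : 𝒜') (M : 𝒜) (q : ℕ) [IsIso (θ.app M)]
    (h : Function.Injective (fun x : Ext.{w₂} A (R.obj M) q => x.mapExactFunctor P')) :
    Function.Injective (fun y : Ext.{w₁} (L.obj A) M q => y.mapExactFunctor P) := by
  intro y₁ y₂ hy
  have hy' : y₁.mapExactFunctor P = y₂.mapExactFunctor P := hy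
  have k₁ := key.{w₁, w₂, w₃, w₄} adjL adjL' θ A M q y₁
  have k₂ := key.{w₁, w₂, w₃, w₄} adjL adjL' θ A M q y₂
  rw [hy'] at k₁
  have e1 := (extAdjEquiv.{w₄, w₃} adjL' (P'.obj A) (P.obj M) q).symm.injective (k₁.trans k₂.symm)
  have e2 := (extCongrRight.{w₄} (P'.obj A) (asIso (θ.app M)) q).injective e1
  have e3 := h e2
  exact (extAdjEquiv.{w₂, w₁} adjL A M q).injective e3

lemma bijective_of (A : 𝒜') (M : 𝒜) (q : ℕ) [IsIso (θ.app M)] [IsIso (beta adjL adjL' θ A)]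
    (h : Function.Bijective (fun x : Ext.{w₂} A (R.obj M) q => x.mapExactFunctor P')) :
    Function.Bijective (fun y : Ext.{w₁} (L.obj A) M q => y.mapExactFunctor P) := by
  refine ⟨injective_of.{w₁, w₂, w₃, w₄} adjL adjL' θ A M q h.1, fun z => ?_⟩
  let z' : Ext.{w₃} (L'.obj (P'.obj A)) (P.obj M) q :=
    (Ext.mk₀ (beta adjL adjL' θ A)).comp z (zero_add q)
  let E₂ := extAdjEquiv.{w₄, w₃} adjL' (P'.obj A) (P.obj M) q
  let Cr := extCongrRight.{w₄} (P'.obj A) (asIso (θ.app M)) q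
  obtain ⟨x, hx⟩ := h.2 (Cr.symm (E₂ z'))
  have hx' : x.mapExactFunctor P' = Cr.symm (E₂ z') := hx
  let y := (extAdjEquiv.{w₂, w₁} adjL A M q).symm x
  refine ⟨y, ?_⟩
  have k := key.{w₁, w₂, w₃, w₄} adjL adjL' θ A M q y
  have e1 : extAdjEquiv.{w₂, w₁} adjL A M q y = x :=
    (extAdjEquiv.{w₂, w₁} adjL A M q).apply_symm_apply x
  rw [e1, hx'] at k
  have e2 : (Cr.symm (E₂ z')).comp (Ext.mk₀ (θ.app M)) (add_zero q) = E₂ z' :=
    Cr.apply_symm_apply (E₂ z')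
  rw [e2] at k
  have e3 : E₂.symm (E₂ z') = z' := E₂.symm_apply_apply z'
  rw [e3] at k
  exact ((extCongrLeft.{w₃} (asIso (beta adjL adjL' θ A)) (P.obj M) q).injective k).symm

end Groth.Agent.Helper10.ExtBC
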