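import Mathlib
import Groth.Prelude.Def_RDerDelta
import Groth.Agent.S16463
import Groth.Agent.Lib.Helper10.ExtLeray

/-!
# Low-degree Leray for `Ext` along an adjunction: injectivity in degrees one and two
-/

set_option autoImplicit false
set_option linter.style.haveILetI false

namespace Groth.Agent.Helper10.ExtLeray

open CategoryTheory CategoryTheory.Limits CategoryTheory.Abelian

universe w w' v v' u u'

variable {C : Type u} [Category.{v} C] [Abelian C] {D : Type u'} [Category.{v'} D] [Abelian D]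
variable {F : C ⥤ D} {G : D ⥤ C} (adj : F ⊣ G) [F.Additive] [PreservesFiniteLimits F]
  [PreservesFiniteColimits F]
variable [HasExt.{w} C] [HasExt.{w'} D] [G.Additive] [EnoughInjectives D] [PreservesFiniteLimits G]

lemma ext0_eq_mk₀' {A : Type*} [Category A] [Abelian A] [HasExt A] {X Y : A} (y : Ext X Y 0) :
    ∃ ψ : X ⟶ Y, Ext.mk₀ ψ = y :=
  ⟨Ext.homEquiv₀ y, by simp⟩

/-- `Ext¹(X, G Y) → Ext¹(F X, Y)` is always injective. -/
theorem counitMap_injective_one (X : C) (Y : D) :
    Function.Injective (counitMap.{w, w'} adj X Y 1) := by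
  rw [injective_iff_map_eq_zero]
  intro x hx
  let Ip : InjectivePresentation Y := Classical.arbitrary _
  let ι : Y ⟶ Ip.J := Ip.f
  haveI : Mono ι := Ip.mono
  haveI : Injective Ip.J := Ip.injective
  let π : Ip.J ⟶ cokernel ι := cokernel.π ι
  let S : ShortComplex D := ShortComplex.mk ι π (cokernel.condition ι)
  have hS : S.ShortExact :=
    { exact := ShortComplex.exact_cokernel ι
      mono_f := inferInstanceAs (Mono ι)
      epi_g := inferInstanceAs (Epi (cokernel.π ι)) }
  haveI : Mono S.f := hS.mono_f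
  let g : G.obj Ip.J ⟶ G.obj (cokernel ι) := G.map π
  let e : G.obj Ip.J ⟶ Abelian.image g := Abelian.factorThruImage g
  let m : Abelian.image g ⟶ G.obj (cokernel ι) := Abelian.image.ι g
  have hem : e ≫ m = g := Abelian.image.fac g
  haveI : Mono m := inferInstanceAs (Mono (Abelian.image.ι g))
  haveI : Epi e := inferInstanceAs (Epi (Abelian.factorThruImage g))
  have hz : G.map ι ≫ e = 0 := by
    rw [← cancel_mono m, Category.assoc, hem, zero_comp, ← G.map_comp, cokernel.condition,
      G.map_zero]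
  let T : ShortComplex C := ShortComplex.mk (G.map ι) e hz
  have hSP : (S.map G).Exact :=
    hS.exact.map_of_mono_of_preservesKernel G inferInstance inferInstance
  let φ : T ⟶ S.map G :=
    { τ₁ := 𝟙 _
      τ₂ := 𝟙 _
      τ₃ := m
      comm₁₂ := by
        show 𝟙 _ ≫ G.map ι = G.map ι ≫ 𝟙 _
        rw [Category.id_comp, Category.comp_id]
      comm₂₃ := by
        show 𝟙 _ ≫ G.map π = e ≫ m
        rw [hem, Category.id_comp] }
  haveI : Epi φ.τ₁ := inferInstanceAs (Epi (𝟙 _))
  haveI : IsIso φ.τ₂ := inferInstanceAs (IsIso (𝟙 _))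
  haveI : Mono φ.τ₃ := inferInstanceAs (Mono m)
  haveI : Mono (G.map ι) := inferInstance
  have hT : T.ShortExact :=
    { exact := (ShortComplex.exact_iff_of_epi_of_isIso_of_mono φ).2 hSP
      mono_f := inferInstanceAs (Mono (G.map ι))
      epi_g := inferInstanceAs (Epi e) }
  haveI : F.PreservesMonomorphisms := inferInstance
  haveI : Injective (G.obj Ip.J) := Injective.injective_of_adjoint adj Ip.J
  have hx2 : x.comp (Ext.mk₀ T.f) (add_zero 1) = 0 := Ext.eq_zero_of_injective _
  obtain ⟨y, hy⟩ := Ext.covariant_sequence_exact₁ X hT x hx2 (rfl : 0 + 1 = 1)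
  obtain ⟨ψ, rfl⟩ := ext0_eq_mk₀' y
  -- the comparison of short exact sequences `F T ⟶ S`
  let c₃ : F.obj (Abelian.image g) ⟶ cokernel ι := F.map m ≫ adj.counit.app _
  let Φ : T.map F ⟶ S :=
    ShortComplex.homMk (adj.counit.app _) (adj.counit.app _) c₃
      (adj.counit_naturality ι).symm (by
        show adj.counit.app Ip.J ≫ π = F.map e ≫ F.map m ≫ adj.counit.app _
        rw [← Category.assoc, ← F.map_comp, hem]
        exact (adj.counit_naturality π).symm)
  have hnat := ShortComplex.ShortExact.extClass_naturality (hT.map_of_exact F) hS Φ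
  have h2 := Ext.mapExactFunctor_extClass F hT
  have key := comp_class_aux (F := F) (X := X) hT.extClass hS.extClass (adj.counit.app Y) c₃
    ((congrArg (fun t => t.comp (Ext.mk₀ Φ.τ₁) (add_zero 1)) h2).trans hnat) 0 (Ext.mk₀ ψ)
  let ψ' : F.obj X ⟶ cokernel ι := F.map ψ ≫ c₃
  have h3 : (Ext.mk₀ ψ').comp hS.extClass (zero_add 1) = 0 := by
    have h4 : (Ext.mk₀ ψ').comp hS.extClass (zero_add 1) =
        (((Ext.mk₀ ψ).mapExactFunctor F).comp (Ext.mk₀ c₃) (add_zero 0)).comp hS.extClass rfl := by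
      rw [Ext.mapExactFunctor_mk₀, Ext.mk₀_comp_mk₀]
    rw [h4, ← key]
    have : counitMap.{w, w'} adj X Y 1 ((Ext.mk₀ ψ).comp hT.extClass rfl) = 0 := by
      rw [hy]; exact hx
    exact this
  obtain ⟨wv, hw⟩ := Ext.covariant_sequence_exact₃ (F.obj X) hS (Ext.mk₀ ψ') (zero_add 1) h3
  obtain ⟨χ', rfl⟩ := ext0_eq_mk₀' wv
  rw [Ext.mk₀_comp_mk₀] at hw
  have hw' : χ' ≫ π = ψ' := (Ext.mk₀_bijective (F.obj X) (cokernel ι)).1 hw
  let χ : X ⟶ G.obj Ip.J := adj.homEquiv X Ip.J χ'
  have hψ' : ψ' = (adj.homEquiv X (cokernel ι)).symm (ψ ≫ m) := by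
    rw [Adjunction.homEquiv_counit, F.map_comp, Category.assoc]
  have hχ : χ ≫ e = ψ := by
    rw [← cancel_mono m, Category.assoc, hem]
    have := adj.homEquiv_naturality_right χ' π
    rw [hw', hψ'] at this
    rw [← this]
    exact (adj.homEquiv X (cokernel ι)).apply_symm_apply _
  rw [← hy, ← hχ, ← Ext.mk₀_comp_mk₀, Ext.comp_assoc_of_second_deg_zero]
  have : (Ext.mk₀ T.g).comp hT.extClass (zero_add 1) = 0 := hT.comp_extClass
  rw [this, Ext.comp_zero]

/-- If `R¹G(Y) = 0` then `Ext²(X, G Y) → Ext²(F X, Y)` is injective. -/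
theorem counitMap_injective_two (Δ : RDer.DerivedLES G) (X : C) (Y : D)
    (h1 : IsZero ((G.rightDerived 1).obj Y)) :
    Function.Injective (counitMap.{w, w'} adj X Y 2) := by
  rw [injective_iff_map_eq_zero]
  intro x hx
  let Ip : InjectivePresentation Y := Classical.arbitrary _
  let S := ShortComplex.mk _ _ (cokernel.condition Ip.f)
  have hS : S.ShortExact := { exact := ShortComplex.exact_cokernel Ip.f }
  haveI : Injective S.X₂ := Ip.injective
  have hGS : (S.map G).ShortExact := shortExact_map_of_isZero Δ S hS h1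
  haveI : F.PreservesMonomorphisms := inferInstance
  haveI hGI : Injective (S.map G).X₂ := Injective.injective_of_adjoint adj S.X₂
  have hx2 : x.comp (Ext.mk₀ (S.map G).f) (add_zero 2) = 0 := Ext.eq_zero_of_injective _
  obtain ⟨x₃, hx₃⟩ := Ext.covariant_sequence_exact₁ X hGS x hx2 (rfl : 1 + 1 = 2)
  have hc := counitMap_comp_extClass.{w, w'} adj X S hS hGS 1 x₃
  have h3 : (counitMap.{w, w'} adj X S.X₃ 1 x₃).comp hS.extClass (rfl : 1 + 1 = 2) = 0 := by
    rw [← hc]
    have : counitMap.{w, w'} adj X S.X₁ 2 (x₃.comp hGS.extClass rfl) = 0 := by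
      rw [hx₃]; exact hx
    exact this
  obtain ⟨y₂, hy₂⟩ := Ext.covariant_sequence_exact₃ (F.obj X) hS
    (counitMap.{w, w'} adj X S.X₃ 1 x₃) (rfl : 1 + 1 = 2) h3
  have hy0 : y₂ = 0 := Ext.eq_zero_of_injective _
  have h4 : counitMap.{w, w'} adj X S.X₃ 1 x₃ = 0 := by
    rw [← hy₂, hy0, Ext.zero_comp]
  have h5 : x₃ = 0 := counitMap_injective_one adj X S.X₃ (h4.trans (map_zero _).symm)
  rw [← hx₃, h5, Ext.zero_comp]
  rfl

end Groth.Agent.Helper10.ExtLeray
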