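import Mathlib
import Groth.Prelude.Def_RDerDelta
import Groth.Agent.S16463
import Groth.Agent.Lib.Helper10.ExtLeray
import Groth.Agent.Lib.Helper10.ExtLeray2

/-!
# Truncated Leray for `Ext` along an adjunction, and its converse (helper10)

For `F ⊣ G` with `F` exact:
* `counitMap_trunc`: if `R^q G (Y) = 0` for `1 ≤ q ≤ N` then `Ext^n(X, G Y) → Ext^n(F X, Y)` is
  bijective for `n ≤ N` and injective for `n = N + 1`;
* `isZero_rightDerived_of_counitMap`: conversely, if this holds for all `X` in a separating class,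
  then `R^q G (Y) = 0` for `1 ≤ q ≤ N`.
-/

set_option autoImplicit false

namespace Groth.Agent.Helper10.ExtLerayT

open CategoryTheory CategoryTheory.Limits CategoryTheory.Abelian
open Groth.Agent.Helper10.ExtLeray

universe w w' v v' u u'

variable {C : Type u} [Category.{v} C] [Abelian C] {D : Type u'} [Category.{v'} D] [Abelian D]
variable {F : C ⥤ D} {G : D ⥤ C} (adj : F ⊣ G) [F.Additive] [PreservesFiniteLimits F]
  [PreservesFiniteColimits F]
variable [HasExt.{w} C] [HasExt.{w'} D] [G.Additive] [EnoughInjectives D] [PreservesFiniteLimits G]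

section Setup

variable (S : ShortComplex D) (hS : S.ShortExact) (hGS : (S.map G).ShortExact) [Injective S.X₂]
  (X : C)

include adj hS hGS in
/-- Injectivity of `counitMap` passes from the cokernel of an injective embedding. -/
lemma injective_succ_of_cokernel (n : ℕ)
    (hI : Function.Surjective (counitMap.{w, w'} adj X S.X₂ n))
    (hQ : Function.Injective (counitMap.{w, w'} adj X S.X₃ n)) :
    Function.Injective (counitMap.{w, w'} adj X S.X₁ (n + 1)) := by
  rw [injective_iff_map_eq_zero]
  intro x hx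
  haveI : F.PreservesMonomorphisms := inferInstance
  have hGI : Injective (S.map G).X₂ := Injective.injective_of_adjoint adj S.X₂
  have hx2 : x.comp (Ext.mk₀ (S.map G).f) (add_zero (n + 1)) = 0 := Ext.eq_zero_of_injective _
  obtain ⟨z, hz⟩ := Ext.covariant_sequence_exact₁ X hGS x hx2 (rfl : n + 1 = n + 1)
  have hc := counitMap_comp_extClass.{w, w'} adj X S hS hGS n z
  have h3 : (counitMap.{w, w'} adj X S.X₃ n z).comp hS.extClass (rfl : n + 1 = n + 1) = 0 := by
    rw [← hc]
    have : counitMap.{w, w'} adj X S.X₁ (n + 1) (z.comp hGS.extClass rfl) = 0 := by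
      rw [hz]; exact hx
    exact this
  obtain ⟨y₂, hy₂⟩ := Ext.covariant_sequence_exact₃ (F.obj X) hS
    (counitMap.{w, w'} adj X S.X₃ n z) (rfl : n + 1 = n + 1) h3
  obtain ⟨w₂, hw₂⟩ := hI y₂
  have h4 : counitMap.{w, w'} adj X S.X₃ n (w₂.comp (Ext.mk₀ (G.map S.g)) (add_zero n)) =
      counitMap.{w, w'} adj X S.X₃ n z := by
    rw [counitMap_comp_mk₀, hw₂]
    exact hy₂
  let w₂' : Ext.{w} X (S.map G).X₂ n := w₂
  have h5 : w₂'.comp (Ext.mk₀ (S.map G).g) (add_zero n) = z := hQ h4
  have e0 : (Ext.mk₀ (S.map G).g).comp hGS.extClass (zero_add 1) = 0 := hGS.comp_extClass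
  rw [← hz, ← h5]
  exact (Ext.comp_assoc_of_second_deg_zero w₂' (Ext.mk₀ (S.map G).g) hGS.extClass rfl).trans
    ((congrArg (fun t => w₂'.comp t (rfl : n + 1 = n + 1)) e0).trans
      (Ext.comp_zero w₂' _ 1 (n + 1) rfl))

include adj hS hGS in
/-- Bijectivity of `counitMap` passes from the cokernel of an injective embedding. -/
lemma bijective_succ_of_cokernel (n : ℕ)
    (hI : Function.Surjective (counitMap.{w, w'} adj X S.X₂ n))
    (hQ : Function.Bijective (counitMap.{w, w'} adj X S.X₃ n)) :
    Function.Bijective (counitMap.{w, w'} adj X S.X₁ (n + 1)) := by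
  haveI : F.PreservesMonomorphisms := inferInstance
  have hGI : Injective (S.map G).X₂ := Injective.injective_of_adjoint adj S.X₂
  letI := @Ext.subsingleton_of_injective
  exact AddMonoidHom.bijective_of_surjective_of_bijective_of_right_exact
      ((Ext.mk₀ (S.map G).g).postcomp X (add_zero n)) (hGS.extClass.postcomp X rfl)
      ((Ext.mk₀ S.g).postcomp (F.obj X) (add_zero n)) (hS.extClass.postcomp (F.obj X) rfl)
      (counitMap adj X S.X₂ n) (counitMap adj X S.X₃ n) (counitMap adj X S.X₁ (n + 1))
      (by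
        ext x
        exact (counitMap_comp_mk₀ adj X S.g n x).symm)
      (by
        ext x
        exact (counitMap_comp_extClass adj X S hS hGS n x).symm)
      ((ShortComplex.ab_exact_iff_function_exact _).mp
        (Ext.covariant_sequence_exact₃' X hGS n (n + 1) rfl))
      ((ShortComplex.ab_exact_iff_function_exact _).mp
        (Ext.covariant_sequence_exact₃' (F.obj X) hS n (n + 1) rfl))
      hI hQ
      (fun x₁ ↦ Ext.covariant_sequence_exact₁ _ hGS x₁ (Ext.eq_zero_of_injective _) rfl)
      (fun y₁ ↦ Ext.covariant_sequence_exact₁ _ hS y₁ (Ext.eq_zero_of_injective _) rfl)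

end Setup

/-- Truncated Leray. -/
theorem counitMap_trunc (Δ : RDer.DerivedLES G) (X : C) (n : ℕ) :
    ∀ (N : ℕ) (Y : D), (∀ q : ℕ, 1 ≤ q → q ≤ N → IsZero ((G.rightDerived q).obj Y)) →
      (n ≤ N → Function.Bijective (counitMap.{w, w'} adj X Y n)) ∧
      (n ≤ N + 1 → Function.Injective (counitMap.{w, w'} adj X Y n)) := by
  induction n with
  | zero =>
    intro N Y _
    exact ⟨fun _ => counitMap_zero_bijective adj X Y, fun _ => (counitMap_zero_bijective adj X Y).1⟩
  | succ n ih =>
    intro N Y hY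
    cases N with
    | zero =>
      refine ⟨fun h => absurd h (by omega), fun h => ?_⟩
      obtain rfl : n = 0 := by omega
      exact counitMap_injective_one adj X Y
    | succ M =>
      let I : InjectivePresentation Y := Classical.arbitrary _
      let S := ShortComplex.mk _ _ (cokernel.condition I.f)
      have hS : S.ShortExact := { exact := ShortComplex.exact_cokernel I.f }
      haveI : Injective S.X₂ := I.injective
      have hGS : (S.map G).ShortExact :=
        shortExact_map_of_isZero Δ S hS (hY 1 le_rfl (by omega))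
      have hQ : ∀ q : ℕ, 1 ≤ q → q ≤ M → IsZero ((G.rightDerived q).obj S.X₃) := by
        intro q h1 h2
        obtain ⟨q', rfl⟩ : ∃ q', q = q' + 1 := ⟨q - 1, by omega⟩
        exact isZero_rightDerived_cokernel Δ S hS q' (hY (q' + 2) (by omega) (by omega))
      have hI : ∀ q : ℕ, IsZero ((G.rightDerived (q + 1)).obj S.X₂) := fun q =>
        Functor.isZero_rightDerived_obj_injective_succ G q S.X₂
      have hIb := counitMap_bijective.{w, w'} adj Δ X n S.X₂ hI
      obtain ⟨ihb, ihi⟩ := ih M S.X₃ hQ
      constructor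
      · intro h
        exact bijective_succ_of_cokernel adj S hS hGS X n hIb.2 (ihb (by omega))
      · intro h
        exact injective_succ_of_cokernel adj S hS hGS X n hIb.2 (ihi (by omega))

section Converse

/-- The connecting map `Ext^q(X, S.X₃) → Ext^{q+1}(X, S.X₁)` is bijective for `q ≥ 1` when the
middle term is injective. -/
lemma postcomp_extClass_bijective {A : Type u} [Category.{v} A] [Abelian A] [HasExt.{w} A]
    (S : ShortComplex A) (hS : S.ShortExact) [Injective S.X₂] (X : A) (q : ℕ) :
    Function.Bijective (hS.extClass.postcomp X (rfl : (q + 1) + 1 = q + 2)) := by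
  constructor
  · rw [injective_iff_map_eq_zero]
    intro z hz
    have hz' : z.comp hS.extClass (rfl : (q + 1) + 1 = q + 2) = 0 := hz
    obtain ⟨y, hy⟩ := Ext.covariant_sequence_exact₃ X hS z (rfl : (q + 1) + 1 = q + 2) hz'
    have : y = 0 := Ext.eq_zero_of_injective _
    rw [← hy, this, Ext.zero_comp]
  · intro x
    have hx : x.comp (Ext.mk₀ S.f) (add_zero (q + 2)) = 0 := Ext.eq_zero_of_injective _
    obtain ⟨z, hz⟩ := Ext.covariant_sequence_exact₁ X hS x hx (rfl : (q + 1) + 1 = q + 2)
    exact ⟨z, hz⟩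

variable (S : ShortComplex D) (hS : S.ShortExact) (hGS : (S.map G).ShortExact) [Injective S.X₂]
  (X : C)

include adj hS hGS in
lemma injective_cokernel_of_succ (q : ℕ)
    (h : Function.Injective (counitMap.{w, w'} adj X S.X₁ (q + 2))) :
    Function.Injective (counitMap.{w, w'} adj X S.X₃ (q + 1)) := by
  haveI : F.PreservesMonomorphisms := inferInstance
  haveI hGI : Injective (S.map G).X₂ := Injective.injective_of_adjoint adj S.X₂
  intro z₁ z₂ hz
  apply (postcomp_extClass_bijective.{w} (S.map G) hGS X q).1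
  apply h
  have e1 := counitMap_comp_extClass.{w, w'} adj X S hS hGS (q + 1) z₁
  have e2 := counitMap_comp_extClass.{w, w'} adj X S hS hGS (q + 1) z₂
  exact e1.trans ((congrArg (fun t => t.comp hS.extClass (rfl : (q + 1) + 1 = q + 2)) hz).trans
    e2.symm)

include adj hS hGS in
lemma bijective_cokernel_of_succ (q : ℕ)
    (h : Function.Bijective (counitMap.{w, w'} adj X S.X₁ (q + 2))) :
    Function.Bijective (counitMap.{w, w'} adj X S.X₃ (q + 1)) := by
  refine ⟨injective_cokernel_of_succ adj S hS hGS X q h.1, fun y => ?_⟩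
  haveI : F.PreservesMonomorphisms := inferInstance
  haveI hGI : Injective (S.map G).X₂ := Injective.injective_of_adjoint adj S.X₂
  obtain ⟨x, hx⟩ := h.2 (y.comp hS.extClass (rfl : (q + 1) + 1 = q + 2))
  obtain ⟨z, hz⟩ := (postcomp_extClass_bijective.{w} (S.map G) hGS X q).2 x
  have hz' : z.comp hGS.extClass (rfl : (q + 1) + 1 = q + 2) = x := hz
  refine ⟨z, ?_⟩
  apply (postcomp_extClass_bijective.{w'} S hS (F.obj X) q).1
  have e1 := counitMap_comp_extClass.{w, w'} adj X S hS hGS (q + 1) z
  show (counitMap.{w, w'} adj X S.X₃ (q + 1) z).comp hS.extClass rfl = y.comp hS.extClass rfl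
  rw [← e1]
  have : counitMap.{w, w'} adj X S.X₁ (q + 2) (z.comp hGS.extClass rfl) =
      counitMap.{w, w'} adj X S.X₁ (q + 2) x := congrArg _ hz'
  exact this.trans hx

end Converse

section ConverseOne

variable (𝒯 : C → Prop)
  (hsep : ∀ {M N : C} (c : M ⟶ N), (∀ X, 𝒯 X → ∀ u : X ⟶ M, u ≫ c = 0) → c = 0)

include adj hsep in
/-- If `Ext¹(X, G Y) → Ext¹(F X, Y)` is surjective for all test objects, `G` preserves the
epimorphism of an injective presentation of `Y`. -/
lemma epi_map_of_surjective_one (Y : D) (Ip : InjectivePresentation Y)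
    (h : ∀ X, 𝒯 X → Function.Surjective (counitMap.{w, w'} adj X Y 1)) :
    Epi (G.map (cokernel.π Ip.f)) := by
  let ι : Y ⟶ Ip.J := Ip.f
  haveI : Mono ι := Ip.mono
  haveI : Injective Ip.J := Ip.injective
  let π : Ip.J ⟶ cokernel ι := cokernel.π ι
  let S : ShortComplex D := ShortComplex.mk ι π (cokernel.condition ι)
  have hS : S.ShortExact :=
    { exact := ShortComplex.exact_cokernel ι
      mono_f := inferInstanceAs (Mono ι)
      epi_g := inferInstanceAs (Epi (cokernel.π ι)) }
  haveI : Mono S.f := hS.mono_f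
  let g : G.obj Ip.J ⟶ G.obj (cokernel ι) := G.map π
  let e : G.obj Ip.J ⟶ Abelian.image g := Abelian.factorThruImage g
  let m : Abelian.image g ⟶ G.obj (cokernel ι) := Abelian.image.ι g
  have hem : e ≫ m = g := Abelian.image.fac g
  haveI : Mono m := inferInstanceAs (Mono (Abelian.image.ι g))
  haveI : Epi e := inferInstanceAs (Epi (Abelian.factorThruImage g))
  have hz : G.map ι ≫ e = 0 := by
    rw [← cancel_mono m, Category.assoc, hem, zero_comp, ← G.map_comp, cokernel.condition,
      G.map_zero]
  let T : ShortComplex C := ShortComplex.mk (G.map ι) e hz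
  have hSP : (S.map G).Exact :=
    hS.exact.map_of_mono_of_preservesKernel G inferInstance inferInstance
  let φ : T ⟶ S.map G :=
    { τ₁ := 𝟙 _
      τ₂ := 𝟙 _
      τ₃ := m
      comm₁₂ := by
        show 𝟙 _ ≫ G.map ι = G.map ι ≫ 𝟙 _
        rw [Category.id_comp, Category.comp_id]
      comm₂₃ := by
        show 𝟙 _ ≫ G.map π = e ≫ m
        rw [hem, Category.id_comp] }
  haveI : Epi φ.τ₁ := inferInstanceAs (Epi (𝟙 _))
  haveI : IsIso φ.τ₂ := inferInstanceAs (IsIso (𝟙 _))
  haveI : Mono φ.τ₃ := inferInstanceAs (Mono m)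
  haveI : Mono (G.map ι) := inferInstance
  have hT : T.ShortExact :=
    { exact := (ShortComplex.exact_iff_of_epi_of_isIso_of_mono φ).2 hSP
      mono_f := inferInstanceAs (Mono (G.map ι))
      epi_g := inferInstanceAs (Epi e) }
  haveI : F.PreservesMonomorphisms := inferInstance
  haveI : Injective (G.obj Ip.J) := Injective.injective_of_adjoint adj Ip.J
  let c₃ : F.obj (Abelian.image g) ⟶ cokernel ι := F.map m ≫ adj.counit.app _
  let Φ : T.map F ⟶ S :=
    ShortComplex.homMk (adj.counit.app _) (adj.counit.app _) c₃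
      (adj.counit_naturality ι).symm (by
        show adj.counit.app Ip.J ≫ π = F.map e ≫ F.map m ≫ adj.counit.app _
        rw [← Category.assoc, ← F.map_comp, hem]
        exact (adj.counit_naturality π).symm)
  have hnat := ShortComplex.ShortExact.extClass_naturality (hT.map_of_exact F) hS Φ
  have h2 := Ext.mapExactFunctor_extClass F hT
  have hmc : m ≫ cokernel.π g = 0 := kernel.condition (cokernel.π g)
  have hc : cokernel.π g = 0 := by
    apply hsep
    intro X hX u
    let u' : F.obj X ⟶ cokernel ι := F.map u ≫ adj.counit.app _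
    obtain ⟨x, hx⟩ := h X hX ((Ext.mk₀ u').comp hS.extClass (zero_add 1))
    have hx2 : x.comp (Ext.mk₀ T.f) (add_zero 1) = 0 := Ext.eq_zero_of_injective _
    obtain ⟨y, hy⟩ := Ext.covariant_sequence_exact₁ X hT x hx2 (rfl : 0 + 1 = 1)
    obtain ⟨ψ, rfl⟩ := ext0_eq_mk₀' y
    have key := comp_class_aux (F := F) (X := X) hT.extClass hS.extClass (adj.counit.app Y) c₃
      ((congrArg (fun t => t.comp (Ext.mk₀ Φ.τ₁) (add_zero 1)) h2).trans hnat) 0 (Ext.mk₀ ψ)
    let ψ' : F.obj X ⟶ cokernel ι := F.map ψ ≫ c₃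
    have h4 : (Ext.mk₀ ψ').comp hS.extClass (zero_add 1) =
        (Ext.mk₀ u').comp hS.extClass (zero_add 1) := by
      have h5 : (Ext.mk₀ ψ').comp hS.extClass (zero_add 1) =
          (((Ext.mk₀ ψ).mapExactFunctor F).comp (Ext.mk₀ c₃) (add_zero 0)).comp hS.extClass
            rfl := by
        rw [Ext.mapExactFunctor_mk₀, Ext.mk₀_comp_mk₀]
      rw [h5, ← key]
      have : counitMap.{w, w'} adj X Y 1 ((Ext.mk₀ ψ).comp hT.extClass rfl) =
          (Ext.mk₀ u').comp hS.extClass (zero_add 1) := by
        rw [hy]; exact hx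
      exact this
    have h3 : (Ext.mk₀ (u' + -ψ')).comp hS.extClass (zero_add 1) = 0 := by
      rw [Ext.mk₀_add, Ext.mk₀_neg, Ext.add_comp, Ext.neg_comp, h4, add_neg_cancel]
    obtain ⟨wv, hw⟩ := Ext.covariant_sequence_exact₃ (F.obj X) hS (Ext.mk₀ (u' + -ψ'))
      (zero_add 1) h3
    obtain ⟨χ', rfl⟩ := ext0_eq_mk₀' wv
    rw [Ext.mk₀_comp_mk₀] at hw
    have hw' : χ' ≫ π = u' + -ψ' := (Ext.mk₀_bijective (F.obj X) (cokernel ι)).1 hw
    let χ : X ⟶ G.obj Ip.J := adj.homEquiv X Ip.J χ'
    have hχ : F.map χ ≫ adj.counit.app Ip.J = χ' :=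
      (adj.homEquiv_counit X Ip.J χ).symm.trans ((adj.homEquiv X Ip.J).symm_apply_apply χ')
    have hu : u = (χ ≫ e + ψ) ≫ m := by
      apply (adj.homEquiv X (cokernel ι)).symm.injective
      rw [Adjunction.homEquiv_counit, Adjunction.homEquiv_counit]
      show u' = _
      rw [Preadditive.add_comp, F.map_add, Preadditive.add_comp, Category.assoc, hem]
      have e1 : F.map (χ ≫ g) ≫ adj.counit.app (cokernel ι) = χ' ≫ π := by
        rw [F.map_comp, Category.assoc]
        have := adj.counit_naturality π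
        rw [this, ← Category.assoc, hχ]
      have e2 : F.map (ψ ≫ m) ≫ adj.counit.app (cokernel ι) = ψ' := by
        rw [F.map_comp, Category.assoc]
      rw [e1, e2, hw']
      abel
    rw [hu, Category.assoc, hmc, comp_zero]
  exact Abelian.epi_of_cokernel_π_eq_zero g hc

end ConverseOne

section ConverseMain

variable (𝒯 : C → Prop)
  (hsep : ∀ {M N : C} (c : M ⟶ N), (∀ X, 𝒯 X → ∀ u : X ⟶ M, u ≫ c = 0) → c = 0)

include hsep in
/-- Converse of the truncated Leray statement. -/
theorem isZero_rightDerived_of_counitMap (Δ : RDer.DerivedLES G) (n : ℕ) :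
    ∀ (Y : D),
      (∀ X, 𝒯 X → (∀ q, q ≤ n → Function.Bijective (counitMap.{w, w'} adj X Y q)) ∧
          Function.Injective (counitMap.{w, w'} adj X Y (n + 1))) →
      ∀ q, 1 ≤ q → q ≤ n → IsZero ((G.rightDerived q).obj Y) := by
  induction n with
  | zero =>
    intro Y _ q h1 h2
    omega
  | succ n ih =>
    intro Y hY
    let Ip : InjectivePresentation Y := Classical.arbitrary _
    let S := ShortComplex.mk _ _ (cokernel.condition Ip.f)
    have hS : S.ShortExact := { exact := ShortComplex.exact_cokernel Ip.f }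
    haveI : Injective S.X₂ := Ip.injective
    -- step 1 : `R¹ G Y = 0`
    have hepi : Epi (G.map S.g) :=
      epi_map_of_surjective_one.{w, w'} adj 𝒯 hsep Y Ip
        (fun X hX => ((hY X hX).1 1 (by omega)).2)
    have h1 : IsZero ((G.rightDerived 1).obj Y) := by
      have hI : IsZero ((G.rightDerived 1).obj S.X₂) :=
        Functor.isZero_rightDerived_obj_injective_succ G 0 S.X₂
      have hepi0 : Epi ((G.rightDerived 0).map S.g) := by
        have hnat := G.rightDerivedZeroIsoSelf.hom.naturality S.g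
        have : (G.rightDerived 0).map S.g = G.rightDerivedZeroIsoSelf.hom.app S.X₂ ≫ G.map S.g ≫
            G.rightDerivedZeroIsoSelf.inv.app S.X₃ := by
          rw [← Category.assoc, ← hnat, Category.assoc, ← NatTrans.comp_app, Iso.hom_inv_id,
            NatTrans.id_app, Category.comp_id]
        rw [this]
        infer_instance
      have hδ : Δ.δ S hS 0 1 rfl = 0 := ((Δ.exact₃ S hS 0 1 rfl).epi_f_iff).1 hepi0
      exact (Δ.exact₁ S hS 0 1 rfl).isZero_X₂ hδ (hI.eq_of_tgt _ _)
    have hGS : (S.map G).ShortExact := shortExact_map_of_isZero Δ S hS h1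
    -- step 2 : the hypotheses for the cokernel
    have hQ : ∀ X, 𝒯 X → (∀ q, q ≤ n → Function.Bijective (counitMap.{w, w'} adj X S.X₃ q)) ∧
        Function.Injective (counitMap.{w, w'} adj X S.X₃ (n + 1)) := by
      intro X hX
      obtain ⟨hb, hi⟩ := hY X hX
      constructor
      · intro q hq
        cases q with
        | zero => exact counitMap_zero_bijective adj X S.X₃
        | succ q => exact bijective_cokernel_of_succ adj S hS hGS X q (hb (q + 2) (by omega))
      · exact injective_cokernel_of_succ adj S hS hGS X n hi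
    have ihQ := ih S.X₃ hQ
    intro q hq1 hq2
    obtain ⟨q', rfl⟩ : ∃ q', q = q' + 1 := ⟨q - 1, by omega⟩
    cases q' with
    | zero => exact h1
    | succ q'' =>
      have hQz : IsZero ((G.rightDerived (q'' + 1)).obj S.X₃) := ihQ (q'' + 1) (by omega) (by omega)
      have hIz : IsZero ((G.rightDerived (q'' + 1 + 1)).obj S.X₂) :=
        Functor.isZero_rightDerived_obj_injective_succ G (q'' + 1) S.X₂
      exact (Δ.exact₁ S hS (q'' + 1) (q'' + 1 + 1) rfl).isZero_X₂ (hQz.eq_of_src _ _)
        (hIz.eq_of_tgt _ _)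

end ConverseMain

end Groth.Agent.Helper10.ExtLerayT
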