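import Mathlib

/-!
# Squares of binary coproducts in a finitary extensive category

In a finitary extensive category, a commutative square is a pullback if and only if the square
obtained by adding a fixed summand to the four vertices is a pullback.  We also record that a
retract of a pullback square is a pullback square.
-/

set_option autoImplicit false

universe v u

open CategoryTheory CategoryTheory.Limits

namespace Groth.Agent.Helper10.ExtSq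

/-- A retract of a pullback square is a pullback square. -/
theorem isPullback_of_retract {C : Type u} [Category.{v} C] {P X Y Z P' X' Y' Z' : C}
    {p₁ : P ⟶ X} {p₂ : P ⟶ Y} {f : X ⟶ Z} {g : Y ⟶ Z}
    {p₁' : P' ⟶ X'} {p₂' : P' ⟶ Y'} {f' : X' ⟶ Z'} {g' : Y' ⟶ Z'}
    (iP : P ⟶ P') (iX : X ⟶ X') (iY : Y ⟶ Y') (iZ : Z ⟶ Z')
    (rP : P' ⟶ P) (rX : X' ⟶ X) (rY : Y' ⟶ Y)
    (hP : iP ≫ rP = 𝟙 P) (hX : iX ≫ rX = 𝟙 X) (hY : iY ≫ rY = 𝟙 Y)
    (e₁ : iP ≫ p₁' = p₁ ≫ iX) (e₂ : iP ≫ p₂' = p₂ ≫ iY)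
    (e₃ : iX ≫ f' = f ≫ iZ) (e₄ : iY ≫ g' = g ≫ iZ)
    (n₁ : rP ≫ p₁ = p₁' ≫ rX) (n₂ : rP ≫ p₂ = p₂' ≫ rY)
    (w : p₁ ≫ f = p₂ ≫ g) (h : IsPullback p₁' p₂' f' g') : IsPullback p₁ p₂ f g := by
  have hc : ∀ s : PullbackCone f g, (s.fst ≫ iX) ≫ f' = (s.snd ≫ iY) ≫ g' := fun s => by
    rw [Category.assoc, Category.assoc, e₃, e₄, ← Category.assoc, ← Category.assoc, s.condition]
  refine ⟨⟨w⟩, ⟨PullbackCone.IsLimit.mk _
    (fun s => h.lift (s.fst ≫ iX) (s.snd ≫ iY) (hc s) ≫ rP) (fun s => ?_) (fun s => ?_)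
    (fun s m hm₁ hm₂ => ?_)⟩⟩
  · rw [Category.assoc, n₁, ← Category.assoc, h.lift_fst, Category.assoc, hX, Category.comp_id]
  · rw [Category.assoc, n₂, ← Category.assoc, h.lift_snd, Category.assoc, hY, Category.comp_id]
  · have : m ≫ iP = h.lift (s.fst ≫ iX) (s.snd ≫ iY) (hc s) := by
      apply h.hom_ext
      · rw [Category.assoc, e₁, ← Category.assoc, hm₁, h.lift_fst]
      · rw [Category.assoc, e₂, ← Category.assoc, hm₂, h.lift_snd]
    rw [← this, Category.assoc, hP, Category.comp_id]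

variable {𝒯 : Type u} [Category.{v} 𝒯] [FinitaryExtensive 𝒯]

/-- The two cartesian squares attached to a morphism of binary coproduct cofans with the same
second summand. -/
lemma isPullback_cofan {X Z A X' Z' : 𝒯} {f : X ⟶ Z} {f' : X' ⟶ Z'} {iX : X ⟶ X'}
    {jX : A ⟶ X'} {iZ : Z ⟶ Z'} {jZ : A ⟶ Z'}
    (hX : IsColimit (BinaryCofan.mk iX jX)) (hZ : IsColimit (BinaryCofan.mk iZ jZ))
    (h₁ : iX ≫ f' = f ≫ iZ) (h₂ : jX ≫ f' = jZ) :
    IsPullback iX f f' iZ ∧ IsPullback jX (𝟙 A) f' jZ :=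
  ((BinaryCofan.isVanKampen_iff _).1 (FinitaryExtensive.vanKampen _ hZ)
    (BinaryCofan.mk iX jX) f (𝟙 A) f' h₁.symm ((Category.id_comp jZ).trans h₂.symm)).1 ⟨hX⟩

section

variable {P X Y Z A P' X' Y' Z' : 𝒯}
  {p₁ : P ⟶ X} {p₂ : P ⟶ Y} {f : X ⟶ Z} {g : Y ⟶ Z}
  {p₁' : P' ⟶ X'} {p₂' : P' ⟶ Y'} {f' : X' ⟶ Z'} {g' : Y' ⟶ Z'}
  {iP : P ⟶ P'} {jP : A ⟶ P'} {iX : X ⟶ X'} {jX : A ⟶ X'} {iY : Y ⟶ Y'} {jY : A ⟶ Y'}
  {iZ : Z ⟶ Z'} {jZ : A ⟶ Z'}

/-- If the square of coproducts with a fixed summand is a pullback, so is the original square. -/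
theorem isPullback_of_hat
    (hP : IsColimit (BinaryCofan.mk iP jP)) (hX : IsColimit (BinaryCofan.mk iX jX))
    (hY : IsColimit (BinaryCofan.mk iY jY)) (hZ : IsColimit (BinaryCofan.mk iZ jZ))
    (e₁ : iP ≫ p₁' = p₁ ≫ iX)
    (e₂ : iP ≫ p₂' = p₂ ≫ iY) (e₂' : jP ≫ p₂' = jY)
    (e₃ : iX ≫ f' = f ≫ iZ) (e₃' : jX ≫ f' = jZ)
    (e₄ : iY ≫ g' = g ≫ iZ)
    (w : p₁ ≫ f = p₂ ≫ g) (h : IsPullback p₁' p₂' f' g') :
    IsPullback p₁ p₂ f g := by
  have cf := (isPullback_cofan hX hZ e₃ e₃').1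
  have cp := (isPullback_cofan hP hY e₂ e₂').1
  have big : IsPullback (iP ≫ p₁') p₂ f' (iY ≫ g') := cp.paste_horiz h
  rw [e₁, e₄] at big
  exact big.of_right w cf

/-- If a square is a pullback, so is the square of coproducts with a fixed summand. -/
theorem isPullback_hat [HasPullback f' g']
    (hP : IsColimit (BinaryCofan.mk iP jP)) (hX : IsColimit (BinaryCofan.mk iX jX))
    (hY : IsColimit (BinaryCofan.mk iY jY)) (hZ : IsColimit (BinaryCofan.mk iZ jZ))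
    (e₁ : iP ≫ p₁' = p₁ ≫ iX) (e₁' : jP ≫ p₁' = jX)
    (e₂ : iP ≫ p₂' = p₂ ≫ iY) (e₂' : jP ≫ p₂' = jY)
    (e₃ : iX ≫ f' = f ≫ iZ) (e₃' : jX ≫ f' = jZ)
    (e₄ : iY ≫ g' = g ≫ iZ) (e₄' : jY ≫ g' = jZ)
    (w' : p₁' ≫ f' = p₂' ≫ g') (h : IsPullback p₁ p₂ f g) :
    IsPullback p₁' p₂' f' g' := by
  let k : P' ⟶ pullback f' g' := pullback.lift p₁' p₂' w'
  have hk₁ : k ≫ pullback.fst f' g' = p₁' := pullback.lift_fst _ _ _
  have hk₂ : k ≫ pullback.snd f' g' = p₂' := pullback.lift_snd _ _ _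
  have hW : IsPullback (pullback.fst f' g') (pullback.snd f' g') f' g' :=
    IsPullback.of_hasPullback _ _
  have cf := isPullback_cofan hX hZ e₃ e₃'
  have cg := isPullback_cofan hY hZ e₄ e₄'
  have α1 : IsPullback (iP ≫ k) p₁ (pullback.fst f' g') iX := by
    have big : IsPullback (p₂ ≫ iY) p₁ g' (f ≫ iZ) := h.flip.paste_horiz cg.1
    have e : p₂ ≫ iY = (iP ≫ k) ≫ pullback.snd f' g' := by rw [Category.assoc, hk₂, e₂]
    rw [e, ← e₃] at big
    exact big.of_right (by rw [Category.assoc, hk₁, e₁]) hW.flip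
  have α : IsPullback (iP ≫ k) (p₁ ≫ f) (pullback.fst f' g' ≫ f') iZ := α1.paste_vert cf.1
  have β1 : IsPullback (jP ≫ k) (𝟙 A) (pullback.fst f' g') jX := by
    have big : IsPullback jY (𝟙 A) g' jZ := cg.2
    have e : jY = (jP ≫ k) ≫ pullback.snd f' g' := by rw [Category.assoc, hk₂, e₂']
    rw [e, ← e₃'] at big
    exact big.of_right (by rw [Category.assoc, hk₁, e₁', Category.id_comp]) hW.flip
  have β : IsPullback (jP ≫ k) (𝟙 A) (pullback.fst f' g' ≫ f') jZ := by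
    have := β1.paste_vert cf.2
    rwa [Category.comp_id] at this
  have hcol : IsColimit (BinaryCofan.mk (iP ≫ k) (jP ≫ k)) :=
    (((BinaryCofan.isVanKampen_iff _).1 (FinitaryExtensive.vanKampen _ hZ)
      (BinaryCofan.mk (iP ≫ k) (jP ≫ k)) (p₁ ≫ f) (𝟙 A) (pullback.fst f' g' ≫ f')
      α.w.symm β.w.symm).2 ⟨α, β⟩).some
  have hkiso : k = (hP.coconePointUniqueUpToIso hcol).hom := by
    apply BinaryCofan.IsColimit.hom_ext hP
    · exact (IsColimit.comp_coconePointUniqueUpToIso_hom hP hcol ⟨WalkingPair.left⟩).symm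
    · exact (IsColimit.comp_coconePointUniqueUpToIso_hom hP hcol ⟨WalkingPair.right⟩).symm
  have : IsIso k := by rw [hkiso]; infer_instance
  exact IsPullback.of_iso_pullback ⟨w'⟩ (asIso k) hk₁ hk₂

end

end Groth.Agent.Helper10.ExtSq
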