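import Mathlib

/-!
# Long exact sequence for a sequence of functors short exact on injectives

Let `ι : Γ ⟶ G`, `η : G ⟶ T` be natural transformations of additive functors between abelian
categories with `ι ≫ η = 0`, such that `0 → Γ I → G I → T I → 0` is short exact for every
injective `I`, with `G` exact and `T` left exact. Then `coker (η_F) ≅ R¹Γ F` and
`R^p T F ≅ R^{p+1} Γ F` for `p ≥ 1`.
-/

set_option autoImplicit false

namespace Groth.Agent.Helper10.KerLES

open CategoryTheory CategoryTheory.Limits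

universe v v' u u'

variable {𝒜 : Type u} [Category.{v} 𝒜] [Abelian 𝒜] [HasInjectiveResolutions 𝒜]
  {ℬ : Type u'} [Category.{v'} ℬ] [Abelian ℬ]
  (Γ G T : 𝒜 ⥤ ℬ) [Γ.Additive] [G.Additive] [T.Additive]
  (ι : Γ ⟶ G) (η : G ⟶ T)

/-- The short complex `Γ X ⟶ G X ⟶ T X`. -/
abbrev sc₀ (w : ι ≫ η = 0) (X : 𝒜) : ShortComplex ℬ :=
  ShortComplex.mk (ι.app X) (η.app X) (by rw [← NatTrans.comp_app, w]; rfl)

/-- The short complex of complexes `Γ K ⟶ G K ⟶ T K`. -/
noncomputable abbrev sc (w : ι ≫ η = 0) (K : CochainComplex 𝒜 ℕ) :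
    ShortComplex (CochainComplex ℬ ℕ) :=
  ShortComplex.mk ((NatTrans.mapHomologicalComplex ι (ComplexShape.up ℕ)).app K)
    ((NatTrans.mapHomologicalComplex η (ComplexShape.up ℕ)).app K) (by
      ext n
      simp only [HomologicalComplex.comp_f, NatTrans.mapHomologicalComplex_app_f,
        HomologicalComplex.zero_f]
      exact (sc₀ Γ G T ι η w (K.X n)).zero)

omit [HasInjectiveResolutions 𝒜] in
lemma sc_shortExact (w : ι ≫ η = 0) (K : CochainComplex 𝒜 ℕ)
    (h : ∀ n, (sc₀ Γ G T ι η w (K.X n)).ShortExact) : (sc Γ G T ι η w K).ShortExact :=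
  HomologicalComplex.shortExact_of_degreewise_shortExact _ (fun n => h n)

omit [HasInjectiveResolutions 𝒜] [Γ.Additive] in
/-- Compatibility of `toRightDerivedZero'` with natural transformations. -/
@[reassoc]
lemma toRightDerivedZero'_nat {F : 𝒜} (I : InjectiveResolution F) :
    I.toRightDerivedZero' G ≫ HomologicalComplex.cyclesMap
        ((NatTrans.mapHomologicalComplex η (ComplexShape.up ℕ)).app I.cocomplex) 0 =
      η.app F ≫ I.toRightDerivedZero' T := by
  simp only [← cancel_mono (HomologicalComplex.iCycles _ _), Category.assoc,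
    HomologicalComplex.cyclesMap_i, InjectiveResolution.toRightDerivedZero'_comp_iCycles,
    InjectiveResolution.toRightDerivedZero'_comp_iCycles_assoc,
    NatTrans.mapHomologicalComplex_app_f]
  exact η.naturality (I.ι.f 0)

variable [PreservesFiniteLimits G] [PreservesFiniteColimits G] [PreservesFiniteLimits T]

omit [HasInjectiveResolutions 𝒜] [PreservesFiniteLimits T] [Γ.Additive] [T.Additive] in
lemma isZero_homology_G {F : 𝒜} (I : InjectiveResolution F) (q : ℕ) :
    IsZero (((G.mapHomologicalComplex (ComplexShape.up ℕ)).obj I.cocomplex).homology (q + 1)) := by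
  refine (HomologicalComplex.exactAt_iff_isZero_homology _ _).1 ?_
  have h := I.cocomplex_exactAt_succ q
  exact ShortComplex.Exact.map h G

theorem main (w : ι ≫ η = 0)
    (hinj : ∀ I : 𝒜, Injective I → (sc₀ Γ G T ι η w I).ShortExact) (F : 𝒜) :
    Nonempty (cokernel (η.app F) ≅ (Γ.rightDerived 1).obj F) ∧
      ∀ p : ℕ, 1 ≤ p → Nonempty ((T.rightDerived p).obj F ≅ (Γ.rightDerived (p + 1)).obj F) := by
  let I := injectiveResolution F
  have hS : (sc Γ G T ι η w I.cocomplex).ShortExact :=
    sc_shortExact Γ G T ι η w I.cocomplex (fun n => hinj _ (I.injective n))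
  constructor
  · -- degree one
    have hepi : Epi (hS.δ 0 1 rfl) := hS.epi_δ 0 1 rfl (isZero_homology_G G I 0)
    have hex := hS.homology_exact₃ 0 1 rfl
    have hcok := hex.gIsCokernel
    let a : G.obj F ≅ ((G.mapHomologicalComplex (ComplexShape.up ℕ)).obj I.cocomplex).homology 0 :=
      asIso (I.toRightDerivedZero' G) ≪≫ CochainComplex.isoHomologyπ₀ _
    let b : T.obj F ≅ ((T.mapHomologicalComplex (ComplexShape.up ℕ)).obj I.cocomplex).homology 0 :=
      asIso (I.toRightDerivedZero' T) ≪≫ CochainComplex.isoHomologyπ₀ _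
    have comm : η.app F ≫ b.hom = a.hom ≫ HomologicalComplex.homologyMap
        ((NatTrans.mapHomologicalComplex η (ComplexShape.up ℕ)).app I.cocomplex) 0 := by
      simp only [a, b, Iso.trans_hom, asIso_hom, Category.assoc]
      rw [← toRightDerivedZero'_nat_assoc]
      congr 1
      exact (HomologicalComplex.homologyπ_naturality _ _).symm
    let e1 : cokernel (η.app F) ≅ cokernel (HomologicalComplex.homologyMap
        ((NatTrans.mapHomologicalComplex η (ComplexShape.up ℕ)).app I.cocomplex) 0) :=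
      cokernel.mapIso _ _ a b comm
    let e2 := IsColimit.coconePointUniqueUpToIso (colimit.isColimit _) hcok
    exact ⟨e1 ≪≫ e2 ≪≫ (I.isoRightDerivedObj Γ 1).symm⟩
  · intro p hp
    obtain ⟨q, rfl⟩ : ∃ q, p = q + 1 := ⟨p - 1, by omega⟩
    let e := hS.δIso (q + 1) (q + 1 + 1) rfl (isZero_homology_G G I q)
      (isZero_homology_G G I (q + 1))
    exact ⟨I.isoRightDerivedObj T (q + 1) ≪≫ e ≪≫ (I.isoRightDerivedObj Γ (q + 1 + 1)).symm⟩

end Groth.Agent.Helper10.KerLES
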