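import Mathlib
import Groth.Prelude.Def_EtDual
import Groth.Agent.Lib.Helper10.KerLES
import Groth.Agent.Lib.Helper10.LocCohLoc

/-!
# Kernel functors of natural transformations and the long exact sequence of supports (helper10)
-/

set_option autoImplicit false
set_option linter.unusedSectionVars false

open CategoryTheory CategoryTheory.Limits Opposite

namespace Groth.Agent.Helper10.SuppLES

universe w v u

section Abs

variable {𝒜 : Type u} [Category.{v} 𝒜] [Abelian 𝒜]

/-- kernel functor of a natural transformation -/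
noncomputable def kerFun {E E' : 𝒜 ⥤ AddCommGrpCat.{w}} (r : E ⟶ E') : 𝒜 ⥤ AddCommGrpCat.{w} where
  obj F := kernel (r.app F)
  map φ := kernel.map _ _ (E.map φ) (E'.map φ) (r.naturality φ).symm
  map_id F := by
    apply (cancel_mono (kernel.ι (r.app F))).1
    simp
  map_comp φ ψ := by
    apply (cancel_mono (kernel.ι _)).1
    simp

section

variable {E E' : 𝒜 ⥤ AddCommGrpCat.{w}} (r : E ⟶ E')

/-- the inclusion of the kernel -/
noncomputable def kι (F : 𝒜) : (kerFun r).obj F ⟶ E.obj F := kernel.ι (r.app F)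

instance (F : 𝒜) : Mono (kι r F) :=
  inferInstanceAs (Mono (kernel.ι (r.app F)))

@[reassoc]
lemma kι_comp (F : 𝒜) : kι r F ≫ r.app F = 0 := kernel.condition (r.app F)

/-- lifting to the kernel -/
noncomputable def kLift {F : 𝒜} {T : AddCommGrpCat.{w}} (y : T ⟶ E.obj F) (h : y ≫ r.app F = 0) :
    T ⟶ (kerFun r).obj F := kernel.lift (r.app F) y h

@[reassoc]
lemma kLift_kι {F : 𝒜} {T : AddCommGrpCat.{w}} (y : T ⟶ E.obj F) (h : y ≫ r.app F = 0) :
    kLift r y h ≫ kι r F = y := kernel.lift_ι _ _ _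

@[reassoc]
lemma kerFun_map_kι {F G : 𝒜} (φ : F ⟶ G) :
    (kerFun r).map φ ≫ kι r G = kι r F ≫ E.map φ := by
  simp [kerFun, kι]

instance kerFun_additive [E.Additive] [E'.Additive] : (kerFun r).Additive where
  map_add {F G φ ψ} := by
    apply (cancel_mono (kι r G)).1
    rw [kerFun_map_kι, Preadditive.add_comp, kerFun_map_kι, kerFun_map_kι, Functor.map_add,
      Preadditive.comp_add]

end

variable {E E' E'' : 𝒜 ⥤ AddCommGrpCat.{w}} (r : E ⟶ E') (s : E' ⟶ E'')

/-- `ker r ⟶ ker (r ≫ s)` -/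
noncomputable def kerIncl : kerFun r ⟶ kerFun (r ≫ s) where
  app F := kLift (r ≫ s) (kι r F) (by
    rw [NatTrans.comp_app, kι_comp_assoc, zero_comp])
  naturality F G φ := by
    apply (cancel_mono (kι (r ≫ s) G)).1
    rw [Category.assoc, kLift_kι, kerFun_map_kι, Category.assoc, kerFun_map_kι,
      kLift_kι_assoc]

@[reassoc]
lemma kerIncl_app_kι (F : 𝒜) : (kerIncl r s).app F ≫ kι (r ≫ s) F = kι r F := kLift_kι _ _ _

/-- `ker (r ≫ s) ⟶ ker s` -/
noncomputable def kerProj : kerFun (r ≫ s) ⟶ kerFun s where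
  app F := kLift s (kι (r ≫ s) F ≫ r.app F) (by
    rw [Category.assoc]
    exact kι_comp (r ≫ s) F)
  naturality F G φ := by
    apply (cancel_mono (kι s G)).1
    rw [Category.assoc, kLift_kι, kerFun_map_kι_assoc, Category.assoc, kerFun_map_kι,
      kLift_kι_assoc, Category.assoc, r.naturality]

@[reassoc]
lemma kerProj_app_kι (F : 𝒜) : (kerProj r s).app F ≫ kι s F = kι (r ≫ s) F ≫ r.app F :=
  kLift_kι _ _ _

lemma kerIncl_kerProj : kerIncl r s ≫ kerProj r s = 0 := by
  ext F : 2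
  apply (cancel_mono (kι s F)).1
  rw [NatTrans.comp_app, Category.assoc, kerProj_app_kι, kerIncl_app_kι_assoc, kι_comp]
  exact zero_comp.symm

lemma exists_kι_eq {E E' : 𝒜 ⥤ AddCommGrpCat.{w}} (r : E ⟶ E') (F : 𝒜) (p : E.obj F)
    (hp : (r.app F).hom p = 0) : ∃ x : (kerFun r).obj F, (kι r F).hom x = p := by
  refine ⟨(AddCommGrpCat.kernelIsoKer (r.app F)).inv.hom ⟨p, hp⟩, ?_⟩
  have := congrArg (fun φ => φ.hom ⟨p, hp⟩) (AddCommGrpCat.kernelIsoKer_inv_comp_ι (r.app F))
  exact this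

/-- **kernel of a composite**: `0 → ker r → ker (r ≫ s) → ker s → 0` is exact when `r` is epi -/
lemma shortExact_of_epi (F : 𝒜) [Epi (r.app F)] :
    (ShortComplex.mk ((kerIncl r s).app F) ((kerProj r s).app F) (by
      rw [← NatTrans.comp_app, kerIncl_kerProj]
      rfl)).ShortExact := by
  have hmono : Mono ((kerIncl r s).app F) := by
    have : Mono ((kerIncl r s).app F ≫ kι (r ≫ s) F) := by
      rw [kerIncl_app_kι]
      infer_instance
    exact mono_of_mono _ (kι (r ≫ s) F)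
  have hepi : Epi ((kerProj r s).app F) := by
    rw [AddCommGrpCat.epi_iff_surjective]
    intro z
    have hr : Function.Surjective (r.app F).hom :=
      (AddCommGrpCat.epi_iff_surjective _).1 inferInstance
    obtain ⟨p, hp⟩ := hr ((kι s F).hom z)
    have hp0 : ((r ≫ s).app F).hom p = 0 := by
      show (s.app F).hom ((r.app F).hom p) = 0
      rw [hp]
      exact congrArg (fun φ => φ.hom z) (kι_comp s F)
    obtain ⟨x, hx⟩ := exists_kι_eq (r ≫ s) F p hp0
    refine ⟨x, ?_⟩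
    have hinj : Function.Injective (kι s F).hom :=
      (AddCommGrpCat.mono_iff_injective _).1 inferInstance
    apply hinj
    have h1 := congrArg (fun φ => φ.hom x) (kerProj_app_kι r s F)
    refine h1.trans ?_
    show (r.app F).hom ((kι (r ≫ s) F).hom x) = _
    rw [hx, hp]
  refine ShortComplex.ShortExact.mk' ?_ hmono hepi
  apply ShortComplex.exact_of_f_is_kernel
  refine KernelFork.IsLimit.ofι' _ _ (fun {A} k hk => ?_)
  have h0 : (k ≫ kι (r ≫ s) F) ≫ r.app F = 0 := by
    have := congrArg (· ≫ kι s F) hk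
    simp only [Category.assoc, zero_comp] at this
    rw [kerProj_app_kι] at this
    rw [Category.assoc]
    exact this
  refine ⟨kLift r (k ≫ kι (r ≫ s) F) h0, ?_⟩
  apply (cancel_mono (kι (r ≫ s) F)).1
  rw [Category.assoc]
  show kLift r (k ≫ kι (r ≫ s) F) h0 ≫ (kerIncl r s).app F ≫ kι (r ≫ s) F = _
  rw [kerIncl_app_kι, kLift_kι]

section Congr

variable {E E' D D' : 𝒜 ⥤ AddCommGrpCat.{w}} (r : E ⟶ E') (r' : D ⟶ D')

/-- functoriality of the kernel functor in the natural transformation -/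
noncomputable def kerFunMap (θ : E ⟶ D) (θ' : E' ⟶ D') (h : r ≫ θ' = θ ≫ r') :
    kerFun r ⟶ kerFun r' where
  app F := kLift r' (kι r F ≫ θ.app F) (by
    have := congrArg (fun t => t.app F) h
    simp only [NatTrans.comp_app] at this
    rw [Category.assoc, ← this, kι_comp_assoc, zero_comp])
  naturality F G φ := by
    apply (cancel_mono (kι r' G)).1
    rw [Category.assoc, kLift_kι, kerFun_map_kι_assoc, Category.assoc, kerFun_map_kι,
      kLift_kι_assoc, Category.assoc, θ.naturality]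

@[reassoc]
lemma kerFunMap_app_kι (θ : E ⟶ D) (θ' : E' ⟶ D') (h : r ≫ θ' = θ ≫ r') (F : 𝒜) :
    (kerFunMap r r' θ θ' h).app F ≫ kι r' F = kι r F ≫ θ.app F := kLift_kι _ _ _

/-- the kernel functor respects isomorphisms of arrows -/
noncomputable def kerFunIso (θ : E ≅ D) (θ' : E' ≅ D') (h : r ≫ θ'.hom = θ.hom ≫ r') :
    kerFun r ≅ kerFun r' where
  hom := kerFunMap r r' θ.hom θ'.hom h
  inv := kerFunMap r' r θ.inv θ'.inv (by
    rw [← cancel_mono θ'.hom, Category.assoc, Iso.inv_hom_id, Category.comp_id, Category.assoc, h,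
      Iso.inv_hom_id_assoc])
  hom_inv_id := by
    ext F : 2
    apply (cancel_mono (kι r F)).1
    rw [NatTrans.comp_app, Category.assoc, kerFunMap_app_kι, kerFunMap_app_kι_assoc,
      ← NatTrans.comp_app, Iso.hom_inv_id]
    simp
  inv_hom_id := by
    ext F : 2
    apply (cancel_mono (kι r' F)).1
    rw [NatTrans.comp_app, Category.assoc, kerFunMap_app_kι, kerFunMap_app_kι_assoc,
      ← NatTrans.comp_app, Iso.inv_hom_id]
    simp

end Congr

end Abs

section LES

universe v' u'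

variable {𝒜 : Type u} [Category.{v} 𝒜] [Abelian 𝒜] [HasInjectiveResolutions 𝒜]
  {ℬ : Type u'} [Category.{v'} ℬ] [Abelian ℬ]
  (Ψ₁ Ψ₂ Ψ₃ : 𝒜 ⥤ ℬ) [Ψ₁.Additive] [Ψ₂.Additive] [Ψ₃.Additive]
  (ι : Ψ₁ ⟶ Ψ₂) (η : Ψ₂ ⟶ Ψ₃)

/-- from the long exact sequence: if `R^i Ψ₁ F = 0 = R^{i+1} Ψ₁ F` then `R^i Ψ₂ F ≅ R^i Ψ₃ F` -/
theorem derived_iso_of_isZero (w : ι ≫ η = 0)
    (hinj : ∀ I : 𝒜, Injective I → (KerLES.sc₀ Ψ₁ Ψ₂ Ψ₃ ι η w I).ShortExact) (F : 𝒜) (i : ℕ)
    (h0 : IsZero ((Ψ₁.rightDerived i).obj F)) (h1 : IsZero ((Ψ₁.rightDerived (i + 1)).obj F)) :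
    Nonempty ((Ψ₂.rightDerived i).obj F ≅ (Ψ₃.rightDerived i).obj F) := by
  let I := injectiveResolution F
  have hS : (KerLES.sc Ψ₁ Ψ₂ Ψ₃ ι η w I.cocomplex).ShortExact :=
    KerLES.sc_shortExact Ψ₁ Ψ₂ Ψ₃ ι η w I.cocomplex (fun n => hinj _ (I.injective n))
  have z0 : IsZero (((Ψ₁.mapHomologicalComplex (ComplexShape.up ℕ)).obj I.cocomplex).homology i) :=
    h0.of_iso (I.isoRightDerivedObj Ψ₁ i).symm
  have z1 : IsZero
      (((Ψ₁.mapHomologicalComplex (ComplexShape.up ℕ)).obj I.cocomplex).homology (i + 1)) :=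
    h1.of_iso (I.isoRightDerivedObj Ψ₁ (i + 1)).symm
  have e2 := hS.homology_exact₂ i
  have e3 := hS.homology_exact₃ i (i + 1) rfl
  have hm : Mono (HomologicalComplex.homologyMap (KerLES.sc Ψ₁ Ψ₂ Ψ₃ ι η w I.cocomplex).g i) :=
    e2.mono_g (z0.eq_of_src _ _)
  have he : Epi (HomologicalComplex.homologyMap (KerLES.sc Ψ₁ Ψ₂ Ψ₃ ι η w I.cocomplex).g i) :=
    e3.epi_f (z1.eq_of_tgt _ _)
  have hiso : IsIso (HomologicalComplex.homologyMap
      (KerLES.sc Ψ₁ Ψ₂ Ψ₃ ι η w I.cocomplex).g i) := isIso_of_mono_of_epi _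
  exact ⟨I.isoRightDerivedObj Ψ₂ i ≪≫ @asIso _ _ _ _ _ hiso ≪≫ (I.isoRightDerivedObj Ψ₃ i).symm⟩

end LES

section Et

open AlgebraicGeometry

variable {X : Scheme.{u}}

/-- evaluation at `W` -/
noncomputable abbrev ev (W : X.Etale) : EtCoh.Ab X ⥤ AddCommGrpCat.{u + 1} :=
  sheafToPresheaf X.smallEtaleTopology AddCommGrpCat.{u + 1} ⋙
    (evaluation X.Etaleᵒᵖ AddCommGrpCat.{u + 1}).obj (op W)

/-- restriction along `m` -/
noncomputable def rs {P Q : X.Etale} (m : P ⟶ Q) : ev Q ⟶ ev P where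
  app F := F.obj.map m.op
  naturality F G φ := (φ.hom.naturality m.op).symm

lemma rs_app {P Q : X.Etale} (m : P ⟶ Q) (F : EtCoh.Ab X) : (rs m).app F = F.obj.map m.op := rfl

lemma rs_comp {P Q R : X.Etale} (m : P ⟶ Q) (m' : Q ⟶ R) : rs (m ≫ m') = rs m' ≫ rs m := by
  ext F : 2
  rw [NatTrans.comp_app, rs_app, rs_app, rs_app, op_comp, Functor.map_comp]

/-- restriction along an isomorphism -/
noncomputable def rsIso {P Q : X.Etale} (e : P ≅ Q) : ev Q ≅ ev P where
  hom := rs e.hom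
  inv := rs e.inv
  hom_inv_id := by
    rw [← rs_comp, Iso.inv_hom_id]
    ext F : 2
    rw [rs_app]
    exact F.obj.map_id _
  inv_hom_id := by
    rw [← rs_comp, Iso.hom_inv_id]
    ext F : 2
    rw [rs_app]
    exact F.obj.map_id _

variable {T : Scheme.{u}} (g : T ⟶ X) [IsOpenImmersion g] [EtCoh.BCCont g]

/-- the counit `W ×_X T ⟶ W` -/
noncomputable abbrev cu (W : X.Etale) : (EtLoc.phi g).obj ((EtCoh.bc g).obj W) ⟶ W :=
  (EtLoc.phiAdj g).counit.app W

lemma evι_comp (F : EtCoh.Ab X) (W : X.Etale) :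
    (ev W).map (kernel.ι (EtDual.unitApp g F)) ≫ (rs (cu g W)).app F = 0 := by
  have h := (LocCohLoc.comp_unitApp_app_eq_zero_iff g F W
    ((ev W).map (kernel.ι (EtDual.unitApp g F)))).1
  apply h
  exact congrArg (fun φ => φ.hom.app (op W)) (kernel.condition (EtDual.unitApp g F))

/-- sections of `Γ_Y F` over `W` form the kernel of the restriction to `W ×_X T` -/
noncomputable def evKerIsLimit (F : EtCoh.Ab X) (W : X.Etale) :
    IsLimit (KernelFork.ofι (f := (rs (cu g W)).app F)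
      ((ev W).map (kernel.ι (EtDual.unitApp g F))) (evι_comp g F W)) :=
  KernelFork.isLimitOfIsLimitOfIff'
    (KernelFork.mapIsLimit _ (kernelIsKernel (EtDual.unitApp g F)) (ev W)) _
    (fun _ y => LocCohLoc.comp_unitApp_app_eq_zero_iff g F W y)

/-- componentwise comparison -/
noncomputable def secSuppEvIsoApp (F : EtCoh.Ab X) (W : X.Etale) :
    (ev W).obj ((EtDual.secSupp g).obj F) ≅ (kerFun (rs (cu g W))).obj F :=
  IsLimit.conePointUniqueUpToIso (evKerIsLimit g F W)
    (t := KernelFork.ofι (kernel.ι ((rs (cu g W)).app F)) (kernel.condition _))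
    (kernelIsKernel ((rs (cu g W)).app F))

@[reassoc]
lemma secSuppEvIsoApp_hom_kι (F : EtCoh.Ab X) (W : X.Etale) :
    (secSuppEvIsoApp g F W).hom ≫ kι (rs (cu g W)) F =
      (ev W).map (kernel.ι (EtDual.unitApp g F)) :=
  IsLimit.conePointUniqueUpToIso_hom_comp (evKerIsLimit g F W)
    (t := KernelFork.ofι (kernel.ι ((rs (cu g W)).app F)) (kernel.condition _))
    (kernelIsKernel ((rs (cu g W)).app F)) WalkingParallelPair.zero

/-- sections with support, evaluated at `W`, as a kernel functor -/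
noncomputable def secSuppEvIso (W : X.Etale) :
    EtDual.secSupp g ⋙ ev W ≅ kerFun (rs (cu g W)) :=
  NatIso.ofComponents (fun F => secSuppEvIsoApp g F W) (by
    intro F G f
    apply (cancel_mono (kι (rs (cu g W)) G)).1
    rw [Category.assoc, secSuppEvIsoApp_hom_kι, Category.assoc, kerFun_map_kι,
      secSuppEvIsoApp_hom_kι_assoc]
    have h : (EtDual.secSupp g).map f ≫ kernel.ι (EtDual.unitApp g G) =
        kernel.ι (EtDual.unitApp g F) ≫ f := kernel.lift_ι (EtDual.unitApp g G) _ _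
    have h2 := congrArg (ev W).map h
    rw [Functor.map_comp, Functor.map_comp] at h2
    exact h2)

end Et

section Whisker

variable {𝒜 : Type u} [Category.{v} 𝒜] [Abelian 𝒜] {𝒜' : Type u} [Category.{v} 𝒜'] [Abelian 𝒜']
  (H : 𝒜' ⥤ 𝒜) {E E' : 𝒜 ⥤ AddCommGrpCat.{w}} (r : E ⟶ E')

/-- precomposition of a kernel functor -/
noncomputable def kerFunWhisker : H ⋙ kerFun r ≅ kerFun (Functor.whiskerLeft H r) :=
  NatIso.ofComponents (fun _ => Iso.refl _) (by
    intro F G φ
    exact (Category.comp_id ((H ⋙ kerFun r).map φ)).trans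
      (Category.id_comp ((kerFun (Functor.whiskerLeft H r)).map φ)).symm)

end Whisker

section Open

open AlgebraicGeometry

variable {X T : Scheme.{u}} (g : T ⟶ X) [IsOpenImmersion g] [EtCoh.BCCont g]

/-- the open subscheme as an object of the small étale site -/
noncomputable abbrev ob : X.Etale := Scheme.Etale.mk g

/-- the structure morphism to the terminal object -/
noncomputable def ρ : ob g ⟶ EtCoh.top X :=
  MorphismProperty.Over.homMk g (Category.comp_id g) trivial

lemma ρ_left : (ρ g).left = g := rfl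

/-- `X ×_X T ≅ T` in the small étale site -/
noncomputable def eOb : (EtLoc.phi g).obj ((EtCoh.bc g).obj (EtCoh.top X)) ≅ ob g := by
  have h : IsIso (pullback.snd (𝟙 X) g) := inferInstance
  exact MorphismProperty.Over.isoMk (@asIso _ _ _ _ (pullback.snd (𝟙 X) g) h) (by rfl)

lemma eOb_hom_left : (eOb g).hom.left = pullback.snd (𝟙 X) g := rfl

lemma eOb_hom_ρ : (eOb g).hom ≫ ρ g = cu g (EtCoh.top X) := by
  apply MorphismProperty.Over.Hom.ext
  have h1 : ((eOb g).hom ≫ ρ g).left = (eOb g).hom.left ≫ (ρ g).left := rfl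
  have h2 : (cu g (EtCoh.top X)).left = pullback.fst (𝟙 X) g := rfl
  rw [h1, h2, eOb_hom_left, ρ_left]
  exact (pullback.condition (f := 𝟙 X) (g := g)).symm.trans (Category.comp_id _)

/-- **global sections with support as a kernel functor** -/
noncomputable def gammaSuppIso : EtDual.gammaSupp g ≅ kerFun (rs (ρ g)) :=
  secSuppEvIso g (EtCoh.top X) ≪≫
    kerFunIso (rs (cu g (EtCoh.top X))) (rs (ρ g)) (Iso.refl _) (rsIso (eOb g).symm) (by
      rw [Iso.refl_hom, Category.id_comp]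
      show rs (cu g (EtCoh.top X)) ≫ rs (eOb g).inv = rs (ρ g)
      rw [← rs_comp, ← eOb_hom_ρ, Iso.inv_hom_id_assoc])

end Open

end Groth.Agent.Helper10.SuppLES
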