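import Mathlib

/-!
# Injective abelian sheaves are "flasque" along monomorphisms of the site

For an injective sheaf of abelian groups `I` on a site `(C, J)` and a monomorphism
`a : W' ⟶ W` of `C`, the restriction `I(W) ⟶ I(W')` is surjective.
-/

set_option autoImplicit false

namespace Groth.Agent.Helper10.Flasque

open CategoryTheory CategoryTheory.Limits Opposite

universe w v u

variable {C : Type u} [Category.{v} C] (J : GrothendieckTopology C)
  [HasSheafify J AddCommGrpCat.{max w v}]

/-- The forgetful functor from abelian sheaves to presheaves of types. -/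
noncomputable abbrev R : Sheaf J AddCommGrpCat.{max w v} ⥤ (Cᵒᵖ ⥤ Type (max w v)) :=
  sheafToPresheaf J _ ⋙ (Functor.whiskeringRight Cᵒᵖ _ _).obj (forget AddCommGrpCat.{max w v})

/-- The free abelian sheaf on a presheaf of types. -/
noncomputable abbrev L : (Cᵒᵖ ⥤ Type (max w v)) ⥤ Sheaf J AddCommGrpCat.{max w v} :=
  (Functor.whiskeringRight Cᵒᵖ _ _).obj AddCommGrpCat.free.{max w v} ⋙ presheafToSheaf J _

/-- The adjunction `L ⊣ R`. -/
noncomputable def adj : L.{w} J ⊣ R.{w} J :=
  (Adjunction.whiskerRight Cᵒᵖ AddCommGrpCat.adj.{max w v}).comp (sheafificationAdjunction J _)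

instance L_preservesMono : (L.{w} J).PreservesMonomorphisms := by
  have h1 : ((Functor.whiskeringRight Cᵒᵖ _ _).obj
      AddCommGrpCat.free.{max w v}).PreservesMonomorphisms := by
    constructor
    intro P Q f hf
    have hf' : ∀ X, Mono (f.app X) := (NatTrans.mono_iff_mono_app f).1 hf
    have : ∀ X, Mono ((((Functor.whiskeringRight Cᵒᵖ _ _).obj
        AddCommGrpCat.free.{max w v}).map f).app X) := by
      intro X
      show Mono (AddCommGrpCat.free.{max w v}.map (f.app X))
      infer_instance
    exact NatTrans.mono_of_mono_app _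
  have h2 : (presheafToSheaf J AddCommGrpCat.{max w v}).PreservesMonomorphisms := inferInstance
  infer_instance

theorem surjective_map_of_mono (I : Sheaf J AddCommGrpCat.{max w v}) [Injective I]
    {W' W : C} (a : W' ⟶ W) [Mono a] :
    Function.Surjective (I.obj.map a.op) := by
  have hI : Injective ((R.{w} J).obj I) := Injective.injective_of_adjoint (adj.{w} J) I
  intro s
  have hm : Mono (uliftYoneda.{w}.map a) := inferInstance
  let σ : uliftYoneda.{w}.obj W' ⟶ (R.{w} J).obj I := uliftYonedaEquiv.{w}.symm s
  let τ := Injective.factorThru σ (uliftYoneda.{w}.map a)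
  refine ⟨uliftYonedaEquiv.{w} τ, ?_⟩
  have h := Injective.comp_factorThru σ (uliftYoneda.{w}.map a)
  have h2 := uliftYonedaEquiv_naturality.{w} τ a.op
  refine h2.trans ?_
  rw [Quiver.Hom.unop_op, h]
  exact Equiv.apply_symm_apply _ s

end Groth.Agent.Helper10.Flasque
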