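import Mathlib
import Groth.Prelude.Def_EtDual
import Groth.Agent.S5176
import Groth.Agent.S6658
import Groth.Agent.Lib.Helper24.EtOpen5
import Groth.Agent.Lib.Helper24.GSSExt
import Groth.Agent.Lib.Helper10.SuppLES

/-!
# `Ext^p(ℤ_X / j_! ℤ_U, -)` computes cohomology with supports (helper10)

For an open immersion `j : U ⟶ X`:
* `mono_eps j : Mono (eps j)` (`j_! ℤ_U ⟶ ℤ_X` is a monomorphism);
* `CC j = coker (eps j)`, `sc j`, `sc_shortExact j`;
* `tau j : extFunctorObj (CC j) 0 ≅ kerFun (rs (toTop (objOf j)))`;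
* `extZeroIso j : (extDelta (CC j)).F 0 ≅ EtDual.gammaSupp j`;
* `nonempty_ext_iso_HY j G p : Nonempty (AddCommGrpCat.of (Ext (CC j) G p) ≅ (EtDual.HY j p).obj G)`.
-/

set_option autoImplicit false
universe u
open CategoryTheory CategoryTheory.Limits AlgebraicGeometry Opposite CategoryTheory.Abelian

namespace Groth.Agent.Helper10.ExtSupp

open Groth.Agent.Helper24.EtOpen Groth.Agent.Helper10.SuppLES

variable {U X : Scheme.{u}} (j : U ⟶ X) [IsOpenImmersion j]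

instance mono_toTop : Mono (toTop (objOf j)) := by
  apply Groth.Agent.S6658.mono_of_mono_left
  rw [toTop_left]
  show Mono (𝟙 U ≫ j)
  infer_instance

lemma secJ_zero (G : EtCoh.Ab X) : secJ j G 0 = 0 := by
  have h := secJ_comp j (PP j) G (𝟙 _) 0
  rw [Category.id_comp] at h
  rw [h]
  exact comp_zero

/-- `j_! ℤ_U ⟶ ℤ_X` is a monomorphism -/
theorem mono_eps : Mono (eps j) := by
  let K := kernel (eps j)
  let I := Injective.under K
  let e : K ⟶ I := Injective.ι K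
  let ψ : PP j ⟶ I := Injective.factorThru e (kernel.ι (eps j))
  have hψ : kernel.ι (eps j) ≫ ψ = e := Injective.comp_factorThru _ _
  obtain ⟨a, ha⟩ := sheaf_flasque I (toTop (objOf j)) (secJ j I ψ)
  let φ : EtCoh.const X ℤ ⟶ I := (secX I).symm a
  have hφ : eps j ≫ φ = ψ := by
    apply (secJ j I).injective
    rw [K1, Equiv.apply_symm_apply, ha]
  have he : e = 0 := by
    rw [← hψ, ← hφ, ← Category.assoc, kernel.condition, zero_comp]
  have hK : IsZero K := IsZero.of_mono_eq_zero e he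
  exact Preadditive.mono_of_kernel_zero (hK.eq_of_src _ _)

/-- the cokernel `ℤ_X / j_! ℤ_U` -/
noncomputable abbrev CC : EtCoh.Ab X := cokernel (eps j)

/-- the short complex `j_! ℤ_U ⟶ ℤ_X ⟶ ℤ_X / j_! ℤ_U` -/
noncomputable def sc : ShortComplex (EtCoh.Ab X) :=
  ShortComplex.mk (eps j) (cokernel.π (eps j)) (cokernel.condition _)

lemma sc_shortExact : (sc j).ShortExact := by
  have h1 : Mono (sc j).f := mono_eps j
  have h2 : Epi (sc j).g := inferInstanceAs (Epi (cokernel.π (eps j)))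
  exact ShortComplex.ShortExact.mk'
    (ShortComplex.exact_of_g_is_cokernel (sc j) (cokernelIsCokernel (eps j))) h1 h2

/-- evaluation of `ℤ ⟶ A` at `1` -/
def ev1 (A : AddCommGrpCat.{u + 1}) : (MZ.{u} ⟶ A) →+ A where
  toFun a := a.hom (ULift.up 1)
  map_zero' := rfl
  map_add' _ _ := rfl

/-- `Hom(ℤ_X / j_! ℤ_U, G) → G(X)` -/
noncomputable def θ' (G : EtCoh.Ab X) : (CC j ⟶ G) →+ G.obj.obj (op (EtCoh.top X)) :=
  (ev1 _).comp ((((EtCore.constAdj X).homAddEquiv MZ G).toAddMonoidHom).comp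
    (Preadditive.leftComp G (cokernel.π (eps j))))

lemma θ'_apply (G : EtCoh.Ab X) (ψ : CC j ⟶ G) :
    θ' j G ψ = (secX G (cokernel.π (eps j) ≫ ψ)).hom (ULift.up 1) := rfl

lemma θ'_natural {G G' : EtCoh.Ab X} (α : G ⟶ G') (ψ : CC j ⟶ G) :
    θ' j G' (ψ ≫ α) = (α.hom.app (op (EtCoh.top X))).hom (θ' j G ψ) := by
  rw [θ'_apply, θ'_apply, ← Category.assoc]
  have h : secX G' ((cokernel.π (eps j) ≫ ψ) ≫ α) =
      secX G (cokernel.π (eps j) ≫ ψ) ≫ α.hom.app (op (EtCoh.top X)) :=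
    (EtCore.constAdj X).homEquiv_naturality_right _ _
  rw [h]
  rfl

lemma θ'_injective (G : EtCoh.Ab X) : Function.Injective (θ' j G) := by
  intro ψ ψ' h
  rw [θ'_apply, θ'_apply] at h
  have h2 : secX G (cokernel.π (eps j) ≫ ψ) = secX G (cokernel.π (eps j) ≫ ψ') :=
    MZ_hom_ext _ _ h
  exact (cancel_epi (cokernel.π (eps j))).1 ((secX G).injective h2)

lemma θ'_restrict (G : EtCoh.Ab X) (ψ : CC j ⟶ G) :
    (G.obj.map (toTop (objOf j)).op).hom (θ' j G ψ) = 0 := by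
  have h := K1 j G (cokernel.π (eps j) ≫ ψ)
  rw [← Category.assoc, cokernel.condition, zero_comp, secJ_zero] at h
  rw [θ'_apply]
  have h2 := congrArg (fun a => a.hom (ULift.up 1)) h
  exact h2.symm

lemma θ'_surjective (G : EtCoh.Ab X) (s : G.obj.obj (op (EtCoh.top X)))
    (hs : (G.obj.map (toTop (objOf j)).op).hom s = 0) : ∃ ψ : CC j ⟶ G, θ' j G ψ = s := by
  let a : MZ.{u} ⟶ G.obj.obj (op (EtCoh.top X)) := pick s
  let φ₀ : EtCoh.const X ℤ ⟶ G := (secX G).symm a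
  have h0 : eps j ≫ φ₀ = 0 := by
    apply (secJ j G).injective
    rw [K1, Equiv.apply_symm_apply, secJ_zero]
    apply MZ_hom_ext
    show (G.obj.map (toTop (objOf j)).op).hom ((pick s).hom (ULift.up 1)) = 0
    rw [pick_apply, hs]
  refine ⟨cokernel.desc (eps j) φ₀ h0, ?_⟩
  rw [θ'_apply, cokernel.π_desc, Equiv.apply_symm_apply]
  exact pick_apply s

/-- `Ext⁰(ℤ_X / j_! ℤ_U, G) → G(X)` -/
noncomputable def θ (G : EtCoh.Ab X) : Ext (CC j) G 0 →+ G.obj.obj (op (EtCoh.top X)) :=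
  (θ' j G).comp (Ext.addEquiv₀ (X := CC j) (Y := G)).toAddMonoidHom

lemma θ_mk₀ (G : EtCoh.Ab X) (ψ : CC j ⟶ G) : θ j G (Ext.mk₀ ψ) = θ' j G ψ := by
  show θ' j G (Ext.addEquiv₀ (Ext.mk₀ ψ)) = _
  have h : Ext.addEquiv₀ (Ext.mk₀ ψ) = ψ := Ext.addEquiv₀.apply_symm_apply ψ
  rw [h]

/-- the restriction transformation `Γ(X, -) ⟶ Γ(U, -)` -/
noncomputable abbrev rr : ev (EtCoh.top X) ⟶ ev (objOf j) := rs (toTop (objOf j))

lemma θ_comp_rr (G : EtCoh.Ab X) :
    AddCommGrpCat.ofHom (θ j G) ≫ (rr j).app G = 0 := by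
  ext x
  obtain ⟨ψ, rfl⟩ := (Ext.mk₀_bijective (CC j) G).2 x
  show (G.obj.map (toTop (objOf j)).op).hom (θ j G (Ext.mk₀ ψ)) = 0
  rw [θ_mk₀]
  exact θ'_restrict j G ψ

/-- the comparison `Ext⁰(ℤ_X / j_! ℤ_U, -) ⟶ ker (Γ(X, -) → Γ(U, -))` -/
noncomputable def tauHom : extFunctorObj (CC j) 0 ⟶ kerFun (rr j) where
  app G := kLift (rr j) (AddCommGrpCat.ofHom (θ j G)) (θ_comp_rr j G)
  naturality G G' α := by
    apply (cancel_mono (kι (rr j) G')).1
    rw [Category.assoc, Category.assoc, kLift_kι, kerFun_map_kι, kLift_kι_assoc]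
    ext x
    obtain ⟨ψ, rfl⟩ := (Ext.mk₀_bijective (CC j) G).2 x
    show θ j G' ((Ext.mk₀ ψ).comp (Ext.mk₀ α) (add_zero 0)) =
      (α.hom.app (op (EtCoh.top X))).hom (θ j G (Ext.mk₀ ψ))
    rw [Ext.mk₀_comp_mk₀, θ_mk₀, θ_mk₀]
    exact θ'_natural j α ψ

lemma tauHom_app_kι (G : EtCoh.Ab X) :
    (tauHom j).app G ≫ kι (rr j) G = AddCommGrpCat.ofHom (θ j G) := kLift_kι _ _ _

instance isIso_tauHom_app (G : EtCoh.Ab X) : IsIso ((tauHom j).app G) := by
  rw [ConcreteCategory.isIso_iff_bijective]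
  constructor
  · intro x y hxy
    have h := congrArg (fun z => (kι (rr j) G).hom z) hxy
    have hx : (kι (rr j) G).hom (((tauHom j).app G).hom x) = θ j G x :=
      congrArg (fun φ => φ.hom x) (tauHom_app_kι j G)
    have hy : (kι (rr j) G).hom (((tauHom j).app G).hom y) = θ j G y :=
      congrArg (fun φ => φ.hom y) (tauHom_app_kι j G)
    have h3 : θ j G x = θ j G y := hx.symm.trans (h.trans hy)
    obtain ⟨ψ, rfl⟩ := (Ext.mk₀_bijective (CC j) G).2 x
    obtain ⟨ψ', rfl⟩ := (Ext.mk₀_bijective (CC j) G).2 y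
    rw [θ_mk₀, θ_mk₀] at h3
    rw [θ'_injective j G h3]
  · intro y
    have hy : ((rr j).app G).hom ((kι (rr j) G).hom y) = 0 :=
      congrArg (fun φ => φ.hom y) (kι_comp (rr j) G)
    obtain ⟨ψ, hψ⟩ := θ'_surjective j G ((kι (rr j) G).hom y) hy
    refine ⟨Ext.mk₀ ψ, ?_⟩
    have hm : Function.Injective (kι (rr j) G).hom :=
      (AddCommGrpCat.mono_iff_injective _).1 inferInstance
    apply hm
    have hx : (kι (rr j) G).hom (((tauHom j).app G).hom (Ext.mk₀ ψ)) = θ j G (Ext.mk₀ ψ) :=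
      congrArg (fun φ => φ.hom (Ext.mk₀ ψ)) (tauHom_app_kι j G)
    rw [hx, θ_mk₀, hψ]

/-- `Ext⁰(ℤ_X / j_! ℤ_U, -) ≅ ker (Γ(X, -) → Γ(U, -))` -/
noncomputable def tau : extFunctorObj (CC j) 0 ≅ kerFun (rr j) :=
  haveI : IsIso (tauHom j) := NatIso.isIso_of_isIso_app _
  asIso (tauHom j)

/-- `(U, j) ≅ (U, 𝟙 ≫ j)` in the small étale site -/
noncomputable def obIso : ob j ≅ objOf j :=
  MorphismProperty.Over.isoMk (Iso.refl _) (by
    show 𝟙 U ≫ (𝟙 U ≫ j) = j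
    rw [Category.id_comp, Category.id_comp])

variable [EtCoh.BCCont j]

/-- `Ext⁰(ℤ_X / j_! ℤ_U, -) ≅ Γ_Y(X, -)` -/
noncomputable def extZeroIso :
    (Groth.Agent.Helper24.CechH.extDelta (CC j)).F 0 ≅ EtDual.gammaSupp j :=
  tau j ≪≫ kerFunIso (rr j) (rs (ρ j)) (Iso.refl _) (rsIso (obIso j)) (by
      rw [Iso.refl_hom, Category.id_comp]
      show rs (toTop (objOf j)) ≫ rs (obIso j).hom = rs (ρ j)
      rw [← rs_comp]
      congr 1
      exact (EtCore.topIsTerminal X).hom_ext _ _) ≪≫ (gammaSuppIso j).symm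

instance gammaSupp_pfl : PreservesFiniteLimits (EtDual.gammaSupp j) := by
  have := Groth.Agent.S5176.secSupp_left_exact j
  unfold EtDual.gammaSupp
  infer_instance

/-- **`Ext^p(ℤ_X / j_! ℤ_U, G) ≅ H^p_Y(X, G)`** -/
theorem nonempty_ext_iso_HY (G : EtCoh.Ab X) (p : ℕ) :
    Nonempty (AddCommGrpCat.of (Ext (CC j) G p) ≅ (EtDual.HY j p).obj G) :=
  Groth.Agent.Helper24.GSS.nonempty_iso_rightDerived_obj
    (Groth.Agent.Helper24.CechH.extDelta (CC j))
    (Groth.Agent.Helper24.GSS.extDelta_effaceable (CC j)) (EtDual.gammaSupp j) (extZeroIso j) p G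

lemma ext_eq_zero_iff (G : EtCoh.Ab X) (p : ℕ) :
    (∀ x : Ext (CC j) G p, x = 0) ↔ IsZero ((EtDual.HY j p).obj G) := by
  obtain ⟨e⟩ := nonempty_ext_iso_HY j G p
  constructor
  · intro h
    have : Subsingleton (Ext (CC j) G p) := ⟨fun a b => (h a).trans (h b).symm⟩
    exact (AddCommGrpCat.isZero_of_subsingleton (AddCommGrpCat.of (Ext (CC j) G p))).of_iso e.symm
  · intro h x
    have hz : IsZero (AddCommGrpCat.of (Ext (CC j) G p)) := h.of_iso e
    have := AddCommGrpCat.isZero_iff_subsingleton.1 hz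
    exact Subsingleton.elim (α := Ext (CC j) G p) _ _

end Groth.Agent.Helper10.ExtSupp
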