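import Mathlib
import Groth.Prelude.Def_EtCore
import Groth.Prelude.Def_EtShriek2
import Groth.Agent.Lib.Helper1.SHC3
import Groth.Agent.Lib.Helper24.EtOpen2

/-!
# Extension by zero: composition, identity, empty schemes
-/

set_option autoImplicit false
set_option linter.unusedSectionVars false

open CategoryTheory CategoryTheory.Limits AlgebraicGeometry Opposite

namespace Groth.Agent.Helper10.ExtZeroComp

open Groth.Agent.Helper24.EtOpen

universe u

section Comp

variable {X' Y' Z' : Scheme.{u}} (f : X' ⟶ Y') (t : Y' ⟶ Z') [Etale f] [Etale t]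
  [EtShriek.JCont f] [EtShriek.JCont t] [EtShriek.JCont (f ≫ t)]

/-- `t_! ∘ f_! ≅ (f ≫ t)_!`. -/
noncomputable def extZeroComp :
    EtShriek.extZero f ⋙ EtShriek.extZero t ≅ EtShriek.extZero (f ≫ t) :=
  Adjunction.leftAdjointUniq
    (((EtShriek.extZeroAdj f).comp (EtShriek.extZeroAdj t)).ofNatIsoRight (canIso f t))
    (EtShriek.extZeroAdj (f ≫ t))

end Comp

section Id

variable (X : Scheme.{u})

/-- restriction along the identity is the identity -/
noncomputable def compEtaleId : EtShriek.compEtale (𝟙 X) ≅ 𝟭 _ :=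
  MorphismProperty.Over.mapId (P := EtCoh.etaleMP.{u}) ⊤ X (𝟙 X) rfl

noncomputable def restrAlongId : EtShriek.restrAlong (𝟙 X) ≅ 𝟭 _ :=
  Functor.sheafPushforwardContinuousId' (compEtaleId X) _ _

/-- extension by zero along the identity is the identity -/
noncomputable def extZeroId : EtShriek.extZero (𝟙 X) ≅ 𝟭 _ :=
  Adjunction.leftAdjointUniq ((EtShriek.extZeroAdj (𝟙 X)).ofNatIsoRight (restrAlongId X))
    Adjunction.id

end Id

/-- abelian sheaves on an empty scheme are zero -/
theorem isZero_of_isEmpty {X : Scheme.{u}} [IsEmpty X] (F : EtCoh.Ab X) : IsZero F := by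
  rw [IsZero.iff_id_eq_zero]
  apply Sheaf.hom_ext
  ext V : 2
  induction V using Opposite.rec with | _ V => ?_
  have : IsEmpty V.left := ⟨fun v => IsEmpty.false (α := X) (V.hom.base v)⟩
  have := Groth.Agent.Helper1.SHC.subsingleton_sections_of_isEmpty F V
  apply AddCommGrpCat.hom_ext
  ext x
  exact Subsingleton.elim _ _

end Groth.Agent.Helper10.ExtZeroComp
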