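import Mathlib
import Groth.Prelude.Def_EtDepth
import Groth.Agent.S5176
import Groth.Agent.S6658
import Groth.Agent.Lib.Helper1.LC2

/-!
# Étale depth `≥ 1`, `≥ 2` in terms of sections (helper10)

For an open immersion `j : U ⟶ X` and an abelian sheaf `G` on `X_ét`:
* `DepthGE j G 1` iff all restriction maps `G(W) → G(W ×_X U)` are injective;
* `DepthGE j G 2` iff they are all bijective.
For the sheaf of locally constant functions this becomes a statement on locally constant functions.
-/

set_option autoImplicit false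
set_option linter.style.haveILetI false
universe u
open CategoryTheory CategoryTheory.Limits AlgebraicGeometry Opposite

namespace Groth.Agent.Helper10.FEtDepth

open Groth.Agent.Helper10

variable {X U : Scheme.{u}} (j : U ⟶ X) [IsOpenImmersion j]

/-- the canonical map `W ×_X U ⟶ W` in the small étale site of `X`. -/
noncomputable abbrev cW (W : X.Etale) :
    (EtLoc.phi j).obj ((EtCoh.bc j).obj W) ⟶ W := (EtLoc.phiAdj j).counit.app W

lemma cW_left (W : X.Etale) : (cW j W).left = pullback.fst W.hom j := rfl

lemma range_cW (W : X.Etale) : Set.range (cW j W).left = W.hom ⁻¹' Set.range j := by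
  rw [cW_left]
  exact Scheme.Pullback.range_fst W.hom j

/-- the unit `G ⟶ j_* j^* G` is the restriction unit up to an isomorphism. -/
lemma unitApp_eq (G : EtCoh.Ab X) :
    ∃ θ : (EtCoh.push j).obj ((EtLoc.res j).obj G) ≅ (EtCoh.push j).obj ((EtCoh.pull j).obj G),
      EtDual.unitApp j G = (EtLoc.resPushAdj j).unit.app G ≫ θ.hom := by
  have h := Adjunction.unit_leftAdjointUniq_hom_app (EtCoh.pullPushAdj j) (EtLoc.resPushAdj j) G
  refine ⟨(EtCoh.push j).mapIso ((Adjunction.leftAdjointUniq (EtCoh.pullPushAdj j)
    (EtLoc.resPushAdj j)).symm.app G), ?_⟩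
  show EtDual.unitApp j G = (EtLoc.resPushAdj j).unit.app G ≫
      (EtCoh.push j).map ((Adjunction.leftAdjointUniq (EtCoh.pullPushAdj j)
        (EtLoc.resPushAdj j)).inv.app G)
  rw [← h, Category.assoc, ← Functor.map_comp, Iso.hom_inv_id_app, CategoryTheory.Functor.map_id]
  exact (Category.comp_id _).symm

lemma resUnit_app (G : EtCoh.Ab X) (W : X.Etale) :
    ((EtLoc.resPushAdj j).unit.app G).hom.app (op W) = G.obj.map (cW j W).op :=
  Groth.Agent.S6658.unit_app_app j G W

lemma mono_iff_injective_app {F G : EtCoh.Ab X} (φ : F ⟶ G) :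
    Mono φ ↔ ∀ W : X.Etale, Function.Injective (φ.hom.app (op W)) := by
  constructor
  · intro h W
    have h1 : Mono ((sheafToPresheaf X.smallEtaleTopology AddCommGrpCat.{u + 1}).map φ) :=
      inferInstance
    replace h1 : Mono φ.hom := h1
    have h2 : Mono (φ.hom.app (op W)) := (NatTrans.mono_iff_mono_app φ.hom).1 h1 (op W)
    exact (AddCommGrpCat.mono_iff_injective _).1 h2
  · intro h
    haveI : ∀ W : X.Etaleᵒᵖ, Mono (φ.hom.app W) := fun W =>
      (AddCommGrpCat.mono_iff_injective _).2 (h W.unop)
    haveI : Mono φ.hom := NatTrans.mono_of_mono_app _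
    exact Sheaf.Hom.mono_of_presheaf_mono _ _ φ

lemma isIso_iff_bijective_app {F G : EtCoh.Ab X} (φ : F ⟶ G) :
    IsIso φ ↔ ∀ W : X.Etale, Function.Bijective (φ.hom.app (op W)) := by
  constructor
  · intro h W
    have h1 : IsIso ((sheafToPresheaf X.smallEtaleTopology AddCommGrpCat.{u + 1}).map φ) :=
      inferInstance
    have h2 : IsIso (((sheafToPresheaf X.smallEtaleTopology AddCommGrpCat.{u + 1}).map φ).app
      (op W)) := inferInstance
    exact (ConcreteCategory.isIso_iff_bijective _).1 h2
  · intro h
    suffices h' : IsIso ((sheafToPresheaf X.smallEtaleTopology AddCommGrpCat.{u + 1}).map φ) from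
      isIso_of_reflects_iso _ (sheafToPresheaf X.smallEtaleTopology AddCommGrpCat.{u + 1})
    suffices h' : ∀ T : X.Etaleᵒᵖ,
        IsIso (((sheafToPresheaf X.smallEtaleTopology AddCommGrpCat.{u + 1}).map φ).app T) from
      NatIso.isIso_of_isIso_app _
    intro T
    exact (ConcreteCategory.isIso_iff_bijective _).2 (h T.unop)

theorem depth1_iff (G : EtCoh.Ab X) :
    EtDepth.DepthGE j G 1 ↔
      ∀ W : X.Etale, Function.Injective (G.obj.map (cW j W).op) := by
  haveI := Groth.Agent.S5176.secSupp_left_exact j
  obtain ⟨θ, hθ⟩ := unitApp_eq j G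
  have e0 : (EtDual.locCoh j 0).obj G ≅ kernel (EtDual.unitApp j G) :=
    (EtDual.secSupp j).rightDerivedZeroIsoSelf.app G
  have step1 : EtDepth.DepthGE j G 1 ↔ Mono (EtDual.unitApp j G) := by
    rw [Preadditive.mono_iff_isZero_kernel]
    constructor
    · intro h
      exact (h 0 Nat.one_pos).of_iso e0.symm
    · intro h p hp
      obtain rfl : p = 0 := by omega
      exact h.of_iso e0
  have step2 : Mono (EtDual.unitApp j G) ↔ Mono ((EtLoc.resPushAdj j).unit.app G) := by
    rw [hθ]
    constructor
    · intro h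
      exact mono_of_mono _ θ.hom
    · intro h
      exact mono_comp _ _
  rw [step1, step2, mono_iff_injective_app]
  constructor
  · intro h W
    have := h W
    rwa [resUnit_app] at this
  · intro h W
    rw [resUnit_app]
    exact h W

theorem depth2_iff (G : EtCoh.Ab X) :
    EtDepth.DepthGE j G 2 ↔
      ∀ W : X.Etale, Function.Bijective (G.obj.map (cW j W).op) := by
  haveI := Groth.Agent.S5176.secSupp_left_exact j
  obtain ⟨θ, hθ⟩ := unitApp_eq j G
  have e0 : (EtDual.locCoh j 0).obj G ≅ kernel (EtDual.unitApp j G) :=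
    (EtDual.secSupp j).rightDerivedZeroIsoSelf.app G
  obtain ⟨e1⟩ := (Groth.Agent.S6658.result j G).1
  have step1 : EtDepth.DepthGE j G 2 ↔ IsIso (EtDual.unitApp j G) := by
    constructor
    · intro h
      haveI : Mono (EtDual.unitApp j G) :=
        (Preadditive.mono_iff_isZero_kernel _).2 ((h 0 (by omega)).of_iso e0.symm)
      haveI : Epi (EtDual.unitApp j G) :=
        (Preadditive.epi_iff_isZero_cokernel _).2 ((h 1 (by omega)).of_iso e1)
      exact isIso_of_mono_of_epi _
    · intro h p hp
      have hp' : p = 0 ∨ p = 1 := by omega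
      rcases hp' with rfl | rfl
      · exact (isZero_kernel_of_mono _).of_iso e0
      · exact (isZero_cokernel_of_epi _).of_iso e1.symm
  have step2 : IsIso (EtDual.unitApp j G) ↔ IsIso ((EtLoc.resPushAdj j).unit.app G) := by
    rw [hθ]
    constructor
    · intro h
      exact IsIso.of_isIso_comp_right _ θ.hom
    · intro h
      infer_instance
  rw [step1, step2, isIso_iff_bijective_app]
  constructor
  · intro h W
    have := h W
    rwa [resUnit_app] at this
  · intro h W
    rw [resUnit_app]
    exact h W

omit [IsOpenImmersion j] in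
/-- depth is invariant under isomorphism of sheaves -/
lemma depth_of_iso {G G' : EtCoh.Ab X} (e : G ≅ G') (n : ℕ) (h : EtDepth.DepthGE j G n) :
    EtDepth.DepthGE j G' n := fun p hp =>
  (h p hp).of_iso ((EtDual.locCoh j p).mapIso e.symm)

end Groth.Agent.Helper10.FEtDepth
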