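import Mathlib
import Groth.Agent.Lib.Helper10.FEtDepthA

/-!
# Étale depth `≥ 1`, `≥ 2` of constant sheaves in terms of clopen subsets (helper10)
-/

set_option autoImplicit false
set_option linter.style.haveILetI false
universe u
open CategoryTheory CategoryTheory.Limits AlgebraicGeometry Opposite

namespace Groth.Agent.Helper10.FEtDepth

section Topo

variable {T : Type*} [TopologicalSpace T] {M : Type*}

/-- the indicator function of a clopen set with value `m`. -/
noncomputable def indLC [Zero M] (C : Set T) (hC : IsClopen C) (m : M) : LocallyConstant T M := by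
  classical
  refine ⟨fun x => if x ∈ C then m else 0, (IsLocallyConstant.iff_exists_open _).2 fun x => ?_⟩
  by_cases hx : x ∈ C
  · refine ⟨C, hC.isOpen, hx, fun y hy => ?_⟩
    simp only [if_pos hx, if_pos hy]
  · refine ⟨Cᶜ, hC.compl.isOpen, hx, fun y hy => ?_⟩
    have hy' : y ∉ C := hy
    simp only [if_neg hx, if_neg hy']

lemma indLC_of_mem [Zero M] {C : Set T} (hC : IsClopen C) (m : M) {x : T} (hx : x ∈ C) :
    indLC C hC m x = m := by
  classical
  show (if x ∈ C then m else 0) = m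
  rw [if_pos hx]

lemma indLC_of_not_mem [Zero M] {C : Set T} (hC : IsClopen C) (m : M) {x : T} (hx : x ∉ C) :
    indLC C hC m x = 0 := by
  classical
  show (if x ∈ C then m else 0) = 0
  rw [if_neg hx]

/-- (I) ⇒ (H1). -/
lemma clopen_empty_of_lc [Zero M] [Nontrivial M] (R : Set T)
    (h : ∀ s : LocallyConstant T M, (∀ w ∈ R, s w = 0) → s = 0)
    (C : Set T) (hC : IsClopen C) (hd : ∀ x ∈ C, x ∉ R) : C = ∅ := by
  obtain ⟨m, hm⟩ := exists_ne (0 : M)
  have h0 := h (indLC C hC m) (fun w hw => indLC_of_not_mem hC m (fun hwC => hd w hwC hw))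
  by_contra hne
  obtain ⟨x, hx⟩ := Set.nonempty_iff_ne_empty.2 hne
  have h1 := indLC_of_mem hC m hx
  rw [h0] at h1
  exact hm h1.symm

/-- (H1) ⇒ (I). -/
lemma lc_eq_zero_of_clopen [Zero M] (R : Set T)
    (h : ∀ C : Set T, IsClopen C → (∀ x ∈ C, x ∉ R) → C = ∅)
    (s : LocallyConstant T M) (hs : ∀ w ∈ R, s w = 0) : s = 0 := by
  ext x
  by_contra hx
  have hC : IsClopen (s ⁻¹' {s x}) := s.isLocallyConstant.isClopen_fiber _
  have := h _ hC (fun y hy hyR => by
    have h1 : s y = s x := hy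
    exact hx (h1 ▸ hs y hyR))
  have hmem : x ∈ s ⁻¹' {s x} := rfl
  rw [this] at hmem
  exact hmem

/-- (II) ⇒ (H2). -/
lemma clopen_extend_of_lc [Zero M] [Nontrivial M] {T' : Type*} [TopologicalSpace T'] (q : T' → T)
    (hq : Topology.IsOpenEmbedding q)
    (h : ∀ t : LocallyConstant T' M, ∃ s : LocallyConstant T M, ∀ v, s (q v) = t v)
    (D : Set T) (hD : IsOpen D) (hD' : IsOpen (Set.range q \ D)) (hsub : D ⊆ Set.range q) :
    ∃ C, IsClopen C ∧ C ∩ Set.range q = D := by
  obtain ⟨m, hm⟩ := exists_ne (0 : M)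
  have hD0 : IsClopen (q ⁻¹' D) := by
    constructor
    · rw [← isOpen_compl_iff]
      have : (q ⁻¹' D)ᶜ = q ⁻¹' (Set.range q \ D) := by
        ext v
        simp only [Set.mem_compl_iff, Set.mem_preimage, Set.mem_diff, Set.mem_range,
          exists_apply_eq_apply, true_and]
      rw [this]
      exact hD'.preimage hq.continuous
    · exact hD.preimage hq.continuous
  obtain ⟨s, hs⟩ := h (indLC _ hD0 m)
  refine ⟨s ⁻¹' {m}, s.isLocallyConstant.isClopen_fiber _, ?_⟩
  ext x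
  constructor
  · rintro ⟨hx1, ⟨v, rfl⟩⟩
    have h1 : s (q v) = m := hx1
    rw [hs v] at h1
    by_contra hv
    have : v ∉ q ⁻¹' D := hv
    rw [indLC_of_not_mem hD0 m this] at h1
    exact hm h1.symm
  · intro hx
    obtain ⟨v, rfl⟩ := hsub hx
    refine ⟨?_, ⟨v, rfl⟩⟩
    show s (q v) = m
    rw [hs v]
    exact indLC_of_mem hD0 m hx

/-- (H1) + (H2) ⇒ (II), for finite `M`. -/
lemma lc_extend_of_clopen [Zero M] [Finite M] {T' : Type*} [TopologicalSpace T'] (q : T' → T)
    (hq : Topology.IsOpenEmbedding q)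
    (h1 : ∀ C : Set T, IsClopen C → (∀ x ∈ C, x ∉ Set.range q) → C = ∅)
    (h2 : ∀ D : Set T, IsOpen D → IsOpen (Set.range q \ D) → D ⊆ Set.range q →
      ∃ C, IsClopen C ∧ C ∩ Set.range q = D)
    (t : LocallyConstant T' M) : ∃ s : LocallyConstant T M, ∀ v, s (q v) = t v := by
  classical
  -- the pieces
  have hpiece : ∀ m : M, ∃ C, IsClopen C ∧ C ∩ Set.range q = q '' (t ⁻¹' {m}) := by
    intro m
    apply h2
    · exact hq.isOpenMap _ (t.isLocallyConstant.isOpen_fiber m)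
    · have : Set.range q \ q '' (t ⁻¹' {m}) = q '' (t ⁻¹' {m})ᶜ := by
        ext x
        constructor
        · rintro ⟨⟨v, rfl⟩, hx⟩
          exact ⟨v, fun hv => hx ⟨v, hv, rfl⟩, rfl⟩
        · rintro ⟨v, hv, rfl⟩
          refine ⟨⟨v, rfl⟩, ?_⟩
          rintro ⟨v', hv', hvv'⟩
          rw [hq.injective hvv'] at hv'
          exact hv hv'
      rw [this]
      exact hq.isOpenMap _ (t.isLocallyConstant.isClopen_fiber m).compl.isOpen
    · exact Set.image_subset_range _ _
  choose C hC hCq using hpiece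
  -- pairwise disjoint
  have hdisj : ∀ m m' : M, m ≠ m' → C m ∩ C m' = ∅ := by
    intro m m' hmm'
    apply h1 _ ((hC m).inter (hC m'))
    rintro x ⟨hx, hx'⟩ hxq
    have a1 : x ∈ q '' (t ⁻¹' {m}) := (hCq m) ▸ ⟨hx, hxq⟩
    have a2 : x ∈ q '' (t ⁻¹' {m'}) := (hCq m') ▸ ⟨hx', hxq⟩
    obtain ⟨v, hv, rfl⟩ := a1
    obtain ⟨v', hv', hvv'⟩ := a2
    rw [hq.injective hvv'] at hv'
    exact hmm' (hv.symm.trans hv')
  -- covering
  have hcov : ∀ x : T, ∃ m, x ∈ C m := by
    haveI : Fintype M := Fintype.ofFinite M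
    have hcl : IsClopen (⋃ m, C m)ᶜ := (isClopen_iUnion_of_finite hC).compl
    have := h1 _ hcl (by
      rintro x hx ⟨v, rfl⟩
      apply hx
      refine Set.mem_iUnion.2 ⟨t v, ?_⟩
      have : q v ∈ C (t v) ∩ Set.range q := by
        rw [hCq]
        exact ⟨v, rfl, rfl⟩
      exact this.1)
    intro x
    have hx : x ∉ (⋃ m, C m)ᶜ := by rw [this]; exact Set.notMem_empty x
    rw [Set.notMem_compl_iff] at hx
    exact Set.mem_iUnion.1 hx
  choose σ hσ using hcov
  have huniq : ∀ x m, x ∈ C m → σ x = m := by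
    intro x m hx
    by_contra hne
    have : x ∈ C (σ x) ∩ C m := ⟨hσ x, hx⟩
    rw [hdisj _ _ hne] at this
    exact this
  refine ⟨⟨σ, (IsLocallyConstant.iff_exists_open _).2 fun x =>
    ⟨C (σ x), (hC _).isOpen, hσ x, fun y hy => huniq y _ hy⟩⟩, fun v => ?_⟩
  apply huniq
  have : q v ∈ C (t v) ∩ Set.range q := by
    rw [hCq]
    exact ⟨v, rfl, rfl⟩
  exact this.1

end Topo

section Sheaf

open Groth.Agent.Helper1.LC

variable {X U : Scheme.{u}} (j : U ⟶ X) [IsOpenImmersion j] (M : Type) [AddCommGroup M]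

/-- the sheaf of locally constant `M`-valued functions on the small étale site. -/
noncomputable abbrev LCM (X : Scheme.{u}) (M : Type) [AddCommGroup M] : EtCoh.Ab X :=
  LCs (etPt X) (ULift.{u + 1} M)

/-- the constant sheaf is the sheaf of locally constant functions. -/
noncomputable def constIsoLC (X : Scheme.{u}) (M : Type) [AddCommGroup M] :
    EtCoh.const X M ≅ LCM X M :=
  constIso (etPt X) (ULift.{u + 1} M)

theorem depth1_LC_iff : EtDepth.DepthGE j (LCM X M) 1 ↔
    ∀ (W : X.Etale) (s : LocallyConstant W.left (ULift.{u + 1} M)),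
      (∀ w : W.left, w ∈ W.hom ⁻¹' Set.range j → s w = 0) → s = 0 := by
  rw [depth1_iff]
  constructor
  · intro h W s hs
    apply h W
    have h0 : (ConcreteCategory.hom ((LCM X M).obj.map (cW j W).op)) 0 = 0 := map_zero _
    refine Eq.trans ?_ h0.symm
    apply LocallyConstant.ext
    intro v
    show s ((cW j W).left v) = 0
    apply hs
    rw [← range_cW]
    exact ⟨v, rfl⟩
  · intro h W
    rw [injective_iff_map_eq_zero]
    intro s hs
    apply h W s
    intro w hw
    rw [← range_cW j W] at hw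
    obtain ⟨v, rfl⟩ := hw
    exact congrArg (fun r : LocallyConstant ↥(pullback W.hom j : Scheme.{u}) (ULift.{u + 1} M) => r v) hs

theorem depth2_LC_iff : EtDepth.DepthGE j (LCM X M) 2 ↔
    (∀ (W : X.Etale) (s : LocallyConstant W.left (ULift.{u + 1} M)),
      (∀ w : W.left, w ∈ W.hom ⁻¹' Set.range j → s w = 0) → s = 0) ∧
    ∀ (W : X.Etale) (t : LocallyConstant ↥(pullback W.hom j : Scheme.{u}) (ULift.{u + 1} M)),
      ∃ s : LocallyConstant W.left (ULift.{u + 1} M), ∀ v, s (pullback.fst W.hom j v) = t v := by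
  rw [← depth1_LC_iff, depth1_iff, depth2_iff]
  constructor
  · intro h
    refine ⟨fun W => (h W).1, fun W t => ?_⟩
    obtain ⟨s, hs⟩ := (h W).2 t
    refine ⟨s, fun v => ?_⟩
    exact congrArg (fun r : LocallyConstant ↥(pullback W.hom j : Scheme.{u}) (ULift.{u + 1} M) => r v) hs
  · rintro ⟨h1, h2⟩ W
    refine ⟨h1 W, fun t => ?_⟩
    obtain ⟨s, hs⟩ := h2 W t
    refine ⟨s, ?_⟩
    apply LocallyConstant.ext
    intro v
    exact hs v

/-- depth `≥ 1` of all `ℤ/ℓ` in terms of clopen subsets. -/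
theorem depth1_const_iff :
    (∀ ℓ : ℕ, ℓ.Prime → EtDepth.DepthGE j (EtCoh.const X (ZMod ℓ)) 1) ↔
      ∀ (W : X.Etale) (C : Set W.left), IsClopen C →
        (∀ x ∈ C, x ∉ W.hom ⁻¹' Set.range j) → C = ∅ := by
  constructor
  · intro h W C hC hd
    have h2 := depth_of_iso j (constIsoLC X (ZMod 2)) 1 (h 2 Nat.prime_two)
    rw [depth1_LC_iff] at h2
    haveI : Fact (1 < 2) := ⟨by norm_num⟩
    exact clopen_empty_of_lc (W.hom ⁻¹' Set.range j) (h2 W) C hC hd
  · intro h ℓ hℓ
    apply depth_of_iso j (constIsoLC X (ZMod ℓ)).symm 1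
    rw [depth1_LC_iff]
    intro W s hs
    exact lc_eq_zero_of_clopen _ (h W) s hs

/-- depth `≥ 2` of all `ℤ/ℓ` in terms of clopen subsets. -/
theorem depth2_const_iff :
    (∀ ℓ : ℕ, ℓ.Prime → EtDepth.DepthGE j (EtCoh.const X (ZMod ℓ)) 2) ↔
      (∀ (W : X.Etale) (C : Set W.left), IsClopen C →
        (∀ x ∈ C, x ∉ W.hom ⁻¹' Set.range j) → C = ∅) ∧
      ∀ (W : X.Etale) (D : Set W.left), IsOpen D → IsOpen ((W.hom ⁻¹' Set.range j) \ D) →
        D ⊆ W.hom ⁻¹' Set.range j → ∃ C, IsClopen C ∧ C ∩ (W.hom ⁻¹' Set.range j) = D := by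
  have hr : ∀ W : X.Etale, W.hom ⁻¹' Set.range j = Set.range (pullback.fst W.hom j) :=
    fun W => (Scheme.Pullback.range_fst W.hom j).symm
  have hq : ∀ W : X.Etale, Topology.IsOpenEmbedding (pullback.fst W.hom j) :=
    fun W => (pullback.fst W.hom j).isOpenEmbedding
  constructor
  · intro h
    have h2 := depth_of_iso j (constIsoLC X (ZMod 2)) 2 (h 2 Nat.prime_two)
    rw [depth2_LC_iff] at h2
    haveI : Fact (1 < 2) := ⟨by norm_num⟩
    refine ⟨fun W C hC hd => clopen_empty_of_lc (W.hom ⁻¹' Set.range j) (h2.1 W) C hC hd,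
      fun W D hD hD' hsub => ?_⟩
    rw [hr W] at hD' hsub ⊢
    exact clopen_extend_of_lc _ (hq W) (h2.2 W) D hD hD' hsub
  · rintro ⟨c1, c2⟩ ℓ hℓ
    apply depth_of_iso j (constIsoLC X (ZMod ℓ)).symm 2
    rw [depth2_LC_iff]
    haveI : NeZero ℓ := ⟨hℓ.ne_zero⟩
    refine ⟨fun W s hs => lc_eq_zero_of_clopen _ (c1 W) s hs, fun W t => ?_⟩
    have c1' := c1 W
    have c2' := c2 W
    rw [hr W] at c1' c2'
    exact lc_extend_of_clopen _ (hq W) c1' c2' t

end Sheaf

end Groth.Agent.Helper10.FEtDepth
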