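import Mathlib
import Groth.Prelude.Def_FEt

/-!
# Faithfulness / fullness of restriction of finite étale covers in terms of clopen subsets
(helper10)
-/

set_option autoImplicit false
set_option linter.style.haveILetI false
universe u
open CategoryTheory CategoryTheory.Limits AlgebraicGeometry Opposite

namespace Groth.Agent.Helper10.FEtDepth

variable {X' V : Scheme.{u}} (f : V ⟶ X') [IsOpenImmersion f]

/-- (H1): clopen subsets of étale `X'`-schemes missing the preimage of `V` are empty. -/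
def H1 : Prop :=
  ∀ (T : Scheme.{u}) (t : T ⟶ X') [Etale t] (C : Set T), IsClopen C →
    (∀ x ∈ C, x ∉ t ⁻¹' Set.range f) → C = ∅

/-- (H2): relatively clopen subsets of the preimage of `V` extend to clopen subsets. -/
def H2 : Prop :=
  ∀ (T : Scheme.{u}) (t : T ⟶ X') [Etale t] (D : Set T), IsOpen D →
    IsOpen ((t ⁻¹' Set.range f) \ D) → D ⊆ t ⁻¹' Set.range f →
      ∃ C, IsClopen C ∧ C ∩ (t ⁻¹' Set.range f) = D

lemma restrict_map_left_fst {A B : FEt.Cat X'} (a : A ⟶ B) :
    ((FEt.restrict f).map a).left ≫ pullback.fst B.hom f = pullback.fst A.hom f ≫ a.left := by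
  simp only [FEt.restrict, MorphismProperty.Over.pullback_map_left]
  exact pullback.lift_fst _ _ _

include f in
theorem faithful_of_H1 (h1 : H1 f) : (FEt.restrict f).Faithful := by
  constructor
  intro A B a b hab
  haveI : IsFinite B.hom := B.prop.1
  haveI : Etale B.hom := B.prop.2
  haveI : IsFinite A.hom := A.prop.1
  haveI : Etale A.hom := A.prop.2
  have hl : pullback.fst A.hom f ≫ a.left = pullback.fst A.hom f ≫ b.left := by
    rw [← restrict_map_left_fst, ← restrict_map_left_fst, hab]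
  have wa : a.left ≫ B.hom = A.hom := MorphismProperty.Over.w a
  have wb : b.left ≫ B.hom = A.hom := MorphismProperty.Over.w b
  let ab : A.left ⟶ pullback B.hom B.hom := pullback.lift a.left b.left (by rw [wa, wb])
  haveI : IsOpenImmersion (pullback.diagonal B.hom) := inferInstance
  haveI : IsClosedImmersion (pullback.diagonal B.hom) := inferInstance
  have e1 : ab ≫ pullback.fst B.hom B.hom = a.left := pullback.lift_fst _ _ _
  have e2 : ab ≫ pullback.snd B.hom B.hom = b.left := pullback.lift_snd _ _ _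
  have d1 : pullback.diagonal B.hom ≫ pullback.fst B.hom B.hom = 𝟙 _ := pullback.diagonal_fst _
  have d2 : pullback.diagonal B.hom ≫ pullback.snd B.hom B.hom = 𝟙 _ := pullback.diagonal_snd _
  let e : pullback ab (pullback.diagonal B.hom) ⟶ A.left :=
    pullback.fst ab (pullback.diagonal B.hom)
  haveI : IsOpenImmersion e := inferInstance
  haveI : IsClosedImmersion e := inferInstance
  have he : e ≫ a.left = e ≫ b.left := by
    have c := pullback.condition (f := ab) (g := pullback.diagonal B.hom)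
    have c1 := congrArg (· ≫ pullback.fst B.hom B.hom) c
    have c2 := congrArg (· ≫ pullback.snd B.hom B.hom) c
    simp only [Category.assoc, e1, e2, d1, d2, Category.comp_id] at c1 c2
    exact c1.trans c2.symm
  have hcl : IsClopen (Set.range e) :=
    ⟨e.isClosedEmbedding.isClosed_range, e.isOpenEmbedding.isOpen_range⟩
  have hsub : Set.range (pullback.fst A.hom f) ⊆ Set.range e := by
    let l : pullback A.hom f ⟶ pullback ab (pullback.diagonal B.hom) :=
      pullback.lift (pullback.fst A.hom f) (pullback.fst A.hom f ≫ a.left) (by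
        apply pullback.hom_ext
        · rw [Category.assoc, e1, Category.assoc, Category.assoc, d1, Category.comp_id]
        · rw [Category.assoc, e2, Category.assoc, Category.assoc, d2, Category.comp_id, hl])
    have hle : l ≫ e = pullback.fst A.hom f := pullback.lift_fst _ _ _
    rintro _ ⟨z, rfl⟩
    refine ⟨l z, ?_⟩
    rw [← hle]
    rfl
  have hempty : (Set.range e)ᶜ = ∅ := by
    apply h1 A.left A.hom _ hcl.compl
    intro x hx hxV
    apply hx
    apply hsub
    rw [Scheme.Pullback.range_fst]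
    exact hxV
  haveI : IsIso e := by
    apply isIso_of_isOpenImmersion_of_opensRange_eq_top
    apply TopologicalSpace.Opens.ext
    rw [Scheme.Hom.coe_opensRange, TopologicalSpace.Opens.coe_top]
    exact Set.compl_empty_iff.1 hempty
  have : a.left = b.left := (cancel_epi e).1 he
  exact MorphismProperty.Over.Hom.ext this

/-- a section of an étale morphism is an open immersion. -/
lemma isOpenImmersion_of_section {P Y : Scheme.{u}} (p : P ⟶ Y) [Etale p] (σ : Y ⟶ P)
    (h : σ ≫ p = 𝟙 Y) : IsOpenImmersion σ := by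
  haveI : Etale (σ ≫ p) := by rw [h]; infer_instance
  haveI : Etale σ := Etale.of_comp σ p
  haveI : Mono σ := mono_of_mono_fac h
  exact IsOpenImmersion.of_flat_of_mono σ

include f in
theorem full_of_H1_H2 (h1 : H1 f) (h2 : H2 f) : (FEt.restrict f).Full := by
  constructor
  intro A B φ
  haveI : IsFinite B.hom := B.prop.1
  haveI : Etale B.hom := B.prop.2
  haveI : IsFinite A.hom := A.prop.1
  haveI : Etale A.hom := A.prop.2
  let ιA : pullback A.hom f ⟶ A.left := pullback.fst A.hom f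
  let φl : pullback A.hom f ⟶ pullback B.hom f := φ.left
  let ψ : pullback A.hom f ⟶ B.left := φl ≫ pullback.fst B.hom f
  have wφ : φl ≫ pullback.snd B.hom f = pullback.snd A.hom f := MorphismProperty.Over.w φ
  have hψ : ιA ≫ A.hom = ψ ≫ B.hom := by
    calc pullback.fst A.hom f ≫ A.hom = pullback.snd A.hom f ≫ f := pullback.condition
      _ = (φl ≫ pullback.snd B.hom f) ≫ f := by rw [wφ]
      _ = φl ≫ pullback.snd B.hom f ≫ f := Category.assoc _ _ _
      _ = φl ≫ pullback.fst B.hom f ≫ B.hom := by rw [pullback.condition]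
      _ = (φl ≫ pullback.fst B.hom f) ≫ B.hom := (Category.assoc _ _ _).symm
  let pr₁ : pullback A.hom B.hom ⟶ A.left := pullback.fst A.hom B.hom
  let pr₂ : pullback A.hom B.hom ⟶ B.left := pullback.snd A.hom B.hom
  haveI : IsFinite pr₁ := inferInstance
  haveI : Etale pr₁ := inferInstance
  let γ : pullback A.hom f ⟶ pullback A.hom B.hom := pullback.lift ιA ψ hψ
  have γ1 : γ ≫ pr₁ = ιA := pullback.lift_fst _ _ _
  have γ2 : γ ≫ pr₂ = ψ := pullback.lift_snd _ _ _
  haveI : IsOpenImmersion ιA := inferInstance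
  haveI : Etale (γ ≫ pr₁) := by rw [γ1]; infer_instance
  haveI : Etale γ := Etale.of_comp γ pr₁
  haveI : Mono γ := mono_of_mono_fac γ1
  haveI : IsOpenImmersion γ := IsOpenImmersion.of_flat_of_mono γ
  -- the auxiliary scheme `P' = P ×_A A_V`
  let q' : pullback pr₁ ιA ⟶ pullback A.hom B.hom := pullback.fst pr₁ ιA
  let π' : pullback pr₁ ιA ⟶ pullback A.hom f := pullback.snd pr₁ ιA
  haveI : IsOpenImmersion q' := inferInstance
  let s : pullback A.hom f ⟶ pullback pr₁ ιA := pullback.lift γ (𝟙 _) (by rw [γ1, Category.id_comp])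
  have s1 : s ≫ q' = γ := pullback.lift_fst _ _ _
  have s2 : s ≫ π' = 𝟙 _ := pullback.lift_snd _ _ _
  haveI : IsClosedImmersion (s ≫ π') := by rw [s2]; infer_instance
  haveI : IsClosedImmersion s := IsClosedImmersion.of_comp s π'
  -- the preimage of V in P
  have hPV : (pr₁ ≫ A.hom) ⁻¹' Set.range f = Set.range q' := by
    have r1 : Set.range q' = pr₁ ⁻¹' Set.range ιA := Scheme.Pullback.range_fst pr₁ ιA
    have r2 : Set.range ιA = A.hom ⁻¹' Set.range f := Scheme.Pullback.range_fst A.hom f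
    rw [r1, r2]
    rfl
  have hγq : Set.range γ = q' '' Set.range s := by
    rw [← s1]
    ext x
    constructor
    · rintro ⟨z, rfl⟩
      exact ⟨s z, ⟨z, rfl⟩, rfl⟩
    · rintro ⟨_, ⟨z, rfl⟩, rfl⟩
      exact ⟨z, rfl⟩
  have hD1 : IsOpen (Set.range γ) := γ.isOpenEmbedding.isOpen_range
  have hD2 : Set.range γ ⊆ (pr₁ ≫ A.hom) ⁻¹' Set.range f := by
    rw [hPV, hγq]
    exact Set.image_subset_range _ _
  have hD3 : IsOpen (((pr₁ ≫ A.hom) ⁻¹' Set.range f) \ Set.range γ) := by
    have : ((pr₁ ≫ A.hom) ⁻¹' Set.range f) \ Set.range γ = q' '' (Set.range s)ᶜ := by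
      rw [hPV, hγq]
      ext x
      constructor
      · rintro ⟨⟨z, rfl⟩, hx⟩
        exact ⟨z, fun hz => hx ⟨z, hz, rfl⟩, rfl⟩
      · rintro ⟨z, hz, rfl⟩
        refine ⟨⟨z, rfl⟩, ?_⟩
        rintro ⟨z', hz', hzz'⟩
        rw [q'.isOpenEmbedding.injective hzz'] at hz'
        exact hz hz'
    rw [this]
    exact q'.isOpenEmbedding.isOpenMap _ s.isClosedEmbedding.isClosed_range.isOpen_compl
  obtain ⟨C, hC, hCD⟩ := h2 _ (pr₁ ≫ A.hom) (Set.range γ) hD1 hD3 hD2
  -- the clopen subscheme `Γ`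
  let CO : (pullback A.hom B.hom).Opens := ⟨C, hC.isOpen⟩
  haveI : IsClosedImmersion CO.ι := by
    apply IsClosedImmersion.of_isPreimmersion
    rw [Scheme.Opens.range_ι]
    exact hC.isClosed
  let p : CO.toScheme ⟶ A.left := CO.ι ≫ pr₁
  haveI : IsFinite p := inferInstance
  haveI : Etale p := inferInstance
  have hγC : Set.range γ ⊆ Set.range CO.ι := by
    rw [Scheme.Opens.range_ι, ← hCD]
    exact Set.inter_subset_left
  let γC : pullback A.hom f ⟶ CO.toScheme := IsOpenImmersion.lift CO.ι γ hγC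
  have γC1 : γC ≫ CO.ι = γ := IsOpenImmersion.lift_fac _ _ _
  have γCp : γC ≫ p = ιA := by
    show γC ≫ CO.ι ≫ pr₁ = ιA
    rw [← Category.assoc, γC1, γ1]
  -- the base change of `p` to `A_V` is an isomorphism
  let s' : pullback A.hom f ⟶ pullback p ιA := pullback.lift γC (𝟙 _) (by rw [γCp, Category.id_comp])
  have s'1 : s' ≫ pullback.fst p ιA = γC := pullback.lift_fst _ _ _
  have s'2 : s' ≫ pullback.snd p ιA = 𝟙 _ := pullback.lift_snd _ _ _
  haveI : Etale (pullback.snd p ιA) := inferInstance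
  haveI : IsOpenImmersion s' := isOpenImmersion_of_section (pullback.snd p ιA) s' s'2
  have hs'surj : Function.Surjective s' := by
    intro z
    have hc : CO.ι (pullback.fst p ιA z) ∈ Set.range γ := by
      rw [← hCD]
      refine ⟨(pullback.fst p ιA z).2, ?_⟩
      show A.hom (pr₁ (CO.ι (pullback.fst p ιA z))) ∈ Set.range f
      have e1 : pr₁ (CO.ι (pullback.fst p ιA z)) = ιA (pullback.snd p ιA z) := by
        have := congrArg (fun m : pullback p ιA ⟶ A.left => m z) (pullback.condition (f := p) (g := ιA))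
        exact this
      rw [e1]
      have r2 : Set.range ιA = A.hom ⁻¹' Set.range f := Scheme.Pullback.range_fst A.hom f
      have : ιA (pullback.snd p ιA z) ∈ A.hom ⁻¹' Set.range f := r2 ▸ ⟨_, rfl⟩
      exact this
    obtain ⟨y, hy⟩ := hc
    refine ⟨y, ?_⟩
    apply (pullback.fst p ιA).isOpenEmbedding.injective
    apply CO.ι.isOpenEmbedding.injective
    have a1 : CO.ι (pullback.fst p ιA (s' y)) = γ y := by
      have := congrArg (fun m : pullback A.hom f ⟶ pullback A.hom B.hom => m y)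
        (show (s' ≫ pullback.fst p ιA) ≫ CO.ι = γ by rw [s'1, γC1])
      exact this
    rw [a1, hy]
  haveI : IsIso s' := by
    apply isIso_of_isOpenImmersion_of_opensRange_eq_top
    apply TopologicalSpace.Opens.ext
    rw [Scheme.Hom.coe_opensRange, TopologicalSpace.Opens.coe_top]
    exact Set.range_eq_univ.2 hs'surj
  haveI : IsIso (s' ≫ pullback.snd p ιA) := by rw [s'2]; infer_instance
  haveI : IsIso (pullback.snd p ιA) := IsIso.of_isIso_comp_left s' _
  -- rank one
  have hrank : ∀ x : A.left, Scheme.Hom.finrank p x = 1 := by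
    have hlc := Scheme.Hom.isLocallyConstant_finrank p
    have hclop : IsClopen {x : A.left | Scheme.Hom.finrank p x ≠ 1} := by
      have : {x : A.left | Scheme.Hom.finrank p x ≠ 1} = (Scheme.Hom.finrank p ⁻¹' {1})ᶜ := by
        ext x; rfl
      rw [this]
      exact (hlc.isClopen_fiber 1).compl
    have hemp := h1 A.left A.hom _ hclop (by
      intro x hx hxV
      apply hx
      have r2 : Set.range ιA = A.hom ⁻¹' Set.range f := Scheme.Pullback.range_fst A.hom f
      rw [← r2] at hxV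
      obtain ⟨x', rfl⟩ := hxV
      rw [← Scheme.Hom.finrank_pullback_snd p ιA x', Scheme.Hom.finrank_eq_one_of_isIso]
      rfl)
    intro x
    by_contra hx
    have : x ∈ {x : A.left | Scheme.Hom.finrank p x ≠ 1} := hx
    rw [hemp] at this
    exact this
  haveI : IsIso p := by
    rw [Scheme.Hom.isIso_iff_finrank_eq]
    ext x
    exact hrank x
  -- the morphism
  let al : A.left ⟶ B.left := inv p ≫ CO.ι ≫ pr₂
  have wal : al ≫ B.hom = A.hom := by
    show (inv p ≫ CO.ι ≫ pr₂) ≫ B.hom = A.hom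
    have c : pr₂ ≫ B.hom = pr₁ ≫ A.hom := (pullback.condition (f := A.hom) (g := B.hom)).symm
    rw [Category.assoc, Category.assoc, c, ← Category.assoc CO.ι, IsIso.inv_hom_id_assoc]
  refine ⟨MorphismProperty.Over.homMk al wal, ?_⟩
  apply MorphismProperty.Over.Hom.ext
  apply pullback.hom_ext
  · refine (restrict_map_left_fst f _).trans ?_
    show ιA ≫ inv p ≫ CO.ι ≫ pr₂ = ψ
    have : γC = ιA ≫ inv p := by rw [IsIso.eq_comp_inv, γCp]
    rw [← Category.assoc, ← this, ← Category.assoc, γC1, γ2]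
  · have w1 : ((FEt.restrict f).map (MorphismProperty.Over.homMk al wal : A ⟶ B)).left ≫
        pullback.snd B.hom f = pullback.snd A.hom f :=
      MorphismProperty.Over.w ((FEt.restrict f).map (MorphismProperty.Over.homMk al wal : A ⟶ B))
    exact w1.trans wφ.symm

section Converse

/-- the trivial double cover `X' ⨿ X' ⟶ X'` is étale. -/
instance etale_coprod_desc_id (Z : Scheme.{u}) : Etale (coprod.desc (𝟙 Z) (𝟙 Z)) := by
  rw [IsZariskiLocalAtSource.iff_of_openCover (P := @Etale) (coprodOpenCover.{_, 0} Z Z)]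
  rintro (⟨⟨⟩⟩ | ⟨⟨⟩⟩)
  · show Etale (coprod.inl ≫ coprod.desc (𝟙 Z) (𝟙 Z))
    rw [coprod.inl_desc]
    infer_instance
  · show Etale (coprod.inr ≫ coprod.desc (𝟙 Z) (𝟙 Z))
    rw [coprod.inr_desc]
    infer_instance

/-- the trivial double cover as a finite étale cover. -/
noncomputable def dbl (Z : Scheme.{u}) : FEt.Cat Z :=
  MorphismProperty.Over.mk ⊤ (coprod.desc (𝟙 Z) (𝟙 Z)) ⟨inferInstance, inferInstance⟩

/-- the identity cover. -/
noncomputable def idc (Z : Scheme.{u}) : FEt.Cat Z :=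
  MorphismProperty.Over.mk ⊤ (𝟙 Z) ⟨inferInstance, inferInstance⟩

include f in
theorem clopen_empty_of_faithful (h : (FEt.restrict f).Faithful) (C : Set X') (hC : IsClopen C)
    (hd : ∀ x ∈ C, x ∉ Set.range f) : C = ∅ := by
  let CO : X'.Opens := ⟨C, hC.isOpen⟩
  haveI : IsClosedImmersion CO.ι := by
    apply IsClosedImmersion.of_isPreimmersion
    rw [Scheme.Opens.range_ι]
    exact hC.isClosed
  let A : FEt.Cat X' := MorphismProperty.Over.mk ⊤ CO.ι ⟨inferInstance, inferInstance⟩
  let a : A ⟶ dbl X' := MorphismProperty.Over.homMk (CO.ι ≫ coprod.inl) (by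
    show (CO.ι ≫ coprod.inl) ≫ coprod.desc (𝟙 X') (𝟙 X') = CO.ι
    rw [Category.assoc, coprod.inl_desc, Category.comp_id])
  let b : A ⟶ dbl X' := MorphismProperty.Over.homMk (CO.ι ≫ coprod.inr) (by
    show (CO.ι ≫ coprod.inr) ≫ coprod.desc (𝟙 X') (𝟙 X') = CO.ι
    rw [Category.assoc, coprod.inr_desc, Category.comp_id])
  haveI : IsEmpty ↥(pullback CO.ι f) := by
    constructor
    intro z
    have c := congrArg (fun m : pullback CO.ι f ⟶ X' => m z) (pullback.condition (f := CO.ι) (g := f))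
    have c' : CO.ι (pullback.fst CO.ι f z) = f (pullback.snd CO.ι f z) := c
    exact hd _ (pullback.fst CO.ι f z).2 ⟨_, c'.symm⟩
  have hab : (FEt.restrict f).map a = (FEt.restrict f).map b := by
    apply MorphismProperty.Over.Hom.ext
    exact (isInitialOfIsEmpty (X := pullback CO.ι f)).hom_ext _ _
  have hab' : a = b := h.map_injective hab
  have hl : CO.ι ≫ (coprod.inl : X' ⟶ X' ⨿ X') = CO.ι ≫ coprod.inr :=
    congrArg (fun m => m.left) hab'
  by_contra hne
  obtain ⟨x, hx⟩ := Set.nonempty_iff_ne_empty.2 hne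
  have := congrArg (fun m : CO.toScheme ⟶ X' ⨿ X' => m ⟨x, hx⟩) hl
  exact inl_ne_inr X' X' _ _ this

include f in
theorem clopen_extend_of_full (h : (FEt.restrict f).Full) (D : Set X') (hD : IsOpen D)
    (hD' : IsOpen (Set.range f \ D)) (hsub : D ⊆ Set.range f) :
    ∃ C, IsClopen C ∧ C ∩ Set.range f = D := by
  let ι₀ : pullback (𝟙 X') f ⟶ X' := pullback.fst (𝟙 X') f
  have hr : Set.range ι₀ = Set.range f := by
    have := Scheme.Pullback.range_fst (𝟙 X') f
    rw [this]
    rfl
  let D0 : (pullback (𝟙 X') f).Opens := ⟨ι₀ ⁻¹' D, hD.preimage ι₀.continuous⟩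
  let D1 : (pullback (𝟙 X') f).Opens := ⟨ι₀ ⁻¹' (Set.range f \ D), hD'.preimage ι₀.continuous⟩
  have hcompl : IsCompl D0 D1 := by
    rw [isCompl_iff, disjoint_iff, codisjoint_iff]
    constructor
    · apply TopologicalSpace.Opens.ext
      ext z
      simp only [TopologicalSpace.Opens.coe_inf, TopologicalSpace.Opens.coe_bot, Set.mem_inter_iff,
        Set.mem_empty_iff_false, iff_false, not_and]
      intro h0 h1
      exact h1.2 h0
    · apply TopologicalSpace.Opens.ext
      ext z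
      simp only [TopologicalSpace.Opens.coe_sup, TopologicalSpace.Opens.coe_top, Set.mem_union,
        Set.mem_univ, iff_true]
      by_cases hz : ι₀ z ∈ D
      · exact Or.inl hz
      · exact Or.inr ⟨hr ▸ ⟨z, rfl⟩, hz⟩
  have hcompl' : IsCompl D0.ι.opensRange D1.ι.opensRange := by
    rw [Scheme.Opens.opensRange_ι, Scheme.Opens.opensRange_ι]
    exact hcompl
  obtain ⟨hc⟩ := nonempty_isColimit_binaryCofanMk_of_isCompl D0.ι D1.ι hcompl'
  let ψ : pullback (𝟙 X') f ⟶ X' ⨿ X' :=
    hc.desc (BinaryCofan.mk (D0.ι ≫ ι₀ ≫ coprod.inr) (D1.ι ≫ ι₀ ≫ coprod.inl))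
  have ψ0 : D0.ι ≫ ψ = D0.ι ≫ ι₀ ≫ coprod.inr := hc.fac _ ⟨WalkingPair.left⟩
  have ψ1 : D1.ι ≫ ψ = D1.ι ≫ ι₀ ≫ coprod.inl := hc.fac _ ⟨WalkingPair.right⟩
  have hψ : ψ ≫ coprod.desc (𝟙 X') (𝟙 X') = ι₀ := by
    apply BinaryCofan.IsColimit.hom_ext hc
    · show D0.ι ≫ ψ ≫ coprod.desc (𝟙 X') (𝟙 X') = D0.ι ≫ ι₀
      rw [← Category.assoc, ψ0, Category.assoc, Category.assoc, coprod.inr_desc, Category.comp_id]
    · show D1.ι ≫ ψ ≫ coprod.desc (𝟙 X') (𝟙 X') = D1.ι ≫ ι₀
      rw [← Category.assoc, ψ1, Category.assoc, Category.assoc, coprod.inl_desc, Category.comp_id]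
  have c0 : ι₀ = pullback.snd (𝟙 X') f ≫ f := by
    have := pullback.condition (f := 𝟙 X') (g := f)
    rw [Category.comp_id] at this
    exact this
  let φl : pullback (𝟙 X') f ⟶ pullback (coprod.desc (𝟙 X') (𝟙 X')) f :=
    pullback.lift ψ (pullback.snd (𝟙 X') f) (by rw [hψ, c0])
  have φ1 : φl ≫ pullback.fst (coprod.desc (𝟙 X') (𝟙 X')) f = ψ := pullback.lift_fst _ _ _
  have φ2 : φl ≫ pullback.snd (coprod.desc (𝟙 X') (𝟙 X')) f = pullback.snd (𝟙 X') f :=
    pullback.lift_snd _ _ _
  let φ : (FEt.restrict f).obj (idc X') ⟶ (FEt.restrict f).obj (dbl X') :=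
    MorphismProperty.Over.homMk φl φ2
  obtain ⟨a, ha⟩ := h.map_surjective φ
  have hal : ι₀ ≫ a.left = ψ := by
    have e1 := restrict_map_left_fst f a
    rw [ha] at e1
    exact e1.symm.trans φ1
  have hrng : IsClopen (Set.range (coprod.inr : X' ⟶ X' ⨿ X')) := by
    constructor
    · rw [← isOpen_compl_iff, ← (isCompl_range_inl_inr X' X').eq_compl]
      exact (coprod.inl : X' ⟶ X' ⨿ X').isOpenEmbedding.isOpen_range
    · exact (coprod.inr : X' ⟶ X' ⨿ X').isOpenEmbedding.isOpen_range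
  refine ⟨a.left ⁻¹' Set.range (coprod.inr : X' ⟶ X' ⨿ X'), hrng.preimage a.left.continuous, ?_⟩
  have hval : ∀ z : ↥(pullback (𝟙 X') f), a.left (ι₀ z) = ψ z := fun z =>
    congrArg (fun m : pullback (𝟙 X') f ⟶ X' ⨿ X' => m z) hal
  ext x
  constructor
  · rintro ⟨hx1, hx2⟩
    rw [← hr] at hx2
    obtain ⟨z, rfl⟩ := hx2
    by_contra hzD
    have hz1 : z ∈ D1 := ⟨hr ▸ ⟨z, rfl⟩, hzD⟩
    have e1 : ψ z = (coprod.inl : X' ⟶ X' ⨿ X') (ι₀ z) :=
      congrArg (fun m : D1.toScheme ⟶ X' ⨿ X' => m ⟨z, hz1⟩) ψ1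
    have hx1' : a.left (ι₀ z) ∈ Set.range (coprod.inr : X' ⟶ X' ⨿ X') := hx1
    rw [hval, e1] at hx1'
    obtain ⟨y, hy⟩ := hx1'
    exact inl_ne_inr X' X' _ _ hy.symm
  · intro hxD
    have hx2 := hsub hxD
    refine ⟨?_, hx2⟩
    rw [← hr] at hx2
    obtain ⟨z, rfl⟩ := hx2
    have hz0 : z ∈ D0 := hxD
    have e0 : ψ z = (coprod.inr : X' ⟶ X' ⨿ X') (ι₀ z) :=
      congrArg (fun m : D0.toScheme ⟶ X' ⨿ X' => m ⟨z, hz0⟩) ψ0
    show a.left (ι₀ z) ∈ Set.range (coprod.inr : X' ⟶ X' ⨿ X')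
    rw [hval, e0]
    exact ⟨_, rfl⟩

end Converse

end Groth.Agent.Helper10.FEtDepth
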