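import Mathlib

/-!
# Every module is a directed colimit of finitely presented modules (category form)
-/

set_option autoImplicit false
universe u
open CategoryTheory CategoryTheory.Limits

namespace Groth.Agent.Helper10.FPModColim

section Criterion
variable {A : Type u} [CommRing A] {J : Type u} [SmallCategory J] [IsFiltered J]
  (D : J ⥤ ModuleCat.{u} A) (c : Cocone D)

/-- recognising filtered colimits of modules -/
theorem isColimit_of_surj_inj
    (hsurj : ∀ x : c.pt, ∃ j, ∃ y : D.obj j, (c.ι.app j).hom y = x)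
    (hinj : ∀ j (x y : D.obj j), (c.ι.app j).hom x = (c.ι.app j).hom y →
      ∃ k, ∃ f : j ⟶ k, (D.map f).hom x = (D.map f).hom y) :
    Nonempty (IsColimit c) := by
  have h : IsColimit ((forget (ModuleCat.{u} A)).mapCocone c) := by
    refine Types.FilteredColimit.isColimitOf' _ _ (fun x => ?_) (fun i x y h => ?_)
    · obtain ⟨j, y, hy⟩ := hsurj x
      exact ⟨j, y, hy.symm⟩
    · obtain ⟨k, f, hf⟩ := hinj i x y h
      exact ⟨k, f, hf⟩
  have : ReflectsColimit D (forget (ModuleCat.{u} A)) := reflectsColimit_of_reflectsIsomorphisms _ _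
  exact ⟨isColimitOfReflects (forget (ModuleCat.{u} A)) h⟩

end Criterion

section Construction
variable (A : Type u) [CommRing A] (M : Type u) [AddCommGroup M] [Module A M]

/-- the free module on a finite subset of `M` -/
abbrev PS (S : Finset M) : Type u := ↥S →₀ A

/-- the canonical map -/
noncomputable def π (S : Finset M) : PS A M S →ₗ[A] M :=
  Finsupp.linearCombination A (Subtype.val : ↥S → M)

theorem π_single (S : Finset M) (m : ↥S) (a : A) : π A M S (Finsupp.single m a) = a • m.1 := by
  simp [π]

variable {A M}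

/-- the inclusion maps -/
noncomputable def incl {S S' : Finset M} (h : S ⊆ S') : PS A M S →ₗ[A] PS A M S' :=
  Finsupp.lmapDomain A A (fun x : ↥S => (⟨x.1, h x.2⟩ : ↥S'))

theorem π_incl {S S' : Finset M} (h : S ⊆ S') (x : PS A M S) : π A M S' (incl h x) = π A M S x := by
  induction x using Finsupp.induction_linear with
  | zero => simp
  | add f g hf hg => rw [map_add, map_add, map_add, hf, hg]
  | single a b => simp [incl, π]

theorem incl_incl {S S' S'' : Finset M} (h : S ⊆ S') (h' : S' ⊆ S'') (x : PS A M S) :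
    incl h' (incl h x) = incl (h.trans h') x := by
  simp only [incl, Finsupp.lmapDomain_apply, ← Finsupp.mapDomain_comp]
  rfl

theorem incl_refl {S : Finset M} (x : PS A M S) : incl (Finset.Subset.refl S) x = x := by
  simp only [incl, Finsupp.lmapDomain_apply]
  exact Finsupp.mapDomain_id

variable (A M)

/-- the index poset -/
structure Idx where
  S : Finset M
  R : Submodule A (PS A M S)
  fg : R.FG
  le_ker : R ≤ LinearMap.ker (π A M S)

variable {A M}

instance : Preorder (Idx A M) where
  le i j := ∃ h : i.S ⊆ j.S, i.R.map (incl h) ≤ j.R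
  le_refl i := ⟨Finset.Subset.refl _, by
    rintro _ ⟨x, hx, rfl⟩
    rw [incl_refl]
    exact hx⟩
  le_trans i j k := by
    rintro ⟨h, hR⟩ ⟨h', hR'⟩
    refine ⟨h.trans h', ?_⟩
    rintro _ ⟨x, hx, rfl⟩
    rw [← incl_incl h h']
    exact hR' ⟨_, hR ⟨x, hx, rfl⟩, rfl⟩

instance : Nonempty (Idx A M) := ⟨⟨∅, ⊥, Submodule.fg_bot, bot_le⟩⟩

theorem map_incl_le_ker {S S' : Finset M} (h : S ⊆ S') {R : Submodule A (PS A M S)}
    (hR : R ≤ LinearMap.ker (π A M S)) : R.map (incl h) ≤ LinearMap.ker (π A M S') := by
  rintro _ ⟨x, hx, rfl⟩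
  rw [LinearMap.mem_ker, π_incl]
  exact hR hx

open Classical in
/-- the join of two indices -/
noncomputable def Idx.sup (i j : Idx A M) : Idx A M where
  S := i.S ∪ j.S
  R := i.R.map (incl Finset.subset_union_left) ⊔ j.R.map (incl Finset.subset_union_right)
  fg := (i.fg.map _).sup (j.fg.map _)
  le_ker := sup_le (map_incl_le_ker _ i.le_ker) (map_incl_le_ker _ j.le_ker)

open Classical in
instance : IsDirected (Idx A M) (· ≤ ·) :=
  ⟨fun i j => ⟨i.sup j, ⟨Finset.subset_union_left, le_sup_left⟩,
    ⟨Finset.subset_union_right, le_sup_right⟩⟩⟩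

/-- the finitely presented module at an index -/
abbrev Mi (i : Idx A M) : Type u := PS A M i.S ⧸ i.R

instance (i : Idx A M) : Module.FinitePresentation A (Mi i) := by
  refine Module.finitePresentation_of_free_of_surjective (Submodule.mkQ i.R)
    (Submodule.mkQ_surjective _) ?_
  rw [Submodule.ker_mkQ]
  exact i.fg

/-- transition maps -/
noncomputable def trans {i j : Idx A M} (h : i ≤ j) : Mi i →ₗ[A] Mi j :=
  Submodule.mapQ _ _ (incl h.1) (by
    intro x hx
    exact h.2 ⟨x, hx, rfl⟩)

theorem trans_mk {i j : Idx A M} (h : i ≤ j) (x : PS A M i.S) :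
    trans h (Submodule.Quotient.mk x) = Submodule.Quotient.mk (incl h.1 x) :=
  rfl

/-- the leg to `M` -/
noncomputable def leg (i : Idx A M) : Mi i →ₗ[A] M :=
  Submodule.liftQ _ (π A M i.S) i.le_ker

theorem leg_mk (i : Idx A M) (x : PS A M i.S) : leg i (Submodule.Quotient.mk x) = π A M i.S x := rfl

theorem leg_trans {i j : Idx A M} (h : i ≤ j) (y : Mi i) : leg j (trans h y) = leg i y := by
  obtain ⟨x, rfl⟩ := Submodule.Quotient.mk_surjective _ y
  rw [trans_mk, leg_mk, leg_mk, π_incl]

variable (A M)

/-- the diagram -/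
noncomputable def diag : Idx A M ⥤ ModuleCat.{u} A where
  obj i := ModuleCat.of A (Mi i)
  map f := ModuleCat.ofHom (trans (leOfHom f))
  map_id i := by
    refine ModuleCat.hom_ext (LinearMap.ext fun y => ?_)
    obtain ⟨x, rfl⟩ := Submodule.Quotient.mk_surjective _ y
    change trans (leOfHom (𝟙 i)) (Submodule.Quotient.mk x) = Submodule.Quotient.mk x
    rw [trans_mk, incl_refl]
  map_comp {i j k} f g := by
    refine ModuleCat.hom_ext (LinearMap.ext fun y => ?_)
    obtain ⟨x, rfl⟩ := Submodule.Quotient.mk_surjective _ y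
    change trans (leOfHom (f ≫ g)) (Submodule.Quotient.mk x) =
      trans (leOfHom g) (trans (leOfHom f) (Submodule.Quotient.mk x))
    rw [trans_mk, trans_mk, trans_mk, incl_incl]

/-- the cocone -/
noncomputable def cocone : Cocone (diag A M) where
  pt := ModuleCat.of A M
  ι :=
    { app := fun i => ModuleCat.ofHom (leg i)
      naturality := fun i j f => by
        refine ModuleCat.hom_ext (LinearMap.ext fun y => ?_)
        exact leg_trans (leOfHom f) y }

theorem cocone_isColimit : Nonempty (IsColimit (cocone A M)) := by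
  classical
  apply isColimit_of_surj_inj
  · intro m
    change M at m
    refine ⟨⟨{m}, ⊥, Submodule.fg_bot, bot_le⟩,
      Submodule.Quotient.mk (Finsupp.single ⟨m, Finset.mem_singleton_self m⟩ 1), ?_⟩
    change leg _ (Submodule.Quotient.mk _) = m
    rw [leg_mk, π_single, one_smul]
  · intro i x y hxy
    change Mi i at x y
    change leg i x = leg i y at hxy
    obtain ⟨p, rfl⟩ := Submodule.Quotient.mk_surjective _ x
    obtain ⟨q, rfl⟩ := Submodule.Quotient.mk_surjective _ y
    rw [leg_mk, leg_mk] at hxy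
    let k : Idx A M := ⟨i.S, i.R ⊔ Submodule.span A {p - q}, i.fg.sup (Submodule.fg_span_singleton _),
      sup_le i.le_ker (by
        rw [Submodule.span_le, Set.singleton_subset_iff]
        change π A M i.S (p - q) = 0
        rw [map_sub, hxy, sub_self])⟩
    have hik : i ≤ k := ⟨Finset.Subset.refl _, by
      rintro _ ⟨z, hz, rfl⟩
      rw [incl_refl]
      exact Submodule.mem_sup_left hz⟩
    refine ⟨k, homOfLE hik, ?_⟩
    change trans hik (Submodule.Quotient.mk p) = trans hik (Submodule.Quotient.mk q)
    rw [trans_mk, trans_mk, incl_refl, incl_refl]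
    exact (Submodule.Quotient.eq _).2
      (Submodule.mem_sup_right (Submodule.mem_span_singleton_self _))

variable {A M}

theorem exists_rep (m : M) : ∃ (i : Idx A M) (y : Mi i), leg i y = m := by
  classical
  refine ⟨⟨{m}, ⊥, Submodule.fg_bot, bot_le⟩,
    Submodule.Quotient.mk (Finsupp.single ⟨m, Finset.mem_singleton_self m⟩ 1), ?_⟩
  rw [leg_mk, π_single, one_smul]

theorem exists_rep₂ (m m' : M) : ∃ (i : Idx A M) (y y' : Mi i), leg i y = m ∧ leg i y' = m' := by
  classical
  refine ⟨⟨{m, m'}, ⊥, Submodule.fg_bot, bot_le⟩,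
    Submodule.Quotient.mk (Finsupp.single ⟨m, by simp⟩ 1),
    Submodule.Quotient.mk (Finsupp.single ⟨m', by simp⟩ 1), ?_, ?_⟩
  · rw [leg_mk, π_single, one_smul]
  · rw [leg_mk, π_single, one_smul]

end Construction

end Groth.Agent.Helper10.FPModColim
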