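import Mathlib
import Groth.Prelude.Def_FibSite

/-!
# The total topology of a (pre-)fibred site

Description of the covering sieves of the total topology, cocontinuity of fibre inclusions.
-/

set_option autoImplicit false
set_option backward.isDefEq.respectTransparency false
set_option backward.isDefEq.respectTransparency.types false

universe w v₃ u₃ v₂ u₂ v₁ u₁

open CategoryTheory CategoryTheory.Limits Opposite Pseudofunctor Pseudofunctor.CoGrothendieck
  Bicategory

namespace Groth.Agent.Helper10.FibTot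

variable {𝒮 : Type u₁} [Category.{v₁} 𝒮]
variable (F : Pseudofunctor (LocallyDiscrete 𝒮ᵒᵖ) Cat.{v₂, u₂})

/-- The morphism of the total category with given base and fibre components. -/
def homMk {R S : 𝒮} (f : R ⟶ S) {W : F.obj ⟨op R⟩} {V : F.obj ⟨op S⟩}
    (φ : W ⟶ (FibSite.invImage F f).obj V) : (ι F R).obj W ⟶ (ι F S).obj V :=
  ⟨f, φ⟩

/-- F1: every morphism factors as vertical followed by cartesian. -/
lemma homMk_eq {R S : 𝒮} (f : R ⟶ S) {W : F.obj ⟨op R⟩} {V : F.obj ⟨op S⟩}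
    (φ : W ⟶ (FibSite.invImage F f).obj V) :
    homMk F f φ = (ι F R).map φ ≫ cartesianLift V f := by
  refine Hom.ext _ _ (Category.id_comp f).symm ?_
  change φ = ((φ ≫ (F.mapId ⟨op R⟩).inv.toNatTrans.app _) ≫
    (F.map (𝟙 R).op.toLoc).toFunctor.map (𝟙 _) ≫
    (F.mapComp f.op.toLoc (𝟙 R).op.toLoc).inv.toNatTrans.app V) ≫ eqToHom _
  simp [F.mapComp_id_right_inv_app, Strict.rightUnitor_eqToIso, PrelaxFunctor.map₂_eqToHom,
    ← Cat.Hom₂.comp_app]

lemma homMk_injective {R S : 𝒮} (f : R ⟶ S) {W : F.obj ⟨op R⟩} {V : F.obj ⟨op S⟩}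
    (φ ψ : W ⟶ (FibSite.invImage F f).obj V) (h : homMk F f φ = homMk F f ψ) : φ = ψ := by
  have := Hom.congr h
  simpa [homMk] using this

/-- F2: cartesian lifts are natural with respect to vertical morphisms. -/
lemma cart_comp_vert {R S : 𝒮} (f : R ⟶ S) {W V : F.obj ⟨op S⟩} (r : W ⟶ V) :
    cartesianLift W f ≫ (ι F S).map r = homMk F f ((FibSite.invImage F f).map r) := by
  refine Hom.ext _ _ (Category.comp_id f) ?_
  change (𝟙 _ ≫ (F.map f.op.toLoc).toFunctor.map (r ≫ (F.mapId ⟨op S⟩).inv.toNatTrans.app V) ≫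
    (F.mapComp (𝟙 S).op.toLoc f.op.toLoc).inv.toNatTrans.app V) =
    (F.map f.op.toLoc).toFunctor.map r ≫ eqToHom _
  simp [F.mapComp_id_left_inv_app, Strict.leftUnitor_eqToIso, PrelaxFunctor.map₂_eqToHom,
    ← Functor.map_comp_assoc, ← Cat.Hom₂.comp_app]

lemma cart_comp_vert' {R S : 𝒮} (f : R ⟶ S) {W V : F.obj ⟨op S⟩} (r : W ⟶ V) :
    cartesianLift W f ≫ (ι F S).map r =
      (ι F R).map ((FibSite.invImage F f).map r) ≫ cartesianLift V f := by
  rw [cart_comp_vert, homMk_eq]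

/-- Vertical morphisms composed with a cartesian lift determine the vertical morphism. -/
lemma vert_cart_cancel {R S : 𝒮} (f : R ⟶ S) {W : F.obj ⟨op R⟩} {V : F.obj ⟨op S⟩}
    (φ ψ : W ⟶ (FibSite.invImage F f).obj V)
    (h : (ι F R).map φ ≫ cartesianLift V f = (ι F R).map ψ ≫ cartesianLift V f) : φ = ψ := by
  rw [← homMk_eq, ← homMk_eq] at h
  exact homMk_injective F f φ ψ h

instance (S : 𝒮) : (ι F S).Faithful where
  map_injective {a b} φ ψ h := by
    have h2 := Hom.congr h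
    simpa [cancel_mono, ← Cat.Hom.toNatIso_hom, ← Cat.Hom.toNatIso_inv] using h2

/-- A morphism between objects of a fibre whose base component is the identity is vertical. -/
lemma exists_vert {S : 𝒮} {V' V : F.obj ⟨op S⟩} (a : (ι F S).obj V' ⟶ (ι F S).obj V)
    (ha : a.base = 𝟙 S) : ∃ a' : V' ⟶ V, a = (ι F S).map a' := by
  obtain ⟨e, φ⟩ := a
  change e = 𝟙 S at ha
  subst ha
  refine ⟨φ ≫ (F.mapId ⟨op S⟩).hom.toNatTrans.app V, ?_⟩
  refine Hom.ext _ _ rfl ?_
  change φ = ((φ ≫ (F.mapId ⟨op S⟩).hom.toNatTrans.app V) ≫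
    (F.mapId ⟨op S⟩).inv.toNatTrans.app V) ≫ eqToHom _
  simp [← Cat.Hom₂.comp_app]
  exact (Category.comp_id _).symm

/-- PB: pulling back the image of a sieve of a fibre along an arbitrary morphism. -/
lemma pullback_pushforward_le {R S : 𝒮} (f : R ⟶ S) {W : F.obj ⟨op R⟩} {U : F.obj ⟨op S⟩}
    (ψ : W ⟶ (FibSite.invImage F f).obj U) (T : Sieve U) :
    (((T.functorPushforward (FibSite.invImage F f)).pullback ψ).functorPushforward (ι F R)) ≤
      (T.functorPushforward (ι F S)).pullback (homMk F f ψ) := by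
  rintro Z h ⟨W', φ, k, hφ, rfl⟩
  obtain ⟨V, r, l, hr, hl⟩ := hφ
  refine ⟨V, r, k ≫ (ι F R).map l ≫ cartesianLift V f, hr, ?_⟩
  rw [homMk_eq, Category.assoc, Category.assoc, Category.assoc, cart_comp_vert' F f r,
    ← Functor.map_comp_assoc, ← Functor.map_comp_assoc, hl]

variable (J : FibSite.Topologies F)

variable {F} in
lemma pullback_mem (hF : FibSite.IsPreFibSite F J) {R S : 𝒮} (f : R ⟶ S) {W : F.obj ⟨op R⟩}
    {U : F.obj ⟨op S⟩} (ψ : W ⟶ (FibSite.invImage F f).obj U) (T : Sieve U) (hT : T ∈ J S U) :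
    (T.functorPushforward (FibSite.invImage F f)).pullback ψ ∈ J R W := by
  have := hF f
  exact (J R).pullback_stable ψ
    ((CoverPreserving.of_isContinuous (FibSite.invImage F f) (J S) (J R)).cover_preserve hT)

/-- The explicit topology on the total category whose covering sieves are those containing the
image of a covering sieve of the fibre. -/
def explicitTopology (hF : FibSite.IsPreFibSite F J) : GrothendieckTopology (∫ᶜ F) where
  sieves X := {S | ∃ R ∈ J X.base X.fiber, Sieve.functorPushforward (ι F X.base) R ≤ S}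
  top_mem' X := ⟨⊤, (J _).top_mem _, le_top⟩
  pullback_stable' X Y S g hS := by
    obtain ⟨R, hR, hRS⟩ := hS
    refine ⟨(R.functorPushforward (FibSite.invImage F g.base)).pullback g.fiber,
      pullback_mem J hF g.base g.fiber R hR, ?_⟩
    exact (pullback_pushforward_le F g.base g.fiber R).trans (Sieve.pullback_monotone _ hRS)
  transitive' X S hS T hT := by
    obtain ⟨R, hR, hRS⟩ := hS
    have h1 : ∀ ⦃V : F.obj ⟨op X.base⟩⦄ (r : V ⟶ X.fiber) (hr : R r),
        ∃ R' ∈ J X.base V, Sieve.functorPushforward (ι F X.base) R' ≤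
          T.pullback ((ι F X.base).map r) :=
      fun V r hr => hT (hRS _ ⟨V, r, 𝟙 _, hr, (Category.id_comp _).symm⟩)
    choose R' hR' hR'T using h1
    refine ⟨Sieve.bind R R', (J _).bind_covering hR (fun _ _ hr => hR' _ hr), ?_⟩
    rintro Z h ⟨W, φ, k, ⟨V, s, r, hr, hs, rfl⟩, rfl⟩
    have := hR'T r hr _ ⟨W, s, 𝟙 _, hs, (Category.id_comp _).symm⟩
    rw [Functor.map_comp]
    exact T.downward_closed this k

variable {F} in
theorem mem_totalTopology_iff (hF : FibSite.IsPreFibSite F J) (X : ∫ᶜ F) (S : Sieve X) :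
    S ∈ FibSite.totalTopology F J X ↔
      ∃ R ∈ J X.base X.fiber, Sieve.functorPushforward (ι F X.base) R ≤ S := by
  constructor
  · intro hS
    have hle : FibSite.totalTopology F J ≤ explicitTopology F J hF :=
      FibSite.totalTopology_le (fun S U R hR => ⟨R, hR, le_rfl⟩)
    exact hle X hS
  · rintro ⟨R, hR, hRS⟩
    exact (FibSite.totalTopology F J).superset_covering hRS
      (FibSite.functorPushforward_mem_totalTopology hR)

variable {F} in
theorem isCocontinuous_ι (hF : FibSite.IsPreFibSite F J) (S : 𝒮) :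
    (ι F S).IsCocontinuous (J S) (FibSite.totalTopology F J) where
  cover_lift {U S'} hS' := by
    obtain ⟨R, hR, hRS⟩ := (mem_totalTopology_iff J hF _ _).1 hS'
    exact (J S).superset_covering ((Sieve.functor_galoisConnection (ι F S) U R S').1 hRS) hR

section SheafTypes

variable {F J}
variable {ℱ : (∫ᶜ F)ᵒᵖ ⥤ Type w}

/-- (L): if the restriction of `ℱ` to a fibre is a sheaf, `ℱ` is a sheaf for the images of the
covering sieves of the fibre. -/
lemma isSheafFor_functorPushforward {S : 𝒮}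
    (hQ : Presieve.IsSheaf (J S) ((ι F S).op ⋙ ℱ)) {U : F.obj ⟨op S⟩} {R : Sieve U}
    (hR : R ∈ J S U) :
    Presieve.IsSheafFor ℱ (R.functorPushforward (ι F S)).arrows := by
  intro x hx
  let x' : Presieve.FamilyOfElements ((ι F S).op ⋙ ℱ) R.arrows := fun V r hr =>
    x ((ι F S).map r) ⟨V, r, 𝟙 _, hr, (Category.id_comp _).symm⟩
  have hx' : x'.Compatible := by
    intro V₁ V₂ V g₁ g₂ r₁ r₂ h₁ h₂ comm
    exact hx ((ι F S).map g₁) ((ι F S).map g₂) _ _
      (by rw [← Functor.map_comp, ← Functor.map_comp, comm])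
  obtain ⟨t, ht, huniq⟩ := hQ R hR x' hx'
  refine ⟨t, ?_, ?_⟩
  · rintro Z h ⟨V, r, k, hr, rfl⟩
    have h1 := ht r hr
    have h2 := hx k (𝟙 _) (show (R.functorPushforward (ι F S)).arrows ((ι F S).map r) from
      ⟨V, r, 𝟙 _, hr, (Category.id_comp _).symm⟩)
      (show (R.functorPushforward (ι F S)).arrows (k ≫ (ι F S).map r) from
      ⟨V, r, k, hr, rfl⟩) (by simp)
    simp only [op_id, Functor.map_id_apply] at h2
    rw [← h2, op_comp, Functor.map_comp_apply]
    exact congrArg _ h1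
  · intro t' ht'
    apply huniq
    intro V r hr
    exact ht' _ _

lemma isSeparatedFor_of_le {C : Type*} [Category C] {X : C} {P : Cᵒᵖ ⥤ Type w}
    {R R' : Presieve X} (h : R ≤ R') (hR : Presieve.IsSeparatedFor P R) :
    Presieve.IsSeparatedFor P R' := by
  intro x t₁ t₂ h₁ h₂
  exact hR.ext (fun Y f hf => (h₁ f (h _ _ hf)).trans (h₂ f (h _ _ hf)).symm)

/-- Easy direction: a presheaf whose restrictions to all fibres are sheaves is a sheaf for the
total topology. -/
theorem isSheaf_of_fibrewise (hF : FibSite.IsPreFibSite F J)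
    (hQ : ∀ S, Presieve.IsSheaf (J S) ((ι F S).op ⋙ ℱ)) :
    Presieve.IsSheaf (FibSite.totalTopology F J) ℱ := by
  have key : ∀ (S : 𝒮) (U : F.obj ⟨op S⟩) (R : Sieve U), R ∈ J S U → ∀ ⦃Y : ∫ᶜ F⦄
      (g : Y ⟶ (ι F S).obj U), ∃ R' ∈ J Y.base Y.fiber,
        R'.functorPushforward (ι F Y.base) ≤ (R.functorPushforward (ι F S)).pullback g :=
    fun S U R hR Y g => ⟨_, pullback_mem J hF g.base g.fiber R hR,
      pullback_pushforward_le F g.base g.fiber R⟩
  have hle : FibSite.totalTopology F J ≤ Sheaf.finestTopology {ℱ} := by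
    refine FibSite.totalTopology_le (fun S U R hR => ?_)
    apply Sheaf.mem_finestTopology_of_forall_isSheafFor
    intro P hP Y g
    obtain rfl : P = ℱ := hP
    obtain ⟨R', hR', hle⟩ := key S U R hR g
    refine Presieve.isSheafFor_subsieve_aux P hle (isSheafFor_functorPushforward (hQ _) hR') ?_
    intro Z h hh
    obtain ⟨R'', hR'', hle'⟩ := key _ _ R' hR' h
    exact isSeparatedFor_of_le hle'
      (isSheafFor_functorPushforward (hQ _) hR'').isSeparatedFor
  exact Presieve.isSheaf_of_le _ hle (Sheaf.sheaf_for_finestTopology _ (Set.mem_singleton _))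

/-- A separated presheaf of types embeds into a sheaf. -/
lemma exists_embedding_sheaf {C : Type u₃} [Category.{v₃} C] (J : GrothendieckTopology C)
    (G : Cᵒᵖ ⥤ Type w) (hG : Presieve.IsSeparated J G) :
    ∃ (H : Cᵒᵖ ⥤ Type (max w u₃ v₃)) (_ : Presieve.IsSheaf J H) (e : ∀ X : Cᵒᵖ, G.obj X → H.obj X),
      (∀ X, Function.Injective (e X)) ∧
      ∀ ⦃X Y : Cᵒᵖ⦄ (φ : X ⟶ Y) (a : G.obj X), H.map φ (e X a) = e Y (G.map φ a) := by
  let G' : Cᵒᵖ ⥤ Type (max w u₃ v₃) := G ⋙ uliftFunctor.{max u₃ v₃, w}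
  have hsep : ∀ (X : C) (S : J.Cover X) (x y : ToType (G'.obj (op X))),
      (∀ I : S.Arrow, G'.map I.f.op x = G'.map I.f.op y) → x = y := by
    intro X S x y h
    apply ULift.ext
    refine (hG S.1 S.2).ext (fun Y f hf => ?_)
    exact congrArg ULift.down (h ⟨Y, f, hf⟩)
  refine ⟨J.plusObj G', (isSheaf_iff_isSheaf_of_type _ _).1
    (GrothendieckTopology.Plus.isSheaf_of_sep G' hsep),
    fun X a => (J.toPlus G').app X ⟨a⟩, ?_, ?_⟩
  · intro X a b hab
    have := GrothendieckTopology.Plus.inj_of_sep G' hsep X.unop hab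
    exact congrArg ULift.down this
  · intro X Y φ a
    exact (ConcreteCategory.congr_hom ((J.toPlus G').naturality φ) ⟨a⟩).symm

/-- The restriction to a fibre of a sheaf for the total topology is separated. -/
lemma isSeparated_restrict (hℱ : Presieve.IsSheaf (FibSite.totalTopology F J) ℱ) (R : 𝒮) :
    Presieve.IsSeparated (J R) ((ι F R).op ⋙ ℱ) := by
  intro W R' hR' x t₁ t₂ h₁ h₂
  refine (hℱ _ (FibSite.functorPushforward_mem_totalTopology hR')).isSeparatedFor.ext ?_
  rintro Z h ⟨V, r, k, hr, rfl⟩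
  rw [op_comp, Functor.map_comp_apply, Functor.map_comp_apply]
  exact congrArg _ ((h₁ r hr).trans (h₂ r hr).symm)

/-- Key claim (vertical form). -/
lemma claimA (hF : FibSite.IsPreFibSite F J)
    (hℱ : Presieve.IsSheaf (FibSite.totalTopology F J) ℱ) {S R : 𝒮} (f : R ⟶ S)
    {U : F.obj ⟨op S⟩} {Rc : Sieve U} (hRc : Rc ∈ J S U)
    (x : Presieve.FamilyOfElements ((ι F S).op ⋙ ℱ) Rc.arrows) (hx : x.Compatible)
    {W : F.obj ⟨op R⟩} {V₁ V₂ : F.obj ⟨op S⟩} (r₁ : V₁ ⟶ U) (r₂ : V₂ ⟶ U) (h₁ : Rc r₁)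
    (h₂ : Rc r₂) (φ₁ : W ⟶ (FibSite.invImage F f).obj V₁)
    (φ₂ : W ⟶ (FibSite.invImage F f).obj V₂)
    (comm : φ₁ ≫ (FibSite.invImage F f).map r₁ = φ₂ ≫ (FibSite.invImage F f).map r₂) :
    ℱ.map (homMk F f φ₁).op (x r₁ h₁) = ℱ.map (homMk F f φ₂).op (x r₂ h₂) := by
  obtain ⟨H, hH, e, he, hnat⟩ := exists_embedding_sheaf (J R) ((ι F R).op ⋙ ℱ)
    (isSeparated_restrict hℱ R)
  have := hF f
  have hcont : Presieve.IsSheaf (J S) ((FibSite.invImage F f).op ⋙ H) :=
    Functor.op_comp_isSheaf_of_isSheaf_type (FibSite.invImage F f) (J S) hH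
  let c : ∀ V : F.obj ⟨op S⟩, (ι F R).obj ((FibSite.invImage F f).obj V) ⟶ (ι F S).obj V :=
    fun V => cartesianLift V f
  have key : ∀ {V' V : F.obj ⟨op S⟩} (g : V' ⟶ V) (a : ℱ.obj (op ((ι F S).obj V))),
      H.map ((FibSite.invImage F f).map g).op (e (op ((FibSite.invImage F f).obj V))
        (ℱ.map (c V).op a)) =
      e (op ((FibSite.invImage F f).obj V')) (ℱ.map (c V').op (ℱ.map ((ι F S).map g).op a)) := by
    intro V' V g a
    rw [hnat]
    congr 1
    change ℱ.map ((ι F R).map ((FibSite.invImage F f).map g)).op (ℱ.map _ a) = _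
    rw [← Functor.map_comp_apply, ← Functor.map_comp_apply, ← op_comp, ← op_comp]
    exact congrArg (fun m => ℱ.map m.op a) (cart_comp_vert' F f g).symm
  let z : Presieve.FamilyOfElements ((FibSite.invImage F f).op ⋙ H) Rc.arrows := fun V r hr =>
    e (op ((FibSite.invImage F f).obj V)) (ℱ.map (c V).op (x r hr))
  have hz : z.Compatible := by
    intro V₁ V₂ V g₁ g₂ r₁ r₂ h₁ h₂ comm
    change H.map ((FibSite.invImage F f).map g₁).op _ = H.map ((FibSite.invImage F f).map g₂).op _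
    rw [key, key]
    exact congrArg _ (congrArg _ (hx g₁ g₂ h₁ h₂ comm))
  let τ := (hcont Rc hRc).amalgamate z hz
  have hτ : z.IsAmalgamation τ := (hcont Rc hRc).isAmalgamation hz
  have key2 : ∀ {V : F.obj ⟨op S⟩} (r : V ⟶ U) (hr : Rc r) (φ : W ⟶ (FibSite.invImage F f).obj V),
      e (op W) (ℱ.map (homMk F f φ).op (x r hr)) =
        H.map (φ ≫ (FibSite.invImage F f).map r).op τ := by
    intro V r hr φ
    rw [op_comp, Functor.map_comp_apply]
    have h3 : H.map ((FibSite.invImage F f).map r).op τ = z r hr := hτ r hr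
    rw [h3]
    change _ = H.map φ.op (e _ _)
    rw [hnat]
    congr 1
    rw [homMk_eq, op_comp, Functor.map_comp_apply]
    rfl
  apply he (op W)
  rw [key2 r₁ h₁ φ₁, key2 r₂ h₂ φ₂, comm]

/-- Key claim (general form, morphisms given by components). -/
lemma claimA'_aux (hF : FibSite.IsPreFibSite F J)
    (hℱ : Presieve.IsSheaf (FibSite.totalTopology F J) ℱ) {S R : 𝒮}
    {U : F.obj ⟨op S⟩} {Rc : Sieve U} (hRc : Rc ∈ J S U)
    (x : Presieve.FamilyOfElements ((ι F S).op ⋙ ℱ) Rc.arrows) (hx : x.Compatible)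
    {W : F.obj ⟨op R⟩} {V₁ V₂ : F.obj ⟨op S⟩} (r₁ : V₁ ⟶ U) (r₂ : V₂ ⟶ U) (h₁ : Rc r₁)
    (h₂ : Rc r₂) (e₁ e₂ : R ⟶ S) (φ₁ : W ⟶ (FibSite.invImage F e₁).obj V₁)
    (φ₂ : W ⟶ (FibSite.invImage F e₂).obj V₂)
    (comm : homMk F e₁ φ₁ ≫ (ι F S).map r₁ = homMk F e₂ φ₂ ≫ (ι F S).map r₂) :
    ℱ.map (homMk F e₁ φ₁).op (x r₁ h₁) = ℱ.map (homMk F e₂ φ₂).op (x r₂ h₂) := by
  have hb : e₁ = e₂ := by
    have h0 := congrArg Hom.base comm
    change e₁ ≫ 𝟙 S = e₂ ≫ 𝟙 S at h0
    simpa using h0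
  subst hb
  refine claimA hF hℱ e₁ hRc x hx r₁ r₂ h₁ h₂ φ₁ φ₂ ?_
  apply vert_cart_cancel F e₁
  rw [homMk_eq, homMk_eq, Category.assoc, Category.assoc, cart_comp_vert', cart_comp_vert',
    ← Functor.map_comp_assoc, ← Functor.map_comp_assoc] at comm
  exact comm

/-- Key claim (general form). -/
lemma claimA' (hF : FibSite.IsPreFibSite F J)
    (hℱ : Presieve.IsSheaf (FibSite.totalTopology F J) ℱ) {S : 𝒮}
    {U : F.obj ⟨op S⟩} {Rc : Sieve U} (hRc : Rc ∈ J S U)
    (x : Presieve.FamilyOfElements ((ι F S).op ⋙ ℱ) Rc.arrows) (hx : x.Compatible)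
    {X : ∫ᶜ F} {V₁ V₂ : F.obj ⟨op S⟩} (r₁ : V₁ ⟶ U) (r₂ : V₂ ⟶ U) (h₁ : Rc r₁) (h₂ : Rc r₂)
    (m₁ : X ⟶ (ι F S).obj V₁) (m₂ : X ⟶ (ι F S).obj V₂)
    (comm : m₁ ≫ (ι F S).map r₁ = m₂ ≫ (ι F S).map r₂) :
    ℱ.map m₁.op (x r₁ h₁) = ℱ.map m₂.op (x r₂ h₂) :=
  claimA'_aux hF hℱ (R := X.base) (W := X.fiber) hRc x hx r₁ r₂ h₁ h₂ m₁.base m₂.base
    m₁.fiber m₂.fiber comm

/-- Hard direction: the restriction to a fibre of a sheaf for the total topology is a sheaf. -/
theorem isSheaf_restrict (hF : FibSite.IsPreFibSite F J)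
    (hℱ : Presieve.IsSheaf (FibSite.totalTopology F J) ℱ) (S : 𝒮) :
    Presieve.IsSheaf (J S) ((ι F S).op ⋙ ℱ) := by
  intro U Rc hRc
  rw [← Presieve.isSeparatedFor_and_exists_isAmalgamation_iff_isSheafFor]
  refine ⟨isSeparated_restrict hℱ S Rc hRc, fun x hx => ?_⟩
  let y : Presieve.FamilyOfElements ℱ (Rc.functorPushforward (ι F S)).arrows := fun Z h hh =>
    ℱ.map (Presieve.getFunctorPushforwardStructure hh).lift.op
      (x (Presieve.getFunctorPushforwardStructure hh).premap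
        (Presieve.getFunctorPushforwardStructure hh).cover)
  have hy : y.Compatible := by
    intro Z₁ Z₂ Z g₁ g₂ k₁ k₂ hk₁ hk₂ comm
    change ℱ.map g₁.op (ℱ.map _ _) = ℱ.map g₂.op (ℱ.map _ _)
    rw [← Functor.map_comp_apply, ← Functor.map_comp_apply, ← op_comp, ← op_comp]
    apply claimA' hF hℱ hRc x hx
    rw [Category.assoc, Category.assoc, ← (Presieve.getFunctorPushforwardStructure hk₁).fac,
      ← (Presieve.getFunctorPushforwardStructure hk₂).fac, comm]
  have hT := hℱ _ (FibSite.functorPushforward_mem_totalTopology hRc)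
  refine ⟨hT.amalgamate y hy, fun V r hr => ?_⟩
  have hr' : (Rc.functorPushforward (ι F S)).arrows ((ι F S).map r) :=
    ⟨V, r, 𝟙 _, hr, (Category.id_comp _).symm⟩
  have h1 : ℱ.map ((ι F S).map r).op (hT.amalgamate y hy) = y _ hr' :=
    hT.isAmalgamation hy _ hr'
  refine h1.trans ?_
  have h2 := claimA' hF hℱ hRc x hx _ r (Presieve.getFunctorPushforwardStructure hr').cover hr
    (Presieve.getFunctorPushforwardStructure hr').lift (𝟙 _)
    (by rw [← (Presieve.getFunctorPushforwardStructure hr').fac, Category.id_comp])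
  refine h2.trans ?_
  simp

end SheafTypes

section Main

variable {F J}

/-- Sheaves for the total topology are the presheaves whose restrictions to the fibres are
sheaves. -/
theorem isSheaf_iff (hF : FibSite.IsPreFibSite F J) {A : Type u₃} [Category.{v₃} A]
    (P : (∫ᶜ F)ᵒᵖ ⥤ A) :
    Presheaf.IsSheaf (FibSite.totalTopology F J) P ↔
      ∀ S : 𝒮, Presheaf.IsSheaf (J S) ((ι F S).op ⋙ P) := by
  constructor
  · intro h S E
    exact isSheaf_restrict hF (h E) S
  · intro h E
    exact isSheaf_of_fibrewise hF (fun S => h S E)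

/-- The fibre inclusions are continuous for the total topology. -/
theorem isContinuous_ι (hF : FibSite.IsPreFibSite F J) (S : 𝒮) :
    (ι F S).IsContinuous (J S) (FibSite.totalTopology F J) where
  op_comp_isSheaf_of_types G :=
    isSheaf_restrict hF ((isSheaf_iff_isSheaf_of_type _ _).1 G.2) S

theorem isContinuous_iff (hF : FibSite.IsPreFibSite F J) {D : Type u₃} [Category.{v₃} D]
    (K : GrothendieckTopology D) (m : ∫ᶜ F ⥤ D) :
    m.IsContinuous (FibSite.totalTopology F J) K ↔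
      ∀ S : 𝒮, (ι F S ⋙ m).IsContinuous (J S) K := by
  constructor
  · intro h S
    have := isContinuous_ι hF S
    exact Functor.isContinuous_comp _ _ _ (FibSite.totalTopology F J) _
  · intro h
    refine ⟨fun G => isSheaf_of_fibrewise hF (fun S => ?_)⟩
    have := h S
    exact Functor.op_comp_isSheaf_of_types (ι F S ⋙ m) (J S) K G

theorem inducedTopology_ι (hF : FibSite.IsPreFibSite F J) (S : 𝒮) :
    (ι F S).inducedTopology (FibSite.totalTopology F J) = J S := by
  apply le_antisymm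
  · intro X R hR
    have hcp := (CoverPreserving.of_isContinuous (ι F S)
      ((ι F S).inducedTopology (FibSite.totalTopology F J))
      (FibSite.totalTopology F J)).cover_preserve hR
    obtain ⟨R', hR', hle⟩ : ∃ R' ∈ J S X, Sieve.functorPushforward (ι F S) R' ≤
        Sieve.functorPushforward (ι F S) R := (mem_totalTopology_iff J hF _ _).1 hcp
    refine (J S).superset_covering ?_ hR'
    intro V' r' hr'
    obtain ⟨V, r, k, hr, hk⟩ := hle _ ⟨V', r', 𝟙 _, hr', (Category.id_comp _).symm⟩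
    have hkb : k.base = 𝟙 S := by
      have h0 := congrArg Hom.base hk
      change 𝟙 S = k.base ≫ 𝟙 S at h0
      exact (Category.comp_id k.base).symm.trans h0.symm
    obtain ⟨k', rfl⟩ := exists_vert F k hkb
    rw [← Functor.map_comp] at hk
    rw [(ι F S).map_injective hk]
    exact R.downward_closed hr k'
  · rw [Functor.le_inducedTopology_iff]
    exact isContinuous_ι hF S

end Main

end Groth.Agent.Helper10.FibTot
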