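import Mathlib
import Groth.Prelude.Def_FibSite
import Groth.Agent.Lib.Helper10.FibTot

/-!
# Right Kan extension along a fibre inclusion, restricted to another fibre

For `i j : 𝒮` and a presheaf `a` on the fibre over `i`, the restriction to the fibre over `j` of the
right Kan extension of `a` along the fibre inclusion is the product over `f : i ⟶ j` of the
presheaves `(f^*).op ⋙ a`.
-/

set_option autoImplicit false
set_option backward.isDefEq.respectTransparency false
set_option backward.isDefEq.respectTransparency.types false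

universe w v₃ u₃ v₂ u₂ v₁ u₁

open CategoryTheory CategoryTheory.Limits Opposite Pseudofunctor Pseudofunctor.CoGrothendieck
  Bicategory

namespace Groth.Agent.Helper10.FibRan

open Groth.Agent.Helper10.FibTot

variable {𝒮 : Type u₁} [Category.{v₁} 𝒮]
variable (F : Pseudofunctor (LocallyDiscrete 𝒮ᵒᵖ) Cat.{v₂, u₂})

/-- The cartesian lifts along `f`, as a natural transformation `ι_i ∘ f^* ⟶ ι_j`. -/
def cartNat {i j : 𝒮} (f : i ⟶ j) : FibSite.invImage F f ⋙ ι F i ⟶ ι F j where
  app W := cartesianLift W f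
  naturality _ _ ψ := (cart_comp_vert' F f ψ).symm

/-- The structured arrow given by the cartesian lift of `W` along `f`. -/
def cartArrow {i j : 𝒮} (W : F.obj ⟨op j⟩) (f : i ⟶ j) :
    StructuredArrow (op ((ι F j).obj W)) (ι F i).op :=
  StructuredArrow.mk (Y := op ((FibSite.invImage F f).obj W))
    (show op ((ι F j).obj W) ⟶ (ι F i).op.obj (op ((FibSite.invImage F f).obj W)) from
      (cartesianLift W f).op)

/-- The discrete diagram of cartesian lifts of `W`. -/
def cartDiag {i j : 𝒮} (W : F.obj ⟨op j⟩) :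
    Discrete (i ⟶ j) ⥤ StructuredArrow (op ((ι F j).obj W)) (ι F i).op :=
  Discrete.functor (cartArrow F W)

instance {i j : 𝒮} (W : F.obj ⟨op j⟩) : (cartDiag F (i := i) W).Initial where
  out d := by
    let V : F.obj ⟨op i⟩ := d.right.unop
    let m : (ι F i).obj V ⟶ (ι F j).obj W := d.hom.unop
    let f₀ : i ⟶ j := m.base
    let φ₀ : V ⟶ (FibSite.invImage F f₀).obj W := m.fiber
    have hm : m = (ι F i).map φ₀ ≫ cartesianLift W f₀ := homMk_eq F f₀ φ₀
    let g₀ : ((cartDiag F W).obj ⟨f₀⟩).right ⟶ d.right := φ₀.op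
    have hw₀ : ((cartDiag F W).obj ⟨f₀⟩).hom ≫ (ι F i).op.map g₀ = d.hom :=
      Quiver.Hom.unop_inj hm.symm
    let c₀ : CostructuredArrow (cartDiag F W) d :=
      CostructuredArrow.mk (Y := ⟨f₀⟩) (StructuredArrow.homMk g₀ hw₀)
    refine isConnected_of_isTerminal _ (x := c₀)
      (IsTerminal.ofUniqueHom (fun c => ?_) (fun c g => ?_))
    · obtain ⟨⟨f⟩, ⟨⟨⟩⟩, h⟩ := c
      have hw : (ι F i).map h.right.unop ≫ cartesianLift W f = m :=
        congrArg Quiver.Hom.unop (StructuredArrow.w h)
      have hf : f = f₀ := by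
        have h0 := congrArg Hom.base hw
        change 𝟙 i ≫ f = f₀ at h0
        simpa using h0
      subst hf
      have h1 : h.right.unop = φ₀ := vert_cart_cancel F f₀ _ _ (hw.trans hm)
      have h2 : h = c₀.hom := by
        apply StructuredArrow.hom_ext
        exact Quiver.Hom.unop_inj h1
      refine CostructuredArrow.homMk (𝟙 _) ?_
      rw [CategoryTheory.Functor.map_id, Category.id_comp]
      exact h2.symm
    · apply CostructuredArrow.hom_ext
      exact Subsingleton.elim _ _

section Ran

variable {A : Type u₃} [Category.{v₃} A] {i j : 𝒮}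
variable [∀ (P : (F.obj ⟨op i⟩)ᵒᵖ ⥤ A), (ι F i).op.HasPointwiseRightKanExtension P]

/-- The projection from the restriction to the fibre over `j` of the right Kan extension of `a`
along `ι_i` to `(f^*).op ⋙ a`, for `f : i ⟶ j`. -/
noncomputable def ranProj (f : i ⟶ j) (a : (F.obj ⟨op i⟩)ᵒᵖ ⥤ A) :
    (ι F j).op ⋙ (ι F i).op.ran.obj a ⟶ (FibSite.invImage F f).op ⋙ a :=
  Functor.whiskerRight (NatTrans.op (cartNat F f)) ((ι F i).op.ran.obj a) ≫
    Functor.whiskerLeft (FibSite.invImage F f).op ((ι F i).op.ranCounit.app a)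

/-- The fan of the projections at an object `W` of the fibre over `j`. -/
noncomputable def ranFanAt (a : (F.obj ⟨op i⟩)ᵒᵖ ⥤ A) (W : F.obj ⟨op j⟩) :
    Fan (fun f : i ⟶ j => a.obj (op ((FibSite.invImage F f).obj W))) :=
  Fan.mk (((ι F i).op.ran.obj a).obj (op ((ι F j).obj W))) (fun f => (ranProj F f a).app (op W))

/-- The value of the right Kan extension at an object of the fibre over `j` is the product over
`f : i ⟶ j` of the values at the inverse images. -/
noncomputable def isLimitRanFanAt (a : (F.obj ⟨op i⟩)ᵒᵖ ⥤ A) (W : F.obj ⟨op j⟩) :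
    IsLimit (ranFanAt F a W) := by
  let E := Functor.RightExtension.mk _ ((ι F i).op.ranCounit.app a)
  have hE : IsLimit (E.coneAt (op ((ι F j).obj W))) :=
    Functor.isPointwiseRightKanExtensionRanCounit (ι F i).op a (op ((ι F j).obj W))
  have h2 : IsLimit ((E.coneAt (op ((ι F j).obj W))).whisker (cartDiag F W)) :=
    (Functor.Initial.isLimitWhiskerEquiv (cartDiag F W) _).symm hE
  let mkCone : ∀ s : Fan (fun f : i ⟶ j => a.obj (op ((FibSite.invImage F f).obj W))),
      Cone (cartDiag F W ⋙ StructuredArrow.proj (op ((ι F j).obj W)) (ι F i).op ⋙ a) :=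
    fun s => { pt := s.pt, π := Discrete.natTrans (fun ⟨f⟩ => s.proj f) }
  refine Fan.IsLimit.mk _ (fun s => h2.lift (mkCone s)) (fun s f => ?_) (fun s m hm => ?_)
  · exact h2.fac (mkCone s) ⟨f⟩
  · refine h2.uniq (mkCone s) m ?_
    rintro ⟨f⟩
    exact hm f

/-- The restriction to the fibre over `j` of the right Kan extension is the product of the
`(f^*).op ⋙ a`. -/
noncomputable def isLimitRanFan (a : (F.obj ⟨op i⟩)ᵒᵖ ⥤ A) :
    IsLimit (Fan.mk ((ι F j).op ⋙ (ι F i).op.ran.obj a) (fun f : i ⟶ j => ranProj F f a)) :=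
  evaluationJointlyReflectsLimits _ (fun X =>
    (isLimitMapConeFanMkEquiv ((evaluation _ _).obj X) _ _).symm (isLimitRanFanAt F a X.unop))

variable (J : FibSite.Topologies F)
  [(ι F j).IsContinuous (J j) (FibSite.totalTopology F J)]
  [(ι F i).IsCocontinuous (J i) (FibSite.totalTopology F J)]
  [∀ (f : i ⟶ j), (FibSite.invImage F f).IsContinuous (J j) (J i)]

/-- The projections at the level of sheaves. -/
noncomputable def sheafRanProj (f : i ⟶ j) (a : Sheaf (J i) A) :
    ((ι F j).sheafPushforwardContinuous A (J j) (FibSite.totalTopology F J)).obj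
      (((ι F i).sheafPushforwardCocontinuous A (J i) (FibSite.totalTopology F J)).obj a) ⟶
    ((FibSite.invImage F f).sheafPushforwardContinuous A (J j) (J i)).obj a :=
  ⟨ranProj F f a.obj⟩

/-- `restr_j (coextend_i a)` is the product of the direct images `(f^*)_* a`. -/
noncomputable def isLimitSheafRanFan (a : Sheaf (J i) A) :
    IsLimit (Fan.mk _ (fun f : i ⟶ j => sheafRanProj F J f a)) :=
  isLimitOfReflects (sheafToPresheaf (J j) A)
    ((isLimitMapConeFanMkEquiv (sheafToPresheaf (J j) A) _ _).symm (isLimitRanFan F a.obj))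

end Ran

end Groth.Agent.Helper10.FibRan
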