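import Mathlib
import Groth.Prelude.Def_FibSite
import Groth.Agent.Lib.Helper10.FibTot
import Groth.Agent.Lib.Helper10.FibRan

/-!
# Restriction to a fibre of the extension of a sheaf from another fibre

`restr_t (extend_s a)` is the coproduct over `f : t ⟶ s` of the inverse images of `a` along `f^*`.
Deduced by adjunction from the computation of `restr_s (coextend_t a')`.
-/

set_option autoImplicit false
set_option linter.unusedSectionVars false
set_option backward.isDefEq.respectTransparency false
set_option backward.isDefEq.respectTransparency.types false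

universe w v₃ u₃ v₂ u₂ v₁ u₁

open CategoryTheory CategoryTheory.Limits Opposite Pseudofunctor Pseudofunctor.CoGrothendieck
  Bicategory

namespace Groth.Agent.Helper10.FibLan

open Groth.Agent.Helper10.FibTot Groth.Agent.Helper10.FibRan

variable {𝒮 : Type u₁} [Category.{v₁} 𝒮]
variable (F : Pseudofunctor (LocallyDiscrete 𝒮ᵒᵖ) Cat.{v₂, u₂})
variable {A : Type u₃} [Category.{v₃} A] {s t : 𝒮}
variable [∀ (P : (F.obj ⟨op t⟩)ᵒᵖ ⥤ A), (ι F t).op.HasPointwiseRightKanExtension P]

lemma ranProj_naturality (f : t ⟶ s) {a a' : (F.obj ⟨op t⟩)ᵒᵖ ⥤ A} (φ : a ⟶ a') :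
    Functor.whiskerLeft (ι F s).op ((ι F t).op.ran.map φ) ≫ ranProj F f a' =
      ranProj F f a ≫ Functor.whiskerLeft (FibSite.invImage F f).op φ := by
  ext W
  have h1 := congr_app ((ι F t).op.ranCounit.naturality φ)
    (op ((FibSite.invImage F f).obj W.unop))
  have h2 := ((ι F t).op.ran.map φ).naturality ((cartNat F f).app W.unop).op
  dsimp at h1 h2
  dsimp [ranProj]
  rw [Category.assoc, ← h1, ← Category.assoc, ← Category.assoc]
  congr 1
  exact h2.symm

lemma unit_ranProj (f : t ⟶ s) (G : (∫ᶜ F)ᵒᵖ ⥤ A) :
    Functor.whiskerLeft (ι F s).op (((ι F t).op.ranAdjunction A).unit.app G) ≫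
      ranProj F f ((ι F t).op ⋙ G) =
    Functor.whiskerRight (NatTrans.op (cartNat F f)) G := by
  ext W
  have h1 := (((ι F t).op.ranAdjunction A).unit.app G).naturality ((cartNat F f).app W.unop).op
  have h2 := (ι F t).op.ranCounit_app_app_ranAdjunction_unit_app_app G
    (op ((FibSite.invImage F f).obj W.unop))
  dsimp at h1 h2
  dsimp [ranProj]
  rw [← Category.assoc, ← h1, Category.assoc, h2, Category.comp_id]

/-- Morphisms into the vertex of a limit fan. -/
noncomputable def fanEquiv {C : Type*} [Category C] {β : Type*} {X : β → C} {c : Fan X}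
    (hc : IsLimit c) (Z : C) : (Z ⟶ c.pt) ≃ (∀ b, Z ⟶ X b) where
  toFun h b := h ≫ c.proj b
  invFun g := Fan.IsLimit.lift hc g
  left_inv h := Fan.IsLimit.hom_ext hc _ _ (fun b => by simp)
  right_inv g := by ext b; simp

section Sheaf

variable (J : FibSite.Topologies F)
  [(ι F s).IsContinuous (J s) (FibSite.totalTopology F J)]
  [(ι F t).IsContinuous (J t) (FibSite.totalTopology F J)]
  [(ι F t).IsCocontinuous (J t) (FibSite.totalTopology F J)]
  [∀ f : t ⟶ s, (FibSite.invImage F f).IsContinuous (J s) (J t)]

/-- The comparison `restr_s G ⟶ (f^*)_* (restr_t G)` given by the cartesian lifts. -/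
def theta (f : t ⟶ s) (G : Sheaf (FibSite.totalTopology F J) A) :
    ((ι F s).sheafPushforwardContinuous A (J s) (FibSite.totalTopology F J)).obj G ⟶
      ((FibSite.invImage F f).sheafPushforwardContinuous A (J s) (J t)).obj
        (((ι F t).sheafPushforwardContinuous A (J t) (FibSite.totalTopology F J)).obj G) :=
  ⟨Functor.whiskerRight (NatTrans.op (cartNat F f)) G.obj⟩

lemma theta_naturality (f : t ⟶ s) {G G' : Sheaf (FibSite.totalTopology F J) A} (φ : G ⟶ G') :
    ((ι F s).sheafPushforwardContinuous A (J s) (FibSite.totalTopology F J)).map φ ≫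
        theta F J f G' =
      theta F J f G ≫ ((FibSite.invImage F f).sheafPushforwardContinuous A (J s) (J t)).map
        (((ι F t).sheafPushforwardContinuous A (J t) (FibSite.totalTopology F J)).map φ) := by
  apply Sheaf.hom_ext
  ext W
  exact (φ.hom.naturality _).symm

lemma sheafRanProj_naturality (f : t ⟶ s) {a₁ a₂ : Sheaf (J t) A} (h : a₁ ⟶ a₂) :
    ((ι F s).sheafPushforwardContinuous A (J s) (FibSite.totalTopology F J)).map
        (((ι F t).sheafPushforwardCocontinuous A (J t) (FibSite.totalTopology F J)).map h) ≫
      sheafRanProj F J f a₂ =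
    sheafRanProj F J f a₁ ≫
      ((FibSite.invImage F f).sheafPushforwardContinuous A (J s) (J t)).map h := by
  apply Sheaf.hom_ext
  exact ranProj_naturality F f h.hom

lemma unit_sheafRanProj (f : t ⟶ s) (G : Sheaf (FibSite.totalTopology F J) A) :
    ((ι F s).sheafPushforwardContinuous A (J s) (FibSite.totalTopology F J)).map
        (((ι F t).sheafAdjunctionCocontinuous A (J t) (FibSite.totalTopology F J)).unit.app G) ≫
      sheafRanProj F J f
        (((ι F t).sheafPushforwardContinuous A (J t) (FibSite.totalTopology F J)).obj G) =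
    theta F J f G := by
  apply Sheaf.hom_ext
  have h1 := (ι F t).sheafAdjunctionCocontinuous_unit_app_hom A (J t)
    (FibSite.totalTopology F J) G
  have h2 := unit_ranProj F f G.obj
  rw [← h1] at h2
  exact h2

variable [((ι F s).sheafPushforwardContinuous A (J s) (FibSite.totalTopology F J)).IsRightAdjoint]
  [∀ f : t ⟶ s, ((FibSite.invImage F f).sheafPushforwardContinuous A (J s) (J t)).IsRightAdjoint]

/-- The injections of the cofan. -/
noncomputable def inj (a : Sheaf (J s) A) (f : t ⟶ s) :
    ((FibSite.invImage F f).sheafPullback A (J s) (J t)).obj a ⟶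
      ((ι F t).sheafPushforwardContinuous A (J t) (FibSite.totalTopology F J)).obj
        (((ι F s).sheafPullback A (J s) (FibSite.totalTopology F J)).obj a) :=
  (((FibSite.invImage F f).sheafAdjunctionContinuous A (J s) (J t)).homEquiv a _).symm
    (((ι F s).sheafAdjunctionContinuous A (J s) (FibSite.totalTopology F J)).unit.app a ≫
      theta F J f (((ι F s).sheafPullback A (J s) (FibSite.totalTopology F J)).obj a))

/-- The bijection exhibiting `restr_t (extend_s a)` as a coproduct. -/
noncomputable def homEquiv (a : Sheaf (J s) A) (a' : Sheaf (J t) A) :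
    (((ι F t).sheafPushforwardContinuous A (J t) (FibSite.totalTopology F J)).obj
        (((ι F s).sheafPullback A (J s) (FibSite.totalTopology F J)).obj a) ⟶ a') ≃
      (∀ f : t ⟶ s, ((FibSite.invImage F f).sheafPullback A (J s) (J t)).obj a ⟶ a') :=
  (((ι F t).sheafAdjunctionCocontinuous A (J t) (FibSite.totalTopology F J)).homEquiv _ _).trans
    ((((ι F s).sheafAdjunctionContinuous A (J s) (FibSite.totalTopology F J)).homEquiv _ _).trans
      ((fanEquiv (isLimitSheafRanFan F J a') a).trans
        (Equiv.piCongrRight (fun f =>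
          (((FibSite.invImage F f).sheafAdjunctionContinuous A (J s) (J t)).homEquiv a a').symm))))

lemma homEquiv_apply (a : Sheaf (J s) A) (a' : Sheaf (J t) A)
    (h : ((ι F t).sheafPushforwardContinuous A (J t) (FibSite.totalTopology F J)).obj
        (((ι F s).sheafPullback A (J s) (FibSite.totalTopology F J)).obj a) ⟶ a') (f : t ⟶ s) :
    homEquiv F J a a' h f = inj F J a f ≫ h := by
  dsimp [homEquiv, inj, fanEquiv]
  rw [← Adjunction.homEquiv_naturality_right_symm]
  change (((FibSite.invImage F f).sheafAdjunctionContinuous A (J s) (J t)).homEquiv a a').symm _ = _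
  congr 1
  beta_reduce
  rw [Adjunction.homEquiv_unit, Adjunction.homEquiv_unit, Functor.map_comp, Category.assoc,
    Category.assoc]
  have key : ((ι F s).sheafPushforwardContinuous A (J s) (FibSite.totalTopology F J)).map
        (((ι F t).sheafAdjunctionCocontinuous A (J t) (FibSite.totalTopology F J)).unit.app
          (((ι F s).sheafPullback A (J s) (FibSite.totalTopology F J)).obj a)) ≫
      ((ι F s).sheafPushforwardContinuous A (J s) (FibSite.totalTopology F J)).map
        (((ι F t).sheafPushforwardCocontinuous A (J t) (FibSite.totalTopology F J)).map h) ≫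
      sheafRanProj F J f a' =
      theta F J f (((ι F s).sheafPullback A (J s) (FibSite.totalTopology F J)).obj a) ≫
        ((FibSite.invImage F f).sheafPushforwardContinuous A (J s) (J t)).map h := by
    rw [sheafRanProj_naturality F J f h, ← Category.assoc]
    exact congrArg (fun k => k ≫ _) (unit_sheafRanProj F J f _)
  exact (congrArg (fun k =>
    ((ι F s).sheafAdjunctionContinuous A (J s) (FibSite.totalTopology F J)).unit.app a ≫ k)
    key).trans (Category.assoc _ _ _).symm

/-- `restr_t (extend_s a)` is the coproduct of the inverse images of `a`. -/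
noncomputable def isColimitCofan (a : Sheaf (J s) A) :
    IsColimit (Cofan.mk _ (inj (t := t) F J a)) :=
  Cofan.IsColimit.mk _ (fun c => (homEquiv (t := t) F J a c.pt).symm c.inj)
    (fun c f => by
      change inj F J a f ≫ _ = _
      rw [← homEquiv_apply, Equiv.apply_symm_apply])
    (fun c m hm => by
      apply (homEquiv F J a c.pt).injective
      rw [Equiv.apply_symm_apply]
      funext f
      rw [homEquiv_apply]
      exact hm f)

end Sheaf

end Groth.Agent.Helper10.FibLan
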