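import Mathlib
import Groth.Prelude.Def_FibSite
import Groth.Agent.Lib.Helper10.FibTot
import Groth.Agent.Lib.Helper10.FibRan
import Groth.Agent.Lib.Helper10.FibLan

/-!
# Extension from the fibre over a terminal object is left exact

If `s` is terminal, then `restr_t ∘ extend_s` is the inverse image along `e^*` for the unique
`e : t ⟶ s`; hence `extend_s` is left exact when all these inverse images are.
-/

set_option autoImplicit false
set_option linter.unusedSectionVars false
set_option backward.isDefEq.respectTransparency false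
set_option backward.isDefEq.respectTransparency.types false

universe w v₃ u₃ v₂ u₂ v₁ u₁

open CategoryTheory CategoryTheory.Limits Opposite Pseudofunctor Pseudofunctor.CoGrothendieck
  Bicategory

namespace Groth.Agent.Helper10.FibExt

open Groth.Agent.Helper10.FibTot Groth.Agent.Helper10.FibRan Groth.Agent.Helper10.FibLan

/-- The projection of a limit fan indexed by a type with a unique element is an isomorphism. -/
lemma isIso_proj_of_unique {C : Type*} [Category C] {β : Type*} [Subsingleton β] {X : β → C}
    {c : Fan X} (hc : IsLimit c) (b₀ : β) : IsIso (c.proj b₀) := by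
  let c' : Fan X := Fan.mk (X b₀) (fun b => eqToHom (by rw [Subsingleton.elim b b₀]))
  have hc' : IsLimit c' := Fan.IsLimit.mk _ (fun s => s.proj b₀)
    (fun s b => by
      obtain rfl := Subsingleton.elim b b₀
      simp [c'])
    (fun s m hm => by
      have := hm b₀
      simpa [c'] using this)
  have h : c.proj b₀ = (IsLimit.conePointUniqueUpToIso hc hc').hom := by
    have := IsLimit.conePointUniqueUpToIso_hom_comp hc hc' ⟨b₀⟩
    change c.π.app ⟨b₀⟩ = _
    simpa [c'] using this.symm
  rw [h]
  infer_instance

/-- A family of functors which preserve limits of some shape and is jointly conservative jointly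
reflects limits of this shape. -/
lemma isLimit_of_jointly {C : Type*} [Category C] {β : Type*} {D : β → Type*}
    [∀ j, Category (D j)] (G : ∀ j, C ⥤ D j) {K : Type*} [Category K] [HasLimitsOfShape K C]
    [∀ j, PreservesLimitsOfShape K (G j)]
    (hG : ∀ {X Y : C} (φ : X ⟶ Y), (∀ j, IsIso ((G j).map φ)) → IsIso φ) {Fk : K ⥤ C}
    (c : Cone Fk) (hc : ∀ j, Nonempty (IsLimit ((G j).mapCone c))) : Nonempty (IsLimit c) := by
  have : IsIso ((limit.isLimit Fk).lift c) := by
    apply hG
    intro j
    let ℓ' := isLimitOfPreserves (G j) (limit.isLimit Fk)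
    have h : (G j).map ((limit.isLimit Fk).lift c) =
        (IsLimit.conePointUniqueUpToIso (hc j).some ℓ').hom := by
      apply ℓ'.hom_ext
      intro k
      rw [IsLimit.conePointUniqueUpToIso_hom_comp]
      simp [← Functor.map_comp]
    rw [h]
    infer_instance
  exact ⟨IsLimit.ofPointIso (limit.isLimit Fk)⟩

variable {𝒮 : Type u₁} [Category.{v₁} 𝒮]
variable (F : Pseudofunctor (LocallyDiscrete 𝒮ᵒᵖ) Cat.{v₂, u₂})
variable {A : Type u₃} [Category.{v₃} A] (J : FibSite.Topologies F)

/-- The restrictions to the fibres are jointly conservative. -/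
lemma isIso_of_restr [∀ j, (ι F j).IsContinuous (J j) (FibSite.totalTopology F J)]
    {G G' : Sheaf (FibSite.totalTopology F J) A} (φ : G ⟶ G')
    (h : ∀ j, IsIso (((ι F j).sheafPushforwardContinuous A (J j)
      (FibSite.totalTopology F J)).map φ)) : IsIso φ := by
  have : IsIso φ.hom := by
    refine @NatIso.isIso_of_isIso_app _ _ _ _ _ _ _ (fun X => ?_)
    have h0 := h X.unop.base
    have h1 : IsIso ((sheafToPresheaf _ A).map (((ι F X.unop.base).sheafPushforwardContinuous A
      (J X.unop.base) (FibSite.totalTopology F J)).map φ)) := inferInstance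
    exact NatIso.isIso_app_of_isIso ((sheafToPresheaf _ A).map
      (((ι F X.unop.base).sheafPushforwardContinuous A
        (J X.unop.base) (FibSite.totalTopology F J)).map φ)) (op X.unop.fiber)
  exact (isIso_iff_of_reflects_iso _ (sheafToPresheaf _ A)).1 this

section

variable {s t : 𝒮}
  [(ι F s).IsContinuous (J s) (FibSite.totalTopology F J)]
  [(ι F t).IsContinuous (J t) (FibSite.totalTopology F J)]
  [(ι F t).IsCocontinuous (J t) (FibSite.totalTopology F J)]
  [∀ (P : (F.obj ⟨op t⟩)ᵒᵖ ⥤ A), (ι F t).op.HasPointwiseRightKanExtension P]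
  [∀ f : t ⟶ s, (FibSite.invImage F f).IsContinuous (J s) (J t)]

/-- `restr_s ∘ coextend_t ≅ (e^*)_*` when `e` is the only morphism `t ⟶ s`. -/
noncomputable def coextRestrIso [Subsingleton (t ⟶ s)] (e : t ⟶ s) :
    (ι F t).sheafPushforwardCocontinuous A (J t) (FibSite.totalTopology F J) ⋙
      (ι F s).sheafPushforwardContinuous A (J s) (FibSite.totalTopology F J) ≅
    (FibSite.invImage F e).sheafPushforwardContinuous A (J s) (J t) :=
  haveI : ∀ a' : Sheaf (J t) A, IsIso (sheafRanProj F J e a') := fun a' =>
    isIso_proj_of_unique (isLimitSheafRanFan F J a') e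
  NatIso.ofComponents (fun a' => asIso (sheafRanProj F J e a'))
    (fun h => sheafRanProj_naturality F J e h)

variable [((ι F s).sheafPushforwardContinuous A (J s) (FibSite.totalTopology F J)).IsRightAdjoint]
  [∀ f : t ⟶ s, ((FibSite.invImage F f).sheafPushforwardContinuous A (J s) (J t)).IsRightAdjoint]

/-- `restr_t ∘ extend_s ≅ (e^*)^{-1}` when `e` is the only morphism `t ⟶ s`. -/
noncomputable def extRestrIso [Subsingleton (t ⟶ s)] (e : t ⟶ s) :
    (ι F s).sheafPullback A (J s) (FibSite.totalTopology F J) ⋙
      (ι F t).sheafPushforwardContinuous A (J t) (FibSite.totalTopology F J) ≅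
    (FibSite.invImage F e).sheafPullback A (J s) (J t) :=
  Adjunction.leftAdjointUniq
    ((((ι F s).sheafAdjunctionContinuous A (J s) (FibSite.totalTopology F J)).comp
      ((ι F t).sheafAdjunctionCocontinuous A (J t) (FibSite.totalTopology F J))).ofNatIsoRight
        (coextRestrIso F J e))
    ((FibSite.invImage F e).sheafAdjunctionContinuous A (J s) (J t))

end

/-- Extension from the fibre over a terminal object preserves finite limits as soon as the inverse
images along the `e^*` do. -/
theorem preservesFiniteLimits_extend (s : 𝒮) (hs : IsTerminal s)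
    [∀ j, (ι F j).IsContinuous (J j) (FibSite.totalTopology F J)]
    [∀ j, (ι F j).IsCocontinuous (J j) (FibSite.totalTopology F J)]
    [∀ (j : 𝒮) (P : (F.obj ⟨op j⟩)ᵒᵖ ⥤ A), (ι F j).op.HasPointwiseRightKanExtension P]
    [∀ (R S : 𝒮) (f : R ⟶ S), (FibSite.invImage F f).IsContinuous (J S) (J R)]
    [((ι F s).sheafPushforwardContinuous A (J s) (FibSite.totalTopology F J)).IsRightAdjoint]
    [∀ (R S : 𝒮) (f : R ⟶ S),
      ((FibSite.invImage F f).sheafPushforwardContinuous A (J S) (J R)).IsRightAdjoint]
    [HasFiniteLimits (Sheaf (FibSite.totalTopology F J) A)]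
    [∀ j, PreservesFiniteLimits
      ((ι F j).sheafPushforwardContinuous A (J j) (FibSite.totalTopology F J))]
    (h : ∀ (j : 𝒮) (f : j ⟶ s),
      PreservesFiniteLimits ((FibSite.invImage F f).sheafPullback A (J s) (J j))) :
    PreservesFiniteLimits ((ι F s).sheafPullback A (J s) (FibSite.totalTopology F J)) := by
  refine ⟨fun K _ _ => ⟨fun {Fk} => ⟨fun {c} hc => ?_⟩⟩⟩
  apply isLimit_of_jointly
    (fun j => (ι F j).sheafPushforwardContinuous A (J j) (FibSite.totalTopology F J))
    (isIso_of_restr F J)
  intro j
  have : Subsingleton (j ⟶ s) := ⟨fun a b => hs.hom_ext a b⟩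
  have := h j (hs.from j)
  have : PreservesFiniteLimits ((ι F s).sheafPullback A (J s) (FibSite.totalTopology F J) ⋙
      (ι F j).sheafPushforwardContinuous A (J j) (FibSite.totalTopology F J)) :=
    preservesFiniteLimits_of_natIso (extRestrIso F J (hs.from j)).symm
  exact ⟨isLimitOfPreserves ((ι F s).sheafPullback A (J s) (FibSite.totalTopology F J) ⋙
      (ι F j).sheafPushforwardContinuous A (J j) (FibSite.totalTopology F J)) hc⟩

end Groth.Agent.Helper10.FibExt
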