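import Mathlib
import Groth.Prelude.Def_FibSite
import Groth.Agent.Lib.Helper10.FibTot
import Groth.Agent.Lib.Helper10.FibRan
import Groth.Agent.Lib.Helper10.FibLan
import Groth.Agent.Lib.Helper10.FibExt

/-!
# Cartesian functors between fibred sites
-/

set_option autoImplicit false
set_option linter.unusedSectionVars false
set_option backward.isDefEq.respectTransparency false
set_option backward.isDefEq.respectTransparency.types false

universe w v₃ u₃ v₂ u₂ v₁ u₁

open CategoryTheory CategoryTheory.Limits Opposite Pseudofunctor Pseudofunctor.CoGrothendieck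
  Bicategory
open scoped CategoryTheory.Pseudofunctor.StrongTrans
open CategoryTheory.Pseudofunctor.StrongTrans

namespace Groth.Agent.Helper10.FibMap

open Groth.Agent.Helper10.FibTot Groth.Agent.Helper10.FibRan Groth.Agent.Helper10.FibLan
  Groth.Agent.Helper10.FibExt

variable {𝒮 : Type u₁} [Category.{v₁} 𝒮]
variable {F₁ F₂ : Pseudofunctor (LocallyDiscrete 𝒮ᵒᵖ) Cat.{v₂, u₂}} (α : F₁ ⟶ F₂)

/-- The fibre functor of a strong transformation. -/
abbrev fib (S : 𝒮) : F₁.obj ⟨op S⟩ ⥤ F₂.obj ⟨op S⟩ := (α.app ⟨op S⟩).toFunctor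

/-- The comparison `α_R (f^* W) ⟶ f^* (α_S W)`. -/
abbrev natHom {R S : 𝒮} (f : R ⟶ S) (W : F₁.obj ⟨op S⟩) :
    (fib α R).obj ((FibSite.invImage F₁ f).obj W) ⟶ (FibSite.invImage F₂ f).obj ((fib α S).obj W) :=
  (α.naturality f.op.toLoc).hom.toNatTrans.app W

lemma map_ι_map (S : 𝒮) {W' W : F₁.obj ⟨op S⟩} (φ : W' ⟶ W) :
    (CoGrothendieck.map α).map ((ι F₁ S).map φ) = (ι F₂ S).map ((fib α S).map φ) := by
  refine Hom.ext _ _ rfl ?_
  change ((fib α S).map (φ ≫ (F₁.mapId ⟨op S⟩).inv.toNatTrans.app W) ≫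
    (α.naturality (𝟙 (⟨op S⟩ : LocallyDiscrete 𝒮ᵒᵖ))).hom.toNatTrans.app W) =
    ((fib α S).map φ ≫ (F₂.mapId ⟨op S⟩).inv.toNatTrans.app ((fib α S).obj W)) ≫ eqToHom _
  simp [Cat.Hom.comp_toFunctor, naturality_id_hom_app, Cat.Hom.id_toFunctor,
    ← Cat.Hom₂.comp_app, ← Functor.map_comp_assoc]

lemma map_cartesianLift {R S : 𝒮} (f : R ⟶ S) (W : F₁.obj ⟨op S⟩) :
    (CoGrothendieck.map α).map (cartesianLift W f) =
      (ι F₂ R).map (natHom α f W) ≫ cartesianLift ((fib α S).obj W) f := by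
  rw [← homMk_eq]
  refine Hom.ext _ _ rfl ?_
  change (fib α R).map (𝟙 _) ≫ natHom α f W = natHom α f W ≫ eqToHom _
  simp

/-- The square of fibre inclusions and a cartesian functor commutes. -/
def ιCompMap (S : 𝒮) : ι F₁ S ⋙ CoGrothendieck.map α ≅ fib α S ⋙ ι F₂ S :=
  NatIso.ofComponents (fun _ => Iso.refl _) (fun φ => by
    rw [Functor.comp_map, map_ι_map]
    simp)

/-- A cartesian functor which is fibrewise continuous is continuous for the total topologies. -/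
theorem isContinuous_map (J₁ : FibSite.Topologies F₁) (J₂ : FibSite.Topologies F₂)
    (h₁ : FibSite.IsPreFibSite F₁ J₁) (h₂ : FibSite.IsPreFibSite F₂ J₂)
    (hα : ∀ S, (fib α S).IsContinuous (J₁ S) (J₂ S)) :
    (CoGrothendieck.map α).IsContinuous (FibSite.totalTopology F₁ J₁)
      (FibSite.totalTopology F₂ J₂) := by
  rw [isContinuous_iff h₁]
  intro S
  have := hα S
  have := isContinuous_ι h₂ S
  have : (fib α S ⋙ ι F₂ S).IsContinuous (J₁ S) (FibSite.totalTopology F₂ J₂) :=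
    Functor.isContinuous_comp _ _ _ (J₂ S) _
  exact Functor.isContinuous_of_iso (ιCompMap α S).symm _ _

instance {R S : 𝒮} (f : R ⟶ S) (W : F₁.obj ⟨op S⟩) : IsIso (natHom α f W) :=
  ⟨(α.naturality f.op.toLoc).inv.toNatTrans.app W, by simp [← Cat.Hom₂.comp_app],
    by simp [← Cat.Hom₂.comp_app]⟩

/-- Composing the projections of a limit fan with isomorphisms gives a limit fan. -/
def isLimitFanPostcomp {C : Type*} [Category C] {β : Type*} {X Y : β → C} {c : Fan X}
    (hc : IsLimit c) (e : ∀ b, X b ≅ Y b) :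
    IsLimit (Fan.mk c.pt (fun b => c.proj b ≫ (e b).hom)) :=
  Fan.IsLimit.mk _ (fun s => Fan.IsLimit.lift hc (fun b => s.proj b ≫ (e b).inv))
    (fun s b => by simp)
    (fun s m hm => Fan.IsLimit.hom_ext hc _ _ (fun b => by
      rw [Fan.IsLimit.fac, ← hm b]
      simp))

section BC

variable {A : Type u₃} [Category.{v₃} A] {S : 𝒮}
variable [∀ (P : (F₁.obj ⟨op S⟩)ᵒᵖ ⥤ A), (ι F₁ S).op.HasPointwiseRightKanExtension P]
variable [∀ (P : (F₂.obj ⟨op S⟩)ᵒᵖ ⥤ A), (ι F₂ S).op.HasPointwiseRightKanExtension P]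

/-- The restriction to the fibre of the pulled back right Kan extension maps to the restriction
of the presheaf. -/
noncomputable def beta (Q : (F₂.obj ⟨op S⟩)ᵒᵖ ⥤ A) :
    (ι F₁ S).op ⋙ (CoGrothendieck.map α).op ⋙ (ι F₂ S).op.ran.obj Q ⟶ (fib α S).op ⋙ Q where
  app V := ((ι F₂ S).op.ranCounit.app Q).app (op ((fib α S).obj V.unop))
  naturality V V' g := by
    have h := ((ι F₂ S).op.ranCounit.app Q).naturality ((fib α S).map g.unop).op
    dsimp at h ⊢
    rw [map_ι_map]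
    exact h

/-- The base change morphism for right Kan extensions along fibre inclusions. -/
noncomputable def can (Q : (F₂.obj ⟨op S⟩)ᵒᵖ ⥤ A) :
    (CoGrothendieck.map α).op ⋙ (ι F₂ S).op.ran.obj Q ⟶
      (ι F₁ S).op.ran.obj ((fib α S).op ⋙ Q) :=
  ((ι F₁ S).op.ranAdjunction A).homEquiv _ _ (beta α Q)

lemma can_counit (Q : (F₂.obj ⟨op S⟩)ᵒᵖ ⥤ A) :
    Functor.whiskerLeft (ι F₁ S).op (can α Q) ≫ (ι F₁ S).op.ranCounit.app ((fib α S).op ⋙ Q) =
      beta α Q := by
  have h := ((ι F₁ S).op.ranAdjunction A).homEquiv_counit (g := can α Q)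
  rw [Functor.ranAdjunction_counit] at h
  have h2 : (((ι F₁ S).op.ranAdjunction A).homEquiv _ _).symm (can α Q) = beta α Q :=
    Equiv.symm_apply_apply _ _
  exact h.symm.trans h2

lemma can_ranProj (Q : (F₂.obj ⟨op S⟩)ᵒᵖ ⥤ A) {j : 𝒮} (f : S ⟶ j) (W : F₁.obj ⟨op j⟩) :
    (can α Q).app (op ((ι F₁ j).obj W)) ≫ (ranProj F₁ f ((fib α S).op ⋙ Q)).app (op W) =
      (ranProj F₂ f Q).app (op ((fib α j).obj W)) ≫ Q.map (natHom α f W).op := by
  let c₁ : (ι F₁ S).obj ((FibSite.invImage F₁ f).obj W) ⟶ (ι F₁ j).obj W := cartesianLift W f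
  let c₂ : (ι F₂ S).obj ((FibSite.invImage F₂ f).obj ((fib α j).obj W)) ⟶
    (ι F₂ j).obj ((fib α j).obj W) := cartesianLift _ f
  have h0 : (CoGrothendieck.map α).map c₁ = (ι F₂ S).map (natHom α f W) ≫ c₂ :=
    map_cartesianLift α f W
  have h1 : ((ι F₂ S).op.ran.obj Q).map ((CoGrothendieck.map α).map c₁).op ≫
      (can α Q).app (op ((ι F₁ S).obj ((FibSite.invImage F₁ f).obj W))) =
      (can α Q).app (op ((ι F₁ j).obj W)) ≫
        ((ι F₁ S).op.ran.obj ((fib α S).op ⋙ Q)).map c₁.op := (can α Q).naturality c₁.op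
  have h2 : (can α Q).app (op ((ι F₁ S).obj ((FibSite.invImage F₁ f).obj W))) ≫
      ((ι F₁ S).op.ranCounit.app ((fib α S).op ⋙ Q)).app (op ((FibSite.invImage F₁ f).obj W)) =
      ((ι F₂ S).op.ranCounit.app Q).app (op ((fib α S).obj ((FibSite.invImage F₁ f).obj W))) :=
    congr_app (can_counit α Q) (op ((FibSite.invImage F₁ f).obj W))
  have h3 : ((ι F₂ S).op.ran.obj Q).map ((ι F₂ S).map (natHom α f W)).op ≫
      ((ι F₂ S).op.ranCounit.app Q).app (op ((fib α S).obj ((FibSite.invImage F₁ f).obj W))) =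
      ((ι F₂ S).op.ranCounit.app Q).app (op ((FibSite.invImage F₂ f).obj ((fib α j).obj W))) ≫
        Q.map (natHom α f W).op :=
    ((ι F₂ S).op.ranCounit.app Q).naturality (natHom α f W).op
  change (can α Q).app (op ((ι F₁ j).obj W)) ≫
    ((ι F₁ S).op.ran.obj ((fib α S).op ⋙ Q)).map c₁.op ≫
      ((ι F₁ S).op.ranCounit.app ((fib α S).op ⋙ Q)).app (op ((FibSite.invImage F₁ f).obj W)) =
    (((ι F₂ S).op.ran.obj Q).map c₂.op ≫
      ((ι F₂ S).op.ranCounit.app Q).app (op ((FibSite.invImage F₂ f).obj ((fib α j).obj W)))) ≫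
        Q.map (natHom α f W).op
  rw [← Category.assoc, ← h1, Category.assoc, h2, h0, op_comp, Functor.map_comp,
    Category.assoc, h3, Category.assoc]

lemma isIso_can_app (Q : (F₂.obj ⟨op S⟩)ᵒᵖ ⥤ A) (X : (∫ᶜ F₁)ᵒᵖ) : IsIso ((can α Q).app X) := by
  obtain ⟨⟨j, W⟩⟩ := X
  have hl₁ := isLimitRanFanAt F₁ (i := S) (j := j) ((fib α S).op ⋙ Q) W
  have hl₂ := isLimitRanFanAt F₂ (i := S) (j := j) Q ((fib α j).obj W)
  have hl₂' := isLimitFanPostcomp hl₂ (fun f : S ⟶ j => Q.mapIso (asIso (natHom α f W)).op)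
  have h : (can α Q).app (op ((ι F₁ j).obj W)) =
      (IsLimit.conePointUniqueUpToIso hl₂' hl₁).hom := by
    refine Fan.IsLimit.hom_ext hl₁ _ _ (fun f => ?_)
    have h1 := IsLimit.conePointUniqueUpToIso_hom_comp hl₂' hl₁ ⟨f⟩
    refine Eq.trans ?_ h1.symm
    exact can_ranProj α Q f W
  change IsIso ((can α Q).app (op ((ι F₁ j).obj W)))
  rw [h]
  infer_instance

instance (Q : (F₂.obj ⟨op S⟩)ᵒᵖ ⥤ A) : IsIso (can α Q) :=
  @NatIso.isIso_of_isIso_app _ _ _ _ _ _ _ (fun X => isIso_can_app α Q X)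

lemma beta_naturality {Q Q' : (F₂.obj ⟨op S⟩)ᵒᵖ ⥤ A} (φ : Q ⟶ Q') :
    Functor.whiskerLeft ((ι F₁ S).op ⋙ (CoGrothendieck.map α).op) ((ι F₂ S).op.ran.map φ) ≫
      beta α Q' = beta α Q ≫ Functor.whiskerLeft (fib α S).op φ := by
  ext V
  exact congr_app ((ι F₂ S).op.ranCounit.naturality φ) (op ((fib α S).obj V.unop))

lemma can_naturality {Q Q' : (F₂.obj ⟨op S⟩)ᵒᵖ ⥤ A} (φ : Q ⟶ Q') :
    Functor.whiskerLeft (CoGrothendieck.map α).op ((ι F₂ S).op.ran.map φ) ≫ can α Q' =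
      can α Q ≫ (ι F₁ S).op.ran.map (Functor.whiskerLeft (fib α S).op φ) := by
  apply Functor.hom_ext_of_isRightKanExtension _
    ((ι F₁ S).op.ranCounit.app ((fib α S).op ⋙ Q'))
  have hc := (ι F₁ S).op.ranCounit.naturality (Functor.whiskerLeft (fib α S).op φ)
  rw [Functor.whiskerLeft_comp, Category.assoc, can_counit, Functor.whiskerLeft_comp,
    Category.assoc]
  erw [hc]
  rw [← Category.assoc, can_counit]
  exact beta_naturality α φ

variable (J₁ : FibSite.Topologies F₁) (J₂ : FibSite.Topologies F₂)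
  [(ι F₁ S).IsContinuous (J₁ S) (FibSite.totalTopology F₁ J₁)]
  [(ι F₁ S).IsCocontinuous (J₁ S) (FibSite.totalTopology F₁ J₁)]
  [(ι F₂ S).IsContinuous (J₂ S) (FibSite.totalTopology F₂ J₂)]
  [(ι F₂ S).IsCocontinuous (J₂ S) (FibSite.totalTopology F₂ J₂)]
  [(CoGrothendieck.map α).IsContinuous (FibSite.totalTopology F₁ J₁)
    (FibSite.totalTopology F₂ J₂)]
  [(fib α S).IsContinuous (J₁ S) (J₂ S)]

/-- Base change for the right adjoints: `(map α)_* ∘ coextend_S ≅ coextend_S ∘ (α_S)_*`. -/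
noncomputable def coextMapIso :
    (ι F₂ S).sheafPushforwardCocontinuous A (J₂ S) (FibSite.totalTopology F₂ J₂) ⋙
      (CoGrothendieck.map α).sheafPushforwardContinuous A (FibSite.totalTopology F₁ J₁)
        (FibSite.totalTopology F₂ J₂) ≅
    (fib α S).sheafPushforwardContinuous A (J₁ S) (J₂ S) ⋙
      (ι F₁ S).sheafPushforwardCocontinuous A (J₁ S) (FibSite.totalTopology F₁ J₁) :=
  NatIso.ofComponents
    (fun Q => (fullyFaithfulSheafToPresheaf _ _).preimageIso (asIso (can α Q.obj)))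
    (fun {Q Q'} φ => by
      apply (fullyFaithfulSheafToPresheaf _ _).map_injective
      simp only [Functor.map_comp, Functor.FullyFaithful.preimageIso_hom]
      exact can_naturality α φ.hom)

variable [((CoGrothendieck.map α).sheafPushforwardContinuous A (FibSite.totalTopology F₁ J₁)
    (FibSite.totalTopology F₂ J₂)).IsRightAdjoint]
  [((fib α S).sheafPushforwardContinuous A (J₁ S) (J₂ S)).IsRightAdjoint]

/-- Base change for the left adjoints: `restr_S ∘ (map α)^{-1} ≅ (α_S)^{-1} ∘ restr_S`. -/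
noncomputable def pullbackRestrIso :
    (CoGrothendieck.map α).sheafPullback A (FibSite.totalTopology F₁ J₁)
        (FibSite.totalTopology F₂ J₂) ⋙
      (ι F₂ S).sheafPushforwardContinuous A (J₂ S) (FibSite.totalTopology F₂ J₂) ≅
    (ι F₁ S).sheafPushforwardContinuous A (J₁ S) (FibSite.totalTopology F₁ J₁) ⋙
      (fib α S).sheafPullback A (J₁ S) (J₂ S) :=
  Adjunction.leftAdjointUniq
    ((((CoGrothendieck.map α).sheafAdjunctionContinuous A (FibSite.totalTopology F₁ J₁)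
        (FibSite.totalTopology F₂ J₂)).comp
      ((ι F₂ S).sheafAdjunctionCocontinuous A (J₂ S)
        (FibSite.totalTopology F₂ J₂))).ofNatIsoRight (coextMapIso α J₁ J₂))
    (((ι F₁ S).sheafAdjunctionCocontinuous A (J₁ S) (FibSite.totalTopology F₁ J₁)).comp
      ((fib α S).sheafAdjunctionContinuous A (J₁ S) (J₂ S)))

end BC

/-- The inverse image along a cartesian functor which is fibrewise a morphism of sites is left
exact. -/
theorem preservesFiniteLimits_sheafPullback_map {A : Type u₃} [Category.{v₃} A]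
    (J₁ : FibSite.Topologies F₁) (J₂ : FibSite.Topologies F₂)
    [∀ (S : 𝒮) (P : (F₁.obj ⟨op S⟩)ᵒᵖ ⥤ A), (ι F₁ S).op.HasPointwiseRightKanExtension P]
    [∀ (S : 𝒮) (P : (F₂.obj ⟨op S⟩)ᵒᵖ ⥤ A), (ι F₂ S).op.HasPointwiseRightKanExtension P]
    [∀ S, (ι F₁ S).IsContinuous (J₁ S) (FibSite.totalTopology F₁ J₁)]
    [∀ S, (ι F₁ S).IsCocontinuous (J₁ S) (FibSite.totalTopology F₁ J₁)]
    [∀ S, (ι F₂ S).IsContinuous (J₂ S) (FibSite.totalTopology F₂ J₂)]
    [∀ S, (ι F₂ S).IsCocontinuous (J₂ S) (FibSite.totalTopology F₂ J₂)]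
    [(CoGrothendieck.map α).IsContinuous (FibSite.totalTopology F₁ J₁)
      (FibSite.totalTopology F₂ J₂)]
    [∀ S, (fib α S).IsContinuous (J₁ S) (J₂ S)]
    [((CoGrothendieck.map α).sheafPushforwardContinuous A (FibSite.totalTopology F₁ J₁)
      (FibSite.totalTopology F₂ J₂)).IsRightAdjoint]
    [∀ S, ((fib α S).sheafPushforwardContinuous A (J₁ S) (J₂ S)).IsRightAdjoint]
    [HasFiniteLimits (Sheaf (FibSite.totalTopology F₂ J₂) A)]
    [∀ S, PreservesFiniteLimits
      ((ι F₁ S).sheafPushforwardContinuous A (J₁ S) (FibSite.totalTopology F₁ J₁))]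
    [∀ S, PreservesFiniteLimits
      ((ι F₂ S).sheafPushforwardContinuous A (J₂ S) (FibSite.totalTopology F₂ J₂))]
    (h : ∀ S, PreservesFiniteLimits ((fib α S).sheafPullback A (J₁ S) (J₂ S))) :
    PreservesFiniteLimits ((CoGrothendieck.map α).sheafPullback A (FibSite.totalTopology F₁ J₁)
      (FibSite.totalTopology F₂ J₂)) := by
  refine ⟨fun K _ _ => ⟨fun {Fk} => ⟨fun {c} hc => ?_⟩⟩⟩
  apply isLimit_of_jointly
    (fun S => (ι F₂ S).sheafPushforwardContinuous A (J₂ S) (FibSite.totalTopology F₂ J₂))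
    (isIso_of_restr F₂ J₂)
  intro S
  have := h S
  have : PreservesFiniteLimits
      ((ι F₁ S).sheafPushforwardContinuous A (J₁ S) (FibSite.totalTopology F₁ J₁) ⋙
        (fib α S).sheafPullback A (J₁ S) (J₂ S)) := comp_preservesFiniteLimits _ _
  have : PreservesFiniteLimits
      ((CoGrothendieck.map α).sheafPullback A (FibSite.totalTopology F₁ J₁)
        (FibSite.totalTopology F₂ J₂) ⋙
      (ι F₂ S).sheafPushforwardContinuous A (J₂ S) (FibSite.totalTopology F₂ J₂)) :=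
    preservesFiniteLimits_of_natIso (pullbackRestrIso α J₁ J₂).symm
  exact ⟨isLimitOfPreserves
    ((CoGrothendieck.map α).sheafPullback A (FibSite.totalTopology F₁ J₁)
        (FibSite.totalTopology F₂ J₂) ⋙
      (ι F₂ S).sheafPushforwardContinuous A (J₂ S) (FibSite.totalTopology F₂ J₂)) hc⟩

end Groth.Agent.Helper10.FibMap
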