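import Mathlib
import Groth.Prelude.Def_FibSite
import Groth.Agent.Lib.Helper10.FibTot
import Groth.Agent.Lib.Helper10.FibRan

/-!
# Left Kan extension along a fibre inclusion and bicovering morphisms
-/

set_option autoImplicit false
set_option linter.unusedSectionVars false
set_option backward.isDefEq.respectTransparency false
set_option backward.isDefEq.respectTransparency.types false

universe u

open CategoryTheory CategoryTheory.Limits Opposite Pseudofunctor Pseudofunctor.CoGrothendieck
  Bicategory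

namespace Groth.Agent.Helper10.FibW

open Groth.Agent.Helper10.FibTot Groth.Agent.Helper10.FibRan

variable {𝒮 : Type u} [SmallCategory 𝒮]
variable (F : Pseudofunctor (LocallyDiscrete 𝒮ᵒᵖ) Cat.{u, u}) {i : 𝒮}

/-- Every section of the left Kan extension comes from a section of `R` over some object of the
fibre. -/
lemma lan_jointly_surjective (R : (F.obj ⟨op i⟩)ᵒᵖ ⥤ Type u) (X : ∫ᶜ F)
    (z : ((ι F i).op.lan.obj R).obj (op X)) :
    ∃ (V' : F.obj ⟨op i⟩) (m : X ⟶ (ι F i).obj V') (s : R.obj (op V')),
      ((ι F i).op.lan.obj R).map m.op (((ι F i).op.lanUnit.app R).app (op V') s) = z := by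
  have hcolim := Functor.isPointwiseLeftKanExtensionLeftKanExtensionUnit (ι F i).op R (op X)
  obtain ⟨g, s, hs⟩ := Types.jointly_surjective_of_isColimit hcolim z
  exact ⟨g.left.unop, g.hom.unop, s, hs⟩

/-- The map `h_U ⟶ ι^* h_{ιU}` given by the fibre inclusion. -/
def tau0 (U : F.obj ⟨op i⟩) : yoneda.obj U ⟶ (ι F i).op ⋙ yoneda.obj ((ι F i).obj U) where
  app V := TypeCat.ofHom (fun g => (ι F i).map g)
  naturality V V' g := by
    ext h
    exact (ι F i).map_comp g.unop h

/-- The canonical map from the left Kan extension of a representable presheaf to the presheaf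
represented by the image. -/
noncomputable def tau (U : F.obj ⟨op i⟩) :
    (ι F i).op.lan.obj (yoneda.obj U) ⟶ yoneda.obj ((ι F i).obj U) :=
  (((ι F i).op.lanAdjunction (Type u)).homEquiv _ _).symm (tau0 F U)

lemma lanUnit_tau (U : F.obj ⟨op i⟩) :
    (ι F i).op.lanUnit.app (yoneda.obj U) ≫ Functor.whiskerLeft (ι F i).op (tau F U) =
      tau0 F U := by
  have h := ((ι F i).op.lanAdjunction (Type u)).homEquiv_unit (f := tau F U)
  rw [Functor.lanAdjunction_unit] at h
  have h2 : (((ι F i).op.lanAdjunction (Type u)).homEquiv _ _) (tau F U) = tau0 F U :=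
    Equiv.apply_symm_apply _ _
  exact h.symm.trans h2

lemma lanUnit_naturality_apply (R : (F.obj ⟨op i⟩)ᵒᵖ ⥤ Type u) {V V' : F.obj ⟨op i⟩}
    (g : V' ⟶ V) (s : R.obj (op V)) :
    ((ι F i).op.lanUnit.app R).app (op V') (R.map g.op s) =
      ((ι F i).op.lan.obj R).map ((ι F i).map g).op (((ι F i).op.lanUnit.app R).app (op V) s) :=
  ConcreteCategory.congr_hom (((ι F i).op.lanUnit.app R).naturality g.op) s

lemma lan_map_lanUnit_apply {R R' : (F.obj ⟨op i⟩)ᵒᵖ ⥤ Type u} (u : R ⟶ R')
    (V : F.obj ⟨op i⟩) (s : R.obj (op V)) :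
    ((ι F i).op.lan.map u).app (op ((ι F i).obj V)) (((ι F i).op.lanUnit.app R).app (op V) s) =
      ((ι F i).op.lanUnit.app R').app (op V) (u.app (op V) s) :=
  (ConcreteCategory.congr_hom (congr_app ((ι F i).op.lanUnit.naturality u) (op V)) s).symm

lemma tau_lanUnit_apply (U : F.obj ⟨op i⟩) (V : F.obj ⟨op i⟩) (g : V ⟶ U) :
    (tau F U).app (op ((ι F i).obj V))
      (((ι F i).op.lanUnit.app (yoneda.obj U)).app (op V) g) = (ι F i).map g :=
  ConcreteCategory.congr_hom (congr_app (lanUnit_tau F U) (op V)) g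

/-- Fact 2: a section of the left Kan extension over an object of the fibre whose image in the
left Kan extension of a representable presheaf comes from the fibre itself comes from the
fibre. -/
lemma exists_lanUnit_eq {R : (F.obj ⟨op i⟩)ᵒᵖ ⥤ Type u} {U : F.obj ⟨op i⟩}
    (u : R ⟶ yoneda.obj U) (V : F.obj ⟨op i⟩)
    (z : ((ι F i).op.lan.obj R).obj (op ((ι F i).obj V))) (g : V ⟶ U)
    (hz : ((ι F i).op.lan.map u).app _ z =
      ((ι F i).op.lanUnit.app (yoneda.obj U)).app (op V) g) :
    ∃ s : R.obj (op V), ((ι F i).op.lanUnit.app R).app (op V) s = z ∧ u.app (op V) s = g := by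
  obtain ⟨V', m, s, rfl⟩ := lan_jointly_surjective F R _ z
  have h1 : ((ι F i).op.lan.map u).app (op ((ι F i).obj V))
      (((ι F i).op.lan.obj R).map m.op (((ι F i).op.lanUnit.app R).app (op V') s)) =
      ((ι F i).op.lan.obj (yoneda.obj U)).map m.op
        (((ι F i).op.lanUnit.app (yoneda.obj U)).app (op V') (u.app (op V') s)) := by
    rw [← lan_map_lanUnit_apply]
    exact ConcreteCategory.congr_hom (((ι F i).op.lan.map u).naturality m.op) _
  have h2 : m ≫ (ι F i).map (u.app (op V') s) = (ι F i).map g := by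
    have h3 := congrArg ((tau F U).app (op ((ι F i).obj V))) (h1.symm.trans hz)
    rw [tau_lanUnit_apply] at h3
    rw [← h3]
    have h4 := ConcreteCategory.congr_hom ((tau F U).naturality m.op)
      (((ι F i).op.lanUnit.app (yoneda.obj U)).app (op V') (u.app (op V') s))
    refine Eq.trans ?_ h4.symm
    exact congrArg (fun k => m ≫ k) (tau_lanUnit_apply F U V' _).symm
  have hb : m.base = 𝟙 i := by
    have h0 := congrArg Hom.base h2
    change m.base ≫ 𝟙 i = 𝟙 i at h0
    exact (Category.comp_id m.base).symm.trans h0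
  obtain ⟨m', rfl⟩ := exists_vert F m hb
  rw [← Functor.map_comp] at h2
  have h5 : m' ≫ u.app (op V') s = g := (ι F i).map_injective h2
  refine ⟨R.map m'.op s, lanUnit_naturality_apply F R m' s, ?_⟩
  rw [← h5]
  exact ConcreteCategory.congr_hom (u.naturality m'.op) s

/-- Fact 1: the unit of the left Kan extension along a fibre inclusion is injective. -/
lemma lanUnit_injective (R : (F.obj ⟨op i⟩)ᵒᵖ ⥤ Type u) (V : F.obj ⟨op i⟩) :
    Function.Injective (((ι F i).op.lanUnit.app R).app (op V)) := by
  classical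
  let Rp : (F.obj ⟨op i⟩)ᵒᵖ ⥤ Type u := R ⋙ ofTypeFunctor Option
  have hlim := isLimitRanFan F (i := i) (j := i) Rp
  let ρ : ∀ W : F.obj ⟨op i⟩, (FibSite.invImage F (𝟙 i)).obj W ⟶ W :=
    fun W => (F.mapId ⟨op i⟩).hom.toNatTrans.app W
  let ψ₁ : R ⟶ (FibSite.invImage F (𝟙 i)).op ⋙ Rp :=
    { app := fun W => TypeCat.ofHom (fun s => some (R.map (ρ W.unop).op s))
      naturality := by
        intro W W' g
        ext s
        change some (R.map (ρ W'.unop).op (R.map g s)) =
          some (R.map ((FibSite.invImage F (𝟙 i)).map g.unop).op (R.map (ρ W.unop).op s))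
        congr 1
        rw [← Functor.map_comp_apply, ← Functor.map_comp_apply]
        have hn : (FibSite.invImage F (𝟙 i)).map g.unop ≫ ρ W.unop = ρ W'.unop ≫ g.unop :=
          (F.mapId ⟨op i⟩).hom.toNatTrans.naturality g.unop
        have hn' : g ≫ (ρ W'.unop).op = (ρ W.unop).op ≫
            ((FibSite.invImage F (𝟙 i)).map g.unop).op :=
          congrArg Quiver.Hom.op hn.symm
        rw [hn'] }
  let cn : ∀ f : i ⟶ i, R ⟶ (FibSite.invImage F f).op ⋙ Rp := fun f =>
    { app := fun W => TypeCat.ofHom (fun _ => none)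
      naturality := by
        intro W W' g
        ext s
        rfl }
  let ψf : ∀ f : i ⟶ i, R ⟶ (FibSite.invImage F f).op ⋙ Rp := fun f =>
    if h : f = 𝟙 i then (by subst h; exact ψ₁) else cn f
  let ψ := Fan.IsLimit.lift hlim ψf
  have hψ : ψ ≫ ranProj F (𝟙 i) Rp = ψ₁ := by
    have := Fan.IsLimit.fac hlim ψf (𝟙 i)
    simpa [ψf] using this
  let ψt := (((ι F i).op.lanAdjunction (Type u)).homEquiv _ _).symm ψ
  have hfac : (ι F i).op.lanUnit.app R ≫ Functor.whiskerLeft (ι F i).op ψt = ψ := by
    have h := ((ι F i).op.lanAdjunction (Type u)).homEquiv_unit (f := ψt)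
    rw [Functor.lanAdjunction_unit] at h
    have h2 : (((ι F i).op.lanAdjunction (Type u)).homEquiv _ _) ψt = ψ :=
      Equiv.apply_symm_apply _ _
    exact h.symm.trans h2
  intro s s' hss
  have h1 : ψ.app (op V) s = ψ.app (op V) s' := by
    rw [← hfac]
    exact congrArg (ψt.app (op ((ι F i).obj V))) hss
  have h2 : ψ₁.app (op V) s = ψ₁.app (op V) s' := by
    rw [← hψ]
    exact congrArg ((ranProj F (𝟙 i) Rp).app (op V)) h1
  have h3 : R.map (ρ V).op s = R.map (ρ V).op s' := Option.some.inj h2
  let ρi : V ⟶ (FibSite.invImage F (𝟙 i)).obj V := (F.mapId ⟨op i⟩).inv.toNatTrans.app V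
  have h5 : ρi ≫ ρ V = 𝟙 V := by
    simp [ρ, ρi, ← Cat.Hom₂.comp_app]
  have key : ∀ x : R.obj (op V), R.map ρi.op (R.map (ρ V).op x) = x := by
    intro x
    rw [← Functor.map_comp_apply, ← op_comp, h5, op_id, Functor.map_id_apply]
  have h4 := congrArg (R.map ρi.op) h3
  rw [key, key] at h4
  exact h4

variable {F} in
/-- A morphism to a representable presheaf on a fibre is bicovering iff its left Kan extension
along the fibre inclusion is bicovering for the total topology. -/
theorem W_iff (J : FibSite.Topologies F) (hF : FibSite.IsPreFibSite F J)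
    {R : (F.obj ⟨op i⟩)ᵒᵖ ⥤ Type u} {U : F.obj ⟨op i⟩} (u : R ⟶ yoneda.obj U) :
    (J i).W u ↔ (FibSite.totalTopology F J).W (((ι F i).op.lan (H := Type u)).map u) := by
  have := isContinuous_ι hF i
  constructor
  · intro h
    exact Functor.W_map_of_adjunction_of_isContinuous (J i) (FibSite.totalTopology F J) (ι F i)
      ((ι F i).op.lan) ((ι F i).op.lanAdjunction (Type u)) u h
  · intro h
    rw [GrothendieckTopology.W_iff_isLocallyBijective] at h ⊢
    obtain ⟨hinj, hsurj⟩ := h
    constructor
    · refine ⟨fun {X} s s' hss => ?_⟩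
      have h1 : ((ι F i).op.lan.map u).app (op ((ι F i).obj X.unop))
            (((ι F i).op.lanUnit.app R).app (op X.unop) s) =
          ((ι F i).op.lan.map u).app (op ((ι F i).obj X.unop))
            (((ι F i).op.lanUnit.app R).app (op X.unop) s') := by
        rw [lan_map_lanUnit_apply, lan_map_lanUnit_apply]
        exact congrArg _ hss
      have h2 := Presheaf.equalizerSieve_mem (FibSite.totalTopology F J)
        ((ι F i).op.lan.map u) _ _ h1
      obtain ⟨R', hR', hle⟩ : ∃ R' ∈ J i X.unop, Sieve.functorPushforward (ι F i) R' ≤ _ :=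
        (mem_totalTopology_iff J hF _ _).1 h2
      refine (J i).superset_covering ?_ hR'
      intro V' r hr
      have h3 := hle _ ⟨V', r, 𝟙 _, hr, (Category.id_comp _).symm⟩
      apply lanUnit_injective F R V'
      rw [lanUnit_naturality_apply, lanUnit_naturality_apply]
      exact h3
    · refine ⟨fun {V} g => ?_⟩
      have h2 := Presheaf.imageSieve_mem (FibSite.totalTopology F J)
        ((ι F i).op.lan.map u) (U := op ((ι F i).obj V))
        (((ι F i).op.lanUnit.app (yoneda.obj U)).app (op V) g)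
      obtain ⟨R', hR', hle⟩ : ∃ R' ∈ J i V, Sieve.functorPushforward (ι F i) R' ≤ _ :=
        (mem_totalTopology_iff J hF _ _).1 h2
      refine (J i).superset_covering ?_ hR'
      intro V' r hr
      obtain ⟨z, hz⟩ := hle _ ⟨V', r, 𝟙 _, hr, (Category.id_comp _).symm⟩
      obtain ⟨s, -, hs⟩ := exists_lanUnit_eq F u V' z (r ≫ g)
        (hz.trans (lanUnit_naturality_apply F (yoneda.obj U) r g).symm)
      exact ⟨s, hs⟩

end Groth.Agent.Helper10.FibW
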