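import Mathlib
import Groth.Prelude.Def_FibSite
import Groth.Agent.Lib.Helper10.FibTot
import Groth.Agent.Lib.Helper10.FibRan
import Groth.Agent.Lib.Helper10.FibLan
import Groth.Agent.Lib.Helper10.FibExt
import Groth.Agent.Lib.Helper10.FibW
import Groth.Agent.Lib.Helper10.FibMap
import Groth.Agent.Lib.Helper10.ExtSq

/-!
# The fibres of a cartesian morphism of total sites are morphisms of sites
-/

set_option autoImplicit false
set_option linter.unusedSectionVars false
set_option backward.isDefEq.respectTransparency false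
set_option backward.isDefEq.respectTransparency.types false

universe u

open CategoryTheory CategoryTheory.Limits Opposite Pseudofunctor Pseudofunctor.CoGrothendieck
  Bicategory
open scoped CategoryTheory.Pseudofunctor.StrongTrans
open CategoryTheory.Pseudofunctor.StrongTrans

namespace Groth.Agent.Helper10.FibConv

open Groth.Agent.Helper10.FibTot Groth.Agent.Helper10.FibRan Groth.Agent.Helper10.FibLan
  Groth.Agent.Helper10.FibExt Groth.Agent.Helper10.FibMap

variable {𝒮 : Type u} [SmallCategory 𝒮]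
variable {F₁ F₂ : Pseudofunctor (LocallyDiscrete 𝒮ᵒᵖ) Cat.{u, u}} (α : F₁ ⟶ F₂)
  (J₁ : FibSite.Topologies F₁) (J₂ : FibSite.Topologies F₂)

/-- A morphism to a presheaf isomorphic to a representable one on a fibre is bicovering as soon
as its left Kan extension to the total category is. -/
lemma W_of_W_lan (h₂ : FibSite.IsPreFibSite F₂ J₂) {S : 𝒮}
    {R T : (F₂.obj ⟨op S⟩)ᵒᵖ ⥤ Type u} {U : F₂.obj ⟨op S⟩}
    (e : T ≅ yoneda.obj U) (v : R ⟶ T)
    (h : (FibSite.totalTopology F₂ J₂).W (((ι F₂ S).op.lan (H := Type u)).map v)) :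
    (J₂ S).W v := by
  have h1 : (FibSite.totalTopology F₂ J₂).W (((ι F₂ S).op.lan (H := Type u)).map (v ≫ e.hom)) := by
    rw [Functor.map_comp]
    exact (MorphismProperty.cancel_right_of_respectsIso _ _ _).2 h
  have h2 := (FibW.W_iff J₂ h₂ (v ≫ e.hom)).2 h1
  exact (MorphismProperty.cancel_right_of_respectsIso _ v e.hom).1 h2

/-- The left Kan extension of a representable presheaf is representable. -/
noncomputable def lanShrinkYonedaIso {C D : Type u} [SmallCategory C] [SmallCategory D]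
    (a : C ⥤ D) (Y : C) :
    (a.op.lan (H := Type u)).obj (shrinkYoneda.{u}.obj Y) ≅ yoneda.obj (a.obj Y) :=
  a.op.lan.mapIso ((uliftYonedaIsoShrinkYoneda.{u, u}.app Y).symm) ≪≫
    ((Presheaf.compULiftYonedaIsoULiftYonedaCompLan.{u} a).app Y).symm ≪≫
    uliftYonedaIsoYoneda.{u}.app (a.obj Y)

/-- The fibre functors of a cartesian functor which is continuous for the total topologies are
continuous. -/
theorem isContinuous_fib (h₁ : FibSite.IsPreFibSite F₁ J₁) (h₂ : FibSite.IsPreFibSite F₂ J₂)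
    [(CoGrothendieck.map α).IsContinuous (FibSite.totalTopology F₁ J₁)
      (FibSite.totalTopology F₂ J₂)] (S : 𝒮) :
    (fib α S).IsContinuous (J₁ S) (J₂ S) := by
  have := isContinuous_ι h₁ S
  have hc : (ι F₁ S ⋙ CoGrothendieck.map α).IsContinuous (J₁ S) (FibSite.totalTopology F₂ J₂) :=
    Functor.isContinuous_comp _ _ _ (FibSite.totalTopology F₁ J₁) _
  have hc' : (fib α S ⋙ ι F₂ S).IsContinuous (J₁ S) (FibSite.totalTopology F₂ J₂) :=
    Functor.isContinuous_of_iso (ιCompMap α S) _ _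
  rw [← Functor.le_inducedTopology_iff]
  have hle := (Functor.le_inducedTopology_iff (F := fib α S ⋙ ι F₂ S)
    (K := FibSite.totalTopology F₂ J₂)).2 hc'
  intro V R hR
  have hR' := hle V hR
  let adj₁ := (fib α S).op.lanAdjunction (Type u)
  let adj₂ := (ι F₂ S).op.lanAdjunction (Type u)
  let adj : (fib α S).op.lan ⋙ (ι F₂ S).op.lan ⊣
      (Functor.whiskeringLeft _ _ (Type u)).obj (fib α S ⋙ ι F₂ S).op := adj₁.comp adj₂
  rw [Functor.mem_inducedTopology_iff V R _ adj₁]
  intro Y f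
  have h3 := (Functor.mem_inducedTopology_iff V R _ adj).1 hR' f
  exact W_of_W_lan J₂ h₂ (lanShrinkYonedaIso (fib α S) Y) _ h3

section Sect

variable (F : Pseudofunctor (LocallyDiscrete 𝒮ᵒᵖ) Cat.{u, u}) (J : FibSite.Topologies F) {S : 𝒮}

/-- The cartesian lift along an identity is vertical. -/
lemma cartesianLift_id (W : F.obj ⟨op S⟩) :
    cartesianLift W (𝟙 S) = (ι F S).map ((F.mapId ⟨op S⟩).hom.toNatTrans.app W) := by
  refine Hom.ext _ _ rfl ?_
  change 𝟙 _ = ((F.mapId ⟨op S⟩).hom.toNatTrans.app W ≫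
    (F.mapId ⟨op S⟩).inv.toNatTrans.app W) ≫ eqToHom _
  simp [← Cat.Hom₂.comp_app]

/-- The canonical map from a presheaf on the fibre to its direct image along the inverse image
functor of an identity. -/
def idCompPre (Q : (F.obj ⟨op S⟩)ᵒᵖ ⥤ Type u) : Q ⟶ (FibSite.invImage F (𝟙 S)).op ⋙ Q where
  app W := Q.map ((F.mapId ⟨op S⟩).hom.toNatTrans.app W.unop).op
  naturality W W' g := by
    have hn : (FibSite.invImage F (𝟙 S)).map g.unop ≫
        (F.mapId ⟨op S⟩).hom.toNatTrans.app W.unop =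
        (F.mapId ⟨op S⟩).hom.toNatTrans.app W'.unop ≫ g.unop :=
      (F.mapId ⟨op S⟩).hom.toNatTrans.naturality g.unop
    change Q.map g ≫ Q.map _ = Q.map _ ≫ Q.map ((FibSite.invImage F (𝟙 S)).map g.unop).op
    rw [← Q.map_comp, ← Q.map_comp]
    congr 1
    exact congrArg Quiver.Hom.op hn.symm

variable [∀ (P : (F.obj ⟨op S⟩)ᵒᵖ ⥤ Type u), (ι F S).op.HasPointwiseRightKanExtension P]

lemma ranProj_id (Q : (F.obj ⟨op S⟩)ᵒᵖ ⥤ Type u) :
    ranProj F (𝟙 S) Q = (ι F S).op.ranCounit.app Q ≫ idCompPre F Q := by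
  ext W : 2
  have h := ((ι F S).op.ranCounit.app Q).naturality
    ((F.mapId ⟨op S⟩).hom.toNatTrans.app W.unop).op
  dsimp [ranProj, idCompPre, cartNat] at h ⊢
  rw [cartesianLift_id]
  exact h

/-- The inverse of `idCompPre`. -/
def idCompPreInv (Q : (F.obj ⟨op S⟩)ᵒᵖ ⥤ Type u) : (FibSite.invImage F (𝟙 S)).op ⋙ Q ⟶ Q where
  app W := Q.map ((F.mapId ⟨op S⟩).inv.toNatTrans.app W.unop).op
  naturality W W' g := by
    have hn : g.unop ≫ (F.mapId ⟨op S⟩).inv.toNatTrans.app W.unop =
        (F.mapId ⟨op S⟩).inv.toNatTrans.app W'.unop ≫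
          (FibSite.invImage F (𝟙 S)).map g.unop :=
      (F.mapId ⟨op S⟩).inv.toNatTrans.naturality g.unop
    change Q.map ((FibSite.invImage F (𝟙 S)).map g.unop).op ≫ Q.map _ = Q.map _ ≫ Q.map g
    rw [← Q.map_comp, ← Q.map_comp]
    congr 1
    exact congrArg Quiver.Hom.op hn.symm

lemma idCompPre_inv (Q : (F.obj ⟨op S⟩)ᵒᵖ ⥤ Type u) :
    idCompPre F Q ≫ idCompPreInv F Q = 𝟙 Q := by
  ext W : 2
  change Q.map _ ≫ Q.map _ = 𝟙 _
  rw [← Q.map_comp, ← op_comp]
  have : (F.mapId ⟨op S⟩).inv.toNatTrans.app W.unop ≫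
      (F.mapId ⟨op S⟩).hom.toNatTrans.app W.unop = 𝟙 _ := by
    simp [← Cat.Hom₂.comp_app]
  rw [this, op_id]
  exact Q.map_id W

section Sh

variable [(ι F S).IsContinuous (J S) (FibSite.totalTopology F J)]
  [(ι F S).IsCocontinuous (J S) (FibSite.totalTopology F J)]
  [∀ f : S ⟶ S, (FibSite.invImage F f).IsContinuous (J S) (J S)]

/-- The canonical map from a sheaf on the fibre to its direct image along the inverse image
functor of an identity. -/
def idComp (Q : Sheaf (J S) (Type u)) :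
    Q ⟶ ((FibSite.invImage F (𝟙 S)).sheafPushforwardContinuous (Type u) (J S) (J S)).obj Q :=
  ⟨idCompPre F Q.obj⟩

/-- The inverse of `idComp`. -/
def idCompInv (Q : Sheaf (J S) (Type u)) :
    ((FibSite.invImage F (𝟙 S)).sheafPushforwardContinuous (Type u) (J S) (J S)).obj Q ⟶ Q :=
  ⟨idCompPreInv F Q.obj⟩

lemma idComp_inv (Q : Sheaf (J S) (Type u)) : idComp F J Q ≫ idCompInv F J Q = 𝟙 Q := by
  apply Sheaf.hom_ext
  exact idCompPre_inv F Q.obj

lemma idComp_naturality {Q₁ Q₂ : Sheaf (J S) (Type u)} (φ : Q₁ ⟶ Q₂) :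
    idComp F J Q₁ ≫
      ((FibSite.invImage F (𝟙 S)).sheafPushforwardContinuous (Type u) (J S) (J S)).map φ =
    φ ≫ idComp F J Q₂ := by
  apply Sheaf.hom_ext
  ext W : 2
  change Q₁.obj.map _ ≫ φ.hom.app _ = φ.hom.app _ ≫ Q₂.obj.map _
  exact φ.hom.naturality _

lemma sheafRanProj_id (Q : Sheaf (J S) (Type u)) :
    sheafRanProj F J (𝟙 S) Q =
      ((ι F S).sheafAdjunctionCocontinuous (Type u) (J S)
        (FibSite.totalTopology F J)).counit.app Q ≫ idComp F J Q := by
  apply Sheaf.hom_ext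
  have h := (ι F S).sheafAdjunctionCocontinuous_counit_app_hom (Type u) (J S)
    (FibSite.totalTopology F J) Q
  rw [Functor.ranAdjunction_counit] at h
  change ranProj F (𝟙 S) Q.obj = _ ≫ idCompPre F Q.obj
  rw [h]
  exact ranProj_id F Q.obj

end Sh

section Sh2

variable [(ι F S).IsContinuous (J S) (FibSite.totalTopology F J)]
  [(ι F S).IsCocontinuous (J S) (FibSite.totalTopology F J)]
  [∀ f : S ⟶ S, (FibSite.invImage F f).IsContinuous (J S) (J S)]
  [∀ f : S ⟶ S,
    ((FibSite.invImage F f).sheafPushforwardContinuous (Type u) (J S) (J S)).IsRightAdjoint]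

open Classical in
/-- The components of the section of the counit at a pointed sheaf. -/
noncomputable def sectComp (Q : Sheaf (J S) (Type u)) (pt : ⊤_ (Sheaf (J S) (Type u)) ⟶ Q)
    (m : S ⟶ S) :
    Q ⟶ ((FibSite.invImage F m).sheafPushforwardContinuous (Type u) (J S) (J S)).obj Q :=
  if h : m = 𝟙 S then (by subst h; exact idComp F J Q) else
    terminal.from Q ≫
      ((FibSite.invImage F m).sheafAdjunctionContinuous (Type u) (J S) (J S)).homEquiv _ _
        (terminal.from _ ≫ pt)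

lemma sectComp_id (Q : Sheaf (J S) (Type u)) (pt : ⊤_ (Sheaf (J S) (Type u)) ⟶ Q) :
    sectComp F J Q pt (𝟙 S) = idComp F J Q := by
  simp [sectComp]

lemma sectComp_naturality {Q₁ Q₂ : Sheaf (J S) (Type u)}
    (pt₁ : ⊤_ (Sheaf (J S) (Type u)) ⟶ Q₁) (pt₂ : ⊤_ (Sheaf (J S) (Type u)) ⟶ Q₂)
    (φ : Q₁ ⟶ Q₂) (hφ : pt₁ ≫ φ = pt₂) (m : S ⟶ S) :
    sectComp F J Q₁ pt₁ m ≫
      ((FibSite.invImage F m).sheafPushforwardContinuous (Type u) (J S) (J S)).map φ =
    φ ≫ sectComp F J Q₂ pt₂ m := by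
  by_cases h : m = 𝟙 S
  · subst h
    rw [sectComp_id, sectComp_id]
    exact idComp_naturality F J φ
  · simp only [sectComp, dif_neg h]
    rw [Category.assoc, ← Adjunction.homEquiv_naturality_right, Category.assoc, hφ,
      ← Category.assoc]
    congr 1
    exact Subsingleton.elim _ _

/-- The section of the counit `restr (coext Q) ⟶ Q` at a pointed sheaf `Q`. -/
noncomputable def sect (Q : Sheaf (J S) (Type u)) (pt : ⊤_ (Sheaf (J S) (Type u)) ⟶ Q) :
    Q ⟶ ((ι F S).sheafPushforwardContinuous (Type u) (J S) (FibSite.totalTopology F J)).obj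
      (((ι F S).sheafPushforwardCocontinuous (Type u) (J S) (FibSite.totalTopology F J)).obj Q) :=
  Fan.IsLimit.lift (isLimitSheafRanFan F J Q) (sectComp F J Q pt)

lemma sect_proj (Q : Sheaf (J S) (Type u)) (pt : ⊤_ (Sheaf (J S) (Type u)) ⟶ Q) (m : S ⟶ S) :
    sect F J Q pt ≫ sheafRanProj F J m Q = sectComp F J Q pt m :=
  Fan.IsLimit.fac _ _ m

lemma sect_counit (Q : Sheaf (J S) (Type u)) (pt : ⊤_ (Sheaf (J S) (Type u)) ⟶ Q) :
    sect F J Q pt ≫ ((ι F S).sheafAdjunctionCocontinuous (Type u) (J S)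
      (FibSite.totalTopology F J)).counit.app Q = 𝟙 Q := by
  have h : (sect F J Q pt ≫ ((ι F S).sheafAdjunctionCocontinuous (Type u) (J S)
      (FibSite.totalTopology F J)).counit.app Q) ≫ idComp F J Q = idComp F J Q := by
    rw [Category.assoc, ← sheafRanProj_id, sect_proj, sectComp_id]
  have h2 := congrArg (fun k => k ≫ idCompInv F J Q) h
  simpa [idComp_inv] using h2

lemma sect_naturality {Q₁ Q₂ : Sheaf (J S) (Type u)}
    (pt₁ : ⊤_ (Sheaf (J S) (Type u)) ⟶ Q₁) (pt₂ : ⊤_ (Sheaf (J S) (Type u)) ⟶ Q₂)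
    (φ : Q₁ ⟶ Q₂) (hφ : pt₁ ≫ φ = pt₂) :
    sect F J Q₁ pt₁ ≫
      ((ι F S).sheafPushforwardContinuous (Type u) (J S) (FibSite.totalTopology F J)).map
        (((ι F S).sheafPushforwardCocontinuous (Type u) (J S)
          (FibSite.totalTopology F J)).map φ) =
    φ ≫ sect F J Q₂ pt₂ := by
  apply Fan.IsLimit.hom_ext (isLimitSheafRanFan F J Q₂)
  intro m
  change (_ ≫ _) ≫ sheafRanProj F J m Q₂ = (_ ≫ _) ≫ sheafRanProj F J m Q₂
  rw [Category.assoc, sheafRanProj_naturality F J m φ, ← Category.assoc, sect_proj,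
    Category.assoc, sect_proj]
  exact sectComp_naturality F J pt₁ pt₂ φ hφ m

end Sh2

end Sect

section Exact

variable {S : 𝒮}
  [(ι F₁ S).IsContinuous (J₁ S) (FibSite.totalTopology F₁ J₁)]
  [(ι F₁ S).IsCocontinuous (J₁ S) (FibSite.totalTopology F₁ J₁)]
  [(ι F₂ S).IsContinuous (J₂ S) (FibSite.totalTopology F₂ J₂)]
  [(ι F₂ S).IsCocontinuous (J₂ S) (FibSite.totalTopology F₂ J₂)]
  [(CoGrothendieck.map α).IsContinuous (FibSite.totalTopology F₁ J₁)
    (FibSite.totalTopology F₂ J₂)]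
  [(fib α S).IsContinuous (J₁ S) (J₂ S)]
  [∀ f : S ⟶ S, (FibSite.invImage F₁ f).IsContinuous (J₁ S) (J₁ S)]
  [∀ f : S ⟶ S,
    ((FibSite.invImage F₁ f).sheafPushforwardContinuous (Type u) (J₁ S) (J₁ S)).IsRightAdjoint]

/-- The composite of `restr ∘ coext` on the source fibre with the inverse image along the fibre
functor. -/
noncomputable abbrev G₀ : Sheaf (J₁ S) (Type u) ⥤ Sheaf (J₂ S) (Type u) :=
  (ι F₁ S).sheafPushforwardCocontinuous (Type u) (J₁ S) (FibSite.totalTopology F₁ J₁) ⋙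
    (ι F₁ S).sheafPushforwardContinuous (Type u) (J₁ S) (FibSite.totalTopology F₁ J₁) ⋙
      (fib α S).sheafPullback (Type u) (J₁ S) (J₂ S)

lemma preservesFiniteLimits_G₀
    [PreservesFiniteLimits ((CoGrothendieck.map α).sheafPullback (Type u)
      (FibSite.totalTopology F₁ J₁) (FibSite.totalTopology F₂ J₂))] :
    PreservesFiniteLimits (G₀ α J₁ J₂ (S := S)) := by
  have : PreservesFiniteLimits
      ((ι F₁ S).sheafPushforwardCocontinuous (Type u) (J₁ S) (FibSite.totalTopology F₁ J₁)) := by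
    have : PreservesLimitsOfSize.{0, 0} ((ι F₁ S).sheafPushforwardCocontinuous (Type u) (J₁ S)
        (FibSite.totalTopology F₁ J₁)) :=
      ((ι F₁ S).sheafAdjunctionCocontinuous (Type u) (J₁ S)
        (FibSite.totalTopology F₁ J₁)).rightAdjoint_preservesLimits
    exact PreservesLimitsOfSize.preservesFiniteLimits _
  have : PreservesFiniteLimits
      ((ι F₂ S).sheafPushforwardContinuous (Type u) (J₂ S) (FibSite.totalTopology F₂ J₂)) := by
    have : PreservesLimitsOfSize.{0, 0} ((ι F₂ S).sheafPushforwardContinuous (Type u) (J₂ S)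
        (FibSite.totalTopology F₂ J₂)) :=
      (Adjunction.ofIsRightAdjoint ((ι F₂ S).sheafPushforwardContinuous (Type u) (J₂ S)
        (FibSite.totalTopology F₂ J₂))).rightAdjoint_preservesLimits
    exact PreservesLimitsOfSize.preservesFiniteLimits _
  have : PreservesFiniteLimits
      ((CoGrothendieck.map α).sheafPullback (Type u) (FibSite.totalTopology F₁ J₁)
          (FibSite.totalTopology F₂ J₂) ⋙
        (ι F₂ S).sheafPushforwardContinuous (Type u) (J₂ S) (FibSite.totalTopology F₂ J₂)) :=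
    comp_preservesFiniteLimits _ _
  have : PreservesFiniteLimits
      ((ι F₁ S).sheafPushforwardCocontinuous (Type u) (J₁ S) (FibSite.totalTopology F₁ J₁) ⋙
        (CoGrothendieck.map α).sheafPullback (Type u) (FibSite.totalTopology F₁ J₁)
          (FibSite.totalTopology F₂ J₂) ⋙
        (ι F₂ S).sheafPushforwardContinuous (Type u) (J₂ S) (FibSite.totalTopology F₂ J₂)) :=
    comp_preservesFiniteLimits _ _
  exact preservesFiniteLimits_of_natIso (Functor.isoWhiskerLeft
    ((ι F₁ S).sheafPushforwardCocontinuous (Type u) (J₁ S) (FibSite.totalTopology F₁ J₁))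
    (pullbackRestrIso α J₁ J₂))

lemma preservesFiniteLimits_coext_restr :
    PreservesFiniteLimits
      ((ι F₁ S).sheafPushforwardCocontinuous (Type u) (J₁ S) (FibSite.totalTopology F₁ J₁) ⋙
        (ι F₁ S).sheafPushforwardContinuous (Type u) (J₁ S) (FibSite.totalTopology F₁ J₁)) := by
  have : PreservesFiniteLimits
      ((ι F₁ S).sheafPushforwardCocontinuous (Type u) (J₁ S) (FibSite.totalTopology F₁ J₁)) := by
    have : PreservesLimitsOfSize.{0, 0} ((ι F₁ S).sheafPushforwardCocontinuous (Type u) (J₁ S)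
        (FibSite.totalTopology F₁ J₁)) :=
      ((ι F₁ S).sheafAdjunctionCocontinuous (Type u) (J₁ S)
        (FibSite.totalTopology F₁ J₁)).rightAdjoint_preservesLimits
    exact PreservesLimitsOfSize.preservesFiniteLimits _
  have : PreservesFiniteLimits
      ((ι F₁ S).sheafPushforwardContinuous (Type u) (J₁ S) (FibSite.totalTopology F₁ J₁)) := by
    have : PreservesLimitsOfSize.{0, 0} ((ι F₁ S).sheafPushforwardContinuous (Type u) (J₁ S)
        (FibSite.totalTopology F₁ J₁)) :=
      (Adjunction.ofIsRightAdjoint ((ι F₁ S).sheafPushforwardContinuous (Type u) (J₁ S)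
        (FibSite.totalTopology F₁ J₁))).rightAdjoint_preservesLimits
    exact PreservesLimitsOfSize.preservesFiniteLimits _
  exact comp_preservesFiniteLimits _ _

lemma preservesTerminal_fib
    [PreservesFiniteLimits ((CoGrothendieck.map α).sheafPullback (Type u)
      (FibSite.totalTopology F₁ J₁) (FibSite.totalTopology F₂ J₂))] :
    PreservesLimitsOfShape (Discrete PEmpty.{1})
      ((fib α S).sheafPullback (Type u) (J₁ S) (J₂ S)) := by
  have := preservesFiniteLimits_G₀ α J₁ J₂ (S := S)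
  have := preservesFiniteLimits_coext_restr J₁ (S := S)
  have hN : IsTerminal
      (((ι F₁ S).sheafPushforwardCocontinuous (Type u) (J₁ S) (FibSite.totalTopology F₁ J₁) ⋙
        (ι F₁ S).sheafPushforwardContinuous (Type u) (J₁ S) (FibSite.totalTopology F₁ J₁)).obj
          (⊤_ (Sheaf (J₁ S) (Type u)))) :=
    terminalIsTerminal.isTerminalObj _ _
  have hG : IsTerminal ((G₀ α J₁ J₂ (S := S)).obj (⊤_ (Sheaf (J₁ S) (Type u)))) :=
    terminalIsTerminal.isTerminalObj _ _
  have hT : IsTerminal (((fib α S).sheafPullback (Type u) (J₁ S) (J₂ S)).obj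
      (⊤_ (Sheaf (J₁ S) (Type u)))) :=
    hG.ofIso (((fib α S).sheafPullback (Type u) (J₁ S) (J₂ S)).mapIso
      (hN.uniqueUpToIso terminalIsTerminal))
  have := preservesTerminal_of_iso ((fib α S).sheafPullback (Type u) (J₁ S) (J₂ S))
    (hT.uniqueUpToIso terminalIsTerminal)
  exact preservesLimitsOfShape_pempty_of_preservesTerminal _



lemma isPullback_map_fib
    [PreservesFiniteLimits ((CoGrothendieck.map α).sheafPullback (Type u)
      (FibSite.totalTopology F₁ J₁) (FibSite.totalTopology F₂ J₂))]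
    {X Y Z : Sheaf (J₁ S) (Type u)} (f : X ⟶ Z) (g : Y ⟶ Z) :
    IsPullback (((fib α S).sheafPullback (Type u) (J₁ S) (J₂ S)).map (pullback.fst f g))
      (((fib α S).sheafPullback (Type u) (J₁ S) (J₂ S)).map (pullback.snd f g))
      (((fib α S).sheafPullback (Type u) (J₁ S) (J₂ S)).map f)
      (((fib α S).sheafPullback (Type u) (J₁ S) (J₂ S)).map g) := by
  have := preservesFiniteLimits_G₀ α J₁ J₂ (S := S)
  let T := ⊤_ (Sheaf (J₁ S) (Type u))
  have hsq : IsPullback (pullback.fst f g) (pullback.snd f g) f g := IsPullback.of_hasPullback f g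
  have hfe : FinitaryExtensive (Sheaf (J₁ S) (Type u)) := inferInstance
  have hfc : HasFiniteCoproducts (Sheaf (J₁ S) (Type u)) := FinitaryExtensive.hasFiniteCoproducts
  have hbc : HasBinaryCoproducts (Sheaf (J₁ S) (Type u)) := hasColimitsOfShape_discrete _ _
  let pl : ∀ {A B : Sheaf (J₁ S) (Type u)} (_ : A ⟶ B), (A ⨿ T ⟶ B ⨿ T) :=
    fun h => coprod.map h (𝟙 T)
  have hinl : ∀ {A B : Sheaf (J₁ S) (Type u)} (h : A ⟶ B),
      (coprod.inl : A ⟶ A ⨿ T) ≫ pl h = h ≫ coprod.inl := fun h => coprod.inl_map _ _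
  have hpt : ∀ {A B : Sheaf (J₁ S) (Type u)} (h : A ⟶ B),
      (coprod.inr : T ⟶ A ⨿ T) ≫ pl h = coprod.inr := fun h =>
    (coprod.inr_map _ _).trans (Category.id_comp _)
  have hw : pl (pullback.fst f g) ≫ pl f = pl (pullback.snd f g) ≫ pl g := by
    change coprod.map _ _ ≫ coprod.map _ _ = coprod.map _ _ ≫ coprod.map _ _
    rw [coprod.map_map, coprod.map_map, hsq.w]
  have h1 : IsPullback (pl (pullback.fst f g)) (pl (pullback.snd f g)) (pl f) (pl g) :=
    ExtSq.isPullback_hat (coprodIsCoprod _ T) (coprodIsCoprod _ T) (coprodIsCoprod _ T)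
      (coprodIsCoprod _ T) (hinl _) (hpt _) (hinl _) (hpt _) (hinl _) (hpt _) (hinl _) (hpt _)
      hw hsq
  let astar := (fib α S).sheafPullback (Type u) (J₁ S) (J₂ S)
  have h2 := h1.map (G₀ α J₁ J₂ (S := S))
  let cou := ((ι F₁ S).sheafAdjunctionCocontinuous (Type u) (J₁ S)
    (FibSite.totalTopology F₁ J₁)).counit
  have hi : ∀ {A B : Sheaf (J₁ S) (Type u)} (h : A ⟶ B),
      astar.map (sect F₁ J₁ (A ⨿ T) coprod.inr) ≫ (G₀ α J₁ J₂ (S := S)).map (pl h) =
        astar.map (pl h) ≫ astar.map (sect F₁ J₁ (B ⨿ T) coprod.inr) := fun h => by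
    change astar.map _ ≫ astar.map _ = _
    rw [← Functor.map_comp, ← Functor.map_comp]
    exact congrArg astar.map (sect_naturality F₁ J₁ _ _ (pl h) (hpt h))
  have hr : ∀ {A B : Sheaf (J₁ S) (Type u)} (h : A ⟶ B),
      astar.map (cou.app (A ⨿ T)) ≫ astar.map (pl h) =
        (G₀ α J₁ J₂ (S := S)).map (pl h) ≫ astar.map (cou.app (B ⨿ T)) := fun h => by
    change _ = astar.map _ ≫ astar.map _
    rw [← Functor.map_comp, ← Functor.map_comp]
    exact congrArg astar.map (cou.naturality (pl h)).symm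
  have hs : ∀ A : Sheaf (J₁ S) (Type u),
      astar.map (sect F₁ J₁ (A ⨿ T) coprod.inr) ≫ astar.map (cou.app (A ⨿ T)) = 𝟙 _ := fun A => by
    rw [← Functor.map_comp, sect_counit, CategoryTheory.Functor.map_id]
  have hw' : astar.map (pl (pullback.fst f g)) ≫ astar.map (pl f) =
      astar.map (pl (pullback.snd f g)) ≫ astar.map (pl g) := by
    rw [← Functor.map_comp, ← Functor.map_comp, hw]
  have h3 : IsPullback (astar.map (pl (pullback.fst f g))) (astar.map (pl (pullback.snd f g)))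
      (astar.map (pl f)) (astar.map (pl g)) :=
    ExtSq.isPullback_of_retract _ _ _ (astar.map (sect F₁ J₁ (Z ⨿ T) coprod.inr)) _ _ _
      (hs _) (hs _) (hs _) (hi _) (hi _) (hi _) (hi _) (hr _) (hr _) hw' h2
  have : PreservesColimitsOfSize.{0, 0} astar :=
    ((fib α S).sheafAdjunctionContinuous (Type u) (J₁ S) (J₂ S)).leftAdjoint_preservesColimits
  have hcol : ∀ A : Sheaf (J₁ S) (Type u), IsColimit (BinaryCofan.mk
      (astar.map (coprod.inl : A ⟶ A ⨿ T)) (astar.map (coprod.inr : T ⟶ A ⨿ T))) :=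
    fun A => mapIsColimitOfPreservesOfIsColimit astar _ _ (coprodIsCoprod A T)
  have hin : ∀ {A B : Sheaf (J₁ S) (Type u)} (h : A ⟶ B),
      astar.map (coprod.inl : A ⟶ A ⨿ T) ≫ astar.map (pl h) =
        astar.map h ≫ astar.map (coprod.inl : B ⟶ B ⨿ T) := fun h => by
    rw [← Functor.map_comp, ← Functor.map_comp, hinl]
  have hir : ∀ {A B : Sheaf (J₁ S) (Type u)} (h : A ⟶ B),
      astar.map (coprod.inr : T ⟶ A ⨿ T) ≫ astar.map (pl h) =
        astar.map (coprod.inr : T ⟶ B ⨿ T) := fun h => by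
    rw [← Functor.map_comp, hpt]
  have hw'' : astar.map (pullback.fst f g) ≫ astar.map f =
      astar.map (pullback.snd f g) ≫ astar.map g := by
    rw [← Functor.map_comp, ← Functor.map_comp, hsq.w]
  exact ExtSq.isPullback_of_hat (hcol _) (hcol _) (hcol _) (hcol _) (hin _) (hin _) (hir _)
    (hin _) (hir _) (hin _) hw'' h3

/-- The inverse image along the fibre functor of a cartesian morphism of total sites is left
exact. -/
theorem preservesFiniteLimits_fib
    [PreservesFiniteLimits ((CoGrothendieck.map α).sheafPullback (Type u)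
      (FibSite.totalTopology F₁ J₁) (FibSite.totalTopology F₂ J₂))] :
    PreservesFiniteLimits ((fib α S).sheafPullback (Type u) (J₁ S) (J₂ S)) := by
  have := preservesTerminal_fib α J₁ J₂ (S := S)
  have : PreservesLimitsOfShape WalkingCospan
      ((fib α S).sheafPullback (Type u) (J₁ S) (J₂ S)) := by
    refine ⟨fun {K} => ?_⟩
    have hsq := IsPullback.of_hasPullback (K.map WalkingCospan.Hom.inl)
      (K.map WalkingCospan.Hom.inr)
    have : PreservesLimit (cospan (K.map WalkingCospan.Hom.inl) (K.map WalkingCospan.Hom.inr))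
        ((fib α S).sheafPullback (Type u) (J₁ S) (J₂ S)) :=
      preservesLimit_of_preserves_limit_cone hsq.isLimit
        ((isLimitMapConePullbackConeEquiv _ hsq.w).symm
          (isPullback_map_fib α J₁ J₂ (K.map WalkingCospan.Hom.inl)
            (K.map WalkingCospan.Hom.inr)).isLimit)
    exact preservesLimit_of_iso_diagram _ (diagramIsoCospan K).symm
  exact preservesFiniteLimits_of_preservesTerminal_and_pullbacks _

end Exact

end Groth.Agent.Helper10.FibConv
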