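import Mathlib
import Groth.Prelude.Def_FibCat2
import Groth.Prelude.Def_W4stkcategoriessitesFib

set_option autoImplicit false

universe v u v₂ u₂ v₃ u₃

namespace Groth.Agent.Helper10.FibFactor

open CategoryTheory CategoryTheory.Functor

section HomLift

variable {𝒮 : Type*} {𝒳 : Type*} [Category 𝒮] [Category 𝒳]

lemma isHomLift_of_comp_right {p : 𝒳 ⥤ 𝒮} {R S : 𝒮} {a b c : 𝒳} (f : R ⟶ S) (φ : a ⟶ b)
    (ψ : b ⟶ c) [p.IsHomLift f (φ ≫ ψ)] [p.IsHomLift (𝟙 S) ψ] : p.IsHomLift f φ := by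
  have ha := IsHomLift.domain_eq p f (φ ≫ ψ)
  have hb := IsHomLift.domain_eq p (𝟙 S) ψ
  have hc := IsHomLift.codomain_eq p (𝟙 S) ψ
  apply IsHomLift.of_fac' p f φ ha hb
  have h1 := IsHomLift.fac' p f (φ ≫ ψ)
  have h2 := IsHomLift.fac' p (𝟙 S) ψ
  rw [p.map_comp, h2] at h1
  have h3 : p.map φ = (p.map φ ≫ eqToHom hb ≫ 𝟙 S ≫ eqToHom hc.symm) ≫ eqToHom hc ≫ eqToHom hb.symm := by
    simp
  rw [h3, h1]
  simp

end HomLift

variable {C : Type u} [Category.{v} C] {𝒳 : BasedCategory.{v₂, u₂} C} {𝒴 : BasedCategory.{v₃, u₃} C}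
  (F : 𝒳 ⥤ᵇ 𝒴)

/-- objects of the factorization category -/
structure Obj where
  x : 𝒳.obj
  y : 𝒴.obj
  α : y ⟶ F.obj x
  hα : 𝒴.p.IsHomLift (𝟙 (𝒳.p.obj x)) α

attribute [instance] Obj.hα

variable {F}

/-- morphisms of the factorization category -/
@[ext]
structure Hom (X Y : Obj F) where
  a : X.x ⟶ Y.x
  b : X.y ⟶ Y.y
  w : b ≫ Y.α = X.α ≫ F.map a

instance : Category (Obj F) where
  Hom X Y := Hom X Y
  id X := ⟨𝟙 _, 𝟙 _, by simp⟩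
  comp f g := ⟨f.a ≫ g.a, f.b ≫ g.b, by
    rw [Category.assoc, g.w, ← Category.assoc, f.w, Category.assoc, F.map_comp]⟩
  id_comp f := by ext <;> simp
  comp_id f := by ext <;> simp
  assoc f g h := by ext <;> simp

@[simp] lemma id_a (X : Obj F) : (𝟙 X : Hom X X).a = 𝟙 _ := rfl
@[simp] lemma id_b (X : Obj F) : (𝟙 X : Hom X X).b = 𝟙 _ := rfl
@[simp] lemma comp_a {X Y Z : Obj F} (f : X ⟶ Y) (g : Y ⟶ Z) : (f ≫ g).a = f.a ≫ g.a := rfl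
@[simp] lemma comp_b {X Y Z : Obj F} (f : X ⟶ Y) (g : Y ⟶ Z) : (f ≫ g).b = f.b ≫ g.b := rfl

lemma hom_ext' {X Y : Obj F} (f g : X ⟶ Y) (ha : f.a = g.a) (hb : f.b = g.b) : f = g :=
  Hom.ext ha hb

variable (F)

/-- projection to `𝒳` -/
@[simps]
def wF : Obj F ⥤ 𝒳.obj where
  obj X := X.x
  map f := f.a

/-- projection to `𝒴` -/
@[simps]
def vF : Obj F ⥤ 𝒴.obj where
  obj X := X.y
  map f := f.b

/-- the embedding of `𝒳` -/
@[simps]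
def uF : 𝒳.obj ⥤ Obj F where
  obj x := ⟨x, F.obj x, 𝟙 _, inferInstance⟩
  map a := ⟨a, F.map a, by simp⟩

/-- the factorization category as a based category -/
def X' : BasedCategory.{max v₂ v₃, max u₂ u₃ v₃} C where
  obj := Obj F
  p := wF F ⋙ 𝒳.p

lemma isHomLift_iff_a {X Y : Obj F} (f : X ⟶ Y) {R S : C} (g : R ⟶ S) :
    (X' F).p.IsHomLift g f ↔ 𝒳.p.IsHomLift g f.a := by
  constructor
  · intro h
    exact IsHomLift.of_fac' 𝒳.p g f.a (IsHomLift.domain_eq (X' F).p g f)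
      (IsHomLift.codomain_eq (X' F).p g f) (IsHomLift.fac' (X' F).p g f)
  · intro h
    have h1 := IsHomLift.domain_eq 𝒳.p g f.a
    have h2 := IsHomLift.codomain_eq 𝒳.p g f.a
    have h3 := IsHomLift.fac' 𝒳.p g f.a
    exact IsHomLift.of_fac' (X' F).p g f h1 h2 h3

lemma isHomLift_of_comp_left {𝒮 : Type*} {𝒵 : Type*} [Category 𝒮] [Category 𝒵]
    {p : 𝒵 ⥤ 𝒮} {R S : 𝒮} {a b c : 𝒵} (f : R ⟶ S) (φ : a ⟶ b)
    (ψ : b ⟶ c) [p.IsHomLift f (φ ≫ ψ)] [p.IsHomLift (𝟙 R) φ] : p.IsHomLift f ψ := by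
  have ha := IsHomLift.domain_eq p (𝟙 R) φ
  have hb := IsHomLift.codomain_eq p (𝟙 R) φ
  have hc := IsHomLift.codomain_eq p f (φ ≫ ψ)
  apply IsHomLift.of_fac' p f ψ hb hc
  have h1 := IsHomLift.fac' p f (φ ≫ ψ)
  have h2 := IsHomLift.fac' p (𝟙 R) φ
  rw [p.map_comp, h2] at h1
  have h3 : p.map ψ = eqToHom hb ≫ eqToHom ha.symm ≫
      ((eqToHom ha ≫ 𝟙 R ≫ eqToHom hb.symm) ≫ p.map ψ) := by
    simp
  rw [h3, h1]
  simp

lemma isHomLift_b_of_a {X Y : Obj F} (f : X ⟶ Y) {R S : C} (g : R ⟶ S)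
    [𝒳.p.IsHomLift g f.a] : 𝒴.p.IsHomLift g f.b := by
  have hR : 𝒳.p.obj X.x = R := IsHomLift.domain_eq 𝒳.p g f.a
  have hS : 𝒳.p.obj Y.x = S := IsHomLift.codomain_eq 𝒳.p g f.a
  subst hR hS
  have h1 : 𝒴.p.IsHomLift g (X.α ≫ F.map f.a) := inferInstance
  rw [← f.w] at h1
  exact isHomLift_of_comp_right g f.b Y.α

lemma isHomLift_a_of_b {X Y : Obj F} (f : X ⟶ Y) {R S : C} (g : R ⟶ S)
    [𝒴.p.IsHomLift g f.b] : 𝒳.p.IsHomLift g f.a := by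
  have hR : 𝒴.p.obj X.y = R := IsHomLift.domain_eq 𝒴.p g f.b
  have hS : 𝒴.p.obj Y.y = S := IsHomLift.codomain_eq 𝒴.p g f.b
  have hX : 𝒴.p.obj X.y = 𝒳.p.obj X.x := IsHomLift.domain_eq 𝒴.p (𝟙 _) X.α
  have hY : 𝒴.p.obj Y.y = 𝒳.p.obj Y.x := IsHomLift.domain_eq 𝒴.p (𝟙 _) Y.α
  have hR' : 𝒳.p.obj X.x = R := hX.symm.trans hR
  have hS' : 𝒳.p.obj Y.x = S := hY.symm.trans hS
  subst hR' hS'
  have h1 : 𝒴.p.IsHomLift g (f.b ≫ Y.α) := inferInstance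
  rw [f.w] at h1
  have h2 : 𝒴.p.IsHomLift g (F.map f.a) := isHomLift_of_comp_left g X.α (F.map f.a)
  exact F.isHomLift_map g f.a

variable (hF : FibCat.PreservesStronglyCartesian F)

include hF in
theorem isStronglyCartesian_mk {X Y : Obj F} (f : X ⟶ Y) {R S : C} (g : R ⟶ S)
    [𝒳.p.IsStronglyCartesian g f.a] [𝒴.p.IsStronglyCartesian g f.b] :
    (X' F).p.IsStronglyCartesian g f := by
  have hlift : (X' F).p.IsHomLift g f := (isHomLift_iff_a F f g).2 inferInstance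
  have hFa : 𝒴.p.IsStronglyCartesian g (F.map f.a) := hF g f.a inferInstance
  have hR : 𝒳.p.obj X.x = R := IsHomLift.domain_eq 𝒳.p g f.a
  refine { toIsHomLift := hlift, universal_property' := ?_ }
  intro Z h φ' hφ'
  have h1 : 𝒳.p.IsHomLift (h ≫ g) φ'.a := (isHomLift_iff_a F φ' (h ≫ g)).1 hφ'
  have h2 : 𝒴.p.IsHomLift (h ≫ g) φ'.b := isHomLift_b_of_a F φ' (h ≫ g)
  let a₁ : Z.x ⟶ X.x := IsStronglyCartesian.map 𝒳.p g f.a (g := h) rfl φ'.a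
  let b₁ : Z.y ⟶ X.y := IsStronglyCartesian.map 𝒴.p g f.b (g := h) rfl φ'.b
  have ha₁ : 𝒳.p.IsHomLift h a₁ := inferInstance
  have hb₁ : 𝒴.p.IsHomLift h b₁ := inferInstance
  have fa : a₁ ≫ f.a = φ'.a := IsStronglyCartesian.fac 𝒳.p g f.a rfl φ'.a
  have fb : b₁ ≫ f.b = φ'.b := IsStronglyCartesian.fac 𝒴.p g f.b rfl φ'.b
  have hXα : 𝒴.p.IsHomLift (𝟙 R) X.α := by subst hR; infer_instance
  have hl1 : 𝒴.p.IsHomLift h (b₁ ≫ X.α) := inferInstance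
  have hZα : 𝒴.p.IsHomLift (𝟙 ((X' F).p.obj Z)) Z.α := Z.hα
  have hl2 : 𝒴.p.IsHomLift h (Z.α ≫ F.map a₁) := inferInstance
  have w : b₁ ≫ X.α = Z.α ≫ F.map a₁ := by
    apply IsStronglyCartesian.ext 𝒴.p g (F.map f.a) h
    rw [Category.assoc, ← f.w, ← Category.assoc, fb, φ'.w, Category.assoc, ← F.map_comp, fa]
  refine ⟨⟨a₁, b₁, w⟩, ⟨(isHomLift_iff_a F _ h).2 ha₁, hom_ext' _ _ fa fb⟩, ?_⟩
  rintro χ ⟨hχ, hχ'⟩
  have hχa : 𝒳.p.IsHomLift h χ.a := (isHomLift_iff_a F χ h).1 hχ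
  have hχb : 𝒴.p.IsHomLift h χ.b := isHomLift_b_of_a F χ h
  apply hom_ext'
  · exact IsStronglyCartesian.map_uniq 𝒳.p g f.a rfl φ'.a χ.a (congrArg Hom.a hχ')
  · exact IsStronglyCartesian.map_uniq 𝒴.p g f.b rfl φ'.b χ.b (congrArg Hom.b hχ')

lemma exists_base {𝒮 : Type*} {𝒵 : Type*} [Category 𝒮] [Category 𝒵] (p : 𝒵 ⥤ 𝒮) {a b : 𝒵}
    (h : a ⟶ b) {T R : 𝒮} (ha : p.obj a = T) (hb : p.obj b = R) : ∃ k : T ⟶ R, p.IsHomLift k h := by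
  subst ha hb
  exact ⟨p.map h, inferInstance⟩

section Fibered

variable [𝒳.p.IsFibered] [𝒴.p.IsFibered]

include hF in
/-- the basic construction of lifts -/
theorem exists_lift_over (Y : Obj F) {y : 𝒴.obj} (g : y ⟶ Y.y) {R : C} (g₀ : R ⟶ 𝒳.p.obj Y.x)
    (hg₀ : 𝒴.p.IsHomLift g₀ g) :
    ∃ (X : Obj F) (f : X ⟶ Y) (hy : X.y = y), 𝒳.p.IsStronglyCartesian g₀ f.a ∧
      f.b = eqToHom hy ≫ g := by
  obtain ⟨x, a, ha⟩ := IsPreFibered.exists_isCartesian' (p := 𝒳.p) g₀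
  have hFa : 𝒴.p.IsStronglyCartesian g₀ (F.map a) := hF g₀ a inferInstance
  have h1 : 𝒴.p.IsHomLift g₀ (g ≫ Y.α) := inferInstance
  let α : y ⟶ F.obj x := IsStronglyCartesian.map 𝒴.p g₀ (F.map a) (g := 𝟙 R)
    (Category.id_comp _).symm (g ≫ Y.α)
  have hα : 𝒴.p.IsHomLift (𝟙 R) α := inferInstance
  have hx : 𝒳.p.obj x = R := IsHomLift.domain_eq 𝒳.p g₀ a
  have hα' : 𝒴.p.IsHomLift (𝟙 (𝒳.p.obj x)) α := by rw [hx]; exact hα
  have fac : α ≫ F.map a = g ≫ Y.α :=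
    IsStronglyCartesian.fac 𝒴.p g₀ (F.map a) (Category.id_comp _).symm (g ≫ Y.α)
  exact ⟨⟨x, y, α, hα'⟩, ⟨a, g, fac.symm⟩, rfl, inferInstance, (Category.id_comp _).symm⟩

include hF in
theorem exists_lift (Y : Obj F) {R : C} (g₀ : R ⟶ 𝒳.p.obj Y.x) :
    ∃ (X : Obj F) (f : X ⟶ Y), 𝒳.p.IsStronglyCartesian g₀ f.a ∧ 𝒴.p.IsStronglyCartesian g₀ f.b := by
  have hy : 𝒴.p.obj Y.y = 𝒳.p.obj Y.x := IsHomLift.domain_eq 𝒴.p (𝟙 _) Y.α
  obtain ⟨y, g, hg⟩ := IsPreFibered.exists_isCartesian 𝒴.p hy g₀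
  have hg' : 𝒴.p.IsHomLift g₀ g := hg.toIsHomLift
  obtain ⟨X, f, hXy, hfa, hfb⟩ := exists_lift_over F hF Y g g₀ hg'
  refine ⟨X, f, hfa, ?_⟩
  rw [hfb]
  have hR : 𝒴.p.obj y = R := IsHomLift.domain_eq 𝒴.p g₀ g
  have h1 : 𝒴.p.IsHomLift (𝟙 R) (eqToIso hXy).hom :=
    IsHomLift.eqToHom_codomain_lift_id hXy hR
  have h2 : 𝒴.p.IsCartesian g₀ ((eqToIso hXy).hom ≫ g) := inferInstance
  exact (inferInstance : 𝒴.p.IsStronglyCartesian g₀ ((eqToIso hXy).hom ≫ g))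

include hF in
theorem isFibered_X' : (X' F).p.IsFibered := by
  apply IsFibered.of_exists_isStronglyCartesian
  intro Y R g₀
  obtain ⟨X, f, ha, hb⟩ := exists_lift F hF Y g₀
  exact ⟨X, f, @isStronglyCartesian_mk _ _ _ _ F hF _ _ f _ _ g₀ ha hb⟩

include hF in
theorem cart_components {X Y : Obj F} (f : X ⟶ Y) {R S : C} (g₀ : R ⟶ S)
    (hf₀ : (X' F).p.IsStronglyCartesian g₀ f) :
    𝒳.p.IsStronglyCartesian g₀ f.a ∧ 𝒴.p.IsStronglyCartesian g₀ f.b := by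
  have hS : 𝒳.p.obj Y.x = S := IsHomLift.codomain_eq (X' F).p g₀ f
  subst hS
  obtain ⟨X₀, f₀, ha₀, hb₀⟩ := exists_lift F hF Y g₀
  have h₀ : (X' F).p.IsStronglyCartesian g₀ f₀ :=
    @isStronglyCartesian_mk _ _ _ _ F hF _ _ f₀ _ _ g₀ ha₀ hb₀
  let ι : X ≅ X₀ := IsCartesian.domainUniqueUpToIso (X' F).p g₀ f₀ f
  have hι : (X' F).p.IsHomLift (𝟙 R) ι.hom := inferInstance
  have hf : ι.hom ≫ f₀ = f := IsCartesian.fac (X' F).p g₀ f₀ f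
  have hιa : 𝒳.p.IsHomLift (𝟙 R) ι.hom.a := (isHomLift_iff_a F ι.hom (𝟙 R)).1 hι
  have hιb : 𝒴.p.IsHomLift (𝟙 R) ι.hom.b := isHomLift_b_of_a F ι.hom (𝟙 R)
  let isoA : X.x ≅ X₀.x := (wF F).mapIso ι
  let isoB : X.y ≅ X₀.y := (vF F).mapIso ι
  have hιa' : 𝒳.p.IsHomLift (𝟙 R) isoA.hom := hιa
  have hιb' : 𝒴.p.IsHomLift (𝟙 R) isoB.hom := hιb
  constructor
  · have h1 : 𝒳.p.IsCartesian g₀ (isoA.hom ≫ f₀.a) := inferInstance
    have h2 : isoA.hom ≫ f₀.a = f.a := congrArg Hom.a hf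
    rw [h2] at h1
    infer_instance
  · have h1 : 𝒴.p.IsCartesian g₀ (isoB.hom ≫ f₀.b) := inferInstance
    have h2 : isoB.hom ≫ f₀.b = f.b := congrArg Hom.b hf
    rw [h2] at h1
    infer_instance

lemma isHomLift_vF {X Y : Obj F} (χ : X ⟶ Y) (h : X.y ⟶ Y.y) :
    (vF F).IsHomLift h χ ↔ χ.b = h := by
  constructor
  · intro hh
    exact (@IsHomLift.eq_of_isHomLift _ _ _ _ (vF F) X Y h χ hh).symm
  · rintro rfl
    exact IsHomLift.map (vF F) χ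

include hF in
theorem vF_cart (Y : Obj F) {y : 𝒴.obj} (g : y ⟶ Y.y) {R : C} (g₀ : R ⟶ 𝒳.p.obj Y.x)
    (hg : 𝒴.p.IsHomLift g₀ g) (X : Obj F) (f : X ⟶ Y) (hy : X.y = y)
    (hfa : 𝒳.p.IsStronglyCartesian g₀ f.a) (hfb : f.b = eqToHom hy ≫ g) :
    (vF F).IsStronglyCartesian g f := by
  subst hy
  rw [eqToHom_refl, Category.id_comp] at hfb
  subst hfb
  have hFa : 𝒴.p.IsStronglyCartesian g₀ (F.map f.a) := hF g₀ f.a hfa
  have hRx : 𝒳.p.obj X.x = R := IsHomLift.domain_eq 𝒳.p g₀ f.a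
  have hXα : 𝒴.p.IsHomLift (𝟙 R) X.α := by rw [← hRx]; exact X.hα
  refine { toIsHomLift := IsHomLift.map (vF F) f, universal_property' := ?_ }
  intro Z h φ' hφ'
  obtain ⟨h, rfl⟩ : ∃ h' : Z.y ⟶ X.y, h' = h := ⟨h, rfl⟩
  have hb : φ'.b = h ≫ f.b := (isHomLift_vF F φ' (h ≫ f.b)).1 hφ'
  have hZy : 𝒴.p.obj Z.y = 𝒳.p.obj Z.x := IsHomLift.domain_eq 𝒴.p (𝟙 _) Z.α
  have hXy : 𝒴.p.obj X.y = R := IsHomLift.domain_eq 𝒴.p g₀ f.b
  obtain ⟨k, hk⟩ := exists_base 𝒴.p h hZy hXy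
  have h1 : 𝒴.p.IsHomLift (k ≫ g₀) φ'.b := by rw [hb]; infer_instance
  have h2 : 𝒳.p.IsHomLift (k ≫ g₀) φ'.a := isHomLift_a_of_b F φ' (k ≫ g₀)
  let a₁ : Z.x ⟶ X.x := IsStronglyCartesian.map 𝒳.p g₀ f.a (g := k) rfl φ'.a
  have ha₁ : 𝒳.p.IsHomLift k a₁ := inferInstance
  have fa : a₁ ≫ f.a = φ'.a := IsStronglyCartesian.fac 𝒳.p g₀ f.a rfl φ'.a
  have hl1 : 𝒴.p.IsHomLift k (h ≫ X.α) := inferInstance
  have hZα : 𝒴.p.IsHomLift (𝟙 (𝒳.p.obj Z.x)) Z.α := Z.hα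
  have hl2 : 𝒴.p.IsHomLift k (Z.α ≫ F.map a₁) := inferInstance
  have w : h ≫ X.α = Z.α ≫ F.map a₁ := by
    apply IsStronglyCartesian.ext 𝒴.p g₀ (F.map f.a) k
    rw [Category.assoc, ← f.w, ← Category.assoc, ← hb, φ'.w, Category.assoc, ← F.map_comp, fa]
  refine ⟨⟨a₁, h, w⟩, ⟨(isHomLift_vF F _ h).2 rfl, hom_ext' _ _ fa hb.symm⟩, ?_⟩
  rintro χ ⟨hχ, hχ'⟩
  have hχb : χ.b = h := (isHomLift_vF F χ h).1 hχ
  have hχb' : 𝒴.p.IsHomLift k χ.b := by rw [hχb]; exact hk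
  have hχa : 𝒳.p.IsHomLift k χ.a := isHomLift_a_of_b F χ k
  apply hom_ext'
  · exact IsStronglyCartesian.map_uniq 𝒳.p g₀ f.a rfl φ'.a χ.a (congrArg Hom.a hχ')
  · exact hχb

include hF in
theorem vF_isFibered : (vF F).IsFibered := by
  apply IsFibered.of_exists_isStronglyCartesian
  intro Y y g
  have hy : 𝒴.p.obj Y.y = 𝒳.p.obj Y.x := IsHomLift.domain_eq 𝒴.p (𝟙 _) Y.α
  obtain ⟨g₀, hg₀⟩ := exists_base 𝒴.p g (rfl : 𝒴.p.obj y = 𝒴.p.obj y) hy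
  obtain ⟨X, f, hXy, hfa, hfb⟩ := exists_lift_over F hF Y g g₀ hg₀
  exact ⟨X, f, vF_cart F hF Y g g₀ hg₀ X f hXy hfa hfb⟩

/-- `u` as a based functor -/
def uB : 𝒳 ⥤ᵇ X' F where
  toFunctor := uF F
  w := rfl

/-- `w` as a based functor -/
def wB : X' F ⥤ᵇ 𝒳 where
  toFunctor := wF F
  w := rfl

/-- `v` as a based functor -/
def vB : X' F ⥤ᵇ 𝒴 where
  toFunctor := vF F
  w := by
    have hobj : ∀ Z : Obj F, 𝒴.p.obj Z.y = 𝒳.p.obj Z.x :=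
      fun Z => IsHomLift.domain_eq 𝒴.p (𝟙 _) Z.α
    have hmap : ∀ (Z Y : Obj F) (f : Z ⟶ Y), 𝒴.p.map f.b =
        eqToHom (hobj Z) ≫ 𝒳.p.map f.a ≫ eqToHom (hobj Y).symm := by
      intro Z Y f
      have h : 𝒴.p.IsHomLift (𝒳.p.map f.a) f.b := isHomLift_b_of_a F f (𝒳.p.map f.a)
      exact IsHomLift.fac' 𝒴.p (𝒳.p.map f.a) f.b
    exact CategoryTheory.Functor.ext hobj hmap

instance : (uB F).toFunctor.Faithful where
  map_injective h := congrArg Hom.a h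

instance : (uB F).toFunctor.Full where
  map_surjective {x x'} f := by
    refine ⟨f.a, ?_⟩
    apply hom_ext'
    · rfl
    · have : f.b ≫ 𝟙 _ = 𝟙 _ ≫ F.map f.a := f.w
      rw [Category.comp_id, Category.id_comp] at this
      exact this.symm

/-- the adjunction `w ⊣ u` -/
def adj : wF F ⊣ uF F :=
  Adjunction.mkOfHomEquiv
    { homEquiv := fun X x₁ =>
        { toFun := fun a => ⟨a, X.α ≫ F.map a, Category.comp_id _⟩
          invFun := fun f => f.a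
          left_inv := fun a => rfl
          right_inv := fun f => by
            apply hom_ext'
            · rfl
            · have : f.b ≫ 𝟙 _ = X.α ≫ F.map f.a := f.w
              rw [Category.comp_id] at this
              exact this.symm }
      homEquiv_naturality_left_symm := fun f g => rfl
      homEquiv_naturality_right := fun f g => by
        apply hom_ext'
        · rfl
        · show _ ≫ F.map (f ≫ g) = (_ ≫ F.map f) ≫ F.map g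
          rw [F.map_comp, Category.assoc] }

include hF in
theorem uB_preserves : FibCat.PreservesStronglyCartesian (uB F) := by
  intro R S f a b φ hφ
  have h2 : 𝒴.p.IsStronglyCartesian f (F.map φ) := hF f φ hφ
  exact @isStronglyCartesian_mk _ _ _ _ F hF _ _ ((uF F).map φ) _ _ f hφ h2

include hF in
theorem wB_preserves : FibCat.PreservesStronglyCartesian (wB F) := by
  intro R S f a b φ hφ
  exact (cart_components F hF φ f hφ).1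

include hF in
theorem vB_preserves : FibCat.PreservesStronglyCartesian (vB F) := by
  intro R S f a b φ hφ
  exact (cart_components F hF φ f hφ).2

end Fibered

end Groth.Agent.Helper10.FibFactor
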