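import Mathlib
import Groth.Prelude.Def_EtBase
import Groth.Prelude.Def_EtCore
import Groth.Prelude.Def_EtShriek2
import Groth.Prelude.Def_EtLim
import Groth.Agent.S7743
import Groth.Agent.S3054
import Groth.Agent.S14451
import Groth.Agent.S0101
import Groth.Agent.Lib.Helper10.EtLoc
import Groth.Agent.Lib.Helper10.FieldTransfer
import Groth.Agent.Lib.Helper24.EtOpen5

/-!
# Cohomology of affine étale schemes over a field is torsion in positive degrees
-/

set_option autoImplicit false

namespace Groth.Agent.Helper10.FieldAffTors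

open CategoryTheory CategoryTheory.Limits AlgebraicGeometry Opposite CategoryTheory.Abelian
open Groth.Agent.Helper10 Groth.Agent.Helper24.EtOpen

universe u

/-- A morphism from an affine scheme with at most one point is affine. -/
theorem isAffineHom_of_subsingleton {Y X : Scheme.{u}} (i : Y ⟶ X) [IsAffine Y] [Subsingleton Y] :
    IsAffineHom i := by
  rw [isAffineHom_iff]
  intro U hU
  by_cases h : (i ⁻¹ᵁ U : Set Y).Nonempty
  · obtain ⟨y, hy⟩ := h
    have : i ⁻¹ᵁ U = ⊤ := by
      ext z
      simp only [TopologicalSpace.Opens.coe_top, Set.mem_univ, iff_true]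
      rw [Subsingleton.elim z y]
      exact hy
    rw [this]
    exact isAffineOpen_top Y
  · have : i ⁻¹ᵁ U = ⊥ := by
      ext z
      simp only [TopologicalSpace.Opens.coe_bot, Set.mem_empty_iff_false, iff_false]
      intro hz
      exact h ⟨z, hz⟩
    rw [this]
    exact isAffineOpen_bot Y

section Field

variable {κ : Type u} [Field κ] {U : Scheme.{u}} (j : U ⟶ Spec (CommRingCat.of κ)) [Etale j]
  [IsAffine U]

include j in
theorem H_torsion (G : EtCoh.Ab U) (q : ℕ) (hq : 0 < q) (b : EtCoh.H U G q) :
    IsOfFinAddOrder b := by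
  haveI : IsFinite j := FieldTransfer.isFinite_of_etale_affine j
  haveI : IsIntegralHom j := inferInstance
  haveI : PreservesFiniteLimits (EtCoh.pull j) := Groth.Agent.S0101.result j
  have hbij := Groth.Agent.S14451.result j G
    (fun p hp => Groth.Agent.S3054.result j G p hp) q
  obtain ⟨c, rfl⟩ := hbij.2 b
  exact AddMonoidHom.isOfFinAddOrder _ (Groth.Agent.S7743.main κ _ q hq c)

instance jcont : EtShriek.JCont j := EtLoc.phi_cont j

theorem ext_PP_torsion (F : EtCoh.Ab (Spec (CommRingCat.of κ))) (q : ℕ) (hq : 0 < q)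
    (a : Ext (PP j) F q) : IsOfFinAddOrder a := by
  haveI : PreservesFiniteLimits (EtCoh.pull j) := Groth.Agent.S0101.result j
  have h1 := H_torsion j ((EtCoh.pull j).obj F) q hq (Phi j F q a)
  have h2 := AddMonoidHom.isOfFinAddOrder (Phi j F q).symm.toAddMonoidHom h1
  simpa using h2

end Field

end Groth.Agent.Helper10.FieldAffTors
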