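import Mathlib

/-!
# Image subobjects in abelian categories: helper lemmas
-/

set_option autoImplicit false
open CategoryTheory CategoryTheory.Limits

namespace Groth.Agent.Helper10.ImgSub

universe v u
variable {A : Type u} [Category.{v} A] [Abelian A]

/-- Precomposing with an epimorphism does not change the image subobject (abelian case). -/
theorem imageSubobject_epi_comp {X' X Y : A} (e : X' ⟶ X) [Epi e] (h : X ⟶ Y) :
    imageSubobject (e ≫ h) = imageSubobject h := by
  refine le_antisymm (imageSubobject_comp_le e h) ?_
  haveI : IsIso (Subobject.ofLE _ _ (imageSubobject_comp_le e h)) :=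
    isIso_of_mono_of_epi _
  exact Subobject.le_of_comm (inv (Subobject.ofLE _ _ (imageSubobject_comp_le e h))) (by simp)

/-- The image of `h ≫ g` for a monomorphism `g` is the direct image of the image of `h`. -/
theorem imageSubobject_comp_mono {X Y Z : A} (h : X ⟶ Y) (g : Y ⟶ Z) [Mono g] :
    imageSubobject (h ≫ g) = (Subobject.map g).obj (imageSubobject h) := by
  conv_lhs => rw [← imageSubobject_arrow_comp h, Category.assoc]
  rw [imageSubobject_epi_comp, imageSubobject_mono]
  conv_rhs => rw [← Subobject.mk_arrow (imageSubobject h)]
  rw [Subobject.map_mk]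

theorem imageSubobject_arrow_eq {X : A} (S : Subobject X) : imageSubobject S.arrow = S := by
  rw [imageSubobject_mono, Subobject.mk_arrow]

theorem imageSubobject_eq_top_of_epi {X Y : A} (f : X ⟶ Y) [Epi f] : imageSubobject f = ⊤ := by
  have := imageSubobject_epi_comp f (𝟙 Y)
  rw [Category.comp_id] at this
  rw [this, imageSubobject_mono, Subobject.mk_eq_top_of_isIso]

end Groth.Agent.Helper10.ImgSub
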