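import Mathlib
import Groth.Prelude.Def_SpSeq
import Groth.Agent.Lib.Helper10.ImgSub

/-!
# Filtered objects of an abelian category: strict morphisms, helper lemmas
-/

set_option autoImplicit false
open CategoryTheory CategoryTheory.Limits SpSeq

namespace Groth.Agent.Helper10.FilStrict

open Groth.Agent.Helper10.ImgSub

universe v u
variable {A : Type u} [Category.{v} A] [Abelian A]

theorem image_le_iff_factors {X Y : A} (f : X ⟶ Y) (S : Subobject Y) :
    imageSubobject f ≤ S ↔ S.Factors f := by
  constructor
  · intro h
    refine Subobject.factors_of_le f h ?_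
    exact (Subobject.factors_iff _ _).mpr ⟨factorThruImageSubobject f, imageSubobject_arrow_comp f⟩
  · intro h
    exact imageSubobject_le f (S.factorThru f h) (Subobject.factorThru_arrow _ _ _)

/-- The image of the restriction of `h` to `h⁻¹ S` is `im h ⊓ S`. -/
theorem image_pullback_arrow_comp {X Y : A} (h : X ⟶ Y) (S : Subobject Y) :
    imageSubobject (((Subobject.pullback h).obj S).arrow ≫ h) = imageSubobject h ⊓ S := by
  have hem : factorThruImageSubobject h ≫ (imageSubobject h).arrow = h :=
    imageSubobject_arrow_comp h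
  have h1 : (Subobject.pullback h).obj S =
      (Subobject.pullback (factorThruImageSubobject h)).obj
        ((Subobject.pullback (imageSubobject h).arrow).obj S) := by
    rw [← Subobject.pullback_comp, hem]
  have h2 : imageSubobject h ⊓ S = (Subobject.map (imageSubobject h).arrow).obj
      ((Subobject.pullback (imageSubobject h).arrow).obj S) :=
    Subobject.inf_eq_map_pullback _ _
  rw [h2, h1]
  generalize (Subobject.pullback (imageSubobject h).arrow).obj S = S'
  have hpb := Subobject.isPullback (factorThruImageSubobject h) S'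
  have : Epi (Subobject.pullbackπ (factorThruImageSubobject h) S') :=
    Abelian.epi_fst_of_isLimit _ _ hpb.isLimit
  have e1 : ((Subobject.pullback (factorThruImageSubobject h)).obj S').arrow ≫ h =
      Subobject.pullbackπ (factorThruImageSubobject h) S' ≫ (S'.arrow ≫ (imageSubobject h).arrow) := by
    have e0 : ((Subobject.pullback (factorThruImageSubobject h)).obj S').arrow ≫ h =
        ((Subobject.pullback (factorThruImageSubobject h)).obj S').arrow ≫
          (factorThruImageSubobject h ≫ (imageSubobject h).arrow) := by rw [hem]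
    rw [e0, ← Category.assoc, ← hpb.w, Category.assoc]
  rw [e1, imageSubobject_epi_comp, imageSubobject_mono]
  conv_rhs => rw [← Subobject.mk_arrow S']
  rw [Subobject.map_mk]

/-- A morphism of filtered objects maps `F^p` into `F^p`. -/
theorem image_fil_le {K L : FilObj A} (φ : K ⟶ L) (p : ℤ) :
    imageSubobject ((K.fil p).arrow ≫ φ.hom) ≤ L.fil p := by
  rw [image_le_iff_factors, ← pullback_factors_iff]
  exact Subobject.factors_of_le _ (φ.compat p) (Subobject.factors_self _)

theorem fil_factors {K L : FilObj A} (φ : K ⟶ L) (p : ℤ) :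
    (L.fil p).Factors ((K.fil p).arrow ≫ φ.hom) := by
  rw [← pullback_factors_iff]
  exact Subobject.factors_of_le _ (φ.compat p) (Subobject.factors_self _)

/-- Isomorphisms of filtered objects are strict. -/
theorem isStrict_of_iso {K L : FilObj A} (e : K ≅ L) : FilObj.IsStrict e.hom := by
  intro p
  apply le_antisymm
  · exact le_inf (imageSubobject_comp_le _ _) (image_fil_le e.hom p)
  · refine inf_le_right.trans ?_
    have hfac := fil_factors e.inv p
    have hw : (K.fil p).factorThru _ hfac ≫ (K.fil p).arrow = (L.fil p).arrow ≫ e.inv.hom :=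
      Subobject.factorThru_arrow _ _ _
    have hid : e.inv.hom ≫ e.hom.hom = 𝟙 _ := congrArg FilObj.Hom.hom e.inv_hom_id
    have h3 : (K.fil p).factorThru _ hfac ≫ ((K.fil p).arrow ≫ e.hom.hom) = (L.fil p).arrow := by
      rw [← Category.assoc, hw, Category.assoc, hid, Category.comp_id]
    calc L.fil p = imageSubobject (L.fil p).arrow := (imageSubobject_arrow_eq _).symm
      _ = imageSubobject ((K.fil p).factorThru _ hfac ≫ ((K.fil p).arrow ≫ e.hom.hom)) := by
        rw [h3]
      _ ≤ _ := imageSubobject_comp_le _ _

theorem le_pullback_lift {T L M K : A} (a : L ⟶ K) (b : M ⟶ K) (x : T ⟶ L) (y : T ⟶ M)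
    (w : x ≫ a = y ≫ b) (S : Subobject T) (X : Subobject L) (Y : Subobject M)
    (hx : S ≤ (Subobject.pullback x).obj X) (hy : S ≤ (Subobject.pullback y).obj Y) :
    S ≤ (Subobject.pullback (pullback.lift x y w)).obj
      ((Subobject.pullback (pullback.fst a b)).obj X ⊓
        (Subobject.pullback (pullback.snd a b)).obj Y) := by
  rw [Subobject.inf_pullback, ← Subobject.pullback_comp, ← Subobject.pullback_comp,
    pullback.lift_fst, pullback.lift_snd]
  exact le_inf hx hy

section Pullback

variable {K L M : FilObj A} (f : L ⟶ K) (g : M ⟶ K)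

/-- The fibre product of filtered objects. -/
noncomputable def pbObj : FilObj A where
  obj := pullback f.hom g.hom
  fil p := (Subobject.pullback (pullback.fst f.hom g.hom)).obj (L.fil p) ⊓
    (Subobject.pullback (pullback.snd f.hom g.hom)).obj (M.fil p)
  anti := fun _ _ h => inf_le_inf ((Subobject.pullback _).monotone (L.anti h))
    ((Subobject.pullback _).monotone (M.anti h))

noncomputable def pbFst : pbObj f g ⟶ L := ⟨pullback.fst f.hom g.hom, fun _ => inf_le_left⟩

noncomputable def pbSnd : pbObj f g ⟶ M := ⟨pullback.snd f.hom g.hom, fun _ => inf_le_right⟩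

theorem pb_condition : pbFst f g ≫ f = pbSnd f g ≫ g :=
  FilObj.Hom.ext pullback.condition

noncomputable def pbLift (s : PullbackCone f g) : s.pt ⟶ pbObj f g :=
  ⟨pullback.lift s.fst.hom s.snd.hom (congrArg FilObj.Hom.hom s.condition), fun p => by
    exact le_pullback_lift f.hom g.hom s.fst.hom s.snd.hom _ (s.pt.fil p) (L.fil p) (M.fil p)
      (s.fst.compat p) (s.snd.compat p)⟩

noncomputable def pbIsLimit : IsLimit (PullbackCone.mk (pbFst f g) (pbSnd f g) (pb_condition f g)) :=
  PullbackCone.IsLimit.mk (pb_condition f g) (pbLift f g)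
    (fun s => FilObj.Hom.ext (pullback.lift_fst _ _ _))
    (fun s => FilObj.Hom.ext (pullback.lift_snd _ _ _))
    (fun s m h₁ h₂ => FilObj.Hom.ext (by
      apply pullback.hom_ext
      · rw [show (pbLift f g s).hom = pullback.lift s.fst.hom s.snd.hom _ from rfl,
          pullback.lift_fst]
        exact congrArg FilObj.Hom.hom h₁
      · rw [show (pbLift f g s).hom = pullback.lift s.fst.hom s.snd.hom _ from rfl,
          pullback.lift_snd]
        exact congrArg FilObj.Hom.hom h₂))

theorem hasPullback : HasPullback f g := HasLimit.mk ⟨_, pbIsLimit f g⟩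

/-- The base change of a strict morphism is strict (for the constructed fibre product). -/
theorem isStrict_pbSnd (hf : FilObj.IsStrict f) : FilObj.IsStrict (pbSnd f g) := by
  intro p
  apply le_antisymm
  · exact le_inf (imageSubobject_comp_le _ _) (image_fil_le (pbSnd f g) p)
  · change _ ≤ imageSubobject (((pbObj f g).fil p).arrow ≫ pullback.snd f.hom g.hom)
    change imageSubobject (pullback.snd f.hom g.hom) ⊓ M.fil p ≤ _
    rw [← image_pullback_arrow_comp]
    set T := (Subobject.pullback (pullback.snd f.hom g.hom)).obj (M.fil p) with hT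
    -- φ : T ⟶ K
    have hTfac : (M.fil p).Factors (T.arrow ≫ pullback.snd f.hom g.hom) := by
      rw [← pullback_factors_iff]; exact Subobject.factors_self _
    have h1 : imageSubobject (T.arrow ≫ pullback.fst f.hom g.hom ≫ f.hom) ≤
        imageSubobject ((L.fil p).arrow ≫ f.hom) := by
      rw [hf p]
      refine le_inf ?_ ?_
      · rw [← Category.assoc]; exact imageSubobject_comp_le _ _
      · rw [pullback.condition, image_le_iff_factors]
        have := fil_factors g p
        have e : T.arrow ≫ pullback.snd f.hom g.hom ≫ g.hom =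
            (M.fil p).factorThru _ hTfac ≫ ((M.fil p).arrow ≫ g.hom) := by
          rw [← Category.assoc, ← Category.assoc, Subobject.factorThru_arrow]
        rw [e]
        exact Subobject.factors_of_factors_right _ this
    set ψ := (L.fil p).arrow ≫ f.hom with hψ
    have hφfac : (imageSubobject ψ).Factors (T.arrow ≫ pullback.fst f.hom g.hom ≫ f.hom) :=
      (image_le_iff_factors _ _).1 h1
    set φ₀ := (imageSubobject ψ).factorThru _ hφfac with hφ₀
    have hφ₀' : φ₀ ≫ (imageSubobject ψ).arrow = T.arrow ≫ pullback.fst f.hom g.hom ≫ f.hom :=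
      Subobject.factorThru_arrow _ _ _
    -- R
    let r₁ : pullback φ₀ (factorThruImageSubobject ψ) ⟶ (T : A) := pullback.fst _ _
    let r₂ : pullback φ₀ (factorThruImageSubobject ψ) ⟶ (L.fil p : A) := pullback.snd _ _
    have hr : r₁ ≫ φ₀ = r₂ ≫ factorThruImageSubobject ψ := pullback.condition
    have hr' : r₁ ≫ T.arrow ≫ pullback.fst f.hom g.hom ≫ f.hom = r₂ ≫ (L.fil p).arrow ≫ f.hom := by
      rw [← hφ₀', ← Category.assoc, hr, Category.assoc, imageSubobject_arrow_comp]
    have : Epi r₁ := inferInstance
    have hcond : (r₂ ≫ (L.fil p).arrow) ≫ f.hom = (r₁ ≫ T.arrow ≫ pullback.snd f.hom g.hom) ≫ g.hom := by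
      rw [Category.assoc, ← hr', Category.assoc, Category.assoc, pullback.condition]
    set u := pullback.lift (r₂ ≫ (L.fil p).arrow) (r₁ ≫ T.arrow ≫ pullback.snd f.hom g.hom) hcond
      with hu
    have hu1 : u ≫ pullback.fst f.hom g.hom = r₂ ≫ (L.fil p).arrow := pullback.lift_fst _ _ _
    have hu2 : u ≫ pullback.snd f.hom g.hom = r₁ ≫ T.arrow ≫ pullback.snd f.hom g.hom :=
      pullback.lift_snd _ _ _
    have hufac : ((pbObj f g).fil p).Factors u := by
      change ((Subobject.pullback _).obj _ ⊓ (Subobject.pullback _).obj _).Factors u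
      rw [Subobject.inf_factors, pullback_factors_iff, pullback_factors_iff, hu1, hu2]
      refine ⟨Subobject.factors_comp_arrow _, ?_⟩
      exact Subobject.factors_of_factors_right _ hTfac
    have e3 : ((pbObj f g).fil p).factorThru u hufac ≫
        (((pbObj f g).fil p).arrow ≫ pullback.snd f.hom g.hom) =
        r₁ ≫ (T.arrow ≫ pullback.snd f.hom g.hom) := by
      rw [← Category.assoc, Subobject.factorThru_arrow]
      exact hu2
    calc imageSubobject (T.arrow ≫ pullback.snd f.hom g.hom)
        = imageSubobject (r₁ ≫ (T.arrow ≫ pullback.snd f.hom g.hom)) :=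
          (imageSubobject_epi_comp _ _).symm
      _ = imageSubobject (((pbObj f g).fil p).factorThru u hufac ≫
            (((pbObj f g).fil p).arrow ≫ pullback.snd f.hom g.hom)) := by
          rw [e3]
      _ ≤ _ := imageSubobject_comp_le _ _

end Pullback

end Groth.Agent.Helper10.FilStrict
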