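import Mathlib
import Groth.Prelude.Def_SpSeq
import Groth.Agent.Lib.Helper10.FilStrict

/-!
# Pushouts of filtered objects of an abelian category
-/

set_option autoImplicit false
open CategoryTheory CategoryTheory.Limits SpSeq

namespace Groth.Agent.Helper10.FilStrict

open Groth.Agent.Helper10.ImgSub

universe v u
variable {A : Type u} [Category.{v} A] [Abelian A]

theorem exists_refinement_of_image_factors {X Y T : A} (h : X ⟶ Y) (x : T ⟶ Y)
    (hx : (imageSubobject h).Factors x) :
    ∃ (T' : A) (π : T' ⟶ T) (_ : Epi π) (y : T' ⟶ X), π ≫ x = y ≫ h := by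
  obtain ⟨T', π, hπ, y, hy⟩ := surjective_up_to_refinements_of_epi (factorThruImageSubobject h)
    ((imageSubobject h).factorThru x hx)
  refine ⟨T', π, hπ, y, ?_⟩
  have := congrArg (· ≫ (imageSubobject h).arrow) hy
  simpa using this

theorem le_pullback_of_factors {X Y : A} (h : X ⟶ Y) (S : Subobject X) (T : Subobject Y)
    (hfac : T.Factors (S.arrow ≫ h)) : S ≤ (Subobject.pullback h).obj T := by
  have := (pullback_factors_iff h T S.arrow).2 hfac
  exact Subobject.le_of_comm (Subobject.factorThru _ _ this) (Subobject.factorThru_arrow _ _ _)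

section Pushout

variable {K L M : FilObj A} (f : K ⟶ L) (g : K ⟶ M)

noncomputable def poMap (p : ℤ) : (L.fil p : A) ⊞ (M.fil p : A) ⟶ pushout f.hom g.hom :=
  biprod.desc ((L.fil p).arrow ≫ pushout.inl f.hom g.hom)
    ((M.fil p).arrow ≫ pushout.inr f.hom g.hom)

theorem poInl_factors (p : ℤ) : (imageSubobject (poMap f g p)).Factors
    ((L.fil p).arrow ≫ pushout.inl f.hom g.hom) := by
  have : (L.fil p).arrow ≫ pushout.inl f.hom g.hom = biprod.inl ≫ poMap f g p := by
    simp [poMap]
  rw [this]
  exact imageSubobject_factors_comp_self _ _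

theorem poInr_factors (p : ℤ) : (imageSubobject (poMap f g p)).Factors
    ((M.fil p).arrow ≫ pushout.inr f.hom g.hom) := by
  have : (M.fil p).arrow ≫ pushout.inr f.hom g.hom = biprod.inr ≫ poMap f g p := by
    simp [poMap]
  rw [this]
  exact imageSubobject_factors_comp_self _ _

theorem poMap_anti {p q : ℤ} (h : p ≤ q) :
    imageSubobject (poMap f g q) ≤ imageSubobject (poMap f g p) := by
  have : poMap f g q = biprod.map ((L.fil q).ofLE (L.fil p) (L.anti h))
      ((M.fil q).ofLE (M.fil p) (M.anti h)) ≫ poMap f g p := by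
    ext <;> simp [poMap]
  rw [this]; exact imageSubobject_comp_le _ _

/-- The pushout of filtered objects. -/
noncomputable def poObj : FilObj A where
  obj := pushout f.hom g.hom
  fil p := imageSubobject (poMap f g p)
  anti := fun _ _ h => poMap_anti f g h

noncomputable def poInl : L ⟶ poObj f g :=
  ⟨pushout.inl f.hom g.hom, fun p => le_pullback_of_factors _ _ _ (poInl_factors f g p)⟩

noncomputable def poInr : M ⟶ poObj f g :=
  ⟨pushout.inr f.hom g.hom, fun p => le_pullback_of_factors _ _ _ (poInr_factors f g p)⟩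

theorem po_condition : f ≫ poInl f g = g ≫ poInr f g :=
  FilObj.Hom.ext pushout.condition

theorem poDesc_compat {T : FilObj A} (a : L ⟶ T) (b : M ⟶ T) (w : f.hom ≫ a.hom = g.hom ≫ b.hom)
    (p : ℤ) : imageSubobject (poMap f g p) ≤
      (Subobject.pullback (pushout.desc a.hom b.hom w)).obj (T.fil p) := by
  rw [image_le_iff_factors, pullback_factors_iff]
  have e : poMap f g p ≫ pushout.desc a.hom b.hom w =
      biprod.desc ((L.fil p).arrow ≫ a.hom) ((M.fil p).arrow ≫ b.hom) := by
    ext
    · simp only [poMap, biprod.inl_desc_assoc, biprod.inl_desc, Category.assoc]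
      rw [pushout.inl_desc]
    · simp only [poMap, biprod.inr_desc_assoc, biprod.inr_desc, Category.assoc]
      rw [pushout.inr_desc]
  rw [e]
  have ha := fil_factors a p
  have hb := fil_factors b p
  refine (Subobject.factors_iff _ _).mpr
    ⟨biprod.desc ((T.fil p).factorThru _ ha) ((T.fil p).factorThru _ hb), ?_⟩
  ext
  · simp only [biprod.inl_desc_assoc, biprod.inl_desc]
    exact Subobject.factorThru_arrow _ _ ha
  · simp only [biprod.inr_desc_assoc, biprod.inr_desc]
    exact Subobject.factorThru_arrow _ _ hb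

noncomputable def poDesc (s : PushoutCocone f g) : poObj f g ⟶ s.pt :=
  ⟨pushout.desc s.inl.hom s.inr.hom (congrArg FilObj.Hom.hom s.condition), fun p =>
    poDesc_compat f g s.inl s.inr _ p⟩

noncomputable def poIsColimit :
    IsColimit (PushoutCocone.mk (poInl f g) (poInr f g) (po_condition f g)) :=
  PushoutCocone.IsColimit.mk (po_condition f g) (poDesc f g)
    (fun s => FilObj.Hom.ext (pushout.inl_desc _ _ _))
    (fun s => FilObj.Hom.ext (pushout.inr_desc _ _ _))
    (fun s m h₁ h₂ => FilObj.Hom.ext (by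
      apply pushout.hom_ext
      · rw [show (poDesc f g s).hom = pushout.desc s.inl.hom s.inr.hom _ from rfl,
          pushout.inl_desc]
        exact congrArg FilObj.Hom.hom h₁
      · rw [show (poDesc f g s).hom = pushout.desc s.inl.hom s.inr.hom _ from rfl,
          pushout.inr_desc]
        exact congrArg FilObj.Hom.hom h₂))

theorem hasPushout : HasPushout f g := HasColimit.mk ⟨_, poIsColimit f g⟩

/-- The cobase change of a strict morphism is strict (for the constructed pushout). -/
theorem isStrict_poInr (hf : FilObj.IsStrict f) : FilObj.IsStrict (poInr f g) := by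
  intro p
  apply le_antisymm
  · exact le_inf (imageSubobject_comp_le _ _) (image_fil_le (poInr f g) p)
  · change imageSubobject (pushout.inr f.hom g.hom) ⊓ imageSubobject (poMap f g p) ≤
      imageSubobject ((M.fil p).arrow ≫ pushout.inr f.hom g.hom)
    set J := imageSubobject (pushout.inr f.hom g.hom) ⊓ imageSubobject (poMap f g p) with hJ
    -- step 1
    obtain ⟨A₁, π₁, hπ₁, m, hm⟩ := exists_refinement_of_image_factors (pushout.inr f.hom g.hom)
      J.arrow (Subobject.inf_arrow_factors_left _ _)
    -- step 2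
    obtain ⟨A₂, π₂, hπ₂, q, hq⟩ := exists_refinement_of_image_factors (poMap f g p)
      (π₁ ≫ J.arrow) (Subobject.factors_of_factors_right _ (Subobject.inf_arrow_factors_right _ _))
    -- step 3 : exactness of the pushout sequence
    have hpo : IsPushout f.hom g.hom (pushout.inl f.hom g.hom) (pushout.inr f.hom g.hom) :=
      IsPushout.of_hasPushout _ _
    have hex : hpo.shortComplex.Exact :=
      ShortComplex.exact_of_g_is_cokernel _ hpo.isColimitCokernelCofork
    have e1 : q ≫ poMap f g p = q ≫ biprod.fst ≫ (L.fil p).arrow ≫ pushout.inl f.hom g.hom +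
        q ≫ biprod.snd ≫ (M.fil p).arrow ≫ pushout.inr f.hom g.hom := by
      have : q = q ≫ biprod.fst ≫ biprod.inl + q ≫ biprod.snd ≫ biprod.inr := by
        rw [← Preadditive.comp_add, biprod.total, Category.comp_id]
      conv_lhs => rw [this]
      simp [poMap]
    have hz : biprod.lift (q ≫ biprod.fst ≫ (L.fil p).arrow)
        (q ≫ biprod.snd ≫ (M.fil p).arrow - π₂ ≫ m) ≫ hpo.shortComplex.g = 0 := by
      change biprod.lift (q ≫ biprod.fst ≫ (L.fil p).arrow)
        (q ≫ biprod.snd ≫ (M.fil p).arrow - π₂ ≫ m) ≫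
          biprod.desc (pushout.inl f.hom g.hom) (pushout.inr f.hom g.hom) = 0
      rw [biprod.lift_desc, Preadditive.sub_comp, Category.assoc, Category.assoc, Category.assoc,
        Category.assoc, Category.assoc, ← hm, hq, e1]
      abel
    obtain ⟨A₃, π₃, hπ₃, k, hk⟩ := hex.exact_up_to_refinements _ hz
    have hk0 : π₃ ≫ biprod.lift (q ≫ biprod.fst ≫ (L.fil p).arrow)
        (q ≫ biprod.snd ≫ (M.fil p).arrow - π₂ ≫ m) = k ≫ biprod.lift f.hom (-g.hom) := hk
    have hk1 : π₃ ≫ q ≫ biprod.fst ≫ (L.fil p).arrow = k ≫ f.hom := by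
      have := congrArg (· ≫ biprod.fst) hk0
      simp only [Category.assoc, biprod.lift_fst] at this
      exact this
    -- step 4 : strictness of f
    have hfac4 : (imageSubobject ((K.fil p).arrow ≫ f.hom)).Factors (k ≫ f.hom) := by
      rw [hf p, Subobject.inf_factors]
      refine ⟨imageSubobject_factors_comp_self _ _, ?_⟩
      rw [← hk1, ← Category.assoc, ← Category.assoc]
      exact Subobject.factors_comp_arrow _
    obtain ⟨A₄, π₄, hπ₄, k', hk'⟩ := exists_refinement_of_image_factors _ _ hfac4
    -- step 5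
    have hgfac := fil_factors g p
    have hw' : (M.fil p).factorThru _ hgfac ≫ (M.fil p).arrow = (K.fil p).arrow ≫ g.hom :=
      Subobject.factorThru_arrow _ _ _
    have e2 : π₄ ≫ π₃ ≫ q ≫ biprod.fst ≫ (L.fil p).arrow ≫ pushout.inl f.hom g.hom =
        k' ≫ (M.fil p).factorThru _ hgfac ≫ (M.fil p).arrow ≫ pushout.inr f.hom g.hom := by
      calc π₄ ≫ π₃ ≫ q ≫ biprod.fst ≫ (L.fil p).arrow ≫ pushout.inl f.hom g.hom
          = π₄ ≫ (π₃ ≫ q ≫ biprod.fst ≫ (L.fil p).arrow) ≫ pushout.inl f.hom g.hom := by
            simp only [Category.assoc]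
        _ = (π₄ ≫ k ≫ f.hom) ≫ pushout.inl f.hom g.hom := by
            rw [hk1]; simp only [Category.assoc]
        _ = (k' ≫ (K.fil p).arrow ≫ f.hom) ≫ pushout.inl f.hom g.hom := by rw [hk']
        _ = k' ≫ (K.fil p).arrow ≫ g.hom ≫ pushout.inr f.hom g.hom := by
            simp only [Category.assoc, pushout.condition]
        _ = k' ≫ ((K.fil p).arrow ≫ g.hom) ≫ pushout.inr f.hom g.hom := by
            simp only [Category.assoc]
        _ = k' ≫ ((M.fil p).factorThru _ hgfac ≫ (M.fil p).arrow) ≫
              pushout.inr f.hom g.hom := by rw [hw']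
        _ = _ := by simp only [Category.assoc]
    have hfinal : (π₄ ≫ π₃ ≫ π₂ ≫ π₁) ≫ J.arrow =
        (k' ≫ (M.fil p).factorThru _ hgfac + π₄ ≫ π₃ ≫ q ≫ biprod.snd) ≫
          ((M.fil p).arrow ≫ pushout.inr f.hom g.hom) := by
      simp only [Category.assoc, Preadditive.add_comp]
      rw [hq, e1, Preadditive.comp_add, Preadditive.comp_add, e2]
    have hepi : Epi (π₄ ≫ π₃ ≫ π₂ ≫ π₁) := by
      have := epi_comp π₂ π₁
      have := epi_comp π₃ (π₂ ≫ π₁)
      exact epi_comp π₄ _
    calc J = imageSubobject J.arrow := (imageSubobject_arrow_eq J).symm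
      _ = imageSubobject ((π₄ ≫ π₃ ≫ π₂ ≫ π₁) ≫ J.arrow) := (imageSubobject_epi_comp _ _).symm
      _ = imageSubobject ((k' ≫ (M.fil p).factorThru _ hgfac + π₄ ≫ π₃ ≫ q ≫ biprod.snd) ≫
            ((M.fil p).arrow ≫ pushout.inr f.hom g.hom)) := by rw [hfinal]
      _ ≤ _ := imageSubobject_comp_le _ _

end Pushout

end Groth.Agent.Helper10.FilStrict
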