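import Mathlib
import Groth.Agent.Lib.Helper1.LocalCriterion

/-!
# Flatness and square-zero ideals along injective ring maps (Stacks 00ML-type lemmas)
-/

namespace Groth.Agent.Helper10.FlatSq

open TensorProduct Function

universe u

/-- Let `R → R'` be injective, `I² = 0`, `M/IM` flat over `R/I` and `R' ⊗ M` flat over `R'`.
Then `M` is flat over `R`. -/
theorem flat_of_sq_zero (R R' : Type u) [CommRing R] [CommRing R'] [Algebra R R']
    (hinj : Injective (algebraMap R R')) (I : Ideal R) (hI : I ^ 2 = ⊥)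
    (M : Type u) [AddCommGroup M] [Module R M] [Module.Flat (R ⧸ I) ((R ⧸ I) ⊗[R] M)]
    [Module.Flat R' (R' ⊗[R] M)] : Module.Flat R M := by
  classical
  refine Groth.Agent.Helper1.flat_of_isNilpotent I ⟨2, hI⟩ ?_
  set I' : Ideal R' := I.map (algebraMap R R') with hI'
  have hI'2 : I' ^ 2 = ⊥ := by
    rw [hI', ← Ideal.map_pow, hI, Ideal.map_bot]
  -- the map `I → I'`
  let ι : I →ₗ[R] I' :=
    { toFun := fun a => ⟨algebraMap R R' a, Ideal.mem_map_of_mem _ a.2⟩
      map_add' := fun a b => by ext; simp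
      map_smul' := fun r a => by ext; simp [Algebra.smul_def] }
  have hιinj : Injective ι := by
    intro a b hab
    apply Subtype.ext
    apply hinj
    exact congrArg Subtype.val hab
  -- `I` and `I'` are `R/I`-modules
  have hT : Module.IsTorsionBySet R I I := by
    intro x a
    apply Subtype.ext
    have : (a : R) * (x : R) ∈ I ^ 2 := by
      rw [pow_two]; exact Ideal.mul_mem_mul a.2 x.2
    rw [hI] at this
    simpa using this
  have hT' : Module.IsTorsionBySet R I' I := by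
    intro x a
    apply Subtype.ext
    have : algebraMap R R' (a : R) * (x : R') ∈ I' ^ 2 := by
      rw [pow_two]; exact Ideal.mul_mem_mul (Ideal.mem_map_of_mem _ a.2) x.2
    rw [hI'2] at this
    simpa [Algebra.smul_def] using this
  let m1 : Module (R ⧸ I) I := hT.module
  have t1 : IsScalarTower R (R ⧸ I) I := hT.isScalarTower
  let m2 : Module (R ⧸ I) I' := hT'.module
  have t2 : IsScalarTower R (R ⧸ I) I' := hT'.isScalarTower
  have hsurj : Surjective (algebraMap R (R ⧸ I)) := Ideal.Quotient.mk_surjective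
  let ι' : I →ₗ[R ⧸ I] I' := ι.extendScalarsOfSurjective hsurj
  have h1 : Injective (ι.rTensor M) :=
    Groth.Agent.Helper1.rTensor_injective_of_flat_baseChange (R ⧸ I) M ι' hιinj
  have h2 : Injective ((I'.subtype.restrictScalars R).rTensor M) :=
    Groth.Agent.Helper1.rTensor_injective_of_flat_baseChange R' M I'.subtype
      (Submodule.injective_subtype _)
  have hsq : (I'.subtype.restrictScalars R) ∘ₗ ι = (Algebra.linearMap R R') ∘ₗ I.subtype := by
    ext a; rfl
  rw [injective_iff_map_eq_zero]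
  intro x hx
  apply h1
  apply h2
  rw [map_zero, map_zero, ← LinearMap.comp_apply, ← LinearMap.rTensor_comp, hsq,
    LinearMap.rTensor_comp, LinearMap.comp_apply, hx, map_zero]

/-- Base change of flatness in the form `A ⊗ M` flat over `A` ⇒ `B ⊗ M` flat over `B`. -/
theorem flat_tensor_of_tower (R A B : Type u) [CommRing R] [CommRing A] [CommRing B]
    [Algebra R A] [Algebra R B] [Algebra A B] [IsScalarTower R A B]
    (M : Type u) [AddCommGroup M] [Module R M] [Module.Flat A (A ⊗[R] M)] :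
    Module.Flat B (B ⊗[R] M) :=
  Module.Flat.of_linearEquiv (AlgebraTensorModule.cancelBaseChange R A B B M).symm

/-- `B ⊗_A (A ⊗_R M)` is flat over `B` if `B ⊗_R M` is. -/
theorem flat_tensor_tensor (R A B : Type u) [CommRing R] [CommRing A] [CommRing B]
    [Algebra R A] [Algebra R B] [Algebra A B] [IsScalarTower R A B]
    (M : Type u) [AddCommGroup M] [Module R M] [Module.Flat B (B ⊗[R] M)] :
    Module.Flat B (B ⊗[A] (A ⊗[R] M)) :=
  Module.Flat.of_linearEquiv (AlgebraTensorModule.cancelBaseChange R A B B M)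

/-- Stacks 00ML: with `I₂ = φ⁻¹(φ(I²)R')`, `M/I₂M` is flat over `R/I₂`. -/
theorem flat_quotient_comap_map_sq (R R' : Type u) [CommRing R] [CommRing R'] [Algebra R R']
    (I : Ideal R) (M : Type u) [AddCommGroup M] [Module R M]
    [Module.Flat (R ⧸ I) ((R ⧸ I) ⊗[R] M)] [Module.Flat R' (R' ⊗[R] M)] :
    Module.Flat (R ⧸ ((I ^ 2).map (algebraMap R R')).comap (algebraMap R R'))
      ((R ⧸ ((I ^ 2).map (algebraMap R R')).comap (algebraMap R R')) ⊗[R] M) := by
  classical
  set K' : Ideal R' := (I ^ 2).map (algebraMap R R') with hK'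
  set J : Ideal R := K'.comap (algebraMap R R') with hJ
  -- the algebra `R/J → R'/K'`
  let q : R ⧸ J →+* R' ⧸ K' := Ideal.quotientMap K' (algebraMap R R') le_rfl
  have hq : Injective q := Ideal.quotientMap_injective
  let alg : Algebra (R ⧸ J) (R' ⧸ K') := q.toAlgebra
  have tow : IsScalarTower R (R ⧸ J) (R' ⧸ K') := by
    refine IsScalarTower.of_algebraMap_eq (fun x => ?_)
    show _ = q (Ideal.Quotient.mk J x)
    rw [Ideal.quotientMap_mk]
    rfl
  set Ī : Ideal (R ⧸ J) := I.map (Ideal.Quotient.mk J) with hĪ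
  have hĪ2 : Ī ^ 2 = ⊥ := by
    rw [hĪ, ← Ideal.map_pow, Ideal.map_eq_bot_iff_le_ker, Ideal.mk_ker]
    exact Ideal.le_comap_map
  -- the algebra `R/I → (R/J)/Ī`
  let p : R ⧸ I →+* (R ⧸ J) ⧸ Ī := Ideal.quotientMap Ī (Ideal.Quotient.mk J) Ideal.le_comap_map
  let alg2 : Algebra (R ⧸ I) ((R ⧸ J) ⧸ Ī) := p.toAlgebra
  have tow2 : IsScalarTower R (R ⧸ I) ((R ⧸ J) ⧸ Ī) := by
    refine IsScalarTower.of_algebraMap_eq (fun x => ?_)
    show _ = p (Ideal.Quotient.mk I x)
    rw [Ideal.quotientMap_mk]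
    rfl
  have f1 : Module.Flat ((R ⧸ J) ⧸ Ī) (((R ⧸ J) ⧸ Ī) ⊗[R] M) :=
    flat_tensor_of_tower R (R ⧸ I) ((R ⧸ J) ⧸ Ī) M
  have f2 : Module.Flat ((R ⧸ J) ⧸ Ī) (((R ⧸ J) ⧸ Ī) ⊗[R ⧸ J] ((R ⧸ J) ⊗[R] M)) :=
    flat_tensor_tensor R (R ⧸ J) ((R ⧸ J) ⧸ Ī) M
  have f3 : Module.Flat (R' ⧸ K') ((R' ⧸ K') ⊗[R] M) :=
    flat_tensor_of_tower R R' (R' ⧸ K') M
  have f4 : Module.Flat (R' ⧸ K') ((R' ⧸ K') ⊗[R ⧸ J] ((R ⧸ J) ⊗[R] M)) :=
    flat_tensor_tensor R (R ⧸ J) (R' ⧸ K') M
  exact flat_of_sq_zero (R ⧸ J) (R' ⧸ K') hq Ī hĪ2 ((R ⧸ J) ⊗[R] M)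

/-- Stacks 051C-type lemma: `R → R'` injective, `I` nilpotent, `M/IM` flat over `R/I`,
`R' ⊗ M` flat over `R'` ⇒ `M` flat over `R`. -/
theorem flat_of_nilpotent_of_injective (R R' : Type u) [CommRing R] [CommRing R'] [Algebra R R']
    (hinj : Injective (algebraMap R R')) (M : Type u) [AddCommGroup M] [Module R M]
    [Module.Flat R' (R' ⊗[R] M)] (n : ℕ) :
    ∀ (I : Ideal R), I ^ n = ⊥ → Module.Flat (R ⧸ I) ((R ⧸ I) ⊗[R] M) → Module.Flat R M := by
  induction n using Nat.strong_induction_on with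
  | _ n ih =>
    intro I hI hflat
    by_cases h2 : I ^ 2 = ⊥
    · exact flat_of_sq_zero R R' hinj I h2 M
    · -- n ≥ 3
      have hn : 3 ≤ n := by
        by_contra hlt
        push Not at hlt
        apply h2
        have : n ≤ 2 := by omega
        rw [eq_bot_iff, ← hI]
        exact Ideal.pow_le_pow_right this
      set J : Ideal R := ((I ^ 2).map (algebraMap R R')).comap (algebraMap R R') with hJ
      have hJflat : Module.Flat (R ⧸ J) ((R ⧸ J) ⊗[R] M) :=
        flat_quotient_comap_map_sq R R' I M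
      refine ih ((n + 1) / 2) (by omega) J ?_ hJflat
      -- J^k ≤ comap (map (I^(2k))) = comap ⊥ = ⊥
      rw [eq_bot_iff]
      have h1 : J ^ ((n + 1) / 2) ≤
          (((I ^ 2).map (algebraMap R R')) ^ ((n + 1) / 2)).comap (algebraMap R R') :=
        Ideal.le_comap_pow _ _
      refine h1.trans ?_
      rw [← Ideal.map_pow, ← pow_mul]
      have h3 : I ^ (2 * ((n + 1) / 2)) = ⊥ := by
        rw [eq_bot_iff, ← hI]
        exact Ideal.pow_le_pow_right (by omega)
      rw [h3, Ideal.map_bot]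
      intro x hx
      rw [Ideal.mem_comap, Ideal.mem_bot] at hx
      rw [Ideal.mem_bot]
      exact hinj (by rw [hx, map_zero])

end Groth.Agent.Helper10.FlatSq
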