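import Mathlib
import Groth.Agent.Lib.Helper1.LocalCriterion
import Groth.Agent.Lib.Helper10.FlatSq

/-!
# Flatness modulo an intersection of two ideals
-/

namespace Groth.Agent.Helper10.FlatInf

open TensorProduct Function

universe u

/-- Flatness of `M/IM` over `R/I` passes to the quotient ring `R/J`. -/
theorem flat_quotient_map (R : Type u) [CommRing R] (I J : Ideal R)
    (M : Type u) [AddCommGroup M] [Module R M] [Module.Flat (R ⧸ I) ((R ⧸ I) ⊗[R] M)] :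
    Module.Flat ((R ⧸ J) ⧸ I.map (Ideal.Quotient.mk J))
      (((R ⧸ J) ⧸ I.map (Ideal.Quotient.mk J)) ⊗[R ⧸ J] ((R ⧸ J) ⊗[R] M)) := by
  set Ī : Ideal (R ⧸ J) := I.map (Ideal.Quotient.mk J) with hĪ
  let p : R ⧸ I →+* (R ⧸ J) ⧸ Ī := Ideal.quotientMap Ī (Ideal.Quotient.mk J) Ideal.le_comap_map
  let alg2 : Algebra (R ⧸ I) ((R ⧸ J) ⧸ Ī) := p.toAlgebra
  have tow2 : IsScalarTower R (R ⧸ I) ((R ⧸ J) ⧸ Ī) := by
    refine IsScalarTower.of_algebraMap_eq (fun x => ?_)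
    show _ = p (Ideal.Quotient.mk I x)
    rw [Ideal.quotientMap_mk]
    rfl
  have f1 : Module.Flat ((R ⧸ J) ⧸ Ī) (((R ⧸ J) ⧸ Ī) ⊗[R] M) :=
    Groth.Agent.Helper10.FlatSq.flat_tensor_of_tower R (R ⧸ I) ((R ⧸ J) ⧸ Ī) M
  exact Groth.Agent.Helper10.FlatSq.flat_tensor_tensor R (R ⧸ J) ((R ⧸ J) ⧸ Ī) M

/-- If `I₁ ∩ I₂ = 0` and `M/IᵢM` is flat over `R/Iᵢ` for `i = 1, 2`, then `M` is flat. -/
theorem flat_of_inf_eq_bot (R : Type u) [CommRing R] (I₁ I₂ : Ideal R) (h : I₁ ⊓ I₂ = ⊥)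
    (M : Type u) [AddCommGroup M] [Module R M] [Module.Flat (R ⧸ I₁) ((R ⧸ I₁) ⊗[R] M)]
    [Module.Flat (R ⧸ I₂) ((R ⧸ I₂) ⊗[R] M)] : Module.Flat R M := by
  classical
  rw [Module.Flat.iff_lTensor_injective']
  intro 𝔞
  rw [injective_iff_map_eq_zero]
  intro x hx
  have hxr := Groth.Agent.Helper1.mem_range_lTensor_of_flat_quotient (M := M) I₁ 𝔞 x hx
  set L : Submodule R 𝔞 := Submodule.comap 𝔞.subtype (I₁.restrictScalars R) with hL
  obtain ⟨y, rfl⟩ := hxr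
  set 𝔟 : Ideal R := 𝔞 ⊓ I₁ with h𝔟
  let g : L →ₗ[R] 𝔟 :=
    { toFun := fun c => ⟨(c : 𝔞), ⟨(c : 𝔞).2, c.2⟩⟩
      map_add' := fun a b => rfl
      map_smul' := fun r a => rfl }
  let k : 𝔟 →ₗ[R] L :=
    { toFun := fun c => ⟨⟨c, c.2.1⟩, c.2.2⟩
      map_add' := fun a b => rfl
      map_smul' := fun r a => rfl }
  have hkg : k ∘ₗ g = LinearMap.id := by ext c; rfl
  have hsq : 𝔟.subtype ∘ₗ g = 𝔞.subtype ∘ₗ L.subtype := by ext c; rfl
  have hy' : 𝔟.subtype.lTensor M (g.lTensor M y) = 0 := by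
    rw [← LinearMap.comp_apply, ← LinearMap.lTensor_comp, hsq, LinearMap.lTensor_comp,
      LinearMap.comp_apply, hx]
  obtain ⟨z, hz⟩ :=
    Groth.Agent.Helper1.mem_range_lTensor_of_flat_quotient (M := M) I₂ 𝔟 (g.lTensor M y) hy'
  have hbot : Submodule.comap 𝔟.subtype (I₂.restrictScalars R) = ⊥ := by
    rw [eq_bot_iff]
    intro c hc
    rw [Submodule.mem_comap, Submodule.restrictScalars_mem] at hc
    have : (c : R) ∈ I₁ ⊓ I₂ := ⟨c.2.2, hc⟩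
    rw [h, Ideal.mem_bot] at this
    rw [Submodule.mem_bot]
    exact Subtype.ext this
  have hz0 : z = 0 := by
    have : Subsingleton (Submodule.comap 𝔟.subtype (I₂.restrictScalars R)) := by
      rw [hbot]; infer_instance
    exact Subsingleton.elim _ _
  have hgy : g.lTensor M y = 0 := by rw [← hz, hz0, map_zero]
  have hy0 : y = 0 := by
    have : (k ∘ₗ g).lTensor M y = y := by rw [hkg]; simp
    rw [← this, LinearMap.lTensor_comp, LinearMap.comp_apply, hgy, map_zero]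
  rw [hy0, map_zero]

/-- Stacks 0AS8-type lemma: flatness modulo `I₁` and `I₂` gives flatness modulo `I₁ ∩ I₂`. -/
theorem flat_quotient_inf (R : Type u) [CommRing R] (I₁ I₂ : Ideal R)
    (M : Type u) [AddCommGroup M] [Module R M] [Module.Flat (R ⧸ I₁) ((R ⧸ I₁) ⊗[R] M)]
    [Module.Flat (R ⧸ I₂) ((R ⧸ I₂) ⊗[R] M)] :
    Module.Flat (R ⧸ (I₁ ⊓ I₂)) ((R ⧸ (I₁ ⊓ I₂)) ⊗[R] M) := by
  set J : Ideal R := I₁ ⊓ I₂ with hJ
  have f1 := flat_quotient_map R I₁ J M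
  have f2 := flat_quotient_map R I₂ J M
  refine flat_of_inf_eq_bot (R ⧸ J) (I₁.map (Ideal.Quotient.mk J)) (I₂.map (Ideal.Quotient.mk J))
    ?_ ((R ⧸ J) ⊗[R] M)
  rw [eq_bot_iff]
  intro x hx
  obtain ⟨x, rfl⟩ := Ideal.Quotient.mk_surjective x
  obtain ⟨h1, h2⟩ := hx
  obtain ⟨y₁, hy₁, e₁⟩ := (Ideal.mem_map_iff_of_surjective _ Ideal.Quotient.mk_surjective).1 h1
  obtain ⟨y₂, hy₂, e₂⟩ := (Ideal.mem_map_iff_of_surjective _ Ideal.Quotient.mk_surjective).1 h2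
  have d₁ : y₁ - x ∈ J := Ideal.Quotient.eq.1 e₁
  have d₂ : y₂ - x ∈ J := Ideal.Quotient.eq.1 e₂
  have m₁ : x ∈ I₁ := by
    have := I₁.sub_mem hy₁ d₁.1
    simpa using this
  have m₂ : x ∈ I₂ := by
    have := I₂.sub_mem hy₂ d₂.2
    simpa using this
  rw [Ideal.mem_bot, Ideal.Quotient.eq_zero_iff_mem]
  exact ⟨m₁, m₂⟩

end Groth.Agent.Helper10.FlatInf
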