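import Groth.Agent.S6919
import Mathlib

/-!
# Flatness over a base ring of localizations at primes, along a flat ring map (helper10)

`R` is the base ring; `S → S'` is a flat map of `R`-algebras, `M'` is the base change of the `S`-module
`M` to `S'`, `q'` a prime of `S'` with contraction `q`. Then `M_q` is flat over `R` iff `M'_{q'}` is.
-/

set_option autoImplicit false
set_option linter.style.haveILetI false
set_option linter.unusedSectionVars false
universe u

namespace Groth.Agent.Helper10.FlatLoc

open TensorProduct

section AT'

variable {R S S₂ N : Type u} [CommRing R] [CommRing S] [CommRing S₂]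
  [Algebra R S] [Algebra S S₂] [Algebra R S₂] [IsScalarTower R S S₂]
  [AddCommGroup N] [Module R N] [Module S N] [IsScalarTower R S N]

/-- base change along a flat ring map of the acting ring keeps flatness over the base `R`. -/
theorem flat_tensor_of_flat [Module.Flat S S₂] (h : Module.Flat R N) :
    Module.Flat R (S₂ ⊗[S] N) := by
  rw [Module.Flat.iff_lTensor_preserves_injective_linearMap]
  intro A B _ _ _ _ f hf
  have h1 : Function.Injective (LinearMap.lTensor N f) :=
    Module.Flat.lTensor_preserves_injective_linearMap f hf
  let g : N ⊗[R] A →ₗ[S] N ⊗[R] B := TensorProduct.AlgebraTensorModule.lTensor S N f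
  have hg : Function.Injective g := h1
  have h2 : Function.Injective (LinearMap.lTensor S₂ g) :=
    Module.Flat.lTensor_preserves_injective_linearMap g hg
  have key : LinearMap.lTensor (S₂ ⊗[S] N) f =
      ((TensorProduct.AlgebraTensorModule.assoc R S S₂ S₂ N B).symm.toLinearMap.restrictScalars R) ∘ₗ
        ((LinearMap.lTensor S₂ g).restrictScalars R) ∘ₗ
        ((TensorProduct.AlgebraTensorModule.assoc R S S₂ S₂ N A).toLinearMap.restrictScalars R) := by
    ext z a
    induction z using TensorProduct.induction_on with
    | zero => simp
    | tmul s n => simp [g]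
    | add z₁ z₂ h₁ h₂ =>
      simp only [TensorProduct.AlgebraTensorModule.curry_apply, TensorProduct.curry_apply,
        LinearMap.coe_restrictScalars] at h₁ h₂ ⊢
      rw [TensorProduct.add_tmul, map_add, map_add, h₁, h₂]
  rw [key]
  simp only [LinearMap.coe_comp, LinearMap.coe_restrictScalars, LinearEquiv.coe_coe]
  exact ((TensorProduct.AlgebraTensorModule.assoc R S S₂ S₂ N B).symm.injective.comp h2).comp
    (TensorProduct.AlgebraTensorModule.assoc R S S₂ S₂ N A).injective

end AT'

section LocIff
variable {R S S' : Type u} [CommRing R] [CommRing S] [CommRing S']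
    [Algebra R S] [Algebra S S'] [Algebra R S'] [IsScalarTower R S S']
    {M M' : Type u} [AddCommGroup M] [Module S M] [Module R M] [IsScalarTower R S M]
    [AddCommGroup M'] [Module S' M'] [Module S M'] [IsScalarTower S S' M']
    [Module R M'] [IsScalarTower R S' M']
    (f : M →ₗ[S] M') (hf : IsBaseChange S' f)
    (q : Ideal S) [q.IsPrime] (q' : Ideal S') [q'.IsPrime] (hqq' : q = q'.comap (algebraMap S S'))

include hf hqq' in
theorem flat_localized_iff [Module.Flat S S'] :
    Module.Flat R (LocalizedModule q.primeCompl M) ↔
      Module.Flat R (LocalizedModule q'.primeCompl M') := by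
  letI alg : Algebra (Localization.AtPrime q) (Localization.AtPrime q') :=
    (Localization.localRingHom q q' (algebraMap S S') hqq').toAlgebra
  have halg : ∀ x, algebraMap (Localization.AtPrime q) (Localization.AtPrime q') x =
      Localization.localRingHom q q' (algebraMap S S') hqq' x := fun x => rfl
  haveI t1 : IsScalarTower S (Localization.AtPrime q) (Localization.AtPrime q') := by
    apply IsScalarTower.of_algebraMap_eq
    intro x
    rw [halg, Localization.localRingHom_to_map, ← IsScalarTower.algebraMap_apply]
  haveI t2 : IsScalarTower R (Localization.AtPrime q) (Localization.AtPrime q') := by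
    apply IsScalarTower.of_algebraMap_eq
    intro x
    rw [IsScalarTower.algebraMap_apply R S (Localization.AtPrime q), halg,
      Localization.localRingHom_to_map, ← IsScalarTower.algebraMap_apply,
      ← IsScalarTower.algebraMap_apply]
  haveI fl2 : Module.Flat S (Localization.AtPrime q') := Module.Flat.trans S S' _
  haveI fl3 : Module.Flat (Localization.AtPrime q) (Localization.AtPrime q') :=
    (Module.flat_iff_of_isLocalization (Localization.AtPrime q) q.primeCompl
      (Localization.AtPrime q')).mpr fl2
  haveI lh : IsLocalHom (algebraMap (Localization.AtPrime q) (Localization.AtPrime q')) :=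
    Localization.isLocalHom_localRingHom q q' (algebraMap S S') hqq'
  haveI ff : Module.FaithfullyFlat (Localization.AtPrime q) (Localization.AtPrime q') :=
    Module.FaithfullyFlat.of_flat_of_isLocalHom
  letI mP : Module (Localization.AtPrime q) (LocalizedModule q'.primeCompl M') :=
    Module.compHom _ (algebraMap (Localization.AtPrime q) (Localization.AtPrime q'))
  have hmP : ∀ (a : Localization.AtPrime q) (x : LocalizedModule q'.primeCompl M'),
      a • x = (algebraMap (Localization.AtPrime q) (Localization.AtPrime q') a) • x := fun a x => rfl
  haveI t3 : IsScalarTower (Localization.AtPrime q) (Localization.AtPrime q')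
      (LocalizedModule q'.primeCompl M') := by
    refine ⟨fun a b x => ?_⟩
    rw [hmP, Algebra.smul_def, mul_smul]
  haveI t4 : IsScalarTower S (Localization.AtPrime q) (LocalizedModule q'.primeCompl M') := by
    refine ⟨fun s a x => ?_⟩
    rw [hmP, hmP, Algebra.smul_def, map_mul, mul_smul, ← IsScalarTower.algebraMap_apply,
      algebraMap_smul]
  have hmk : IsBaseChange (Localization.AtPrime q) (LocalizedModule.mkLinearMap q.primeCompl M) :=
    IsLocalizedModule.isBaseChange q.primeCompl _ _
  have hmk' : IsBaseChange (Localization.AtPrime q')
      (LocalizedModule.mkLinearMap q'.primeCompl M') :=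
    IsLocalizedModule.isBaseChange q'.primeCompl _ _
  let g : M →ₗ[S] LocalizedModule q'.primeCompl M' :=
    ((LocalizedModule.mkLinearMap q'.primeCompl M').restrictScalars S).comp f
  have hg : IsBaseChange (Localization.AtPrime q') g := IsBaseChange.comp hf hmk'
  let θ : LocalizedModule q.primeCompl M →ₗ[Localization.AtPrime q]
      LocalizedModule q'.primeCompl M' := hmk.lift g
  have hθg : (θ.restrictScalars S).comp (LocalizedModule.mkLinearMap q.primeCompl M) = g :=
    hmk.lift_comp g
  have hθ : IsBaseChange (Localization.AtPrime q') θ := by
    apply IsBaseChange.of_comp hmk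
    rw [show ((θ : LocalizedModule q.primeCompl M →ₗ[S] LocalizedModule q'.primeCompl M') ∘ₗ
      LocalizedModule.mkLinearMap q.primeCompl M) = g from hθg]
    exact hg
  have e : (Localization.AtPrime q') ⊗[Localization.AtPrime q] (LocalizedModule q.primeCompl M)
      ≃ₗ[R] LocalizedModule q'.primeCompl M' := hθ.equiv.restrictScalars R
  constructor
  · intro h
    have flX : Module.Flat R
        ((Localization.AtPrime q') ⊗[Localization.AtPrime q] (LocalizedModule q.primeCompl M)) :=
      flat_tensor_of_flat (R := R) (S := Localization.AtPrime q) (S₂ := Localization.AtPrime q') h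
    exact Module.Flat.of_linearEquiv e.symm
  · intro h
    have flX : Module.Flat R
        ((Localization.AtPrime q') ⊗[Localization.AtPrime q] (LocalizedModule q.primeCompl M)) :=
      Module.Flat.of_linearEquiv e
    exact Groth.Agent.S6919.flat_of_faithfullyFlat_tensor (R := R) (S := Localization.AtPrime q)
      (S₂ := Localization.AtPrime q') flX

end LocIff

end Groth.Agent.Helper10.FlatLoc
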