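import Mathlib

/-!
# Constant sheaves on sites: restriction, morphisms, local factorisation

Generic site-theoretic toolkit for locally constant sheaves.
-/

set_option autoImplicit false

open CategoryTheory CategoryTheory.Limits Opposite

namespace Groth.Agent.Helper10.LcSite

universe v₁ u₁ v₂ u₂ v u

section General

variable {C : Type u₁} [Category.{v₁} C] {D : Type u₂} [Category.{v₂} D]
  (J : GrothendieckTopology C) (K : GrothendieckTopology D)
  (A : Type u) [Category.{v} A]

/-- The canonical map from `M` to the sections of the constant sheaf. -/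
noncomputable def eta [HasWeakSheafify J A] (M : A) (V : C) :
    M ⟶ ((constantSheaf J A).obj M).obj.obj (op V) :=
  (toSheafify J ((Functor.const Cᵒᵖ).obj M)).app (op V)

variable {A} in
@[reassoc]
lemma eta_map [HasWeakSheafify J A] (M : A) {V V' : C} (f : V' ⟶ V) :
    eta J A M V ≫ ((constantSheaf J A).obj M).obj.map f.op = eta J A M V' := by
  have := (toSheafify J ((Functor.const Cᵒᵖ).obj M)).naturality f.op
  simp only [Functor.const_obj_obj, Functor.const_obj_map, Category.id_comp] at this
  exact this.symm

variable {A} in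
@[reassoc]
lemma eta_naturality [HasWeakSheafify J A] {M N : A} (h : M ⟶ N) (V : C) :
    eta J A M V ≫ ((constantSheaf J A).map h).hom.app (op V) = h ≫ eta J A N V := by
  have := congr_app (toSheafify_naturality J ((Functor.const Cᵒᵖ).map h)) (op V)
  simp only [NatTrans.comp_app, Functor.const_map_app] at this
  exact this.symm

variable {A} in
/-- Morphisms out of a constant sheaf are determined on the terminal object. -/
lemma const_hom_ext [HasWeakSheafify J A] {T : C} (hT : IsTerminal T) {M : A} {F : Sheaf J A}
    (f g : (constantSheaf J A).obj M ⟶ F)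
    (h : eta J A M T ≫ f.hom.app (op T) = eta J A M T ≫ g.hom.app (op T)) : f = g := by
  apply Sheaf.hom_ext
  apply sheafify_hom_ext _ _ _ F.property
  ext ⟨V⟩
  have hf := f.hom.naturality (hT.from V).op
  have hg := g.hom.naturality (hT.from V).op
  change eta J A M V ≫ f.hom.app (op V) = eta J A M V ≫ g.hom.app (op V)
  rw [← eta_map J M (hT.from V), Category.assoc, Category.assoc, hf, hg, reassoc_of% h]

variable {A} in
/-- The morphism out of a constant sheaf given by a map to the sections over the terminal object. -/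
noncomputable def constDesc [HasWeakSheafify J A] {T : C} (hT : IsTerminal T) {M : A} {F : Sheaf J A}
    (q : M ⟶ F.obj.obj (op T)) : (constantSheaf J A).obj M ⟶ F :=
  ((constantSheafAdj J A hT).homEquiv M F).symm q

variable {A} in
@[reassoc]
lemma eta_constDesc [HasWeakSheafify J A] {T : C} (hT : IsTerminal T) {M : A} {F : Sheaf J A}
    (q : M ⟶ F.obj.obj (op T)) :
    eta J A M T ≫ (constDesc J hT q).hom.app (op T) = q := by
  have h1 := ((constantSheafAdj J A hT).homEquiv M F).apply_symm_apply q
  rw [Adjunction.homEquiv_unit] at h1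
  have h2 : (constantSheafAdj J A hT).unit.app M = eta J A M T := by
    simp [constantSheafAdj, Adjunction.comp_unit_app, eta, constantPresheafAdj]
  rw [h2] at h1
  exact h1

section Push

variable (G : C ⥤ D) [G.IsContinuous J K] [G.IsCocontinuous J K]
  [∀ (F : Cᵒᵖ ⥤ A), G.op.HasPointwiseRightKanExtension F]
  [HasWeakSheafify J A] [HasWeakSheafify K A]

/-- Pushforward (restriction) along a continuous and cocontinuous functor sends constant sheaves to
constant sheaves. -/
noncomputable def constPush :
    constantSheaf K A ⋙ G.sheafPushforwardContinuous A J K ≅ constantSheaf J A :=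
  Functor.isoWhiskerLeft (Functor.const Dᵒᵖ)
      (G.pushforwardContinuousSheafificationCompatibility A J K).symm ≪≫
    (Functor.associator _ _ _).symm ≪≫
    Functor.isoWhiskerRight (Functor.constCompWhiskeringLeftIso _ G.op) (presheafToSheaf J A)

variable {A} in
@[reassoc]
lemma eta_constPush_inv (M : A) (V : C) :
    eta J A M V ≫ ((constPush J K A G).inv.app M).hom.app (op V) = eta K A M (G.obj V) := by
  have h := congr_app (G.toSheafify_pullbackSheafificationCompatibility A J K
    ((Functor.const Dᵒᵖ).obj M)) (op V)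
  simp only [constPush, Iso.trans_inv, Functor.isoWhiskerRight_inv, Iso.symm_inv,
    Functor.isoWhiskerLeft_inv, NatTrans.comp_app, Functor.whiskerRight_app,
    Functor.associator_hom_app, Functor.whiskerLeft_app, ObjectProperty.FullSubcategory.comp_hom]
  have h2 := congr_app (toSheafify_naturality J
    ((Functor.constCompWhiskeringLeftIso Cᵒᵖ G.op (C := A)).inv.app M)) (op V)
  simp only [NatTrans.comp_app, Functor.constCompWhiskeringLeftIso_inv_app_app] at h2
  have h2' : eta J A M V ≫ ((presheafToSheaf J A).map
      ((Functor.constCompWhiskeringLeftIso Cᵒᵖ G.op (C := A)).inv.app M)).hom.app (op V) =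
      (toSheafify J (G.op ⋙ (Functor.const Dᵒᵖ).obj M)).app (op V) :=
    h2.symm.trans (Category.id_comp _)
  simp only [NatTrans.comp_app, Functor.whiskerLeft_app] at h
  change _ = eta K A M (G.obj V) at h
  rw [← h, ← h2']
  simp only [Category.assoc]
  congr 2
  exact Category.id_comp _

variable {A} in
/-- If `ψ` between constant sheaves is given on `G.obj T` by `h : M ⟶ N`, then its pushforward along `G`
is the map of constant sheaves induced by `h`. -/
lemma map_eq_const_of_factor {T : C} (hT : IsTerminal T) {M N : A}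
    (ψ : (constantSheaf K A).obj M ⟶ (constantSheaf K A).obj N) (h : M ⟶ N)
    (hh : h ≫ eta K A N (G.obj T) = eta K A M (G.obj T) ≫ ψ.hom.app (op (G.obj T))) :
    (G.sheafPushforwardContinuous A J K).map ψ =
      (constPush J K A G).hom.app M ≫ (constantSheaf J A).map h ≫ (constPush J K A G).inv.app N := by
  rw [← cancel_epi ((constPush J K A G).inv.app M), Iso.inv_hom_id_app_assoc]
  apply const_hom_ext J hT
  simp only [ObjectProperty.FullSubcategory.comp_hom, NatTrans.comp_app]
  rw [eta_constPush_inv_assoc, eta_naturality_assoc, eta_constPush_inv]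
  exact hh.symm

end Push

end General

section Concrete

universe w

variable {D : Type u₂} [Category.{v₂} D] (K : GrothendieckTopology D)
  {A : Type u} [Category.{v} A] {FA : A → A → Type*} {CA : A → Type w}
  [∀ X Y, FunLike (FA X Y) (CA X) (CA Y)] [ConcreteCategory.{w} A FA]
  [HasWeakSheafify K A] [K.WEqualsLocallyBijective A]

/-- Sections of a constant sheaf are locally constant. -/
lemma eta_locally_surj (N : A) {V : D}
    (s : ToType (((constantSheaf K A).obj N).obj.obj (op V))) :
    ∃ S ∈ K V, ∀ {V' : D} (f : V' ⟶ V), S f →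
      ∃ n : ToType N, (eta K A N V') n = ((constantSheaf K A).obj N).obj.map f.op s := by
  refine ⟨_, Presheaf.imageSieve_mem K (toSheafify K ((Functor.const Dᵒᵖ).obj N)) (U := op V) s,
    ?_⟩
  intro V' f hf
  exact hf

/-- On an object which is not covered by the empty sieve, `eta` is injective. -/
lemma eta_injective (N : A) {V : D} (hV : ⊥ ∉ K V) : Function.Injective (eta K A N V) := by
  intro x y hxy
  have hS := Presheaf.equalizerSieve_mem K (toSheafify K ((Functor.const Dᵒᵖ).obj N))
    (X := op V) x y hxy
  by_contra hne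
  apply hV
  convert hS using 1
  symm
  rw [eq_bot_iff]
  intro V' f hf
  exfalso
  apply hne
  simpa using hf

/-- Finite intersections of covering sieves are covering. -/
lemma finset_inf_mem {ι : Type*} (s : Finset ι) {V : D} (S : ι → Sieve V)
    (h : ∀ i ∈ s, S i ∈ K V) : s.inf S ∈ K V := by
  classical
  induction s using Finset.induction_on with
  | empty => simpa using K.top_mem V
  | insert a s ha ih =>
    rw [Finset.inf_insert]
    exact K.intersection_covering (h a (Finset.mem_insert_self a s))
      (ih fun i hi => h i (Finset.mem_insert_of_mem hi))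

/-- Finitely many sections of a constant sheaf are simultaneously locally constant. -/
lemma eta_locally_surj_finset (N : A) {V : D} {ι : Type*} (t : Finset ι)
    (s : ι → ToType (((constantSheaf K A).obj N).obj.obj (op V))) :
    ∃ S ∈ K V, ∀ {V' : D} (f : V' ⟶ V), S f → ∀ i ∈ t,
      ∃ n : ToType N, (eta K A N V') n = ((constantSheaf K A).obj N).obj.map f.op (s i) := by
  choose S hS hS' using fun i => eta_locally_surj K N (s i)
  refine ⟨t.inf S, finset_inf_mem K t S (fun i _ => hS i), ?_⟩
  intro V' f hf i hi
  exact hS' i f ((Finset.inf_le hi : t.inf S ≤ S i) _ hf)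

variable (A) in
/-- `M` has the local factorisation property: every map from `M` to sections of a constant sheaf
locally factors through the constants. -/
def LocFactor (M : A) : Prop :=
  ∀ (N : A) (V : D) (ψ : M ⟶ ((constantSheaf K A).obj N).obj.obj (op V)),
    ∃ S ∈ K V, ∀ {V' : D} (f : V' ⟶ V), S f →
      ∃ h : M ⟶ N, ψ ≫ ((constantSheaf K A).obj N).obj.map f.op = h ≫ eta K A N V'

end Concrete

section ModuleCat

universe w

variable {D : Type u₂} [Category.{v₂} D] (K : GrothendieckTopology D)
  {Λ : Type u} [Ring Λ]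
  [HasWeakSheafify K (ModuleCat.{w} Λ)] [K.WEqualsLocallyBijective (ModuleCat.{w} Λ)]

lemma locFactor_moduleCat (M : ModuleCat.{w} Λ) [Module.Finite Λ M] :
    LocFactor K (ModuleCat.{w} Λ) M := by
  intro N V ψ
  obtain ⟨s, hs⟩ := (Module.Finite.fg_top : (⊤ : Submodule Λ M).FG)
  obtain ⟨S, hS, hS'⟩ := eta_locally_surj_finset K N s (fun m => ψ.hom m)
  refine ⟨S, hS, fun {V'} f hf => ?_⟩
  by_cases hV' : ⊥ ∈ K V'
  · exact ⟨0, (Sheaf.isTerminalOfBotCover _ V' hV').hom_ext _ _⟩
  · have hinj := eta_injective K N hV'
    set ψ' := ψ ≫ ((constantSheaf K (ModuleCat.{w} Λ)).obj N).obj.map f.op with hψ'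
    have hle : LinearMap.range ψ'.hom ≤ LinearMap.range (eta K (ModuleCat.{w} Λ) N V').hom := by
      rw [LinearMap.range_eq_map, ← hs, Submodule.map_span, Submodule.span_le]
      rintro _ ⟨m, hm, rfl⟩
      obtain ⟨n, hn⟩ := hS' f hf m hm
      exact ⟨n, hn⟩
    let e := LinearEquiv.ofInjective (eta K (ModuleCat.{w} Λ) N V').hom hinj
    refine ⟨ModuleCat.ofHom (e.symm.toLinearMap ∘ₗ
      (LinearMap.codRestrict _ ψ'.hom (fun m => hle ⟨m, rfl⟩))), ?_⟩
    ext m
    have := e.apply_symm_apply ⟨ψ'.hom m, hle ⟨m, rfl⟩⟩
    simpa [e] using (congrArg Subtype.val this).symm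

end ModuleCat

section AddCommGrpCat

universe w

variable {D : Type u₂} [Category.{v₂} D] (K : GrothendieckTopology D)
  [HasWeakSheafify K AddCommGrpCat.{w}] [K.WEqualsLocallyBijective AddCommGrpCat.{w}]

lemma locFactor_addCommGrpCat (M : AddCommGrpCat.{w}) [AddGroup.FG M] :
    LocFactor K AddCommGrpCat.{w} M := by
  intro N V ψ
  obtain ⟨s, hs⟩ := AddGroup.fg_def.1 (inferInstance : AddGroup.FG M)
  obtain ⟨S, hS, hS'⟩ := eta_locally_surj_finset K N s (fun m => ψ.hom m)
  refine ⟨S, hS, fun {V'} f hf => ?_⟩
  by_cases hV' : ⊥ ∈ K V'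
  · exact ⟨0, (Sheaf.isTerminalOfBotCover _ V' hV').hom_ext _ _⟩
  · have hinj := eta_injective K N hV'
    set ψ' := ψ ≫ ((constantSheaf K AddCommGrpCat.{w}).obj N).obj.map f.op with hψ'
    have hle : AddMonoidHom.range ψ'.hom ≤ AddMonoidHom.range (eta K AddCommGrpCat.{w} N V').hom := by
      rw [AddMonoidHom.range_eq_map, ← hs, AddMonoidHom.map_closure, AddSubgroup.closure_le]
      rintro _ ⟨m, hm, rfl⟩
      obtain ⟨n, hn⟩ := hS' f hf m hm
      exact ⟨n, hn⟩
    let e := AddMonoidHom.ofInjective (f := (eta K AddCommGrpCat.{w} N V').hom) hinj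
    refine ⟨AddCommGrpCat.ofHom (e.symm.toAddMonoidHom.comp
      (AddMonoidHom.codRestrict ψ'.hom _ (fun m => hle ⟨m, rfl⟩))), ?_⟩
    ext m
    have := e.apply_symm_apply ⟨ψ'.hom m, hle ⟨m, rfl⟩⟩
    simpa [e] using (congrArg Subtype.val this).symm

end AddCommGrpCat

section Over

variable {C : Type u₁} [Category.{v₁} C] (J : GrothendieckTopology C)
  (A : Type u) [Category.{v} A]
  [∀ W : C, HasWeakSheafify (J.over W) A]
  [∀ {W U : C} (g : W ⟶ U) (F : (Over W)ᵒᵖ ⥤ A), (Over.map g).op.HasPointwiseRightKanExtension F]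

/-- Restriction of constant sheaves along `g : W ⟶ U` is constant. -/
noncomputable abbrev constRes {W U : C} (g : W ⟶ U) :
    constantSheaf (J.over U) A ⋙ J.overMapPullback A g ≅ constantSheaf (J.over W) A :=
  constPush (J.over W) (J.over U) A (Over.map g)

variable {A}

/-- A morphism between constant sheaves on `Over U` whose source has the local factorisation
property is locally induced by a morphism of the values. -/
theorem exists_sieve_map_eq_const {U : C} {M N : A} (hM : LocFactor (J.over U) A M)
    (ψ : (constantSheaf (J.over U) A).obj M ⟶ (constantSheaf (J.over U) A).obj N) :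
    ∃ S ∈ J U, ∀ {W : C} (g : W ⟶ U), S g → ∃ h : M ⟶ N,
      (J.overMapPullback A g).map ψ =
        (constRes J A g).hom.app M ≫ (constantSheaf (J.over W) A).map h ≫
          (constRes J A g).inv.app N := by
  obtain ⟨S', hS', H⟩ := hM N (Over.mk (𝟙 U))
    (eta (J.over U) A M (Over.mk (𝟙 U)) ≫ ψ.hom.app (op (Over.mk (𝟙 U))))
  refine ⟨Sieve.overEquiv _ S', (J.mem_over_iff _).1 hS', ?_⟩
  intro W g hg
  rw [Sieve.overEquiv_iff] at hg
  let f : (Over.map g).obj (Over.mk (𝟙 W)) ⟶ Over.mk (𝟙 U) := Over.homMk g (by simp)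
  have hf : S' f := by
    have : f = (Over.homMk (𝟙 W) (by simp) : (Over.map g).obj (Over.mk (𝟙 W)) ⟶
        Over.mk (g ≫ (Over.mk (𝟙 U)).hom)) ≫
        (Over.homMk g : Over.mk (g ≫ (Over.mk (𝟙 U)).hom) ⟶ Over.mk (𝟙 U)) := by
      ext
      simp [f]
    rw [this]
    exact S'.downward_closed hg _
  obtain ⟨h, hh⟩ := H f hf
  refine ⟨h, map_eq_const_of_factor (J.over W) (J.over U) (Over.map g) Over.mkIdTerminal ψ h ?_⟩
  rw [← hh, Category.assoc, ← ψ.hom.naturality f.op, eta_map_assoc]

/-- Naturality of `Sheaf.pushforwardOverMapIso`. -/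
@[reassoc]
lemma pushforwardOverMapIso_naturality {F G : Sheaf J A} (φ : F ⟶ G) {W U : C} (g : W ⟶ U) :
    (J.overMapPullback A g).map ((J.overPullback A U).map φ) ≫ (G.pushforwardOverMapIso g).hom =
      (F.pushforwardOverMapIso g).hom ≫ (J.overPullback A W).map φ := by
  ext V
  simp only [Sheaf.pushforwardOverMapIso, ObjectProperty.FullSubcategory.comp_hom,
    NatTrans.comp_app, ObjectProperty.isoMk_hom]
  erw [Category.comp_id, Category.id_comp]
  rfl

@[reassoc]
lemma pushforwardOverMapIso_inv_naturality {F G : Sheaf J A} (φ : F ⟶ G) {W U : C} (g : W ⟶ U) :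
    (J.overPullback A W).map φ ≫ (G.pushforwardOverMapIso g).inv =
      (F.pushforwardOverMapIso g).inv ≫
        (J.overMapPullback A g).map ((J.overPullback A U).map φ) := by
  rw [← cancel_mono (G.pushforwardOverMapIso g).hom, Category.assoc, Category.assoc,
    Iso.inv_hom_id, Category.comp_id, pushforwardOverMapIso_naturality, Iso.inv_hom_id_assoc]

/-- A trivialisation over `U` restricts to a trivialisation over `W` along `g : W ⟶ U`. -/
noncomputable def trivRes {F : Sheaf J A} {U : C} {M : A}
    (α : F.over U ≅ (constantSheaf (J.over U) A).obj M) {W : C} (g : W ⟶ U) :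
    F.over W ≅ (constantSheaf (J.over W) A).obj M :=
  (F.pushforwardOverMapIso g).symm ≪≫ (J.overMapPullback A g).mapIso α ≪≫
    (constRes J A g).app M

/-- A morphism of sheaves which are constant over `U`, the source with value having the local
factorisation property, is locally (on a covering sieve of `U`) induced by a morphism of values. -/
theorem exists_sieve_map_eq_const' {F G : Sheaf J A} (φ : F ⟶ G) {U : C} {M N : A}
    (hM : LocFactor (J.over U) A M)
    (α : F.over U ≅ (constantSheaf (J.over U) A).obj M)
    (β : G.over U ≅ (constantSheaf (J.over U) A).obj N) :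
    ∃ S ∈ J U, ∀ {W : C} (g : W ⟶ U), S g → ∃ h : M ⟶ N,
      (J.overPullback A W).map φ ≫ (trivRes J β g).hom =
        (trivRes J α g).hom ≫ (constantSheaf (J.over W) A).map h := by
  obtain ⟨S, hS, H⟩ := exists_sieve_map_eq_const J hM (α.inv ≫ (J.overPullback A U).map φ ≫ β.hom)
  refine ⟨S, hS, fun {W} g hg => ?_⟩
  obtain ⟨h, hh⟩ := H g hg
  refine ⟨h, ?_⟩
  simp only [trivRes, Iso.trans_hom, Iso.symm_hom, Functor.mapIso_hom, Iso.app_hom,
    Category.assoc]
  rw [pushforwardOverMapIso_inv_naturality_assoc]
  congr 1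
  have h2 : (J.overMapPullback A g).map ((J.overPullback A U).map φ) ≫
      (J.overMapPullback A g).map β.hom =
      (J.overMapPullback A g).map α.hom ≫
        (J.overMapPullback A g).map (α.inv ≫ (J.overPullback A U).map φ ≫ β.hom) := by
    simp only [← Functor.map_comp]
    congr 1
    simp
  rw [reassoc_of% h2, hh]
  simp only [Category.assoc, Iso.inv_hom_id_app, Category.comp_id]

end Over

end Groth.Agent.Helper10.LcSite
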