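import Mathlib
import Groth.Agent.Lib.Helper10.LcSite

/-!
# Restriction to over-sites commutes with sheaf pullback; pullback of constant sheaves
-/

set_option autoImplicit false

open CategoryTheory CategoryTheory.Limits Opposite

namespace Groth.Agent.Helper10.LcPull

universe v₁ u₁ v₂ u₂ v u

section

variable {C : Type u₁} [Category.{v₁} C] {D : Type u₂} [Category.{v₂} D]
  [HasBinaryProducts C] [HasBinaryProducts D]
  (Φ : C ⥤ D) [PreservesLimitsOfShape (Discrete WalkingPair) Φ] (V : C)

/-- `Φ` commutes with the functors `W ↦ (V × W → V)`. -/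
noncomputable def starPostIso : Φ ⋙ Over.star (Φ.obj V) ≅ Over.star V ⋙ Over.post Φ :=
  NatIso.ofComponents
    (fun W => Over.isoMk (PreservesLimitPair.iso Φ V W).symm (by
      rw [Iso.symm_hom, Iso.inv_comp_eq]
      change Φ.map (prod.lift prod.fst (𝟙 (V ⨯ W)) ≫ prod.fst) =
        (PreservesLimitPair.iso Φ V W).hom ≫
          (prod.lift prod.fst (𝟙 (Φ.obj V ⨯ Φ.obj W)) ≫ prod.fst)
      rw [prod.lift_fst, prod.lift_fst, PreservesLimitPair.iso_hom, prodComparison_fst]))
    (by
      intro W W' g
      ext
      simp only [Functor.comp_obj, Functor.comp_map, Over.comp_left, Over.isoMk_hom_left,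
        Iso.symm_hom, Over.post_map, Over.homMk_left, Over.star_map_left]
      rw [Iso.eq_inv_comp, ← Category.assoc, Iso.comp_inv_eq]
      simp only [PreservesLimitPair.iso_hom]
      have := prodComparison_natural Φ (𝟙 V) g
      rw [Φ.map_id] at this
      exact this.symm)

end

section

variable {C : Type u₁} [Category.{v₁} C] {D : Type u₂} [Category.{v₂} D]
  [HasBinaryProducts C] [HasBinaryProducts D]
  (J : GrothendieckTopology C) (K : GrothendieckTopology D)
  (Φ : C ⥤ D) [PreservesLimitsOfShape (Discrete WalkingPair) Φ] [Φ.IsContinuous J K]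
  (A : Type u) [Category.{v} A] (V : C)
  [(Over.post Φ (X := V)).IsContinuous (J.over V) (K.over (Φ.obj V))]
  [(Φ.sheafPushforwardContinuous A J K).IsRightAdjoint]
  [((Over.post Φ (X := V)).sheafPushforwardContinuous A (J.over V)
    (K.over (Φ.obj V))).IsRightAdjoint]

/-- Restriction to over-sites commutes with sheaf pullback. -/
noncomputable def resPullIso :
    Φ.sheafPullback A J K ⋙ K.overPullback A (Φ.obj V) ≅
      J.overPullback A V ⋙
        (Over.post Φ (X := V)).sheafPullback A (J.over V) (K.over (Φ.obj V)) := by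
  let adj₁ := (Φ.sheafAdjunctionContinuous A J K).comp
    ((Over.forgetAdjStar (Φ.obj V)).sheafPushforwardContinuous (E := A) (K.over (Φ.obj V)) K)
  let adj₂ := ((Over.forgetAdjStar V).sheafPushforwardContinuous (E := A) (J.over V) J).comp
    ((Over.post Φ (X := V)).sheafAdjunctionContinuous A (J.over V) (K.over (Φ.obj V)))
  haveI : (Over.star V ⋙ Over.post Φ (X := V)).IsContinuous J (K.over (Φ.obj V)) :=
    Functor.isContinuous_comp _ _ J (J.over V) _
  let isoR : (Over.star (Φ.obj V)).sheafPushforwardContinuous A K (K.over (Φ.obj V)) ⋙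
      Φ.sheafPushforwardContinuous A J K ≅
      (Over.post Φ (X := V)).sheafPushforwardContinuous A (J.over V) (K.over (Φ.obj V)) ⋙
        (Over.star V).sheafPushforwardContinuous A J (J.over V) :=
    Functor.sheafPushforwardContinuousComp' (starPostIso Φ V) A J K (K.over (Φ.obj V)) ≪≫
      (Functor.sheafPushforwardContinuousComp' (Iso.refl _) A J (J.over V)
        (K.over (Φ.obj V))).symm
  exact Adjunction.leftAdjointUniq adj₁ (adj₂.ofNatIsoRight isoR.symm)

end

section ConstPull

variable {C : Type u₁} [Category.{v₁} C] {D : Type u₂} [Category.{v₂} D]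
  (J : GrothendieckTopology C) (K : GrothendieckTopology D)
  (Ψ : C ⥤ D) [Ψ.IsContinuous J K] (A : Type u) [Category.{v} A]
  [HasWeakSheafify J A] [HasWeakSheafify K A]
  [(Ψ.sheafPushforwardContinuous A J K).IsRightAdjoint]

/-- The pullback of a constant sheaf along a continuous functor preserving the terminal object is
constant. -/
noncomputable def constPull {T : C} (hT : IsTerminal T) (hT' : IsTerminal (Ψ.obj T)) :
    constantSheaf J A ⋙ Ψ.sheafPullback A J K ≅ constantSheaf K A :=
  Adjunction.leftAdjointUniq
    ((constantSheafAdj J A hT).comp (Ψ.sheafAdjunctionContinuous A J K))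
    ((constantSheafAdj K A hT').ofNatIsoRight
      (NatIso.ofComponents (fun F => Iso.refl _)
        (by intros; exact (Category.comp_id _).trans (Category.id_comp _).symm) :
        (sheafSections K A).obj (op (Ψ.obj T)) ≅
          Ψ.sheafPushforwardContinuous A J K ⋙ (sheafSections J A).obj (op T)))

end ConstPull

section Combined

variable {C : Type u₁} [Category.{v₁} C] {D : Type u₂} [Category.{v₂} D]
  [HasBinaryProducts C] [HasBinaryProducts D]
  (J : GrothendieckTopology C) (K : GrothendieckTopology D)
  (Φ : C ⥤ D) [PreservesLimitsOfShape (Discrete WalkingPair) Φ] [Φ.IsContinuous J K]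
  (A : Type u) [Category.{v} A] (V : C)
  [(Over.post Φ (X := V)).IsContinuous (J.over V) (K.over (Φ.obj V))]
  [(Φ.sheafPushforwardContinuous A J K).IsRightAdjoint]
  [((Over.post Φ (X := V)).sheafPushforwardContinuous A (J.over V)
    (K.over (Φ.obj V))).IsRightAdjoint]
  [HasWeakSheafify (J.over V) A] [HasWeakSheafify (K.over (Φ.obj V)) A]

/-- If `G` is constant over `V`, then its pullback along `Φ` is constant over `Φ.obj V`, with the
same value. -/
noncomputable def pullTriv {G : Sheaf J A} {M : A}
    (α : G.over V ≅ (constantSheaf (J.over V) A).obj M) :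
    ((Φ.sheafPullback A J K).obj G).over (Φ.obj V) ≅
      (constantSheaf (K.over (Φ.obj V)) A).obj M :=
  (resPullIso J K Φ A V).app G ≪≫
    ((Over.post Φ (X := V)).sheafPullback A (J.over V) (K.over (Φ.obj V))).mapIso α ≪≫
    (constPull (J.over V) (K.over (Φ.obj V)) (Over.post Φ (X := V)) A Over.mkIdTerminal
      (IsTerminal.ofIso Over.mkIdTerminal (Over.isoMk (Iso.refl _) (by
        change 𝟙 (Φ.obj V) ≫ Φ.map (𝟙 V) = 𝟙 (Φ.obj V)
        simp)))).app M

end Combined

end Groth.Agent.Helper10.LcPull
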