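import Mathlib
import Groth.Prelude.Def_PBC
import Groth.Prelude.Def_EtCore
import Groth.Agent.S6642

/-!
# Common refinement of stratifications adapted to two sheaves
-/

set_option autoImplicit false

open CategoryTheory CategoryTheory.Limits AlgebraicGeometry Opposite

namespace Groth.Agent.Helper10.LcStrata

universe u

lemma isFLC_of_iso {X : Scheme.{u}} {F G : EtCoh.Ab X} (e : F ≅ G)
    (h : EtCoh.IsFiniteLocallyConstant F) : EtCoh.IsFiniteLocallyConstant G := by
  obtain ⟨ι, U, hU, H⟩ := h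
  refine ⟨ι, U, hU, fun i => ?_⟩
  obtain ⟨M, iM, fM, ⟨α⟩⟩ := H i
  exact ⟨M, iM, fM,
    ⟨(X.smallEtaleTopology.overPullback AddCommGrpCat.{u + 1} (U i)).mapIso e.symm ≪≫ α⟩⟩

lemma isFLC_pull {X Y : Scheme.{u}} (f : X ⟶ Y) {G : EtCoh.Ab Y}
    (h : EtCoh.IsFiniteLocallyConstant G) :
    EtCoh.IsFiniteLocallyConstant ((EtCoh.pull f).obj G) :=
  (Groth.Agent.S6642.result f).2.1 G h

/-- pullback along a composite, given finite local constancy after the first pullback. -/
lemma isFLC_pull_comp {X Y Z : Scheme.{u}} (f : X ⟶ Y) (g : Y ⟶ Z) {h : X ⟶ Z} (w : f ≫ g = h)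
    {G : EtCoh.Ab Z} (hG : EtCoh.IsFiniteLocallyConstant ((EtCoh.pull g).obj G)) :
    EtCoh.IsFiniteLocallyConstant ((EtCoh.pull h).obj G) := by
  subst w
  exact isFLC_of_iso ((EtCore.pullComp f g).app G).symm (isFLC_pull f hG)

theorem adaptedStrata_common {X : Scheme.{u}} (F G : EtCoh.Ab X) (S : Set X)
    (hF : EtPBC.AdaptedStrata F S) (hG : EtPBC.AdaptedStrata G S) :
    ∃ (n : ℕ) (T : Fin n → Scheme.{u}) (g : ∀ i, T i ⟶ X),
      (∀ i, IsImmersion (g i)) ∧
      (∀ i, Topology.IsConstructible ((Subtype.val : S → X) ⁻¹' Set.range (g i))) ∧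
      Pairwise (fun i j => Disjoint (Set.range (g i)) (Set.range (g j))) ∧
      (⋃ i, Set.range (g i)) = S ∧
      ∀ i, EtCoh.IsFiniteLocallyConstant ((EtCoh.pull (g i)).obj F) ∧
        EtCoh.IsFiniteLocallyConstant ((EtCoh.pull (g i)).obj G) := by
  obtain ⟨n, T, g, hi, hc, hd, hu, hl⟩ := hF
  obtain ⟨m, T', g', hi', hc', hd', hu', hl'⟩ := hG
  let e : Fin (n * m) ≃ Fin n × Fin m := finProdFinEquiv.symm
  have hrange : ∀ k : Fin (n * m),
      Set.range (pullback.fst (g (e k).1) (g' (e k).2) ≫ g (e k).1) =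
        Set.range (g (e k).1) ∩ Set.range (g' (e k).2) := by
    intro k
    rw [Scheme.Hom.comp_base, TopCat.coe_comp, Set.range_comp, Scheme.Pullback.range_fst,
      Set.image_preimage_eq_inter_range, Set.inter_comm]
  refine ⟨n * m, fun k => pullback (g (e k).1) (g' (e k).2),
    fun k => pullback.fst (g (e k).1) (g' (e k).2) ≫ g (e k).1, ?_, ?_, ?_, ?_, ?_⟩
  · intro k
    have := hi (e k).1
    have := hi' (e k).2
    infer_instance
  · intro k
    rw [hrange k, Set.preimage_inter]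
    exact (hc _).inter (hc' _)
  · intro k l hkl
    rw [hrange k, hrange l]
    have hne : e k ≠ e l := fun h => hkl (e.injective h)
    by_cases h1 : (e k).1 = (e l).1
    · have h2 : (e k).2 ≠ (e l).2 := fun h2 => hne (Prod.ext h1 h2)
      exact (hd' h2).mono Set.inter_subset_right Set.inter_subset_right
    · exact (hd h1).mono Set.inter_subset_left Set.inter_subset_left
  · ext x
    simp only [Set.mem_iUnion]
    constructor
    · rintro ⟨k, hk⟩
      rw [hrange k] at hk
      rw [← hu]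
      exact Set.mem_iUnion.2 ⟨_, hk.1⟩
    · intro hx
      have hx1 := hx
      rw [← hu] at hx1
      rw [← hu'] at hx
      obtain ⟨i, hi1⟩ := Set.mem_iUnion.1 hx1
      obtain ⟨j, hj1⟩ := Set.mem_iUnion.1 hx
      refine ⟨e.symm (i, j), ?_⟩
      rw [hrange, Equiv.apply_symm_apply]
      exact ⟨hi1, hj1⟩
  · intro k
    constructor
    · exact isFLC_pull_comp _ _ rfl (hl (e k).1)
    · exact isFLC_pull_comp _ _ pullback.condition.symm (hl' (e k).2)

end Groth.Agent.Helper10.LcStrata
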