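import Mathlib
import Groth.Prelude.Def_EtBase
import Groth.Agent.Lib.Helper10.EtLoc
import Groth.Prelude.Def_EtCore

/-!
# The over-site of an étale `Y`-scheme `V` is the small étale site of `V`
-/

set_option autoImplicit false

namespace Groth.Agent.Helper10.OverEt

open CategoryTheory CategoryTheory.Limits AlgebraicGeometry Opposite
open Groth.Agent.Helper10

universe u

variable {V Y : Scheme.{u}} (j : V ⟶ Y) [Etale j]

/-- The object `(V → Y)` of the small étale site of `Y`. -/
noncomputable abbrev ob : Y.Etale := Scheme.Etale.mk j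

/-- `T ↦ (T → V)` viewed over `(V → Y)`. -/
noncomputable def Psi : V.Etale ⥤ Over (ob j) where
  obj T := Over.mk (MorphismProperty.Over.homMk T.hom rfl trivial : (EtLoc.phi j).obj T ⟶ ob j)
  map {T T'} g := Over.homMk ((EtLoc.phi j).map g) (by
    apply MorphismProperty.Over.Hom.ext
    exact Over.w g.hom)
  map_id T := by
    apply Over.OverMorphism.ext
    exact (EtLoc.phi j).map_id T
  map_comp g g' := by
    apply Over.OverMorphism.ext
    exact (EtLoc.phi j).map_comp g g'

lemma Psi_forget : Psi j ⋙ Over.forget (ob j) = EtLoc.phi j := rfl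

/-- `(T → V over Y) ↦ (T → V)`. -/
noncomputable def kap : Over (ob j) ⥤ V.Etale where
  obj t :=
    let a : t.left ⟶ ob j := t.hom
    let b : t.left.left ⟶ V := a.left
    haveI : Etale b := (inferInstance : Etale a.left)
    Scheme.Etale.mk b
  map {t t'} a := MorphismProperty.Over.homMk a.left.left
    (congrArg (fun m => m.left) (Over.w a)) trivial
  map_id t := by
    apply MorphismProperty.Over.Hom.ext
    rfl
  map_comp a a' := by
    apply MorphismProperty.Over.Hom.ext
    rfl

lemma kap_obj_left (t : Over (ob j)) : ((kap j).obj t).left = t.left.left := rfl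

lemma kap_map_left {t t' : Over (ob j)} (a : t ⟶ t') : ((kap j).map a).left = a.left.left := rfl

lemma Psi_obj_left_left (T : V.Etale) : ((Psi j).obj T).left.left = T.left := rfl

lemma Psi_map_left_left {T T' : V.Etale} (g : T ⟶ T') : ((Psi j).map g).left.left = g.left := rfl

/-- `Psi ⋙ kap ≅ 𝟭`. -/
noncomputable def eta₁ : Psi j ⋙ kap j ≅ 𝟭 V.Etale :=
  NatIso.ofComponents
    (fun T => MorphismProperty.Over.isoMk (Iso.refl T.left) (by
      show 𝟙 T.left ≫ T.hom = T.hom
      exact Category.id_comp _))
    (by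
      intro T T' g
      apply MorphismProperty.Over.Hom.ext
      show g.left ≫ 𝟙 _ = 𝟙 _ ≫ g.left
      rw [Category.comp_id, Category.id_comp])

/-- `kap ⋙ Psi ≅ 𝟭`. -/
noncomputable def eta₂ : kap j ⋙ Psi j ≅ 𝟭 (Over (ob j)) :=
  NatIso.ofComponents
    (fun t => Over.isoMk (MorphismProperty.Over.isoMk (Iso.refl t.left.left) (by
      let a : t.left ⟶ ob j := t.hom
      show 𝟙 t.left.left ≫ t.left.hom = a.left ≫ j
      rw [Category.id_comp]
      exact (Over.w a.hom).symm)) (by
      apply MorphismProperty.Over.Hom.ext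
      let a : t.left ⟶ ob j := t.hom
      show 𝟙 t.left.left ≫ a.left = a.left
      exact Category.id_comp _))
    (by
      intro t t' a
      apply Over.OverMorphism.ext
      apply MorphismProperty.Over.Hom.ext
      show a.left.left ≫ 𝟙 _ = 𝟙 _ ≫ a.left.left
      rw [Category.comp_id, Category.id_comp])

/-- The equivalence of categories. -/
noncomputable def eqv : V.Etale ≌ Over (ob j) :=
  CategoryTheory.Equivalence.mk (Psi j) (kap j) (eta₁ j).symm (eta₂ j)

lemma Psi_coverPreserving :
    CoverPreserving V.smallEtaleTopology (Y.smallEtaleTopology.over (ob j)) (Psi j) where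
  cover_preserve {U S} hS := by
    rw [GrothendieckTopology.mem_over_iff]
    have h : Sieve.overEquiv _ (Sieve.functorPushforward (Psi j) S) =
        Sieve.functorPushforward (EtLoc.phi j) S := by
      show Sieve.functorPushforward (Over.forget (ob j)) (Sieve.functorPushforward (Psi j) S) = _
      rw [← Sieve.functorPushforward_comp]
      rfl
    rw [h]
    exact (EtLoc.phi_coverPreserving j).cover_preserve hS

lemma kap_coverPreserving :
    CoverPreserving (Y.smallEtaleTopology.over (ob j)) V.smallEtaleTopology (kap j) where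
  cover_preserve {t S} hS := by
    rw [GrothendieckTopology.mem_over_iff, EtLoc.mem_iff] at hS
    rw [EtLoc.mem_iff]
    intro x
    obtain ⟨Z, g, z, hg, hz⟩ := hS x
    rw [Sieve.overEquiv_iff] at hg
    exact ⟨_, (kap j).map (Over.homMk g : Over.mk (g ≫ t.hom) ⟶ t), z,
      Sieve.image_mem_functorPushforward _ _ hg, hz⟩

instance kap_cocont :
    (kap j).IsCocontinuous (Y.smallEtaleTopology.over (ob j)) V.smallEtaleTopology :=
  ((eqv j).symm.toAdjunction.isCocontinuous_iff_coverPreserving
    (Y.smallEtaleTopology.over (ob j)) V.smallEtaleTopology).2 (Psi_coverPreserving j)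

instance Psi_cocont :
    (Psi j).IsCocontinuous V.smallEtaleTopology (Y.smallEtaleTopology.over (ob j)) :=
  ((eqv j).toAdjunction.isCocontinuous_iff_coverPreserving
    V.smallEtaleTopology (Y.smallEtaleTopology.over (ob j))).2 (kap_coverPreserving j)

instance Psi_cont :
    (Psi j).IsContinuous V.smallEtaleTopology (Y.smallEtaleTopology.over (ob j)) :=
  haveI : (eqv j).symm.functor.IsCocontinuous (Y.smallEtaleTopology.over (ob j))
    V.smallEtaleTopology := kap_cocont j
  (eqv j).symm.toAdjunction.isContinuous_of_isCocontinuous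
    (Y.smallEtaleTopology.over (ob j)) V.smallEtaleTopology

instance kap_cont :
    (kap j).IsContinuous (Y.smallEtaleTopology.over (ob j)) V.smallEtaleTopology :=
  haveI : (eqv j).functor.IsCocontinuous V.smallEtaleTopology
    (Y.smallEtaleTopology.over (ob j)) := Psi_cocont j
  (eqv j).toAdjunction.isContinuous_of_isCocontinuous
    V.smallEtaleTopology (Y.smallEtaleTopology.over (ob j))

section Generic

universe v₁ u₁ v₂ u₂ v' u'

variable {C : Type u₁} [Category.{v₁} C] {D : Type u₂} [Category.{v₂} D]
  (J : GrothendieckTopology C) (K : GrothendieckTopology D)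
  {F : C ⥤ D} {G : D ⥤ C} (adj : F ⊣ G) [F.IsContinuous J K] [G.IsContinuous K J]
  (A : Type u') [Category.{v'} A] [HasWeakSheafify J A] [HasWeakSheafify K A]

/-- For adjoint continuous functors `F ⊣ G`, restriction along `F` of a constant sheaf is
constant. -/
noncomputable def constIsoOfAdj {T : D} (hT : IsTerminal T) (hT' : IsTerminal (G.obj T)) :
    constantSheaf K A ⋙ F.sheafPushforwardContinuous A J K ≅ constantSheaf J A :=
  Adjunction.leftAdjointUniq
    ((constantSheafAdj K A hT).comp (adj.sheafPushforwardContinuous (E := A) J K))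
    ((constantSheafAdj J A hT').ofNatIsoRight
      (NatIso.ofComponents (fun P => Iso.refl _)
        (by intros; exact (Category.comp_id _).trans (Category.id_comp _).symm) :
        (sheafSections J A).obj (op (G.obj T)) ≅
          G.sheafPushforwardContinuous A K J ⋙ (sheafSections K A).obj (op T)))

end Generic

section L1

abbrev AbC := AddCommGrpCat.{u + 1}

/-- `Ψ^p (G|_{(V → Y)}) ≅ res j G`. -/
noncomputable def PsiRestr (G : EtCoh.Ab Y) :
    ((Psi j).sheafPushforwardContinuous AbC.{u} V.smallEtaleTopology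
      (Y.smallEtaleTopology.over (ob j))).obj (EtCoh.restr G (ob j)) ≅ (EtLoc.res j).obj G :=
  (Functor.sheafPushforwardContinuousComp' (F := Psi j) (G := Over.forget (ob j))
    (FG := EtLoc.phi j) (Iso.refl _) AbC.{u} V.smallEtaleTopology
    (Y.smallEtaleTopology.over (ob j)) Y.smallEtaleTopology).app G

/-- `κ^p Ψ^p ≅ 𝟭`. -/
noncomputable def kapPsi :
    (Psi j).sheafPushforwardContinuous AbC.{u} V.smallEtaleTopology
      (Y.smallEtaleTopology.over (ob j)) ⋙
    (kap j).sheafPushforwardContinuous AbC.{u} (Y.smallEtaleTopology.over (ob j))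
      V.smallEtaleTopology ≅ 𝟭 _ :=
  Functor.sheafPushforwardContinuousComp' (F := kap j) (G := Psi j) (FG := 𝟭 _) (eta₂ j) AbC.{u}
    (Y.smallEtaleTopology.over (ob j)) V.smallEtaleTopology (Y.smallEtaleTopology.over (ob j)) ≪≫
    Functor.sheafPushforwardContinuousId _ _

/-- `Ψ^p` of a constant sheaf is constant. -/
noncomputable def PsiConst :
    constantSheaf (Y.smallEtaleTopology.over (ob j)) AbC.{u} ⋙
      (Psi j).sheafPushforwardContinuous AbC.{u} V.smallEtaleTopology
        (Y.smallEtaleTopology.over (ob j)) ≅ constantSheaf V.smallEtaleTopology AbC.{u} :=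
  haveI : (kap j).IsEquivalence := (eqv j).isEquivalence_inverse
  constIsoOfAdj (F := Psi j) (G := kap j) V.smallEtaleTopology
    (Y.smallEtaleTopology.over (ob j)) (eqv j).toAdjunction
    AbC.{u} Over.mkIdTerminal (IsTerminal.isTerminalObj (kap j) _ Over.mkIdTerminal)

/-- `κ^p` of a constant sheaf is constant. -/
noncomputable def kapConst :
    constantSheaf V.smallEtaleTopology AbC.{u} ⋙
      (kap j).sheafPushforwardContinuous AbC.{u} (Y.smallEtaleTopology.over (ob j))
        V.smallEtaleTopology ≅ constantSheaf (Y.smallEtaleTopology.over (ob j)) AbC.{u} :=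
  haveI : (Psi j).IsEquivalence := (eqv j).isEquivalence_functor
  constIsoOfAdj (F := kap j) (G := Psi j) (Y.smallEtaleTopology.over (ob j))
    V.smallEtaleTopology (eqv j).symm.toAdjunction
    AbC.{u} (EtCore.topIsTerminal V) (IsTerminal.isTerminalObj (Psi j) _ (EtCore.topIsTerminal V))

/-- If `G` is constant over `(V → Y)` then `j⁻¹ G` is constant. -/
noncomputable def pullOfRestr (G : EtCoh.Ab Y) (M : AbC.{u})
    (β : EtCoh.restr G (ob j) ≅
      (constantSheaf (Y.smallEtaleTopology.over (ob j)) AbC.{u}).obj M) :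
    (EtCoh.pull j).obj G ≅ (constantSheaf V.smallEtaleTopology AbC.{u}).obj M :=
  (EtLoc.pullIsoRes j).app G ≪≫ (PsiRestr j G).symm ≪≫
    ((Psi j).sheafPushforwardContinuous AbC.{u} V.smallEtaleTopology
      (Y.smallEtaleTopology.over (ob j))).mapIso β ≪≫ (PsiConst j).app M

/-- If `j⁻¹ G` is constant then `G` is constant over `(V → Y)`. -/
noncomputable def restrOfPull (G : EtCoh.Ab Y) (M : AbC.{u})
    (γ : (EtCoh.pull j).obj G ≅ (constantSheaf V.smallEtaleTopology AbC.{u}).obj M) :
    EtCoh.restr G (ob j) ≅ (constantSheaf (Y.smallEtaleTopology.over (ob j)) AbC.{u}).obj M :=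
  ((kapPsi j).app (EtCoh.restr G (ob j))).symm ≪≫
    ((kap j).sheafPushforwardContinuous AbC.{u} (Y.smallEtaleTopology.over (ob j))
      V.smallEtaleTopology).mapIso
      (PsiRestr j G ≪≫ ((EtLoc.pullIsoRes j).app G).symm ≪≫ γ) ≪≫ (kapConst j).app M

end L1

end Groth.Agent.Helper10.OverEt
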