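import Mathlib
import Groth.Prelude.Def_EtBase
import Groth.Prelude.Def_EtCore
import Groth.Agent.Lib.Helper10.EtLoc
import Groth.Agent.Lib.Helper10.OverEt
import Groth.Agent.Lib.Helper10.LcStrata

/-!
# Finite local constancy is étale local; direct image along an isomorphism
-/

set_option autoImplicit false

namespace Groth.Agent.Helper10.FlcLocal

open CategoryTheory CategoryTheory.Limits AlgebraicGeometry Opposite
open Groth.Agent.Helper10

universe u

/-- `G` is finite constant on an étale neighbourhood of `x`. -/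
def FlcAt {X : Scheme.{u}} (G : EtCoh.Ab X) (x : X) : Prop :=
  ∃ (U : X.Etale) (y : U.left), U.hom.base y = x ∧
    ∃ (M : Type) (_ : AddCommGroup M) (_ : Finite M),
      Nonempty (EtCoh.restr G U ≅
        (constantSheaf (X.smallEtaleTopology.over U) AddCommGrpCat.{u + 1}).obj
          (AddCommGrpCat.of (ULift.{u + 1} M)))

lemma isFLC_iff_flcAt {X : Scheme.{u}} (G : EtCoh.Ab X) :
    EtCoh.IsFiniteLocallyConstant G ↔ ∀ x : X, FlcAt G x := by
  constructor
  · rintro ⟨ι, U, hU, h⟩ x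
    obtain ⟨i, y, hy⟩ := hU x
    exact ⟨U i, y, hy, h i⟩
  · intro h
    choose U y hy hM using h
    exact ⟨X, U, fun x => ⟨x, y x, hy x⟩, hM⟩

/-- Finite local constancy is étale local on the base. -/
theorem isFLC_of_locally {Y : Scheme.{u}} (G : EtCoh.Ab Y)
    (h : ∀ y : Y, ∃ (U : Scheme.{u}) (g : U ⟶ Y) (_ : Etale g) (u : U), g.base u = y ∧
      EtCoh.IsFiniteLocallyConstant ((EtCoh.pull g).obj G)) :
    EtCoh.IsFiniteLocallyConstant G := by
  rw [isFLC_iff_flcAt]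
  intro y
  obtain ⟨U, g, hg, u, hu, hH⟩ := h y
  rw [isFLC_iff_flcAt] at hH
  obtain ⟨W', w', hw', M, iM, fM, ⟨β⟩⟩ := hH u
  let k : (W'.left : Scheme.{u}) ⟶ U := W'.hom
  haveI : Etale k := W'.prop
  have β' : EtCoh.restr ((EtCoh.pull g).obj G) (OverEt.ob k) ≅
      (constantSheaf (U.smallEtaleTopology.over (OverEt.ob k)) AddCommGrpCat.{u + 1}).obj
        (AddCommGrpCat.of (ULift.{u + 1} M)) := β
  have γ₀ := OverEt.pullOfRestr k ((EtCoh.pull g).obj G) _ β'
  have γ : (EtCoh.pull (k ≫ g)).obj G ≅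
      (constantSheaf (W'.left : Scheme.{u}).smallEtaleTopology AddCommGrpCat.{u + 1}).obj
        (AddCommGrpCat.of (ULift.{u + 1} M)) :=
    (EtCore.pullComp k g).app G ≪≫ γ₀
  refine ⟨OverEt.ob (k ≫ g), w', ?_, M, iM, fM, ⟨OverEt.restrOfPull (k ≫ g) G _ γ⟩⟩
  show (k ≫ g).base w' = y
  rw [Scheme.Hom.comp_base, TopCat.comp_app, ← hu]
  exact congrArg _ hw'

/-- Composition with the identity is the identity functor. -/
noncomputable def phiId (X : Scheme.{u}) : EtLoc.phi (𝟙 X) ≅ 𝟭 X.Etale :=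
  MorphismProperty.Over.mapId (P := EtCoh.etaleMP) (Q := ⊤) X

/-- Inverse image along the identity. -/
noncomputable def pullId (X : Scheme.{u}) : EtCoh.pull (𝟙 X) ≅ 𝟭 (EtCoh.Ab X) :=
  EtLoc.pullIsoRes (𝟙 X) ≪≫ Functor.sheafPushforwardContinuousId' (phiId X) _ _

/-- For an isomorphism `c`, `c_* ≅ (c⁻¹)⁻¹`. -/
noncomputable def pushIsoPullInv {V U : Scheme.{u}} (c : V ⟶ U) [IsIso c] :
    EtCoh.push c ≅ EtCoh.pull (inv c) := by
  let e₁ : EtCoh.pull (inv c) ⋙ EtCoh.pull c ≅ 𝟭 (EtCoh.Ab V) :=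
    (EtCore.pullComp c (inv c)).symm ≪≫ EtCore.pullCongr (IsIso.hom_inv_id c) ≪≫ pullId V
  let e₂ : EtCoh.pull c ⋙ EtCoh.pull (inv c) ≅ 𝟭 (EtCoh.Ab U) :=
    (EtCore.pullComp (inv c) c).symm ≪≫ EtCore.pullCongr (IsIso.inv_hom_id c) ≪≫ pullId U
  let E : EtCoh.Ab U ≌ EtCoh.Ab V :=
    CategoryTheory.Equivalence.mk (EtCoh.pull c) (EtCoh.pull (inv c)) e₂.symm e₁
  exact Adjunction.rightAdjointUniq (EtCoh.pullPushAdj c) E.toAdjunction

theorem isFLC_push_of_isIso {V U : Scheme.{u}} (c : V ⟶ U) [IsIso c] {K : EtCoh.Ab V}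
    (hK : EtCoh.IsFiniteLocallyConstant K) :
    EtCoh.IsFiniteLocallyConstant ((EtCoh.push c).obj K) :=
  LcStrata.isFLC_of_iso ((pushIsoPullInv c).app K).symm (LcStrata.isFLC_pull (inv c) hK)

end Groth.Agent.Helper10.FlcLocal
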