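import Mathlib
import Groth.Agent.Lib.Helper10.LcSite

/-!
# Exactness of restriction and of constant sheaves; kernels and cokernels of maps of constant sheaves
-/

set_option autoImplicit false

open CategoryTheory CategoryTheory.Limits Opposite

namespace Groth.Agent.Helper10.LcExact

open Groth.Agent.Helper10.LcSite

universe v₁ u₁ v u

section

variable {C : Type u₁} [Category.{v₁} C] (J : GrothendieckTopology C)
  (A : Type u) [Category.{v} A] [Abelian A]
  [HasSheafify J A]
  [∀ W : C, HasSheafify (J.over W) A]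
  [∀ {W U : C} (g : W ⟶ U) (F : (Over W)ᵒᵖ ⥤ A), (Over.map g).op.HasPointwiseRightKanExtension F]
  [∀ (U : C) (F : (Over U)ᵒᵖ ⥤ A), (Over.forget U).op.HasPointwiseRightKanExtension F]

omit [Abelian A] [HasSheafify J A] [∀ W : C, HasSheafify (J.over W) A]
  [∀ {W U : C} (g : W ⟶ U) (F : (Over W)ᵒᵖ ⥤ A), (Over.map g).op.HasPointwiseRightKanExtension F]
  [∀ (U : C) (F : (Over U)ᵒᵖ ⥤ A), (Over.forget U).op.HasPointwiseRightKanExtension F] in
lemma preservesFiniteLimits_pushforward {D : Type*} [Category D] (K : GrothendieckTopology D)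
    (G : C ⥤ D) [G.IsContinuous J K] [HasFiniteLimits A] [HasSheafify J A] [HasSheafify K A] :
    PreservesFiniteLimits (G.sheafPushforwardContinuous A J K) := by
  have h1 : PreservesFiniteLimits (sheafToPresheaf K A ⋙ (Functor.whiskeringLeft _ _ A).obj G.op) :=
    inferInstance
  have h2 : PreservesFiniteLimits (G.sheafPushforwardContinuous A J K ⋙ sheafToPresheaf J A) :=
    preservesFiniteLimits_of_natIso (G.sheafPushforwardContinuousCompSheafToPresheafIso A J K).symm
  exact preservesFiniteLimits_of_reflects_of_preserves _ (sheafToPresheaf J A)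

instance (W : C) : PreservesFiniteLimits (constantSheaf (J.over W) A) := by
  unfold constantSheaf
  infer_instance

example (W : C) : PreservesFiniteColimits (constantSheaf (J.over W) A) := inferInstance

instance (W : C) : (constantSheaf (J.over W) A).Additive := by
  unfold constantSheaf
  infer_instance

instance (W : C) : (J.overPullback A W).Additive where

instance {W U : C} (g : W ⟶ U) : (J.overMapPullback A g).Additive where

instance (W : C) : PreservesFiniteLimits (J.overPullback A W) :=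
  preservesFiniteLimits_pushforward _ A _ _

instance (W : C) : PreservesFiniteColimits (J.overPullback A W) := by
  have : PreservesColimitsOfSize.{0, 0} (J.overPullback A W) :=
    ((Over.forget W).sheafAdjunctionCocontinuous A (J.over W) J).leftAdjoint_preservesColimits
  exact PreservesColimitsOfSize.preservesFiniteColimits _

instance {W U : C} (g : W ⟶ U) : PreservesFiniteColimits (J.overMapPullback A g) := by
  have : PreservesColimitsOfSize.{0, 0} (J.overMapPullback A g) :=
    ((Over.map g).sheafAdjunctionCocontinuous A (J.over W) (J.over U)).leftAdjoint_preservesColimits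
  exact PreservesColimitsOfSize.preservesFiniteColimits _

instance {W U : C} (g : W ⟶ U) : PreservesFiniteLimits (J.overMapPullback A g) :=
  preservesFiniteLimits_pushforward _ A _ _

variable {J A}

/-- If `φ` is over `W` the map of constant sheaves induced by `h`, then its kernel and cokernel are
over `W` the constant sheaves on the kernel and cokernel of `h`. -/
theorem kernel_cokernel_triv {F G : Sheaf J A} (φ : F ⟶ G) {W : C} {M N : A} (h : M ⟶ N)
    (α : F.over W ≅ (constantSheaf (J.over W) A).obj M)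
    (β : G.over W ≅ (constantSheaf (J.over W) A).obj N)
    (hh : (J.overPullback A W).map φ ≫ β.hom = α.hom ≫ (constantSheaf (J.over W) A).map h) :
    Nonempty ((kernel φ).over W ≅ (constantSheaf (J.over W) A).obj (kernel h)) ∧
    Nonempty ((cokernel φ).over W ≅ (constantSheaf (J.over W) A).obj (cokernel h)) := by
  constructor
  · exact ⟨PreservesKernel.iso (J.overPullback A W) φ ≪≫ kernel.mapIso _ _ α β hh ≪≫
      (PreservesKernel.iso (constantSheaf (J.over W) A) h).symm⟩
  · exact ⟨PreservesCokernel.iso (J.overPullback A W) φ ≪≫ cokernel.mapIso _ _ α β hh ≪≫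
      (PreservesCokernel.iso (constantSheaf (J.over W) A) h).symm⟩

/-- Compatibility of restricted trivialisations with the canonical sections. -/
lemma trivRes_inv_eta {F : Sheaf J A} {U : C} {M : A}
    (α : F.over U ≅ (constantSheaf (J.over U) A).obj M) {W : C} (g : W ⟶ U) :
    eta (J.over W) A M (Over.mk (𝟙 W)) ≫ (trivRes J α g).inv.hom.app (op (Over.mk (𝟙 W))) =
      (eta (J.over U) A M (Over.mk (𝟙 U)) ≫ α.inv.hom.app (op (Over.mk (𝟙 U))) :
        M ⟶ F.obj.obj (op U)) ≫ F.obj.map g.op := by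
  let f : (Over.map g).obj (Over.mk (𝟙 W)) ⟶ Over.mk (𝟙 U) := Over.homMk g (by simp)
  have h1 := α.inv.hom.naturality f.op
  have h2 := eta_map (J.over U) M f
  have h3 := eta_constPush_inv (J.over W) (J.over U) (Over.map g) M (Over.mk (𝟙 W))
  simp only [trivRes, Iso.trans_inv, Iso.symm_inv, Functor.mapIso_inv, Iso.app_inv,
    ObjectProperty.FullSubcategory.comp_hom, NatTrans.comp_app, Category.assoc]
  rw [reassoc_of% h3]
  change eta (J.over U) A M ((Over.map g).obj (Over.mk (𝟙 W))) ≫
    α.inv.hom.app (op ((Over.map g).obj (Over.mk (𝟙 W)))) ≫ 𝟙 _ = _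
  rw [Category.comp_id, ← h2, Category.assoc, h1]
  rfl

variable (J A) in
/-- `L` has the local lifting property: maps from `L` to sections lift locally along epimorphisms
of sheaves. -/
def LocLift (L : A) : Prop :=
  ∀ {F F'' : Sheaf J A} (p : F ⟶ F'') [Epi p] (U : C) (s : L ⟶ F''.obj.obj (op U)),
    ∃ S ∈ J U, ∀ {W : C} (g : W ⟶ U), S g →
      ∃ t : L ⟶ F.obj.obj (op W), t ≫ p.hom.app (op W) = s ≫ F''.obj.map g.op

/-- Local lifting of a map of constant sheaves along an epimorphism. -/
theorem exists_lift {L : A} (hL : LocLift J A L) {F F'' : Sheaf J A} (p : F ⟶ F'') [Epi p]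
    {U : C} {M'' : A} (π : L ⟶ M'')
    (α'' : F''.over U ≅ (constantSheaf (J.over U) A).obj M'') :
    ∃ S₁ ∈ J U, ∀ {W : C} (g : W ⟶ U), S₁ g →
      ∃ t : (constantSheaf (J.over W) A).obj L ⟶ F.over W,
        t ≫ (J.overPullback A W).map p =
          (constantSheaf (J.over W) A).map π ≫ (trivRes J α'' g).inv := by
  obtain ⟨S₁, hS₁, H⟩ := hL p U
    (π ≫ eta (J.over U) A M'' (Over.mk (𝟙 U)) ≫ α''.inv.hom.app (op (Over.mk (𝟙 U))))
  refine ⟨S₁, hS₁, fun {W} g hg => ?_⟩
  obtain ⟨t, ht⟩ := H g hg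
  let t' : L ⟶ (F.over W).obj.obj (op (Over.mk (𝟙 W))) := t
  refine ⟨constDesc (J.over W) Over.mkIdTerminal t', ?_⟩
  apply const_hom_ext (J.over W) Over.mkIdTerminal
  simp only [ObjectProperty.FullSubcategory.comp_hom, NatTrans.comp_app]
  rw [eta_constDesc_assoc, eta_naturality_assoc, trivRes_inv_eta]
  refine Eq.trans ?_ (ht.trans ?_)
  · rfl
  · simp only [Category.assoc]
    rfl

end

section AbelianLemma

variable {𝒮 : Type*} [Category 𝒮] [Abelian 𝒮]

/-- For a short exact sequence `X₁ ⟶ X₂ ⟶ X₃`, an epimorphism `c : P ⟶ X₃` and a lift `t : P ⟶ X₂`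
of `c`, the object `X₂` is the cokernel of a map `kernel c ⟶ X₁ ⊞ P`. -/
theorem exists_iso_cokernel {S : ShortComplex 𝒮} (hS : S.ShortExact) {P : 𝒮} (c : P ⟶ S.X₃) [Epi c]
    (t : P ⟶ S.X₂) (ht : t ≫ S.g = c) :
    ∃ γ : kernel c ⟶ S.X₁ ⊞ P, γ ≫ biprod.snd = kernel.ι c ∧ Nonempty (S.X₂ ≅ cokernel γ) := by
  have := hS.mono_f
  have hι : (kernel.ι c ≫ t) ≫ S.g = 0 := by rw [Category.assoc, ht, kernel.condition]
  let u := hS.exact.lift (kernel.ι c ≫ t) hι
  have hu : u ≫ S.f = kernel.ι c ≫ t := hS.exact.lift_f _ _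
  let γ : kernel c ⟶ S.X₁ ⊞ P := biprod.lift (-u) (kernel.ι c)
  let e : S.X₁ ⊞ P ⟶ S.X₂ := biprod.desc S.f t
  have zero : γ ≫ e = 0 := by
    simp only [γ, e, biprod.lift_desc, Preadditive.neg_comp, hu]
    simp
  have hexact : (ShortComplex.mk γ e zero).Exact := by
    rw [ShortComplex.exact_iff_exact_up_to_refinements]
    intro A₀ x₂ hx₂
    dsimp at x₂ hx₂ ⊢
    have hx : (x₂ ≫ biprod.fst) ≫ S.f + (x₂ ≫ biprod.snd) ≫ t = 0 := by
      rw [← hx₂]
      simp only [e, Category.assoc, ← Preadditive.comp_add]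
      congr 1
      ext <;> simp
    have hy : (x₂ ≫ biprod.snd) ≫ c = 0 := by
      have := congrArg (· ≫ S.g) hx
      simpa [Preadditive.add_comp, ht] using this
    let w := kernel.lift c (x₂ ≫ biprod.snd) hy
    have hw : w ≫ kernel.ι c = x₂ ≫ biprod.snd := kernel.lift_ι _ _ _
    have hz : x₂ ≫ biprod.fst = -(w ≫ u) := by
      rw [← cancel_mono S.f, Preadditive.neg_comp, Category.assoc w, hu, ← Category.assoc w, hw]
      exact eq_neg_of_add_eq_zero_left hx
    refine ⟨A₀, 𝟙 _, inferInstance, w, ?_⟩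
    rw [Category.id_comp]
    apply biprod.hom_ext
    · simp only [γ, Category.assoc, biprod.lift_fst, hz, Preadditive.comp_neg]
    · simp only [γ, Category.assoc, biprod.lift_snd, hw]
  have hepi : Epi e := by
    rw [epi_iff_surjective_up_to_refinements]
    intro A₀ x
    obtain ⟨A', π, hπ, y, hy⟩ := surjective_up_to_refinements_of_epi c (x ≫ S.g)
    have h0 : (π ≫ x - y ≫ t) ≫ S.g = 0 := by
      rw [Preadditive.sub_comp, Category.assoc, Category.assoc, ht, hy, sub_self]
    let z := hS.exact.lift _ h0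
    have hz : z ≫ S.f = π ≫ x - y ≫ t := hS.exact.lift_f _ _
    refine ⟨A', π, hπ, biprod.lift z y, ?_⟩
    simp only [e, biprod.lift_desc, hz]
    abel
  refine ⟨γ, by simp [γ], ⟨?_⟩⟩
  exact IsColimit.coconePointUniqueUpToIso hexact.gIsCokernel (colimit.isColimit _)

/-- In a short exact sequence, if `n'` kills the left term and `n''` the right term, then
`n' * n''` kills the middle term. -/
theorem nsmul_id_middle_eq_zero {S : ShortComplex 𝒮} (hS : S.ShortExact) {n' n'' : ℕ}
    (h' : n' • 𝟙 S.X₁ = 0) (h'' : n'' • 𝟙 S.X₃ = 0) : (n' * n'') • 𝟙 S.X₂ = 0 := by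
  have := hS.mono_f
  have h1 : (n'' • 𝟙 S.X₂) ≫ S.g = 0 := by
    rw [Preadditive.nsmul_comp, Category.id_comp, ← Category.comp_id S.g, ← Preadditive.comp_nsmul,
      h'', comp_zero]
  have hy : hS.exact.lift _ h1 ≫ S.f = n'' • 𝟙 S.X₂ := hS.exact.lift_f _ _
  rw [mul_comm, mul_nsmul, ← hy, ← Preadditive.comp_nsmul, ← Category.id_comp S.f,
    ← Preadditive.nsmul_comp, h', zero_comp, comp_zero]

end AbelianLemma

section Ext

variable {C : Type u₁} [Category.{v₁} C] {J : GrothendieckTopology C}
  {A : Type u} [Category.{v} A] [Abelian A]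
  [HasSheafify J A]
  [∀ W : C, HasSheafify (J.over W) A]
  [∀ {W U : C} (g : W ⟶ U) (F : (Over W)ᵒᵖ ⥤ A), (Over.map g).op.HasPointwiseRightKanExtension F]
  [∀ (U : C) (F : (Over U)ᵒᵖ ⥤ A), (Over.forget U).op.HasPointwiseRightKanExtension F]

/-- The middle term of a short exact sequence with constant ends over `W`, such that the constant
map `L ⟶ M''` lifts, is locally constant on a covering sieve of `W`. -/
theorem ext_triv {S : ShortComplex (Sheaf J A)} (hS : S.ShortExact) {W : C} {M' M'' L : A}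
    (π : L ⟶ M'') [Epi π]
    (a' : S.X₁.over W ≅ (constantSheaf (J.over W) A).obj M')
    (a'' : S.X₃.over W ≅ (constantSheaf (J.over W) A).obj M'')
    (t : (constantSheaf (J.over W) A).obj L ⟶ S.X₂.over W)
    (ht : t ≫ (J.overPullback A W).map S.g = (constantSheaf (J.over W) A).map π ≫ a''.inv)
    (hK : LocFactor (J.over W) A (kernel π)) :
    ∃ S₂ ∈ J W, ∀ {W₂ : C} (g₂ : W₂ ⟶ W), S₂ g₂ → ∃ h : kernel π ⟶ M' ⊞ L,
      Nonempty (S.X₂.over W₂ ≅ (constantSheaf (J.over W₂) A).obj (cokernel h)) := by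
  have hS' : (S.map (J.overPullback A W)).ShortExact := hS.map_of_exact _
  let cW := constantSheaf (J.over W) A
  let c : cW.obj L ⟶ (S.map (J.overPullback A W)).X₃ := cW.map π ≫ a''.inv
  have : Epi (cW.map π) := inferInstance
  have : Epi c := epi_comp _ _
  have : PreservesBinaryBiproducts cW := preservesBinaryBiproducts_of_preservesBiproducts cW
  obtain ⟨γ, -, ⟨e⟩⟩ := exists_iso_cokernel hS' c t ht
  let isoK : kernel c ≅ cW.obj (kernel π) :=
    kernelCompMono (cW.map π) a''.inv ≪≫ (PreservesKernel.iso cW π).symm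
  let isoY : (S.map (J.overPullback A W)).X₁ ⊞ cW.obj L ≅ cW.obj (M' ⊞ L) :=
    biprod.mapIso a' (Iso.refl _) ≪≫ (cW.mapBiprod M' L).symm
  let γ' : cW.obj (kernel π) ⟶ cW.obj (M' ⊞ L) := isoK.inv ≫ γ ≫ isoY.hom
  let e' : S.X₂.over W ≅ cokernel γ' :=
    e ≪≫ cokernel.mapIso γ γ' isoK isoY (by simp [γ'])
  obtain ⟨S₂, hS₂, H⟩ := exists_sieve_map_eq_const J hK γ'
  refine ⟨S₂, hS₂, fun {W₂} g₂ hg₂ => ?_⟩
  obtain ⟨h, hh⟩ := H g₂ hg₂
  refine ⟨h, ⟨?_⟩⟩
  refine (S.X₂.pushforwardOverMapIso g₂).symm ≪≫ (J.overMapPullback A g₂).mapIso e' ≪≫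
    PreservesCokernel.iso (J.overMapPullback A g₂) γ' ≪≫
    cokernel.mapIso _ _ ((constRes J A g₂).app _) ((constRes J A g₂).app _) ?_ ≪≫
    (PreservesCokernel.iso (constantSheaf (J.over W₂) A) h).symm
  rw [hh]
  simp only [Iso.app_hom, Category.assoc, Iso.inv_hom_id_app, Category.comp_id]

end Ext

section Concrete

universe w

variable {C : Type u₁} [Category.{v₁} C] {J : GrothendieckTopology C}

lemma bot_not_mem_over {W : C} (hW : ⊥ ∉ J W) : ⊥ ∉ (J.over W) (Over.mk (𝟙 W)) := by
  intro h
  apply hW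
  have := (J.mem_over_iff _).1 h
  rwa [(Sieve.overEquiv (Over.mk (𝟙 W))).map_bot] at this

/-- Over an object covered by the empty sieve, every object of the over-site is covered by the
empty sieve. -/
lemma bot_mem_over_of_bot_mem {W : C} (hW : ⊥ ∈ J W) (V : Over W) : ⊥ ∈ (J.over W) V := by
  rw [J.mem_over_iff, (Sieve.overEquiv V).map_bot]
  have := J.pullback_stable V.hom hW
  convert this using 1
  ext Y f
  simp

/-- Over an object covered by the empty sieve, any two sheaves are isomorphic. -/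
noncomputable def isoOfBotMem {B : Type*} [Category B] {W : C} (hW : ⊥ ∈ J W)
    (F G : Sheaf (J.over W) B) : F ≅ G where
  hom := ⟨{ app := fun V => (G.isTerminalOfBotCover V.unop (bot_mem_over_of_bot_mem hW _)).from _
            naturality := fun V V' f =>
              (G.isTerminalOfBotCover V'.unop (bot_mem_over_of_bot_mem hW _)).hom_ext _ _ }⟩
  inv := ⟨{ app := fun V => (F.isTerminalOfBotCover V.unop (bot_mem_over_of_bot_mem hW _)).from _
            naturality := fun V V' f =>
              (F.isTerminalOfBotCover V'.unop (bot_mem_over_of_bot_mem hW _)).hom_ext _ _ }⟩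
  hom_inv_id := by
    ext V
    exact (F.isTerminalOfBotCover V.unop (bot_mem_over_of_bot_mem hW _)).hom_ext _ _
  inv_hom_id := by
    ext V
    exact (G.isTerminalOfBotCover V.unop (bot_mem_over_of_bot_mem hW _)).hom_ext _ _

variable {A : Type u} [Category.{v} A] [Abelian A]
  {FA : A → A → Type*} {CA : A → Type w}
  [∀ X Y, FunLike (FA X Y) (CA X) (CA Y)] [ConcreteCategory.{w} A FA]
  [∀ W : C, HasSheafify (J.over W) A]
  [∀ W : C, (J.over W).WEqualsLocallyBijective A]

include FA CA in
/-- On an object not covered by the empty sieve, the constant sheaf functor is faithful. -/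
lemma const_map_eq_zero {W : C} (hW : ⊥ ∉ J W) {M N : A} (f : M ⟶ N)
    (h : (constantSheaf (J.over W) A).map f = 0) : f = 0 := by
  have hinj := eta_injective (J.over W) N (bot_not_mem_over hW)
  have : Mono (eta (J.over W) A N (Over.mk (𝟙 W))) := ConcreteCategory.mono_of_injective _ hinj
  rw [← cancel_mono (eta (J.over W) A N (Over.mk (𝟙 W))), zero_comp,
    ← eta_naturality (J.over W) f, h]
  simp

variable [HasSheafify J A]
  [∀ {W U : C} (g : W ⟶ U) (F : (Over W)ᵒᵖ ⥤ A), (Over.map g).op.HasPointwiseRightKanExtension F]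
  [∀ (U : C) (F : (Over U)ᵒᵖ ⥤ A), (Over.forget U).op.HasPointwiseRightKanExtension F]

include FA CA in
/-- Torsion bound for the value of a trivialisation of the middle term of an extension. -/
theorem torsion_of_triv {S : ShortComplex (Sheaf J A)} (hS : S.ShortExact) {W : C}
    (hW : ⊥ ∉ J W) {M' M'' Q : A}
    (a' : S.X₁.over W ≅ (constantSheaf (J.over W) A).obj M')
    (a'' : S.X₃.over W ≅ (constantSheaf (J.over W) A).obj M'')
    (b : S.X₂.over W ≅ (constantSheaf (J.over W) A).obj Q) {n' n'' : ℕ}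
    (h' : n' • 𝟙 M' = 0) (h'' : n'' • 𝟙 M'' = 0) : (n' * n'') • 𝟙 Q = 0 := by
  have hS' : (S.map (J.overPullback A W)).ShortExact := hS.map_of_exact _
  have key : ∀ {X : Sheaf (J.over W) A} {M : A} (a : X ≅ (constantSheaf (J.over W) A).obj M)
      {n : ℕ} (hn : n • 𝟙 M = 0), n • 𝟙 X = 0 := by
    intro X M a n hn
    have h1 : n • 𝟙 ((constantSheaf (J.over W) A).obj M) = 0 := by
      rw [← CategoryTheory.Functor.map_id, ← Functor.map_nsmul, hn, Functor.map_zero]
    rw [← a.hom_inv_id, ← Category.id_comp a.inv, ← Category.assoc, ← Preadditive.nsmul_comp,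
      ← Preadditive.comp_nsmul, h1, comp_zero, zero_comp]
  have h2 := nsmul_id_middle_eq_zero hS' (key a' h') (key a'' h'')
  apply const_map_eq_zero (FA := FA) (CA := CA) hW
  rw [Functor.map_nsmul, CategoryTheory.Functor.map_id]
  change (n' * n'') • 𝟙 (S.X₂.over W) = 0 at h2
  rw [← b.inv_hom_id, ← Category.id_comp b.hom, ← Category.assoc, ← Preadditive.nsmul_comp,
    ← Preadditive.comp_nsmul, h2, comp_zero, zero_comp]

end Concrete

end Groth.Agent.Helper10.LcExact
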