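import Mathlib
import Groth.Prelude.Def_EtBase
import Groth.Agent.Lib.Helper10.EtLoc
import Groth.Agent.Lib.Helper10.LcSite

/-!
# Coverings of the small étale site: refinement lemmas
-/

set_option autoImplicit false

open CategoryTheory CategoryTheory.Limits AlgebraicGeometry Opposite

namespace Groth.Agent.Helper10.LcEt

universe u

/-- Refine a covering family by covering sieves of its members. -/
theorem covers_refine {X : Scheme.{u}} {ι : Type u} (U : ι → X.Etale) (hU : EtCoh.Covers U)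
    (S : ∀ i, Sieve (U i)) (hS : ∀ i, S i ∈ X.smallEtaleTopology (U i)) :
    ∃ (κ : Type u) (V : κ → X.Etale) (idx : κ → ι) (g : ∀ k, V k ⟶ U (idx k)),
      EtCoh.Covers V ∧ ∀ k, (S (idx k)) (g k) := by
  have H : ∀ (i : ι) (y : (U i).left), ∃ (Z : X.Etale) (g : Z ⟶ U i) (z : Z.left),
      (S i) g ∧ g.left z = y := fun i y => (EtLoc.mem_iff (U i) (S i)).1 (hS i) y
  choose Z g z h1 h2 using H
  refine ⟨Σ i, (U i).left, fun k => Z k.1 k.2, fun k => k.1, fun k => g k.1 k.2, ?_,
    fun k => h1 k.1 k.2⟩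
  intro x
  obtain ⟨i, y, hy⟩ := hU x
  refine ⟨⟨i, y⟩, z i y, ?_⟩
  have hw : (g i y).left ≫ (U i).hom = (Z i y).hom := Over.w (g i y).hom
  change (Z i y).hom (z i y) = x
  rw [← hw, Scheme.Hom.comp_apply, h2 i y, hy]

/-- Common refinement of two covering families. -/
theorem covers_common {X : Scheme.{u}} {ι ι' : Type u} (U : ι → X.Etale) (U' : ι' → X.Etale)
    (hU : EtCoh.Covers U) (hU' : EtCoh.Covers U') :
    ∃ (κ : Type u) (V : κ → X.Etale) (a : κ → ι) (b : κ → ι')
      (_ : ∀ k, V k ⟶ U (a k)) (_ : ∀ k, V k ⟶ U' (b k)), EtCoh.Covers V := by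
  refine ⟨ι × ι', fun k => Scheme.Etale.mk
    (pullback.fst (U k.1).hom (U' k.2).hom ≫ (U k.1).hom), fun k => k.1, fun k => k.2,
    fun k => MorphismProperty.Over.homMk (pullback.fst _ _) rfl trivial,
    fun k => MorphismProperty.Over.homMk (pullback.snd _ _) pullback.condition.symm trivial, ?_⟩
  intro x
  obtain ⟨i, y, hy⟩ := hU x
  obtain ⟨j, y', hy'⟩ := hU' x
  obtain ⟨z, hz1, hz2⟩ := Scheme.Pullback.exists_preimage_pullback
    (f := (U i).hom) (g := (U' j).hom) y y' (hy.trans hy'.symm)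
  refine ⟨(i, j), z, ?_⟩
  change (pullback.fst (U i).hom (U' j).hom ≫ (U i).hom) z = x
  rw [Scheme.Hom.comp_apply, hz1, hy]

open Groth.Agent.Helper10.LcSite

section Generic

variable {X : Scheme.{u}} {A : Type (u + 2)} [Category.{u + 1} A]
  [∀ W : X.Etale, HasWeakSheafify (X.smallEtaleTopology.over W) A]
  [∀ {W U : X.Etale} (g : W ⟶ U) (F : (Over W)ᵒᵖ ⥤ A),
    (Over.map g).op.HasPointwiseRightKanExtension F]

/-- A morphism between locally constant sheaves, the source with values having the local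
factorisation property, is on a suitable covering induced by morphisms of the values. -/
theorem exists_covers_map_eq_const {F G : Sheaf X.smallEtaleTopology A} (φ : F ⟶ G)
    {ι : Type u} (U : ι → X.Etale) (hU : EtCoh.Covers U) (M : ι → A)
    (hM : ∀ (i : ι) (W : X.Etale), LocFactor (X.smallEtaleTopology.over W) A (M i))
    (α : ∀ i, F.over (U i) ≅ (constantSheaf (X.smallEtaleTopology.over (U i)) A).obj (M i))
    {ι' : Type u} (U' : ι' → X.Etale) (hU' : EtCoh.Covers U') (N : ι' → A)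
    (β : ∀ j, G.over (U' j) ≅ (constantSheaf (X.smallEtaleTopology.over (U' j)) A).obj (N j)) :
    ∃ (κ : Type u) (V : κ → X.Etale) (a : κ → ι) (b : κ → ι'), EtCoh.Covers V ∧
      ∀ k, ∃ (h : M (a k) ⟶ N (b k))
        (α' : F.over (V k) ≅ (constantSheaf (X.smallEtaleTopology.over (V k)) A).obj (M (a k)))
        (β' : G.over (V k) ≅ (constantSheaf (X.smallEtaleTopology.over (V k)) A).obj (N (b k))),
        (X.smallEtaleTopology.overPullback A (V k)).map φ ≫ β'.hom =
          α'.hom ≫ (constantSheaf (X.smallEtaleTopology.over (V k)) A).map h := by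
  obtain ⟨κ₀, V₀, a₀, b₀, p, q, hV₀⟩ := covers_common U U' hU hU'
  have H := fun k => exists_sieve_map_eq_const' X.smallEtaleTopology φ (hM (a₀ k) (V₀ k))
    (trivRes _ (α (a₀ k)) (p k)) (trivRes _ (β (b₀ k)) (q k))
  choose S hS H using H
  obtain ⟨κ, V, idx, g, hV, hg⟩ := covers_refine V₀ hV₀ S hS
  refine ⟨κ, V, fun k => a₀ (idx k), fun k => b₀ (idx k), hV, fun k => ?_⟩
  obtain ⟨h, hh⟩ := H (idx k) (g k) (hg k)
  exact ⟨h, _, _, hh⟩

end Generic

end Groth.Agent.Helper10.LcEt
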