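import Mathlib
import Groth.Prelude.Def_EtBase
import Groth.Agent.Lib.Helper10.LcEt
import Groth.Agent.Lib.Helper10.LcExact

/-!
# Extensions of locally constant sheaves on the small étale site are locally constant
-/

set_option autoImplicit false

open CategoryTheory CategoryTheory.Limits AlgebraicGeometry Opposite

namespace Groth.Agent.Helper10.LcEtExt

open Groth.Agent.Helper10.LcSite Groth.Agent.Helper10.LcExact Groth.Agent.Helper10.LcEt

universe u

variable {X : Scheme.{u}} {A : Type (u + 2)} [Category.{u + 1} A] [Abelian A]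
  [HasSheafify X.smallEtaleTopology A]
  [∀ W : X.Etale, HasSheafify (X.smallEtaleTopology.over W) A]
  [∀ {W U : X.Etale} (g : W ⟶ U) (F : (Over W)ᵒᵖ ⥤ A),
    (Over.map g).op.HasPointwiseRightKanExtension F]
  [∀ (U : X.Etale) (F : (Over U)ᵒᵖ ⥤ A), (Over.forget U).op.HasPointwiseRightKanExtension F]

/-- The middle term of a short exact sequence with locally constant ends is, on a suitable
covering, constant with value the cokernel of a map `kernel π ⟶ M' ⊞ L`. -/
theorem exists_covers_ext_triv {S : ShortComplex (Sheaf X.smallEtaleTopology A)}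
    (hS : S.ShortExact)
    {ι : Type u} (U : ι → X.Etale) (hU : EtCoh.Covers U) (M' : ι → A)
    (α' : ∀ i, S.X₁.over (U i) ≅ (constantSheaf (X.smallEtaleTopology.over (U i)) A).obj (M' i))
    {ι' : Type u} (U' : ι' → X.Etale) (hU' : EtCoh.Covers U') (M'' : ι' → A)
    (α'' : ∀ j, S.X₃.over (U' j) ≅
      (constantSheaf (X.smallEtaleTopology.over (U' j)) A).obj (M'' j))
    (L : ι' → A) (π : ∀ j, L j ⟶ M'' j) [∀ j, Epi (π j)]
    (hL : ∀ j, LocLift X.smallEtaleTopology A (L j))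
    (hK : ∀ (j : ι') (W : X.Etale), LocFactor (X.smallEtaleTopology.over W) A (kernel (π j))) :
    ∃ (κ : Type u) (V : κ → X.Etale) (a : κ → ι) (b : κ → ι'), EtCoh.Covers V ∧
      ∀ k, ∃ (h : kernel (π (b k)) ⟶ M' (a k) ⊞ L (b k))
        (_ : S.X₁.over (V k) ≅ (constantSheaf (X.smallEtaleTopology.over (V k)) A).obj (M' (a k)))
        (_ : S.X₃.over (V k) ≅ (constantSheaf (X.smallEtaleTopology.over (V k)) A).obj (M'' (b k))),
        Nonempty (S.X₂.over (V k) ≅
          (constantSheaf (X.smallEtaleTopology.over (V k)) A).obj (cokernel h)) := by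
  have := hS.epi_g
  -- round 0: common refinement
  obtain ⟨κ₀, V₀, a₀, b₀, p, q, hV₀⟩ := covers_common U U' hU hU'
  let A'₀ := fun k => trivRes X.smallEtaleTopology (α' (a₀ k)) (p k)
  let A''₀ := fun k => trivRes X.smallEtaleTopology (α'' (b₀ k)) (q k)
  -- round 1: lift
  have H1 := fun k => exists_lift (hL (b₀ k)) S.g (π (b₀ k)) (A''₀ k)
  choose S₁ hS₁ H1 using H1
  obtain ⟨κ₁, V₁, idx₁, g₁, hV₁, hg₁⟩ := covers_refine V₀ hV₀ S₁ hS₁
  have H1' := fun l => H1 (idx₁ l) (g₁ l) (hg₁ l)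
  choose t ht using H1'
  let A'₁ := fun l => trivRes X.smallEtaleTopology (A'₀ (idx₁ l)) (g₁ l)
  let A''₁ := fun l => trivRes X.smallEtaleTopology (A''₀ (idx₁ l)) (g₁ l)
  -- round 2: constancy of the gluing map
  have H2 := fun l => ext_triv hS (π (b₀ (idx₁ l))) (A'₁ l) (A''₁ l) (t l) (ht l)
    (hK (b₀ (idx₁ l)) (V₁ l))
  choose S₂ hS₂ H2 using H2
  obtain ⟨κ₂, V₂, idx₂, g₂, hV₂, hg₂⟩ := covers_refine V₁ hV₁ S₂ hS₂
  refine ⟨κ₂, V₂, fun m => a₀ (idx₁ (idx₂ m)), fun m => b₀ (idx₁ (idx₂ m)), hV₂, fun m => ?_⟩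
  obtain ⟨h, hh⟩ := H2 (idx₂ m) (g₂ m) (hg₂ m)
  exact ⟨h, trivRes X.smallEtaleTopology (A'₁ (idx₂ m)) (g₂ m),
    trivRes X.smallEtaleTopology (A''₁ (idx₂ m)) (g₂ m), hh⟩

end Groth.Agent.Helper10.LcEtExt
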