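import Mathlib
import Groth.Agent.Lib.Helper10.LcSite
import Groth.Agent.Lib.Helper10.LcExact

/-!
# Local lifting property of free modules / free abelian groups of finite rank
-/

set_option autoImplicit false

open CategoryTheory CategoryTheory.Limits Opposite

namespace Groth.Agent.Helper10.LcLift

open Groth.Agent.Helper10.LcSite Groth.Agent.Helper10.LcExact

universe v₁ u₁ w

section ModuleCat

variable {C : Type u₁} [Category.{v₁} C] (J : GrothendieckTopology C)
  {Λ : Type w} [Ring Λ]
  [HasSheafify J (ModuleCat.{w} Λ)] [J.WEqualsLocallyBijective (ModuleCat.{w} Λ)]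
  [J.HasSheafCompose (forget (ModuleCat.{w} Λ))]

theorem locLift_moduleCat (α : Type w) [Finite α] :
    LocLift J (ModuleCat.{w} Λ) (ModuleCat.of Λ (α →₀ Λ)) := by
  intro F F'' p _ U s
  have hp : Sheaf.IsLocallySurjective p := (Sheaf.isLocallySurjective_iff_epi' _ p).2 inferInstance
  have : Fintype α := Fintype.ofFinite α
  let Sa : α → Sieve U := fun a => Presheaf.imageSieve p.hom (s.hom (Finsupp.single a 1))
  have hSa : ∀ a, Sa a ∈ J U := fun a => Presheaf.imageSieve_mem J p.hom (U := op U) _
  refine ⟨Finset.univ.inf Sa, finset_inf_mem J _ Sa (fun a _ => hSa a), fun {W} g hg => ?_⟩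
  have hg' : ∀ a, Sa a g := fun a => (Finset.inf_le (Finset.mem_univ a) : _ ≤ Sa a) _ hg
  choose t ht using hg'
  refine ⟨ModuleCat.ofHom (Finsupp.lift _ Λ α t), ?_⟩
  ext a
  have := ht a
  simp only [ModuleCat.hom_comp, ModuleCat.hom_ofHom, LinearMap.coe_comp, Function.comp_apply,
    Finsupp.lsingle_apply, Finsupp.lift_apply, Finsupp.sum_single_index, zero_smul, one_smul]
  exact this

end ModuleCat

section AddCommGrpCat

variable {C : Type u₁} [Category.{v₁} C] (J : GrothendieckTopology C)
  [HasSheafify J AddCommGrpCat.{w}] [J.WEqualsLocallyBijective AddCommGrpCat.{w}]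
  [J.HasSheafCompose (forget AddCommGrpCat.{w})]

theorem locLift_addCommGrpCat (α : Type w) [Finite α] :
    LocLift J AddCommGrpCat.{w} (AddCommGrpCat.of (FreeAbelianGroup α)) := by
  intro F F'' p _ U s
  have hp : Sheaf.IsLocallySurjective p := (Sheaf.isLocallySurjective_iff_epi' _ p).2 inferInstance
  have : Fintype α := Fintype.ofFinite α
  let Sa : α → Sieve U := fun a => Presheaf.imageSieve p.hom (s.hom (FreeAbelianGroup.of a))
  have hSa : ∀ a, Sa a ∈ J U := fun a => Presheaf.imageSieve_mem J p.hom (U := op U) _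
  refine ⟨Finset.univ.inf Sa, finset_inf_mem J _ Sa (fun a _ => hSa a), fun {W} g hg => ?_⟩
  have hg' : ∀ a, Sa a g := fun a => (Finset.inf_le (Finset.mem_univ a) : _ ≤ Sa a) _ hg
  choose t ht using hg'
  refine ⟨AddCommGrpCat.ofHom (FreeAbelianGroup.lift t), ?_⟩
  ext a
  have := ht a
  simp only [AddCommGrpCat.hom_comp, AddCommGrpCat.hom_ofHom, AddMonoidHom.coe_comp,
    Function.comp_apply, FreeAbelianGroup.lift_apply_of]
  exact this

end AddCommGrpCat

end Groth.Agent.Helper10.LcLift
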