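import Mathlib
import Groth.Prelude.Def_EtBase
import Groth.Prelude.Def_EtCore
import Groth.Agent.Lib.Helper10.LcExact
import Groth.Agent.Lib.Helper10.LcStrata
import Groth.Agent.S6645

/-!
# Finite products of finite locally constant sheaves
-/

set_option autoImplicit false

namespace Groth.Agent.Helper10.FlcProd

open CategoryTheory CategoryTheory.Limits AlgebraicGeometry Opposite
open Groth.Agent.Helper10

universe u

theorem isFLC_of_isZero {X : Scheme.{u}} {Z : EtCoh.Ab X} (hZ : IsZero Z) :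
    EtCoh.IsFiniteLocallyConstant Z := by
  refine ⟨PUnit.{u + 1}, fun _ => EtCoh.top X, fun x => ⟨PUnit.unit, x, rfl⟩, fun _ => ?_⟩
  refine ⟨PUnit.{1}, inferInstance, inferInstance, ⟨?_⟩⟩
  have h1 : IsZero (EtCoh.restr Z (EtCoh.top X)) :=
    (X.smallEtaleTopology.overPullback AddCommGrpCat.{u + 1} (EtCoh.top X)).map_isZero hZ
  have h0 : IsZero (AddCommGrpCat.of (ULift.{u + 1} PUnit.{1})) :=
    AddCommGrpCat.isZero_of_subsingleton _
  have h2 : IsZero ((constantSheaf (X.smallEtaleTopology.over (EtCoh.top X))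
      AddCommGrpCat.{u + 1}).obj (AddCommGrpCat.of (ULift.{u + 1} PUnit.{1}))) :=
    (constantSheaf (X.smallEtaleTopology.over (EtCoh.top X)) AddCommGrpCat.{u + 1}).map_isZero h0
  exact h1.iso h2

theorem isFLC_biprod {X : Scheme.{u}} {A B : EtCoh.Ab X}
    (hA : EtCoh.IsFiniteLocallyConstant A) (hB : EtCoh.IsFiniteLocallyConstant B) :
    EtCoh.IsFiniteLocallyConstant (A ⊞ B) := by
  haveI := (Groth.Agent.S6645.result X).2
  exact ObjectProperty.prop_biprod
    (P := fun F : EtCoh.Ab X => EtCoh.IsFiniteLocallyConstant F) hA hB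

theorem isFLC_pi {X : Scheme.{u}} : ∀ (n : ℕ) (K : Fin n → EtCoh.Ab X),
    (∀ j, EtCoh.IsFiniteLocallyConstant (K j)) → EtCoh.IsFiniteLocallyConstant (∏ᶜ K) := by
  intro n
  induction n with
  | zero =>
    intro K _
    apply isFLC_of_isZero
    rw [IsZero.iff_id_eq_zero]
    apply Pi.hom_ext
    intro j
    exact j.elim0
  | succ n ih =>
    intro K hK
    have h1 := ih (fun i : Fin n => K i.succ) (fun i => hK i.succ)
    have h2 := isFLC_biprod (hK 0) h1
    let c₁ : Fan (fun i : Fin n => K i.succ) := Fan.mk _ (Pi.π (fun i : Fin n => K i.succ))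
    have hc₁ : IsLimit c₁ := productIsProduct _
    let c₂ : BinaryFan (K 0) c₁.pt := BinaryFan.mk biprod.fst biprod.snd
    have hc₂ : IsLimit c₂ := BinaryBiproduct.isLimit (K 0) c₁.pt
    have hl := extendFanIsLimit K hc₁ hc₂
    exact LcStrata.isFLC_of_iso (hl.conePointUniqueUpToIso (productIsProduct K)) h2

end Groth.Agent.Helper10.FlcProd
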