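import Mathlib
import Groth.Prelude.Def_EtBase
import Groth.Prelude.Def_EtCore
import Groth.Agent.Lib.Helper10.EtLoc
import Groth.Agent.Lib.Helper10.FlcLocal
import Groth.Agent.Lib.Helper10.FlcProd

/-!
# Sheaves on a finite disjoint union, and direct image along a split finite étale map
-/

set_option autoImplicit false

namespace Groth.Agent.Helper10.FlcSplit

open CategoryTheory CategoryTheory.Limits AlgebraicGeometry Opposite
open Groth.Agent.Helper10

universe u

section DisjointCover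

universe v₁ u₁ v₂ u₂ w

variable {C : Type u₁} [Category.{v₁} C] (J : GrothendieckTopology C) {A : Type u₂} [Category.{v₂} A]
  (G : Sheaf J A) {I : Type w} {S : C} {X : I → C} (f : ∀ i, X i ⟶ S)
  [HasProduct (fun i => G.obj.obj (op (X i)))]

/-- The sheaf condition for a disjoint covering by monomorphisms. -/
theorem isIso_pi_lift (hf : Sieve.ofArrows _ f ∈ J S) (hm : ∀ i, Mono (f i))
    (hd : ∀ ⦃W : C⦄ ⦃i j : I⦄ (a : W ⟶ X i) (b : W ⟶ X j), a ≫ f i = b ≫ f j → i ≠ j → ⊥ ∈ J W) :
    IsIso (Pi.lift (fun i => G.obj.map (f i).op) :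
      G.obj.obj (op S) ⟶ ∏ᶜ fun i => G.obj.obj (op (X i))) := by
  classical
  have hx : ∀ ⦃W : C⦄ ⦃i j : I⦄ (a : W ⟶ X i) (b : W ⟶ X j), a ≫ f i = b ≫ f j →
      Pi.π (fun i => G.obj.obj (op (X i))) i ≫ G.obj.map a.op =
        Pi.π (fun i => G.obj.obj (op (X i))) j ≫ G.obj.map b.op := by
    intro W i j a b w
    by_cases hij : i = j
    · subst hij
      have : a = b := (cancel_mono (f i)).1 w
      rw [this]
    · exact (G.isTerminalOfBotCover W (hd a b w hij)).hom_ext _ _
  refine ⟨G.property.amalgamateOfArrows f hf (fun i => Pi.π _ i) hx, ?_, ?_⟩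
  · apply G.property.hom_ext_ofArrows f hf
    intro i
    rw [Category.assoc, Presheaf.IsSheaf.amalgamateOfArrows_map, Pi.lift_π, Category.id_comp]
  · apply Pi.hom_ext
    intro i
    rw [Category.assoc, Pi.lift_π, Presheaf.IsSheaf.amalgamateOfArrows_map, Category.id_comp]

end DisjointCover

abbrev AbC := AddCommGrpCat.{u + 1}

/-- `res j ⊣ j_*` (directly from the site adjunction). -/
noncomputable def resAdj {V Y : Scheme.{u}} (j : V ⟶ Y) [Etale j] : EtLoc.res j ⊣ EtCoh.push j :=
  (EtLoc.phiAdj j).sheafPushforwardContinuous (E := AbC.{u}) V.smallEtaleTopology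
    Y.smallEtaleTopology

lemma resAdj_unit_app {V Y : Scheme.{u}} (j : V ⟶ Y) [Etale j] (G : EtCoh.Ab Y) (T : Y.Etale) :
    ((resAdj j).unit.app G).hom.app (op T) = G.obj.map ((EtLoc.phiAdj j).counit.app T).op := by
  simp [resAdj]

section Split

variable {Z : Scheme.{u}} {n : ℕ} {V : Fin n → Scheme.{u}} (i : ∀ j, V j ⟶ Z)
  [∀ j, Etale (i j)] [∀ j, Mono (i j)]

/-- `T ×_Z V_j` as an étale `Z`-scheme. -/
noncomputable abbrev Tj (T : Z.Etale) (j : Fin n) : Z.Etale :=
  (EtLoc.phi (i j)).obj ((EtCoh.bc (i j)).obj T)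

/-- The projection `T ×_Z V_j ⟶ T`. -/
noncomputable abbrev eps (T : Z.Etale) (j : Fin n) : Tj i T j ⟶ T :=
  (EtLoc.phiAdj (i j)).counit.app T

omit [∀ j, Mono (i j)] in
lemma eps_left (T : Z.Etale) (j : Fin n) :
    (eps i T j).left = pullback.fst T.hom (i j) := rfl

omit [∀ j, Mono (i j)] in
lemma Tj_hom (T : Z.Etale) (j : Fin n) :
    (Tj i T j).hom = pullback.snd T.hom (i j) ≫ i j := rfl

omit [∀ j, Mono (i j)] in
lemma cover_eps (hc : ∀ z : Z, ∃ (j : Fin n) (v : V j), (i j).base v = z) (T : Z.Etale) :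
    Sieve.ofArrows _ (eps i T) ∈ Z.smallEtaleTopology T := by
  rw [EtLoc.mem_iff]
  intro x
  obtain ⟨j, v, hv⟩ := hc (T.hom.base x)
  obtain ⟨w, hw1, -⟩ := Scheme.Pullback.exists_preimage_pullback (f := T.hom) (g := i j) x v hv.symm
  exact ⟨Tj i T j, eps i T j, w, Sieve.ofArrows_mk _ _ j, hw1⟩

instance mono_eps (T : Z.Etale) (j : Fin n) : Mono (eps i T j) := by
  haveI : Mono ((Scheme.Etale.forget Z ⋙ Over.forget Z).map (eps i T j)) := by
    show Mono (pullback.fst T.hom (i j))
    infer_instance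
  exact (Scheme.Etale.forget Z ⋙ Over.forget Z).mono_of_mono_map inferInstance

omit [∀ j, Mono (i j)] in
lemma disjoint_eps
    (hd : ∀ (j k : Fin n) (v : V j) (w : V k), (i j).base v = (i k).base w → j = k)
    (T : Z.Etale) ⦃W : Z.Etale⦄ ⦃j k : Fin n⦄ (a : W ⟶ Tj i T j) (b : W ⟶ Tj i T k)
    (hab : a ≫ eps i T j = b ≫ eps i T k) (hjk : j ≠ k) : ⊥ ∈ Z.smallEtaleTopology W := by
  rw [EtLoc.mem_iff]
  intro x
  exfalso
  apply hjk
  have h1 : a.left ≫ pullback.fst T.hom (i j) = b.left ≫ pullback.fst T.hom (i k) :=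
    congrArg (fun m => m.left) hab
  refine hd j k ((pullback.snd T.hom (i j)).base (a.left.base x))
    ((pullback.snd T.hom (i k)).base (b.left.base x)) ?_
  have e1 : (i j).base ((pullback.snd T.hom (i j)).base (a.left.base x)) =
      T.hom.base ((pullback.fst T.hom (i j)).base (a.left.base x)) := by
    rw [← Scheme.Hom.comp_apply, ← Scheme.Hom.comp_apply, pullback.condition]
  have e2 : (i k).base ((pullback.snd T.hom (i k)).base (b.left.base x)) =
      T.hom.base ((pullback.fst T.hom (i k)).base (b.left.base x)) := by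
    rw [← Scheme.Hom.comp_apply, ← Scheme.Hom.comp_apply, pullback.condition]
  have h2 : (pullback.fst T.hom (i j)).base (a.left.base x) =
      (pullback.fst T.hom (i k)).base (b.left.base x) := by
    have := congrArg (fun m => m.base x) h1
    exact this
  rw [e1, e2, h2]

/-- The factors of the decomposition. -/
noncomputable abbrev Hj (G : EtCoh.Ab Z) (j : Fin n) : EtCoh.Ab Z :=
  (EtCoh.push (i j)).obj ((EtLoc.res (i j)).obj G)

/-- The comparison map `G ⟶ ∏ (i_j)_* (G|V_j)`. -/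
noncomputable def theta (G : EtCoh.Ab Z) : G ⟶ ∏ᶜ (Hj i G) :=
  Pi.lift (fun j => (resAdj (i j)).unit.app G)

theorem isIso_theta (hc : ∀ z : Z, ∃ (j : Fin n) (v : V j), (i j).base v = z)
    (hd : ∀ (j k : Fin n) (v : V j) (w : V k), (i j).base v = (i k).base w → j = k)
    (G : EtCoh.Ab Z) : IsIso (theta i G) := by
  suffices h : IsIso ((sheafToPresheaf Z.smallEtaleTopology AbC.{u}).map (theta i G)) from
    isIso_of_reflects_iso _ (sheafToPresheaf Z.smallEtaleTopology AbC.{u})
  suffices h : ∀ T : Z.Etaleᵒᵖ,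
      IsIso (((sheafToPresheaf Z.smallEtaleTopology AbC.{u}).map (theta i G)).app T) from
    NatIso.isIso_of_isIso_app _
  intro T
  obtain ⟨T⟩ := T
  let ev : EtCoh.Ab Z ⥤ AbC.{u} :=
    sheafToPresheaf Z.smallEtaleTopology AbC.{u} ⋙ (evaluation _ _).obj (op T)
  show IsIso (ev.map (theta i G))
  have h1 : ev.map (theta i G) ≫ piComparison ev (Hj i G) =
      Pi.lift (fun j => ev.map ((resAdj (i j)).unit.app G)) :=
    map_lift_piComparison ev (Hj i G) G _
  have h2 : (fun j => ev.map ((resAdj (i j)).unit.app G)) =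
      fun j => G.obj.map (eps i T j).op := by
    funext j
    exact resAdj_unit_app (i j) G T
  have h3 : IsIso (Pi.lift (fun j => G.obj.map (eps i T j).op) :
      G.obj.obj (op T) ⟶ ∏ᶜ fun j => G.obj.obj (op (Tj i T j))) :=
    isIso_pi_lift Z.smallEtaleTopology G (eps i T) (cover_eps i hc T) (fun j => inferInstance)
      (disjoint_eps i hd T)
  have h4 : IsIso (ev.map (theta i G) ≫ piComparison ev (Hj i G)) := by
    rw [h1, h2]
    exact h3
  exact IsIso.of_isIso_comp_right (ev.map (theta i G)) (piComparison ev (Hj i G))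

/-- Direct image along a map which is split by a finite disjoint covering by sections. -/
theorem isFLC_push_split (hc : ∀ z : Z, ∃ (j : Fin n) (v : V j), (i j).base v = z)
    (hd : ∀ (j k : Fin n) (v : V j) (w : V k), (i j).base v = (i k).base w → j = k)
    {U : Scheme.{u}} (h : Z ⟶ U) (hiso : ∀ j, IsIso (i j ≫ h))
    (G : EtCoh.Ab Z) (hG : EtCoh.IsFiniteLocallyConstant G) :
    EtCoh.IsFiniteLocallyConstant ((EtCoh.push h).obj G) := by
  haveI := isIso_theta i hc hd G
  haveI : PreservesLimitsOfSize.{0, 0} (EtCoh.push h) :=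
    (EtCoh.pullPushAdj h).rightAdjoint_preservesLimits
  have e : (EtCoh.push h).obj G ≅ ∏ᶜ fun j => (EtCoh.push h).obj (Hj i G j) :=
    (EtCoh.push h).mapIso (asIso (theta i G)) ≪≫ PreservesProduct.iso (EtCoh.push h) (Hj i G)
  refine LcStrata.isFLC_of_iso e.symm (FlcProd.isFLC_pi n _ (fun j => ?_))
  have hR : EtCoh.IsFiniteLocallyConstant ((EtLoc.res (i j)).obj G) :=
    LcStrata.isFLC_of_iso ((EtLoc.pullIsoRes (i j)).app G) (LcStrata.isFLC_pull (i j) hG)
  haveI := hiso j
  exact LcStrata.isFLC_of_iso ((EtCoh.pushComp h (i j)).app _).symm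
    (FlcLocal.isFLC_push_of_isIso (i j ≫ h) hR)

end Split

end Groth.Agent.Helper10.FlcSplit
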