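import Mathlib

universe u
open CategoryTheory CategoryTheory.Limits AlgebraicGeometry

namespace Groth.Agent.Helper10.FpqcOpen

/-- (T1) a subset of a scheme is open if its preimages under fpqc covers of the affine opens are
open -/
theorem isOpen_of_fpqc_cover {S : Scheme.{u}} (Z : Set S)
    (h : ∀ V : S.Opens, IsAffineOpen V → ∃ (P : Scheme.{u}) (p : P ⟶ S), Flat p ∧
      Set.range p.base = (V : Set S) ∧ CompactSpace P ∧ IsOpen (p.base ⁻¹' Z)) : IsOpen Z := by
  let 𝒰 := S.affineCover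
  rw [𝒰.isOpenCover_opensRange.isOpen_iff_inter]
  intro i
  have hV : IsAffineOpen (𝒰.f i).opensRange := isAffineOpen_opensRange (𝒰.f i)
  obtain ⟨P, p, hflat, hrange, hcompact, hopen⟩ := h _ hV
  have hsub : Set.range p.base ⊆ Set.range (𝒰.f i).base := by
    rw [hrange]; exact fun x hx => hx
  let pV : P ⟶ 𝒰.X i := IsOpenImmersion.lift (𝒰.f i) p hsub
  have hfac : pV ≫ 𝒰.f i = p := IsOpenImmersion.lift_fac _ _ _
  haveI : Flat pV :=
    MorphismProperty.of_postcomp (W := @Flat) pV (𝒰.f i)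
      (inferInstance : IsOpenImmersion (𝒰.f i)) (by rwa [hfac])
  haveI : Surjective pV := by
    refine ⟨fun y => ?_⟩
    have hy : (𝒰.f i).base y ∈ Set.range p.base := by
      rw [hrange]; exact ⟨y, rfl⟩
    obtain ⟨x, hx⟩ := hy
    refine ⟨x, (𝒰.f i).isOpenEmbedding.injective ?_⟩
    rw [← hx, ← hfac]
    rfl
  haveI : QuasiCompact pV :=
    (HasAffineProperty.iff_of_isAffine (P := @QuasiCompact)).mpr hcompact
  have hq := Flat.isQuotientMap_of_surjective pV
  rw [Scheme.Hom.coe_opensRange, ← Set.image_preimage_eq_inter_range]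
  apply (𝒰.f i).isOpenEmbedding.isOpenMap
  rw [← hq.isOpen_preimage]
  have : (pV.base ⁻¹' ((𝒰.f i).base ⁻¹' Z)) = p.base ⁻¹' Z := by
    rw [← hfac]; rfl
  rw [this]
  exact hopen

end Groth.Agent.Helper10.FpqcOpen
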