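import Mathlib
import Groth.Prelude.Def_EtBase
import Groth.Prelude.Def_EtCore
import Groth.Prelude.Def_EtGm
import Groth.Agent.Lib.Helper1.LC6
import Groth.Agent.Lib.Helper1.ES4
import Groth.Agent.Lib.Helper1.H9C
import Groth.Agent.Lib.Helper10.EtLoc
import Groth.Agent.Lib.Helper10.Transfer
import Groth.Agent.Lib.Helper10.EtH90c

/-!
# Sections of `I → Q` (kernel `G_m`) over étale schemes over a field are surjective
-/

set_option autoImplicit false
set_option linter.style.haveILetI false

namespace Groth.Agent.Helper10.GmPushField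

open CategoryTheory CategoryTheory.Limits AlgebraicGeometry Opposite
open Groth.Agent.Helper10 Groth.Agent.Helper1.ES Groth.Agent.Helper10.EtH90

universe u

section General

variable {Y : Scheme.{u}}

/-- sections over an empty object are trivial -/
lemma subsingleton_sect_of_isEmpty (F : EtCoh.Ab Y) (E : Y.Etale) [IsEmpty E.left] :
    Subsingleton (F.obj.obj (op E)) := by
  have hbot : (⊥ : Sieve E) ∈ Y.smallEtaleTopology E := by
    rw [EtLoc.mem_iff]
    intro x
    exact isEmptyElim x
  exact ⟨fun a b => Transfer.ext_of_cover F ⊥ hbot a b (fun V u hu => hu.elim)⟩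

variable (W : Y.Etale) [DiscreteTopology W.left]

/-- the open point `{w}` of a discrete object -/
noncomputable def ptOpen (w : W.left) : (W.left : Scheme.{u}).Opens := ⟨{w}, isOpen_discrete _⟩

/-- the object `{w} → W → Y` -/
noncomputable def ptObj (w : W.left) : Y.Etale := openObj W (ptOpen W w)

/-- the inclusion of the open point -/
noncomputable def ptι (w : W.left) : ptObj W w ⟶ W := openObjι W (ptOpen W w)

lemma ptι_left_apply (w : W.left) (p : (ptObj W w).left) : (ptι W w).left p = w := by
  have h : (ptι W w).left p ∈ Set.range (ptOpen W w).ι.base := ⟨p, rfl⟩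
  rw [Scheme.Opens.range_ι] at h
  exact h

instance mono_ptι_left (w : W.left) : Mono (ptι W w).left :=
  inferInstanceAs (Mono (ptOpen W w).ι)

/-- the covering sieve of morphisms factoring through an open point -/
noncomputable def ptSieve : Sieve W where
  arrows V u := ∃ (w : W.left) (h : V ⟶ ptObj W w), h ≫ ptι W w = u
  downward_closed := by
    rintro V V' u ⟨w, h, rfl⟩ v
    exact ⟨w, v ≫ h, Category.assoc _ _ _⟩

lemma ptSieve_mem : ptSieve W ∈ Y.smallEtaleTopology W := by
  rw [EtLoc.mem_iff]
  intro x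
  exact ⟨ptObj W x, ptι W x, ⟨x, rfl⟩, ⟨x, 𝟙 _, Category.id_comp _⟩, rfl⟩

lemma factor_unique (F : EtCoh.Ab Y) (a : ∀ w : W.left, F.obj.obj (op (ptObj W w)))
    {V : Y.Etale} (w₁ w₂ : W.left) (h₁ : V ⟶ ptObj W w₁) (h₂ : V ⟶ ptObj W w₂)
    (h : h₁ ≫ ptι W w₁ = h₂ ≫ ptι W w₂) :
    F.obj.map h₁.op (a w₁) = F.obj.map h₂.op (a w₂) := by
  by_cases hV : IsEmpty V.left
  · haveI := hV
    exact (subsingleton_sect_of_isEmpty F V).elim _ _
  · rw [not_isEmpty_iff] at hV
    obtain ⟨p⟩ := hV
    have hp : (h₁ ≫ ptι W w₁).left p = (h₂ ≫ ptι W w₂).left p := by rw [h]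
    have e1 : (h₁ ≫ ptι W w₁).left p = w₁ := ptι_left_apply W w₁ (h₁.left p)
    have e2 : (h₂ ≫ ptι W w₂).left p = w₂ := ptι_left_apply W w₂ (h₂.left p)
    have hw : w₁ = w₂ := by rw [← e1, ← e2, hp]
    subst hw
    have : h₁ = h₂ := by
      apply MorphismProperty.Over.Hom.ext
      rw [← cancel_mono (ptι W w₁).left]
      exact congrArg (fun m => m.left) h
    rw [this]

theorem glue_points (F : EtCoh.Ab Y) (a : ∀ w : W.left, F.obj.obj (op (ptObj W w))) :
    ∃ t : F.obj.obj (op W), ∀ w, F.obj.map (ptι W w).op t = a w := by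
  obtain ⟨t, ht⟩ := Transfer.exists_glue F (ptSieve W) (ptSieve_mem W)
    (fun V u hu => F.obj.map (Classical.choose (Classical.choose_spec hu)).op
      (a (Classical.choose hu))) (by
      intro V u hu V' v
      show F.obj.map _ _ = F.obj.map v.op (F.obj.map _ _)
      rw [← ConcreteCategory.comp_apply, ← F.obj.map_comp, ← op_comp]
      apply factor_unique W F a
      rw [Classical.choose_spec (Classical.choose_spec
        (p := fun w => ∃ h : V' ⟶ ptObj W w, h ≫ ptι W w = v ≫ u) _), Category.assoc,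
        Classical.choose_spec (Classical.choose_spec hu)])
  refine ⟨t, fun w => ?_⟩
  have hmem : (ptSieve W) (ptι W w) := ⟨w, 𝟙 _, Category.id_comp _⟩
  rw [ht (ptι W w) hmem]
  have := factor_unique W F a (Classical.choose hmem) w
    (Classical.choose (Classical.choose_spec hmem)) (𝟙 _)
    ((Classical.choose_spec (Classical.choose_spec hmem)).trans (Category.id_comp _).symm)
  rw [this, op_id, F.obj.map_id]
  rfl

end General

section Field

variable {κ : Type u} [Field κ]

/-- an étale scheme over a field is discrete -/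
lemma discrete_left (W : (Spec (CommRingCat.of κ)).Etale) : DiscreteTopology W.left := by
  let jW : (W.left : Scheme.{u}) ⟶ Spec (CommRingCat.of κ) := W.hom
  haveI : Etale jW := W.prop
  haveI : LocallyQuasiFinite jW := Groth.Agent.Helper1.LC.lqf_of_etale jW
  let pt : Spec (CommRingCat.of κ) := (Classical.arbitrary (PrimeSpectrum κ) : PrimeSpectrum κ)
  have h := jW.isDiscrete_preimage_singleton pt
  have huniv : jW ⁻¹' {pt} = Set.univ := by
    ext y
    simp only [Set.mem_preimage, Set.mem_singleton_iff, Set.mem_univ, iff_true]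
    exact @Subsingleton.elim (PrimeSpectrum κ) _ _ _
  rw [huniv] at h
  exact isDiscrete_univ_iff.1 h

variable {I Q : EtCoh.Ab (Spec (CommRingCat.of κ))}
  (f : EtCoh.Gm (Spec (CommRingCat.of κ)) ⟶ I) (g : I ⟶ Q) (w : f ≫ g = 0)
  (hS : (ShortComplex.mk f g w).ShortExact)

include hS in
lemma lift_at_point (W : (Spec (CommRingCat.of κ)).Etale) [DiscreteTopology W.left]
    (q : Q.obj.obj (op W)) (x : W.left) :
    ∃ a : I.obj.obj (op (ptObj W x)),
      g.hom.app (op (ptObj W x)) a = Q.obj.map (ptι W x).op q := by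
  obtain ⟨O, hO, hxO, -⟩ := TopologicalSpace.Opens.isBasis_iff_nbhd.mp
    (Scheme.isBasis_affineOpens W.left) (TopologicalSpace.Opens.mem_top x)
  let O' : (W.left : Scheme.{u}).Opens := O
  haveI : IsAffine (openObj W O').left := hO
  obtain ⟨T, j, hj, ⟨y, hy⟩, t', ht'⟩ := Groth.Agent.Helper1.H9.local_lift_affine f g w hS
    (openObj W O') (Q.obj.map (openObjι W O').op q) ⟨x, hxO⟩
  let u : T ⟶ W := j ≫ openObjι W O'
  haveI : IsOpenImmersion j.left := hj
  have i2 : IsOpenImmersion O'.ι := inferInstance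
  haveI : IsOpenImmersion u.left := @IsOpenImmersion.comp _ _ _ j.left O'.ι hj i2
  have huy : u.left y = x := by
    show O'.ι (j.left y) = x
    have := congrArg Subtype.val hy
    exact this
  have hrange : Set.range (ptι W x).left.base ⊆ Set.range u.left.base := by
    rintro _ ⟨p, rfl⟩
    rw [ptι_left_apply W x p]
    exact ⟨y, huy⟩
  let k₀ : ((ptObj W x).left : Scheme.{u}) ⟶ T.left :=
    IsOpenImmersion.lift u.left (ptι W x).left hrange
  have hk₀ : k₀ ≫ u.left = (ptι W x).left := IsOpenImmersion.lift_fac _ _ _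
  let k : ptObj W x ⟶ T := MorphismProperty.Over.homMk k₀ (by
    have h1 : u.left ≫ W.hom = T.hom := MorphismProperty.Over.w u
    have h2 : (ptι W x).left ≫ W.hom = (ptObj W x).hom := MorphismProperty.Over.w (ptι W x)
    rw [← h1, ← Category.assoc, hk₀, h2]) trivial
  have hk : k ≫ u = ptι W x := by
    apply MorphismProperty.Over.Hom.ext
    exact hk₀
  refine ⟨I.obj.map k.op t', ?_⟩
  rw [nat_apply]
  have ht'' : g.hom.app (op T) t' = Q.obj.map j.op (Q.obj.map (openObjι W O').op q) := ht'
  rw [ht'', map_comp_apply, map_comp_apply, ← hk, Category.assoc]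

include hS in
theorem sect_surjective (W : (Spec (CommRingCat.of κ)).Etale) (q : Q.obj.obj (op W)) :
    ∃ t : I.obj.obj (op W), g.hom.app (op W) t = q := by
  haveI := discrete_left W
  choose a ha using lift_at_point f g w hS W q
  obtain ⟨t, ht⟩ := glue_points W I a
  refine ⟨t, ?_⟩
  apply Transfer.ext_of_cover Q (ptSieve W) (ptSieve_mem W)
  rintro V u ⟨x, h, rfl⟩
  rw [← map_comp_apply, ← map_comp_apply, ← nat_apply, ht, ha]

end Field

end Groth.Agent.Helper10.GmPushField
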