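import Mathlib
import Groth.Prelude.Def_EtBase
import Groth.Prelude.Def_EtCore
import Groth.Prelude.Def_EtGm
import Groth.Prelude.Def_RDerDelta
import Groth.Agent.S16463
import Groth.Agent.S19626
import Groth.Agent.Lib.Helper10.GmPushField

/-!
# `R¹ i_* G_m = 0` for `i : Spec κ → X`
-/

set_option autoImplicit false
set_option linter.style.haveILetI false

namespace Groth.Agent.Helper10.GmPushField

open CategoryTheory CategoryTheory.Limits AlgebraicGeometry Opposite CategoryTheory.Abelian
open Groth.Agent.Helper10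

universe u

variable {X : Scheme.{u}} {κ : Type u} [Field κ] (i : Spec (CommRingCat.of κ) ⟶ X)

theorem isZero_R1_push_Gm :
    IsZero ((EtCoh.Rpush i 1).obj (EtCoh.Gm (Spec (CommRingCat.of κ)))) := by
  obtain ⟨Δ⟩ := Groth.Agent.S16463.result (EtCoh.push i)
  let P := EtCoh.push i
  haveI : PreservesLimitsOfSize.{0, 0} P := (EtCoh.pullPushAdj i).rightAdjoint_preservesLimits
  haveI : PreservesFiniteLimits P := PreservesLimitsOfSize.preservesFiniteLimits _
  let S := Groth.Agent.S19626.SS (EtCoh.Gm (Spec (CommRingCat.of κ)))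
  have hS : S.ShortExact := Groth.Agent.S19626.SS_shortExact _
  have hepi : Epi (P.map S.g) := by
    rw [← Sheaf.isLocallySurjective_iff_epi']
    apply Presheaf.isLocallySurjective_of_surjective
    intro V q
    exact sect_surjective S.f S.g S.zero hS ((EtCoh.bc i).obj V.unop) q
  have hz : (P.rightDerived 1).map S.f = 0 :=
    (Functor.isZero_rightDerived_obj_injective_succ P 0 S.X₂).eq_of_tgt _ _
  have hδ : Epi (Δ.δ S hS 0 1 rfl) := (Δ.exact₁ S hS 0 1 rfl).epi_f hz
  have hc : (P.rightDerived 0).map S.g ≫ Δ.δ S hS 0 1 rfl = 0 := Δ.comp_δ S hS 0 1 rfl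
  let e := P.rightDerivedZeroIsoSelf
  have hepi0 : Epi ((P.rightDerived 0).map S.g) := by
    have hnat : (P.rightDerived 0).map S.g ≫ e.hom.app S.X₃ = e.hom.app S.X₂ ≫ P.map S.g :=
      e.hom.naturality S.g
    have h1 : Epi ((P.rightDerived 0).map S.g ≫ e.hom.app S.X₃) := by
      rw [hnat]
      infer_instance
    have h2 : (P.rightDerived 0).map S.g =
        ((P.rightDerived 0).map S.g ≫ e.hom.app S.X₃) ≫ e.inv.app S.X₃ := by
      rw [Category.assoc, ← NatTrans.comp_app, e.hom_inv_id, NatTrans.id_app, Category.comp_id]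
    rw [h2]
    infer_instance
  have hδ0 : Δ.δ S hS 0 1 rfl = 0 := by
    rw [← cancel_epi ((P.rightDerived 0).map S.g), hc, comp_zero]
  have hid : 𝟙 ((P.rightDerived 1).obj S.X₁) = 0 := by
    rw [← cancel_epi (Δ.δ S hS 0 1 rfl), hδ0, zero_comp, zero_comp]
  exact (IsZero.iff_id_eq_zero _).2 hid

end Groth.Agent.Helper10.GmPushField
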