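import Mathlib
import Groth.Prelude.Def_EtBase
import Groth.Prelude.Def_EtCore
import Groth.Agent.S7743
import Groth.Agent.Lib.Helper1.LC7
import Groth.Agent.Lib.Helper24.EtOpen5

/-!
# `H¹(Spec k, M) = 0` for a torsion-free constant sheaf
-/

set_option autoImplicit false

namespace Groth.Agent.Helper10.H1Const

open CategoryTheory CategoryTheory.Limits AlgebraicGeometry Opposite CategoryTheory.Abelian
open Groth.Agent.Helper1.LC Groth.Agent.Helper24.EtOpen

universe u

instance constantSheaf_pfl (X : Scheme.{u}) :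
    PreservesFiniteLimits (constantSheaf X.smallEtaleTopology AddCommGrpCat.{u + 1}) := by
  unfold constantSheaf
  infer_instance

instance constantSheaf_pfc (X : Scheme.{u}) :
    PreservesFiniteColimits (constantSheaf X.smallEtaleTopology AddCommGrpCat.{u + 1}) := by
  have : PreservesColimitsOfSize.{0, 0} (constantSheaf X.smallEtaleTopology AddCommGrpCat.{u + 1}) :=
    (constantSheafAdj X.smallEtaleTopology AddCommGrpCat.{u + 1}
      (EtCore.topIsTerminal X)).leftAdjoint_preservesColimits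
  exact PreservesColimitsOfSize.preservesFiniteColimits _

instance constantSheaf_additive (X : Scheme.{u}) :
    (constantSheaf X.smallEtaleTopology AddCommGrpCat.{u + 1}).Additive := by
  unfold constantSheaf
  infer_instance

section Field

variable (k : Type u) [Field k]

/-- Over a field, every global section of a constant sheaf is constant. -/
theorem unit_surjective (N : Type (u + 1)) [AddCommGroup N]
    (s : ((constantSheaf (Spec (CommRingCat.of k)).smallEtaleTopology AddCommGrpCat.{u + 1}).obj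
      (AddCommGrpCat.of N)).obj.obj (op (EtCoh.top (Spec (CommRingCat.of k))))) :
    ∃ q : N, ((EtCore.constAdj (Spec (CommRingCat.of k))).unit.app (AddCommGrpCat.of N)).hom q = s := by
  let X := Spec (CommRingCat.of k)
  let Φ := (EtCore.gsec X).mapIso (constIso (etPt X) N)
  have hΦ := unit_comp_constIso N X
  let t : LocallyConstant ((etPt X).pt.obj (EtCoh.top X)) N := Φ.hom.hom s
  let pt₀ : (etPt X).pt.obj (EtCoh.top X) :=
    (Classical.arbitrary (PrimeSpectrum k) : PrimeSpectrum k)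
  refine ⟨t pt₀, ?_⟩
  have hinj : Function.Injective Φ.hom.hom :=
    ((ConcreteCategory.isIso_iff_bijective Φ.hom).1 inferInstance).1
  apply hinj
  have h1 := ConcreteCategory.congr_hom hΦ (t pt₀)
  rw [ConcreteCategory.comp_apply] at h1
  refine h1.trans ?_
  apply LocallyConstant.ext
  intro v
  have hv : v = pt₀ := @Subsingleton.elim (PrimeSpectrum k) _ v pt₀
  rw [hv]
  rfl

/-- Global sections of constant sheaves lift along surjections (over a field). -/
theorem exists_lift {A₀ Q₀ : AddCommGrpCat.{u + 1}} (g₀ : A₀ ⟶ Q₀) [Epi g₀]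
    (ψ : EtCoh.const (Spec (CommRingCat.of k)) ℤ ⟶
      (constantSheaf (Spec (CommRingCat.of k)).smallEtaleTopology AddCommGrpCat.{u + 1}).obj Q₀) :
    ∃ χ : EtCoh.const (Spec (CommRingCat.of k)) ℤ ⟶
      (constantSheaf (Spec (CommRingCat.of k)).smallEtaleTopology AddCommGrpCat.{u + 1}).obj A₀,
      χ ≫ (constantSheaf (Spec (CommRingCat.of k)).smallEtaleTopology AddCommGrpCat.{u + 1}).map g₀
        = ψ := by
  let X := Spec (CommRingCat.of k)
  let cs := constantSheaf X.smallEtaleTopology AddCommGrpCat.{u + 1}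
  obtain ⟨q, hq⟩ := unit_surjective k Q₀ ((secX (cs.obj Q₀) ψ).hom (ULift.up 1))
  obtain ⟨a, rfl⟩ := (AddCommGrpCat.epi_iff_surjective g₀).1 inferInstance q
  refine ⟨(secX (cs.obj A₀)).symm (pick (((EtCore.constAdj X).unit.app A₀).hom a)), ?_⟩
  apply (secX (cs.obj Q₀)).injective
  have h1 := (EtCore.constAdj X).homEquiv_naturality_right
    ((secX (cs.obj A₀)).symm (pick (((EtCore.constAdj X).unit.app A₀).hom a))) (cs.map g₀)
  refine h1.trans ?_
  have h2 : (EtCore.constAdj X).homEquiv MZ (cs.obj A₀)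
      ((secX (cs.obj A₀)).symm (pick (((EtCore.constAdj X).unit.app A₀).hom a))) =
      pick (((EtCore.constAdj X).unit.app A₀).hom a) := (secX (cs.obj A₀)).apply_symm_apply _
  rw [h2]
  apply MZ_hom_ext
  rw [← hq]
  show ((EtCore.gsec X).map (cs.map g₀)).hom
    ((pick (((EtCore.constAdj X).unit.app A₀).hom a)).hom (ULift.up 1)) = _
  rw [pick_apply]
  have h3 := ConcreteCategory.congr_hom ((EtCore.constAdj X).unit.naturality g₀) a
  rw [ConcreteCategory.comp_apply, ConcreteCategory.comp_apply] at h3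
  exact h3.symm

lemma ext0_eq_mk₀ {C : Type*} [Category C] [Abelian C] [HasExt C] {A B : C} (y : Ext A B 0) :
    ∃ ψ : A ⟶ B, Ext.mk₀ ψ = y :=
  ⟨Ext.homEquiv₀ y, by simp⟩

lemma mk₀_nsmul {C : Type*} [Category C] [Abelian C] [HasExt C] {A B : C} (d : ℕ) (f : A ⟶ B) :
    Ext.mk₀ (d • f) = d • Ext.mk₀ f := by
  induction d with
  | zero => simp [Ext.mk₀_zero]
  | succ n ih => rw [succ_nsmul, Ext.mk₀_add, ih, succ_nsmul]

lemma comp_mk₀_nsmul_id {C : Type*} [Category C] [Abelian C] [HasExt C] {Z A : C} {n : ℕ}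
    (x : Ext Z A n) (d : ℕ) : x.comp (Ext.mk₀ (d • 𝟙 A)) (add_zero n) = d • x := by
  rw [mk₀_nsmul]
  have := map_nsmul (x.precomp A (add_zero n)) d (Ext.mk₀ (𝟙 A))
  refine this.trans ?_
  congr 1
  exact Ext.comp_mk₀_id x

/-- `H¹(Spec k, M) = 0` for `M` torsion-free. -/
theorem subsingleton_H1_const (M : Type) [AddCommGroup M] [IsAddTorsionFree M] :
    Subsingleton (EtCoh.H (Spec (CommRingCat.of k)) (EtCoh.const (Spec (CommRingCat.of k)) M) 1) := by
  let X := Spec (CommRingCat.of k)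
  let cs := constantSheaf X.smallEtaleTopology AddCommGrpCat.{u + 1}
  let A₀ : AddCommGrpCat.{u + 1} := AddCommGrpCat.of (ULift.{u + 1} M)
  apply subsingleton_of_forall_eq 0
  intro x
  obtain ⟨n, hn, hnx⟩ := isOfFinAddOrder_iff_nsmul_eq_zero.1
    (Groth.Agent.S7743.main k (EtCoh.const X M) 1 Nat.one_pos x)
  let φ₀ : A₀ ⟶ A₀ := n • 𝟙 A₀
  haveI : Mono φ₀ := by
    rw [AddCommGrpCat.mono_iff_injective]
    have h : ∀ a : A₀, φ₀.hom a = n • a := fun a => by
      show (n • 𝟙 A₀).hom a = n • a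
      rw [AddCommGrpCat.hom_nsmul]
      rfl
    intro a b hab
    rw [h, h] at hab
    obtain ⟨a⟩ := a
    obtain ⟨b⟩ := b
    congr 1
    exact (nsmul_right_injective hn.ne') (congrArg ULift.down hab)
  let S0 : ShortComplex AddCommGrpCat.{u + 1} :=
    ShortComplex.mk φ₀ (cokernel.π φ₀) (cokernel.condition φ₀)
  have hS0 : S0.ShortExact :=
    { exact := ShortComplex.exact_cokernel φ₀
      mono_f := inferInstanceAs (Mono φ₀)
      epi_g := inferInstanceAs (Epi (cokernel.π φ₀)) }
  have hS := hS0.map_of_exact cs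
  have hf : (S0.map cs).f = n • 𝟙 (EtCoh.const X M) := by
    show cs.map (n • 𝟙 A₀) = _
    rw [Functor.map_nsmul, CategoryTheory.Functor.map_id]
  have hx2 : x.comp (Ext.mk₀ (S0.map cs).f) (add_zero 1) = 0 := by
    have e1 : x.comp (Ext.mk₀ (n • 𝟙 (EtCoh.const X M))) (add_zero 1) = 0 := by
      rw [comp_mk₀_nsmul_id, hnx]
    rw [hf]
    exact e1
  obtain ⟨y, hy⟩ := Ext.covariant_sequence_exact₁ (EtCoh.const X ℤ) hS x hx2 (rfl : 0 + 1 = 1)
  obtain ⟨ψ, rfl⟩ := ext0_eq_mk₀ y
  obtain ⟨χ, hχ⟩ := exists_lift k (cokernel.π φ₀) ψ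
  let χ' : EtCoh.const X ℤ ⟶ (S0.map cs).X₂ := χ
  have e2 : (Ext.mk₀ (χ' ≫ (S0.map cs).g)).comp hS.extClass (zero_add 1) = 0 := by
    rw [← Ext.mk₀_comp_mk₀, Ext.comp_assoc_of_second_deg_zero, hS.comp_extClass, Ext.comp_zero]
  have e3 : χ' ≫ (S0.map cs).g = ψ := hχ
  rw [e3] at e2
  rw [← hy]
  exact e2

end Field

end Groth.Agent.Helper10.H1Const
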