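import Mathlib
import Groth.Prelude.Def_EtBase
import Groth.Prelude.Def_EtCore
import Groth.Agent.S0101

/-!
# `H¹(Y, F) = 0` implies `H¹(X, f_* F) = 0`
-/

set_option autoImplicit false

namespace Groth.Agent.Helper10.H1Push

open CategoryTheory CategoryTheory.Limits AlgebraicGeometry Opposite CategoryTheory.Abelian

universe u

variable {X Y : Scheme.{u}} (f : Y ⟶ X)

lemma ext0_eq_mk₀ {C : Type*} [Category C] [Abelian C] [HasExt C] {A B : C} (y : Ext A B 0) :
    ∃ ψ : A ⟶ B, Ext.mk₀ ψ = y :=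
  ⟨Ext.homEquiv₀ y, by simp⟩

theorem subsingleton_H1_push (F : EtCoh.Ab Y) (h : Subsingleton (EtCoh.H Y F 1)) :
    Subsingleton (EtCoh.H X ((EtCoh.push f).obj F) 1) := by
  haveI : PreservesFiniteLimits (EtCoh.pull f) := Groth.Agent.S0101.result f
  let P := EtCoh.push f
  let adj := EtCoh.pullPushAdj f
  -- the injective embedding
  let I := Injective.under F
  let ι : F ⟶ I := Injective.ι F
  let π : I ⟶ cokernel ι := cokernel.π ι
  let S : ShortComplex (EtCoh.Ab Y) := ShortComplex.mk ι π (cokernel.condition ι)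
  have hS : S.ShortExact :=
    { exact := ShortComplex.exact_cokernel ι
      mono_f := inferInstanceAs (Mono ι)
      epi_g := inferInstanceAs (Epi (cokernel.π ι)) }
  haveI : Mono S.f := hS.mono_f
  -- the image factorisation of `P π`
  let g : P.obj I ⟶ P.obj (cokernel ι) := P.map π
  let e : P.obj I ⟶ Abelian.image g := Abelian.factorThruImage g
  let m : Abelian.image g ⟶ P.obj (cokernel ι) := Abelian.image.ι g
  have hem : e ≫ m = g := Abelian.image.fac g
  haveI : Mono m := inferInstanceAs (Mono (Abelian.image.ι g))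
  haveI : Epi e := inferInstanceAs (Epi (Abelian.factorThruImage g))
  have hz : P.map ι ≫ e = 0 := by
    rw [← cancel_mono m, Category.assoc, hem, zero_comp, ← P.map_comp, cokernel.condition,
      P.map_zero]
  let T : ShortComplex (EtCoh.Ab X) := ShortComplex.mk (P.map ι) e hz
  haveI : PreservesLimitsOfSize.{0, 0} P := adj.rightAdjoint_preservesLimits
  have hSP : (S.map P).Exact := hS.exact.map_of_mono_of_preservesKernel P inferInstance inferInstance
  let φ : T ⟶ S.map P :=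
    { τ₁ := 𝟙 _
      τ₂ := 𝟙 _
      τ₃ := m
      comm₁₂ := by
        show 𝟙 _ ≫ P.map ι = P.map ι ≫ 𝟙 _
        rw [Category.id_comp, Category.comp_id]
      comm₂₃ := by
        show 𝟙 _ ≫ P.map π = e ≫ m
        rw [hem, Category.id_comp] }
  haveI : Epi φ.τ₁ := inferInstanceAs (Epi (𝟙 _))
  haveI : IsIso φ.τ₂ := inferInstanceAs (IsIso (𝟙 _))
  haveI : Mono φ.τ₃ := inferInstanceAs (Mono m)
  have hT : T.ShortExact :=
    { exact := (ShortComplex.exact_iff_of_epi_of_isIso_of_mono φ).2 hSP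
      mono_f := inferInstanceAs (Mono (P.map ι))
      epi_g := inferInstanceAs (Epi e) }
  haveI : (EtCoh.pull f).PreservesMonomorphisms := inferInstance
  haveI : Injective (P.obj I) := Injective.injective_of_adjoint adj I
  -- the constant sheaf
  let Z := EtCoh.const X ℤ
  let A := (EtCoh.pull f).obj Z
  have hA : Subsingleton (Ext A F 1) := by
    let c := EtCore.pullConst f ℤ
    refine ⟨fun a b => ?_⟩
    have h1 : ∀ a : Ext A F 1, a = (Ext.mk₀ c.hom).comp ((Ext.mk₀ c.inv).comp a (zero_add 1))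
        (zero_add 1) := by
      intro a
      rw [Ext.mk₀_comp_mk₀_assoc, Iso.hom_inv_id, Ext.mk₀_id_comp]
    rw [h1 a, h1 b, h.elim ((Ext.mk₀ c.inv).comp a (zero_add 1)) ((Ext.mk₀ c.inv).comp b (zero_add 1))]
  apply subsingleton_of_forall_eq 0
  intro x
  have hx2 : x.comp (Ext.mk₀ T.f) (add_zero 1) = 0 := Ext.eq_zero_of_injective _
  obtain ⟨y, hy⟩ := Ext.covariant_sequence_exact₁ Z hT x hx2 (rfl : 0 + 1 = 1)
  obtain ⟨ψ, rfl⟩ := ext0_eq_mk₀ y
  -- the adjoint of `ψ ≫ m`
  let ψ' : A ⟶ cokernel ι := (adj.homEquiv Z (cokernel ι)).symm (ψ ≫ m)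
  have h3 : (Ext.mk₀ ψ').comp hS.extClass (zero_add 1) = 0 := hA.elim _ _
  obtain ⟨w, hw⟩ := Ext.covariant_sequence_exact₃ A hS (Ext.mk₀ ψ') (zero_add 1) h3
  obtain ⟨χ', rfl⟩ := ext0_eq_mk₀ w
  rw [Ext.mk₀_comp_mk₀] at hw
  have hw' : χ' ≫ π = ψ' := (Ext.mk₀_bijective A (cokernel ι)).1 hw
  let χ : Z ⟶ P.obj I := adj.homEquiv Z I χ'
  have hχ : χ ≫ e = ψ := by
    rw [← cancel_mono m, Category.assoc, hem]
    have := adj.homEquiv_naturality_right χ' π
    rw [hw'] at this
    rw [← this]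
    exact (adj.homEquiv Z (cokernel ι)).apply_symm_apply _
  rw [← hy, ← hχ, ← Ext.mk₀_comp_mk₀, Ext.comp_assoc_of_second_deg_zero]
  have : (Ext.mk₀ T.g).comp hT.extClass (zero_add 1) = 0 := hT.comp_extClass
  rw [this, Ext.comp_zero]

end Groth.Agent.Helper10.H1Push
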