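import Mathlib
import Groth.Prelude.Def_ShStab
import Groth.Agent.Lib.Helper25.ShStabFormal
import Groth.Agent.Lib.Helper13.TensorPow

set_option autoImplicit false
universe u

open CategoryTheory CategoryTheory.Limits AlgebraicGeometry Polynomial

namespace Groth.Agent.Helper10.HilbShift

open Groth.Agent.Helper13.Tensor

variable (k : Type u) [Field k] (X : Scheme.{u}) [X.Over (Spec (CommRingCat.of k))]

/-- `(G ⊗ L^n) ⊗ L^m ≅ G ⊗ L^(n+m)` -/
noncomputable def twistTwistIso (L G : X.Modules) (n m : ℕ) :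
    ShStab.twist X L (CohB1.tensorMod G (CohB1.tensorPow L n)) m ≅ ShStab.twist X L G (n + m) :=
  assoc G (CohB1.tensorPow L n) (CohB1.tensorPow L m) ≪≫
    mapIso (Iso.refl G) (powAdd L n m).symm

/-- (L4) twist shift: if `P` is the Hilbert polynomial of `G` then `P(X + n)` is the Hilbert
polynomial of `G ⊗ L^n`. -/
theorem isHilbPoly_twist (L G : X.Modules) (n : ℕ) (P : ℚ[X])
    (hP : ShStab.IsHilbPoly k X L G P) :
    ShStab.IsHilbPoly k X L (CohB1.tensorMod G (CohB1.tensorPow L n))
      (P.comp (Polynomial.X + C (n : ℚ))) := by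
  intro m
  rw [Groth.Agent.Helper25.SSBaseChange.euler_congr k (twistTwistIso X L G n m), hP (n + m)]
  simp [add_comm]

end Groth.Agent.Helper10.HilbShift
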