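import Groth.Agent.Lib.Helper10.DirCol

/-!
# Morphisms of modules on a ringed space from local generators and their images
-/

set_option autoImplicit false
set_option linter.unusedSectionVars false
set_option linter.unusedVariables false
universe u
open CategoryTheory CategoryTheory.Limits TopologicalSpace
open ModSite

namespace Groth.Agent.Helper10.HomData

open Opposite
open Groth.Agent.Helper17.MT Groth.Agent.Helper17.GN Groth.Agent.Helper17.FS
open Groth.Agent.Helper10.PresRel Groth.Agent.Helper10.PresLocal Groth.Agent.Helper10.GermSp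
open Groth.Agent.Helper10.DirCol
open Groth.Agent.S6846 (PG)

section Space

variable {X : TopCat.{u}} (O : TopCat.Sheaf CommRingCat.{u} X)

theorem res_comb (M : ModSite.Mod O) {U W W' : Opens X} {K : Type u} [Fintype K]
    (g : W' ⟶ W) (a : W ⟶ U) (c : K → O.obj.obj (op W)) (σ : K → ModSite.sect M U) :
    res M g (∑ l, c l • res M a (σ l)) = ∑ l, rres g (c l) • res M (g ≫ a) (σ l) := by
  rw [res_sum]
  refine Finset.sum_congr rfl fun l _ => ?_
  rw [res_smul, res_comp]

theorem res_eq (M : ModSite.Mod O) {U W : Opens X} (g g' : W ⟶ U) (m : ModSite.sect M U) :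
    res M g m = res M g' m := by
  rw [Subsingleton.elim g g']

/-- local generators of `G` with prescribed images in `M` -/
structure Data (G M : ModSite.Mod O) where
  J : Type u
  U : J → Opens X
  hU : ∀ x : X, ∃ j, x ∈ U j
  K : J → Type u
  fin : ∀ j, Fintype (K j)
  f : ∀ j, K j → ModSite.sect G (U j)
  τ : ∀ j, K j → ModSite.sect M (U j)
  hgen : ∀ j, @PG X O G (U j) (K j) (fin j) (f j)
  hcompat : ∀ (j j' : J) (W : Opens X) (a : W ⟶ U j) (a' : W ⟶ U j')
    (c : K j → O.obj.obj (op W)) (c' : K j' → O.obj.obj (op W)),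
    (@Finset.sum _ _ _ (@Finset.univ _ (fin j)) fun l => c l • res G a (f j l)) =
      (@Finset.sum _ _ _ (@Finset.univ _ (fin j')) fun l => c' l • res G a' (f j' l)) →
    (@Finset.sum _ _ _ (@Finset.univ _ (fin j)) fun l => c l • res M a (τ j l)) =
      (@Finset.sum _ _ _ (@Finset.univ _ (fin j')) fun l => c' l • res M a' (τ j' l))

variable {O} {G M : ModSite.Mod O} (d : Data O G M)

instance (j : d.J) : Fintype (d.K j) := d.fin j

/-- the relation defining the value of the morphism -/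
def Rel (W : Opens X) (m : ModSite.sect G W) (t : ModSite.sect M W) : Prop :=
  ∀ (j : d.J) (W' : Opens X) (h : W' ⟶ W) (a : W' ⟶ d.U j) (c : d.K j → O.obj.obj (op W')),
    res G h m = ∑ l, c l • res G a (d.f j l) → res M h t = ∑ l, c l • res M a (d.τ j l)

theorem cover_pt (W : Opens X) (m : ModSite.sect G W) (y : X) (hy : y ∈ W) :
    ∃ (j : d.J) (W' : Opens X) (h : W' ⟶ W) (a : W' ⟶ d.U j) (c : d.K j → O.obj.obj (op W')),
      y ∈ W' ∧ res G h m = ∑ l, c l • res G a (d.f j l) := by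
  obtain ⟨j, hj⟩ := d.hU y
  let W₀ : Opens X := W ⊓ d.U j
  let a₀ : W₀ ⟶ d.U j := homOfLE inf_le_right
  let b₀ : W₀ ⟶ W := homOfLE inf_le_left
  obtain ⟨W', h, hyW', c, hc⟩ := d.hgen j W₀ a₀ (res G b₀ m) y ⟨hy, hj⟩
  refine ⟨j, W', h ≫ b₀, h ≫ a₀, c, hyW', ?_⟩
  rw [res_comp]
  exact hc

/-- the index type of the local expressions of a section -/
structure Idx (W : Opens X) (m : ModSite.sect G W) where
  j : d.J
  W' : Opens X
  h : W' ⟶ W
  a : W' ⟶ d.U j
  c : d.K j → O.obj.obj (op W')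
  eq : res G h m = ∑ l, c l • res G a (d.f j l)

theorem exists_rel (W : Opens X) (m : ModSite.sect G W) : ∃ t, Rel d W m t := by
  obtain ⟨t, ht⟩ := glue O M W (ι := Idx d W m) (fun ξ => ξ.W') (fun ξ => leOfHom ξ.h)
    (by
      intro y hy
      obtain ⟨j, W', h, a, c, hyW', e⟩ := cover_pt d W m y hy
      exact ⟨⟨j, W', h, a, c, e⟩, hyW'⟩)
    (fun ξ => ∑ l, ξ.c l • res M ξ.a (d.τ ξ.j l))
    (by
      intro ξ ξ'
      rw [res_comb, res_comb]
      apply d.hcompat
      rw [← res_comb, ← res_comb, ← ξ.eq, ← ξ'.eq, ← res_comp, ← res_comp]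
      exact res_eq O G _ _ m)
  refine ⟨t, ?_⟩
  intro j W' h a c e
  have := ht ⟨j, W', h, a, c, e⟩
  refine Eq.trans ?_ this
  exact res_eq O M _ _ t

/-- the value of the morphism on a section -/
noncomputable def val (W : Opens X) (m : ModSite.sect G W) : ModSite.sect M W :=
  (exists_rel d W m).choose

theorem val_rel (W : Opens X) (m : ModSite.sect G W) : Rel d W m (val d W m) :=
  (exists_rel d W m).choose_spec

/-- the local form of the relation -/
def Rel' (W : Opens X) (m : ModSite.sect G W) (t : ModSite.sect M W) : Prop :=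
  ∀ y ∈ W, ∃ (j : d.J) (W' : Opens X) (h : W' ⟶ W) (a : W' ⟶ d.U j)
    (c : d.K j → O.obj.obj (op W')), y ∈ W' ∧ res G h m = ∑ l, c l • res G a (d.f j l) ∧
      res M h t = ∑ l, c l • res M a (d.τ j l)

theorem rel'_of_rel (W : Opens X) (m : ModSite.sect G W) (t : ModSite.sect M W)
    (h : Rel d W m t) : Rel' d W m t := by
  intro y hy
  obtain ⟨j, W', g, a, c, hyW', e⟩ := cover_pt d W m y hy
  exact ⟨j, W', g, a, c, hyW', e, h j W' g a c e⟩

theorem rel'_unique (W : Opens X) (m : ModSite.sect G W) (t t' : ModSite.sect M W)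
    (h : Rel' d W m t) (h' : Rel' d W m t') : t = t' := by
  apply eq_of_locally O M W
  intro y hy
  obtain ⟨j, W₁, h₁, a₁, c₁, hy₁, e₁, r₁⟩ := h y hy
  obtain ⟨j', W₂, h₂, a₂, c₂, hy₂, e₂, r₂⟩ := h' y hy
  let V : Opens X := W₁ ⊓ W₂
  let g₁ : V ⟶ W₁ := homOfLE inf_le_left
  let g₂ : V ⟶ W₂ := homOfLE inf_le_right
  refine ⟨V, g₁ ≫ h₁, ⟨hy₁, hy₂⟩, ?_⟩
  have e3 : res M (g₁ ≫ h₁) t' = res M (g₂ ≫ h₂) t' := res_eq O M _ _ t'
  rw [e3, res_comp, res_comp, r₁, r₂, res_comb, res_comb]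
  apply d.hcompat
  rw [← res_comb, ← res_comb, ← e₁, ← e₂, ← res_comp, ← res_comp]
  exact res_eq O G _ _ m

theorem val_eq_of_rel' (W : Opens X) (m : ModSite.sect G W) (t : ModSite.sect M W)
    (h : Rel' d W m t) : val d W m = t :=
  rel'_unique d W m _ _ (rel'_of_rel d W m _ (val_rel d W m)) h

theorem val_res {W W₁ : Opens X} (g : W₁ ⟶ W) (m : ModSite.sect G W) :
    val d W₁ (res G g m) = res M g (val d W m) := by
  apply val_eq_of_rel'
  intro y hy
  obtain ⟨j, W', h, a, c, hyW', e⟩ := cover_pt d W₁ (res G g m) y hy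
  refine ⟨j, W', h, a, c, hyW', e, ?_⟩
  rw [← res_comp] at e ⊢
  exact val_rel d W m j W' (h ≫ g) a c e

theorem val_add (W : Opens X) (m m' : ModSite.sect G W) :
    val d W (m + m') = val d W m + val d W m' := by
  apply val_eq_of_rel'
  intro y hy
  obtain ⟨j, W₁, h₁, a₁, c₁, hy₁, e₁⟩ := cover_pt d W m y hy
  obtain ⟨W₂, h₂, hy₂, c₂, e₂⟩ := d.hgen j W₁ a₁ (res G h₁ m') y hy₁
  have e₂' : res G (h₂ ≫ h₁) m' = ∑ l, c₂ l • res G (h₂ ≫ a₁) (d.f j l) := by
    rw [res_comp]
    exact e₂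
  refine ⟨j, W₂, h₂ ≫ h₁, h₂ ≫ a₁, fun l => rres h₂ (c₁ l) + c₂ l, hy₂, ?_, ?_⟩
  · rw [res_add, e₂', res_comp, e₁, res_comb]
    simp only [add_smul, Finset.sum_add_distrib]
  · have r₁ := val_rel d W m j W₁ h₁ a₁ c₁ e₁
    have r₂ := val_rel d W m' j W₂ (h₂ ≫ h₁) (h₂ ≫ a₁) c₂ e₂'
    rw [res_add, r₂, res_comp, r₁, res_comb]
    simp only [add_smul, Finset.sum_add_distrib]

theorem val_smul (W : Opens X) (b : O.obj.obj (op W)) (m : ModSite.sect G W) :
    val d W (b • m) = b • val d W m := by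
  apply val_eq_of_rel'
  intro y hy
  obtain ⟨j, W₁, h₁, a₁, c₁, hy₁, e₁⟩ := cover_pt d W m y hy
  refine ⟨j, W₁, h₁, a₁, fun l => rres h₁ b * c₁ l, hy₁, ?_, ?_⟩
  · rw [res_smul, e₁, Finset.smul_sum]
    simp only [mul_smul]
  · rw [res_smul, val_rel d W m j W₁ h₁ a₁ c₁ e₁, Finset.smul_sum]
    simp only [mul_smul]

theorem val_gen (j : d.J) (l : d.K j) : val d (d.U j) (d.f j l) = d.τ j l := by
  classical
  have h := val_rel d (d.U j) (d.f j l) j (d.U j) (𝟙 _) (𝟙 _) (fun l' => if l' = l then 1 else 0)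
    (by
      rw [Finset.sum_eq_single l]
      · simp
      · intro l' _ hl'
        simp [hl']
      · intro hl
        exact absurd (Finset.mem_univ l) hl)
  rw [res_id] at h
  rw [h, Finset.sum_eq_single l]
  · simp [res_id]
  · intro l' _ hl'
    simp [hl']
  · intro hl
    exact absurd (Finset.mem_univ l) hl

/-- the underlying morphism of abelian presheaves -/
noncomputable def abHom : G.val.presheaf ⟶ M.val.presheaf where
  app W := AddCommGrpCat.ofHom (AddMonoidHom.mk' (val d W.unop) (val_add d W.unop))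
  naturality := by
    intro W W' g
    ext m
    exact val_res d g.unop m

/-- the morphism of modules attached to the data -/
noncomputable def hom : G ⟶ M :=
  ⟨PresheafOfModules.homMk (abHom d) (fun W r m => val_smul d W.unop r m)⟩

theorem hom_app (W : Opens X) (m : ModSite.sect G W) :
    ((hom d).val.app (op W)).hom m = val d W m := rfl

theorem hom_gen (j : d.J) (l : d.K j) :
    ((hom d).val.app (op (d.U j))).hom (d.f j l) = d.τ j l :=
  val_gen d j l

end Space

section Ext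

variable {X : TopCat.{u}} (O : TopCat.Sheaf CommRingCat.{u} X)

theorem hom_ext_sec {G M : ModSite.Mod O} (φ φ' : G ⟶ M)
    (h : ∀ (W : Opens X) (m : ModSite.sect G W),
      (φ.val.app (op W)).hom m = (φ'.val.app (op W)).hom m) : φ = φ' := by
  apply SheafOfModules.hom_ext
  apply PresheafOfModules.hom_ext
  intro W
  ext m
  exact h W.unop m

theorem map_comb {G M : ModSite.Mod O} (φ : G ⟶ M) {U W : Opens X} {K : Type u} [Fintype K]
    (a : W ⟶ U) (c : K → O.obj.obj (op W)) (σ : K → ModSite.sect G U) :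
    (φ.val.app (op W)).hom (∑ l, c l • res G a (σ l)) =
      ∑ l, c l • res M a ((φ.val.app (op U)).hom (σ l)) := by
  rw [map_sum]
  refine Finset.sum_congr rfl fun l _ => ?_
  refine ((φ.val.app (op W)).hom.map_smul _ _).trans ?_
  rw [map_res]
  rfl

/-- two morphisms which agree on local generators are equal -/
theorem eq_of_gen {G M : ModSite.Mod O} (φ φ' : G ⟶ M) {J : Type u} (U : J → Opens X)
    (hU : ∀ x : X, ∃ j, x ∈ U j) (K : J → Type u) [∀ j, Fintype (K j)]
    (f : ∀ j, K j → ModSite.sect G (U j)) (hgen : ∀ j, PG O G (U j) (f j))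
    (h : ∀ j l, (φ.val.app (op (U j))).hom (f j l) = (φ'.val.app (op (U j))).hom (f j l)) :
    φ = φ' := by
  apply hom_ext_sec O
  intro W m
  apply eq_of_locally O M W
  intro y hy
  obtain ⟨j, hj⟩ := hU y
  let W₀ : Opens X := W ⊓ U j
  let a₀ : W₀ ⟶ U j := homOfLE inf_le_right
  let b₀ : W₀ ⟶ W := homOfLE inf_le_left
  obtain ⟨W', g, hyW', c, hc⟩ := hgen j W₀ a₀ (res G b₀ m) y ⟨hy, hj⟩
  refine ⟨W', g ≫ b₀, hyW', ?_⟩
  rw [← map_res, ← map_res, res_comp, hc, map_comb, map_comb]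
  refine Finset.sum_congr rfl fun l _ => ?_
  rw [h j l]

end Ext

end Groth.Agent.Helper10.HomData
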