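import Mathlib
import Groth.Prelude.Def_FlatCA
import Groth.Agent.Lib.Helper10.AssBC

/-!
# Base change of impurities (helper10)

* `transfer`: abstract form — an impurity `(A₁,B₁,N₁,t'₁ ≤ t₁,P₁)` of `(A,B,N)` and compatible data `(A₂,B₂,N₂)` which is
  an impurity-shaped base change of `(A',B',N')` and a base change of `(A₁,B₁,N₁)`, with primes `T' ≤ T` of `A₂` over `t'₁ ≤ t₁`,
  give an impurity of `(A',B',N')`.
* `construct`: the same with `A₂ = A' ⊗_A A₁`-type pushout hypotheses only (the maps `B₁ → B₂`, `N₁ → N₂` are built).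
-/

set_option linter.style.haveILetI false
set_option linter.unusedSectionVars false

open TensorProduct

namespace Groth.Agent.Helper10.ImpBC

universe u

open Groth.Agent.Helper10.AssBC

attribute [local instance] Algebra.TensorProduct.rightAlgebra in
theorem transfer
    {A B : Type u} [CommRing A] [CommRing B] [Algebra A B] (N : Type u) [AddCommGroup N] [Module B N]
    (p : Ideal A) [p.IsPrime]
    (A₁ B₁ N₁ : Type u) [CommRing A₁] [CommRing B₁] [Algebra A A₁] [Algebra B B₁] [Algebra A₁ B₁]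
    [Algebra A B₁] [IsScalarTower A B B₁] [IsScalarTower A A₁ B₁] [AddCommGroup N₁] [Module B₁ N₁]
    [Module B N₁] [IsScalarTower B B₁ N₁] [Module A₁ N₁] [IsScalarTower A₁ B₁ N₁] (f₁ : N →ₗ[B] N₁)
    (t'₁ t₁ : Ideal A₁) [t'₁.IsPrime] [t₁.IsPrime] (P₁ : Ideal B₁) [P₁.IsPrime]
    (himp : FlatCA.IsImpurity A B N p A₁ B₁ N₁ f₁ t'₁ t₁ P₁)
    {A' B' : Type u} [CommRing A'] [CommRing B'] [Algebra A' B'] (N' : Type u) [AddCommGroup N']
    [Module B' N'] (p' : Ideal A') [p'.IsPrime]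
    (A₂ B₂ N₂ : Type u) [CommRing A₂] [CommRing B₂] [Algebra A' A₂] [Algebra B' B₂] [Algebra A₂ B₂]
    [Algebra A' B₂] [IsScalarTower A' B' B₂] [IsScalarTower A' A₂ B₂] [AddCommGroup N₂] [Module B₂ N₂]
    [Module B' N₂] [IsScalarTower B' B₂ N₂] [Module A₂ N₂] [IsScalarTower A₂ B₂ N₂]
    (f₂ : N' →ₗ[B'] N₂) (hp₂ : Algebra.IsPushout A' B' A₂ B₂) (hf₂ : IsBaseChange B₂ f₂)
    [Algebra A₁ A₂] [Algebra B₁ B₂]
    (hAB : ∀ a : A₁, algebraMap B₁ B₂ (algebraMap A₁ B₁ a) = algebraMap A₂ B₂ (algebraMap A₁ A₂ a))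
    [Module A₁ N₂] [IsScalarTower A₁ A₂ N₂] (gA : N₁ →ₗ[A₁] N₂) (hgA : IsBaseChange A₂ gA)
    (hgB : ∀ (b : B₁) (n : N₁), gA (b • n) = algebraMap B₁ B₂ b • gA n)
    [Algebra.FiniteType A₂ B₂]
    (T' T : Ideal A₂) [T'.IsPrime] [T.IsPrime] (hT'T : T' ≤ T) [hTp' : T.LiesOver p']
    [hTt : T.LiesOver t₁] [hT't' : T'.LiesOver t'₁] :
    ∃ (P₂ : Ideal B₂) (_ : P₂.IsPrime), FlatCA.IsImpurity A' B' N' p' A₂ B₂ N₂ f₂ T' T P₂ := by
  obtain ⟨-, -, -, -, -, hass, hcl⟩ := himp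
  haveI : Algebra.FiniteType T'.ResidueField (T'.Fiber B₂) := inferInstance
  haveI : IsNoetherianRing (T'.Fiber B₂) := Algebra.FiniteType.isNoetherianRing T'.ResidueField _
  obtain ⟨P₂, hP₂, hP₂T', hass₂, hle⟩ := exists_assoc_over gA t'₁ T' hgA hgB P₁ hass
  refine ⟨P₂, hP₂, hp₂, hf₂, hT'T, hTp', hP₂T', hass₂, ?_⟩
  intro P'' _ hle'' hover
  apply hcl (P''.comap (algebraMap B₁ B₂)) (hle.trans (Ideal.comap_mono hle''))
  refine ⟨?_⟩
  ext a
  rw [Ideal.under_def, Ideal.mem_comap, Ideal.mem_comap, hAB, ← Ideal.mem_comap, ← Ideal.under_def,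
    ← hover.over, hTt.over, Ideal.under_def, Ideal.mem_comap]


theorem construct
    {A B : Type u} [CommRing A] [CommRing B] [Algebra A B] [Algebra.FiniteType A B]
    (N : Type u) [AddCommGroup N] [Module B N] (p : Ideal A) [p.IsPrime]
    (A' B' N' : Type u) [CommRing A'] [CommRing B'] [Algebra A A'] [Algebra B B'] [Algebra A' B']
    [Algebra A B'] [IsScalarTower A B B'] [IsScalarTower A A' B'] [hpush : Algebra.IsPushout A B A' B']
    [AddCommGroup N'] [Module B' N'] [Module B N'] [IsScalarTower B B' N'] (f : N →ₗ[B] N')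
    (hf : IsBaseChange B' f) (p' : Ideal A') [p'.IsPrime]
    (A₁ B₁ N₁ : Type u) [CommRing A₁] [CommRing B₁] [Algebra A A₁] [Algebra B B₁] [Algebra A₁ B₁]
    [Algebra A B₁] [IsScalarTower A B B₁] [IsScalarTower A A₁ B₁] [AddCommGroup N₁] [Module B₁ N₁]
    [Module B N₁] [IsScalarTower B B₁ N₁] [Module A₁ N₁] [IsScalarTower A₁ B₁ N₁] (f₁ : N →ₗ[B] N₁)
    (t'₁ t₁ : Ideal A₁) [t'₁.IsPrime] [t₁.IsPrime] (P₁ : Ideal B₁) [P₁.IsPrime]
    (himp : FlatCA.IsImpurity A B N p A₁ B₁ N₁ f₁ t'₁ t₁ P₁)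
    (A₂ B₂ N₂ : Type u) [CommRing A₂] [Algebra A A₂] [Algebra A' A₂] [Algebra A₁ A₂]
    [IsScalarTower A A' A₂] [IsScalarTower A A₁ A₂] [hA₂ : Algebra.IsPushout A A' A₁ A₂]
    [CommRing B₂] [Algebra A' B₂] [Algebra B' B₂] [Algebra A₂ B₂] [IsScalarTower A' B' B₂]
    [IsScalarTower A' A₂ B₂] [hp₂ : Algebra.IsPushout A' B' A₂ B₂]
    [Algebra A B₂] [IsScalarTower A A' B₂] [Algebra B B₂] [IsScalarTower B B' B₂]
    [AddCommGroup N₂] [Module B₂ N₂] [Module B' N₂] [IsScalarTower B' B₂ N₂] [Module A₂ N₂]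
    [IsScalarTower A₂ B₂ N₂] [Module B N₂] [IsScalarTower B B' N₂]
    (f₂ : N' →ₗ[B'] N₂) (hf₂ : IsBaseChange B₂ f₂)
    (T' T : Ideal A₂) [T'.IsPrime] [T.IsPrime] (hT'T : T' ≤ T) [T.LiesOver p']
    [T.LiesOver t₁] [T'.LiesOver t'₁] :
    ∃ (P₂ : Ideal B₂) (_ : P₂.IsPrime), FlatCA.IsImpurity A' B' N' p' A₂ B₂ N₂ f₂ T' T P₂ := by
  have hpush₁ : Algebra.IsPushout A B A₁ B₁ := himp.1
  have hf₁ : IsBaseChange B₁ f₁ := himp.2.1
  -- towers over `A`
  haveI tAB'B₂ : IsScalarTower A B' B₂ :=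
    IsScalarTower.of_algebraMap_eq (fun x => by
      rw [IsScalarTower.algebraMap_apply A A' B₂, IsScalarTower.algebraMap_apply A' B' B₂,
        ← IsScalarTower.algebraMap_apply A A' B'])
  haveI tAA₂B₂ : IsScalarTower A A₂ B₂ :=
    IsScalarTower.of_algebraMap_eq (fun x => by
      rw [IsScalarTower.algebraMap_apply A A' B₂, IsScalarTower.algebraMap_apply A' A₂ B₂,
        ← IsScalarTower.algebraMap_apply A A' A₂])
  haveI tABB₂ : IsScalarTower A B B₂ :=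
    IsScalarTower.of_algebraMap_eq (fun a => by
      rw [IsScalarTower.algebraMap_apply A B' B₂, IsScalarTower.algebraMap_apply A B B',
        ← IsScalarTower.algebraMap_apply B B' B₂])
  haveI tBB₂N₂ : IsScalarTower B B₂ N₂ :=
    ⟨fun b c n => by
      rw [Algebra.smul_def, IsScalarTower.algebraMap_apply B B' B₂, ← smul_eq_mul, smul_assoc,
        algebraMap_smul, algebraMap_smul]⟩
  -- the ring map `B₁ → B₂`
  let fB : B →ₐ[A] B₂ := IsScalarTower.toAlgHom A B B₂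
  let fA₁ : A₁ →ₐ[A] B₂ := (IsScalarTower.toAlgHom A A₂ B₂).comp (IsScalarTower.toAlgHom A A₁ A₂)
  let φB : B₁ →ₐ[A] B₂ := Algebra.pushoutDesc B₁ fB fA₁ (fun _ _ => mul_comm _ _)
  letI algB₁B₂ : Algebra B₁ B₂ := φB.toRingHom.toAlgebra
  have hφB : ∀ b, algebraMap B₁ B₂ b = φB b := fun _ => rfl
  have hAB : ∀ a : A₁, algebraMap B₁ B₂ (algebraMap A₁ B₁ a) =
      algebraMap A₂ B₂ (algebraMap A₁ A₂ a) := by
    intro a
    rw [hφB, Algebra.pushoutDesc_right]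
    rfl
  have hBB : ∀ b : B, algebraMap B₁ B₂ (algebraMap B B₁ b) = algebraMap B B₂ b := by
    intro b
    rw [hφB, Algebra.pushoutDesc_left]
    rfl
  haveI tBB₁B₂ : IsScalarTower B B₁ B₂ := IsScalarTower.of_algebraMap_eq (fun b => (hBB b).symm)
  letI algA₁B₂ : Algebra A₁ B₂ := ((algebraMap A₂ B₂).comp (algebraMap A₁ A₂)).toAlgebra
  haveI tA₁A₂B₂ : IsScalarTower A₁ A₂ B₂ := IsScalarTower.of_algebraMap_eq (fun _ => rfl)
  haveI tA₁B₁B₂ : IsScalarTower A₁ B₁ B₂ := IsScalarTower.of_algebraMap_eq (fun a => (hAB a).symm)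
  haveI tAB₁B₂ : IsScalarTower A B₁ B₂ :=
    IsScalarTower.of_algebraMap_eq (fun a => (φB.commutes a).symm)
  haveI tAA₁B₂ : IsScalarTower A A₁ B₂ :=
    IsScalarTower.of_algebraMap_eq (fun a => by
      rw [IsScalarTower.algebraMap_apply A B₁ B₂, IsScalarTower.algebraMap_apply A A₁ B₁,
        ← IsScalarTower.algebraMap_apply A₁ B₁ B₂])
  -- pushout pasting
  have h1 : Algebra.IsPushout A B' A₁ B₂ :=
    (Algebra.IsPushout.comp_iff A A' A₁ (S' := A₂) (T := B') (T' := B₂)).mpr hp₂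
  have h2 : Algebra.IsPushout B B' B₁ B₂ :=
    (Algebra.IsPushout.comp_iff A B A₁ (S' := B₁) (T := B') (T' := B₂)).mp h1
  have h3 : Algebra.IsPushout A B₁ A' B₂ :=
    (Algebra.IsPushout.comp_iff A B A' (S' := B') (T := B₁) (T' := B₂)).mpr h2.symm
  haveI hA₂' : Algebra.IsPushout A A₁ A' A₂ := hA₂.symm
  have h4 : Algebra.IsPushout A₁ B₁ A₂ B₂ :=
    (Algebra.IsPushout.comp_iff A A₁ A' (S' := A₂) (T := B₁) (T' := B₂)).mp h3
  -- module structures on `N₂`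
  letI modB₁N₂ : Module B₁ N₂ := Module.compHom _ (algebraMap B₁ B₂)
  have hB₁smul : ∀ (b : B₁) (n : N₂), b • n = algebraMap B₁ B₂ b • n := fun _ _ => rfl
  haveI tB₁B₂N₂ : IsScalarTower B₁ B₂ N₂ :=
    ⟨fun b c n => by rw [hB₁smul, Algebra.smul_def, ← smul_eq_mul, smul_assoc]⟩
  haveI tBB₁N₂ : IsScalarTower B B₁ N₂ :=
    ⟨fun b c n => by
      rw [hB₁smul (b • c), hB₁smul c, Algebra.smul_def b c, map_mul, ← smul_eq_mul, smul_assoc,
        ← IsScalarTower.algebraMap_apply B B₁ B₂, algebraMap_smul]⟩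
  letI modA₁N₂ : Module A₁ N₂ := Module.compHom _ (algebraMap A₁ A₂)
  have hA₁smul : ∀ (a : A₁) (n : N₂), a • n = algebraMap A₁ A₂ a • n := fun _ _ => rfl
  haveI tA₁A₂N₂ : IsScalarTower A₁ A₂ N₂ :=
    ⟨fun a c n => by rw [hA₁smul, Algebra.smul_def, ← smul_eq_mul, smul_assoc]⟩
  haveI tA₁B₁N₂ : IsScalarTower A₁ B₁ N₂ :=
    ⟨fun a b n => by
      rw [hA₁smul a (b • n), hB₁smul (a • b), hB₁smul b, Algebra.smul_def a b, map_mul, ← smul_eq_mul,
        smul_assoc, hAB, algebraMap_smul]⟩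
  -- the maps
  let h : N →ₗ[B] N₂ := (f₂.restrictScalars B).comp f
  have hh : IsBaseChange B₂ h := IsBaseChange.comp hf hf₂
  let g : N₁ →ₗ[B₁] N₂ := hf₁.lift h
  have hg : IsBaseChange B₂ g := by
    apply IsBaseChange.of_comp hf₁
    rw [show ((g : N₁ →ₗ[B] N₂) ∘ₗ f₁) = h from hf₁.lift_comp h]
    exact hh
  let gA : N₁ →ₗ[A₁] N₂ := g.restrictScalars A₁
  have hgA : IsBaseChange A₂ gA := by
    haveI : Algebra.IsPushout A₁ A₂ B₁ B₂ := h4.symm
    let e : A₂ ⊗[A₁] N₁ ≃ₗ[A₂] N₂ :=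
      (Algebra.IsPushout.cancelBaseChange A₁ A₂ B₁ B₂ N₁).symm ≪≫ₗ (hg.equiv.restrictScalars A₂)
    apply IsBaseChange.of_equiv e
    intro x
    simp only [e, LinearEquiv.trans_apply, Algebra.IsPushout.cancelBaseChange_symm_tmul, map_one,
      LinearEquiv.restrictScalars_apply, IsBaseChange.equiv_tmul, one_smul]
    rfl
  have hgB : ∀ (b : B₁) (n : N₁), gA (b • n) = algebraMap B₁ B₂ b • gA n := by
    intro b n
    show g (b • n) = _
    rw [map_smul]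
    rfl
  haveI : Algebra.FiniteType A' B' := by
    haveI : Algebra.IsPushout A A' B B' := hpush.symm
    exact (inferInstance : Algebra.FiniteType A' (A' ⊗[A] B)).equiv (Algebra.IsPushout.equiv A A' B B')
  haveI : Algebra.FiniteType A₂ B₂ := by
    haveI : Algebra.IsPushout A' A₂ B' B₂ := hp₂.symm
    exact (inferInstance : Algebra.FiniteType A₂ (A₂ ⊗[A'] B')).equiv
      (Algebra.IsPushout.equiv A' A₂ B' B₂)
  exact transfer N p A₁ B₁ N₁ f₁ t'₁ t₁ P₁ himp N' p' A₂ B₂ N₂ f₂ hp₂ hf₂ hAB gA hgA hgB T' T hT'T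

end Groth.Agent.Helper10.ImpBC
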