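import Mathlib
import Groth.Agent.Lib.Helper10.KerLES

/-!
# Natural long exact sequence for a sequence of functors short exact on injectives

Natural (in the object) version of `KerLES.main`: for `ι : Γ ⟶ G`, `η : G ⟶ T` with `ι ≫ η = 0`,
short exact on injectives, `G` exact and `T` left exact:
`Γ.rightDerived 1 ≅ cokernel η` and `Γ.rightDerived (p + 1) ≅ T.rightDerived p` for `p ≥ 1`,
as functors.
-/

set_option autoImplicit false

namespace Groth.Agent.Helper10.KerLESNat

open CategoryTheory CategoryTheory.Limits Groth.Agent.Helper10.KerLES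

universe v v' u u'

variable {𝒜 : Type u} [Category.{v} 𝒜] [Abelian 𝒜] [HasInjectiveResolutions 𝒜]
  {ℬ : Type u'} [Category.{v'} ℬ] [Abelian ℬ]
  (Γ G T : 𝒜 ⥤ ℬ) [Γ.Additive] [G.Additive] [T.Additive]
  (ι : Γ ⟶ G) (η : G ⟶ T)

/-- the morphism of short complexes of complexes induced by a morphism of complexes -/
noncomputable def scMap (w : ι ≫ η = 0) {K L : CochainComplex 𝒜 ℕ} (φ : K ⟶ L) :
    sc Γ G T ι η w K ⟶ sc Γ G T ι η w L where
  τ₁ := (Γ.mapHomologicalComplex _).map φ
  τ₂ := (G.mapHomologicalComplex _).map φ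
  τ₃ := (T.mapHomologicalComplex _).map φ
  comm₁₂ := (NatTrans.mapHomologicalComplex ι (ComplexShape.up ℕ)).naturality φ
  comm₂₃ := (NatTrans.mapHomologicalComplex η (ComplexShape.up ℕ)).naturality φ

variable (w : ι ≫ η = 0)
  (hinj : ∀ I : 𝒜, Injective I → (sc₀ Γ G T ι η w I).ShortExact)

include hinj in
lemma hS (F : 𝒜) : (sc Γ G T ι η w (injectiveResolution F).cocomplex).ShortExact :=
  sc_shortExact Γ G T ι η w _ (fun n => hinj _ ((injectiveResolution F).injective n))

lemma rel_succ (q : ℕ) : (ComplexShape.up ℕ).Rel q (q + 1) := rfl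

/-- the connecting morphism on a chosen injective resolution -/
noncomputable def δapp (q : ℕ) (F : 𝒜) :
    (T.rightDerived q).obj F ⟶ (Γ.rightDerived (q + 1)).obj F :=
  ((injectiveResolution F).isoRightDerivedObj T q).hom ≫
    (hS Γ G T ι η w hinj F).δ q (q + 1) (rel_succ q) ≫
      ((injectiveResolution F).isoRightDerivedObj Γ (q + 1)).inv

lemma δapp_naturality (q : ℕ) {F F' : 𝒜} (f : F ⟶ F') :
    (T.rightDerived q).map f ≫ δapp Γ G T ι η w hinj q F' =
      δapp Γ G T ι η w hinj q F ≫ (Γ.rightDerived (q + 1)).map f := by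
  let φ := InjectiveResolution.desc f (injectiveResolution F') (injectiveResolution F)
  have comm : (injectiveResolution F).ι.f 0 ≫ φ.f 0 = f ≫ (injectiveResolution F').ι.f 0 :=
    InjectiveResolution.desc_commutes_zero _ _ _
  have h1 := InjectiveResolution.isoRightDerivedObj_hom_naturality f (injectiveResolution F)
    (injectiveResolution F') φ comm T q
  have h2 := InjectiveResolution.isoRightDerivedObj_inv_naturality f (injectiveResolution F)
    (injectiveResolution F') φ comm Γ (q + 1)
  have h3 := HomologicalComplex.HomologySequence.δ_naturality (scMap Γ G T ι η w φ)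
    (hS Γ G T ι η w hinj F) (hS Γ G T ι η w hinj F') q (q + 1) (rel_succ q)
  unfold δapp
  calc (T.rightDerived q).map f ≫ ((injectiveResolution F').isoRightDerivedObj T q).hom ≫
        (hS Γ G T ι η w hinj F').δ q (q + 1) (rel_succ q) ≫
          ((injectiveResolution F').isoRightDerivedObj Γ (q + 1)).inv
      = ((injectiveResolution F).isoRightDerivedObj T q).hom ≫
          HomologicalComplex.homologyMap ((T.mapHomologicalComplex _).map φ) q ≫
          (hS Γ G T ι η w hinj F').δ q (q + 1) (rel_succ q) ≫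
            ((injectiveResolution F').isoRightDerivedObj Γ (q + 1)).inv := by
        rw [reassoc_of% h1]; rfl
    _ = ((injectiveResolution F).isoRightDerivedObj T q).hom ≫
          (hS Γ G T ι η w hinj F).δ q (q + 1) (rel_succ q) ≫
          HomologicalComplex.homologyMap ((Γ.mapHomologicalComplex _).map φ) (q + 1) ≫
            ((injectiveResolution F').isoRightDerivedObj Γ (q + 1)).inv := by
        congr 1
        exact ((reassoc_of% h3) _).symm
    _ = _ := by
        simp only [Category.assoc]
        congr 2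
        exact h2.symm

/-- the natural connecting morphism `R^q T ⟶ R^{q+1} Γ` -/
noncomputable def δnat (q : ℕ) : T.rightDerived q ⟶ Γ.rightDerived (q + 1) where
  app F := δapp Γ G T ι η w hinj q F
  naturality _ _ f := δapp_naturality Γ G T ι η w hinj q f

variable [PreservesFiniteLimits G] [PreservesFiniteColimits G] [PreservesFiniteLimits T]

instance isIso_δnat (q : ℕ) : IsIso (δnat Γ G T ι η w hinj (q + 1)) := by
  have : ∀ F, IsIso ((δnat Γ G T ι η w hinj (q + 1)).app F) := by
    intro F
    exact (((injectiveResolution F).isoRightDerivedObj T (q + 1)) ≪≫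
      (hS Γ G T ι η w hinj F).δIso (q + 1) (q + 1 + 1) (rel_succ (q + 1))
        (isZero_homology_G G (injectiveResolution F) q)
        (isZero_homology_G G (injectiveResolution F) (q + 1)) ≪≫
      ((injectiveResolution F).isoRightDerivedObj Γ (q + 1 + 1)).symm).isIso_hom
  exact NatIso.isIso_of_isIso_app _

/-- the natural map `T ⟶ R¹Γ` -/
noncomputable def c1 : T ⟶ Γ.rightDerived 1 := T.toRightDerivedZero ≫ δnat Γ G T ι η w hinj 0

/-- `G F ⟶ H⁰(G I)` -/
noncomputable def aHom (F : 𝒜) : G.obj F ⟶
    ((G.mapHomologicalComplex (ComplexShape.up ℕ)).obj (injectiveResolution F).cocomplex).homology 0 :=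
  (injectiveResolution F).toRightDerivedZero' G ≫ (CochainComplex.isoHomologyπ₀ _).hom

/-- `T F ≅ H⁰(T I)` -/
noncomputable def bIso (F : 𝒜) : T.obj F ≅
    ((T.mapHomologicalComplex (ComplexShape.up ℕ)).obj (injectiveResolution F).cocomplex).homology 0 :=
  asIso ((injectiveResolution F).toRightDerivedZero' T) ≪≫ CochainComplex.isoHomologyπ₀ _

omit [PreservesFiniteColimits G] in
lemma comm_ab (F : 𝒜) : η.app F ≫ (bIso T F).hom = aHom G F ≫ HomologicalComplex.homologyMap
    ((NatTrans.mapHomologicalComplex η (ComplexShape.up ℕ)).app (injectiveResolution F).cocomplex) 0 := by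
  simp only [aHom, bIso, Iso.trans_hom, asIso_hom, Category.assoc]
  rw [← toRightDerivedZero'_nat_assoc]
  congr 1
  exact (HomologicalComplex.homologyπ_naturality _ _).symm

omit [PreservesFiniteLimits G] [PreservesFiniteColimits G] in
lemma c1_app (F : 𝒜) : (c1 Γ G T ι η w hinj).app F =
    (bIso T F).hom ≫ (hS Γ G T ι η w hinj F).δ 0 1 (rel_succ 0) ≫
      ((injectiveResolution F).isoRightDerivedObj Γ 1).inv := by
  change T.toRightDerivedZero.app F ≫ δapp Γ G T ι η w hinj 0 F = _
  unfold δapp
  rw [InjectiveResolution.toRightDerivedZero_eq (injectiveResolution F) T]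
  simp only [bIso, Iso.trans_hom, asIso_hom, Category.assoc]
  congr 2
  exact Iso.inv_hom_id_assoc _ _

/-- `G F ≅ H⁰(G I)` -/
noncomputable def aIso (F : 𝒜) : G.obj F ≅
    ((G.mapHomologicalComplex (ComplexShape.up ℕ)).obj (injectiveResolution F).cocomplex).homology 0 :=
  asIso ((injectiveResolution F).toRightDerivedZero' G) ≪≫ CochainComplex.isoHomologyπ₀ _

omit [PreservesFiniteColimits G] in
lemma η_c1_app (F : 𝒜) : η.app F ≫ (c1 Γ G T ι η w hinj).app F = 0 := by
  rw [c1_app, ← Category.assoc, comm_ab, Category.assoc]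
  have := (hS Γ G T ι η w hinj F).comp_δ 0 1 (rel_succ 0)
  rw [reassoc_of% this, zero_comp, comp_zero]

omit [PreservesFiniteColimits G] in
lemma η_c1 : η ≫ c1 Γ G T ι η w hinj = 0 := by
  ext F
  exact η_c1_app Γ G T ι η w hinj F

omit [PreservesFiniteColimits G] in
lemma exact_c1 (F : 𝒜) :
    (ShortComplex.mk (η.app F) ((c1 Γ G T ι η w hinj).app F) (η_c1_app Γ G T ι η w hinj F)).Exact := by
  have hex := (hS Γ G T ι η w hinj F).homology_exact₃ 0 1 (rel_succ 0)
  refine (ShortComplex.exact_iff_of_iso (ShortComplex.isoMk (aIso G F) (bIso T F)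
    ((injectiveResolution F).isoRightDerivedObj Γ 1) ?_ ?_)).2 hex
  · exact (comm_ab G T η F).symm
  · change (bIso T F).hom ≫ (hS Γ G T ι η w hinj F).δ 0 1 (rel_succ 0) =
      (c1 Γ G T ι η w hinj).app F ≫ ((injectiveResolution F).isoRightDerivedObj Γ 1).hom
    rw [c1_app, Category.assoc, Category.assoc]
    erw [Iso.inv_hom_id, Category.comp_id]
    rfl

lemma epi_c1 (F : 𝒜) : Epi ((c1 Γ G T ι η w hinj).app F) := by
  rw [c1_app]
  have : Epi ((hS Γ G T ι η w hinj F).δ 0 1 (rel_succ 0)) :=
    (hS Γ G T ι η w hinj F).epi_δ 0 1 (rel_succ 0) (isZero_homology_G G (injectiveResolution F) 0)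
  infer_instance

/-- the comparison `cokernel η ⟶ R¹Γ` -/
noncomputable def cokerDesc : cokernel η ⟶ Γ.rightDerived 1 :=
  cokernel.desc η (c1 Γ G T ι η w hinj) (η_c1 Γ G T ι η w hinj)

instance isIso_cokerDesc : IsIso (cokerDesc Γ G T ι η w hinj) := by
  have : ∀ F, IsIso ((cokerDesc Γ G T ι η w hinj).app F) := by
    intro F
    let E := (evaluation 𝒜 ℬ).obj F
    have h1 : IsColimit ((CokernelCofork.ofπ (cokernel.π η) (cokernel.condition η)).map E) :=
      CokernelCofork.mapIsColimit _ (cokernelIsCokernel η) E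
    have := epi_c1 Γ G T ι η w hinj F
    have h2 := (exact_c1 Γ G T ι η w hinj F).gIsCokernel
    have e : (cokerDesc Γ G T ι η w hinj).app F =
        (IsColimit.coconePointUniqueUpToIso h1 h2).hom := by
      apply Cofork.IsColimit.hom_ext h1
      refine Eq.trans ?_
        (IsColimit.comp_coconePointUniqueUpToIso_hom h1 h2 WalkingParallelPair.one).symm
      change (cokernel.π η).app F ≫ (cokerDesc Γ G T ι η w hinj).app F = (c1 Γ G T ι η w hinj).app F
      rw [← NatTrans.comp_app]
      unfold cokerDesc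
      rw [cokernel.π_desc]
    rw [e]
    infer_instance
  exact NatIso.isIso_of_isIso_app _

include w hinj in
theorem mainNat : Nonempty (Γ.rightDerived 1 ≅ cokernel η) ∧
    ∀ p : ℕ, 1 ≤ p → Nonempty (Γ.rightDerived (p + 1) ≅ T.rightDerived p) := by
  constructor
  · exact ⟨(asIso (cokerDesc Γ G T ι η w hinj)).symm⟩
  · intro p hp
    obtain ⟨q, rfl⟩ : ∃ q, p = q + 1 := ⟨p - 1, by omega⟩
    exact ⟨(asIso (δnat Γ G T ι η w hinj (q + 1))).symm⟩

end Groth.Agent.Helper10.KerLESNat
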