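import Mathlib
import Groth.Agent.Lib.Helper10.LanExact

/-!
# Exactness of inverse image for sheaves of modules over a fixed ring

Same as `LanExact`, with `ModuleCat R` in place of `AddCommGrpCat`.
-/

set_option autoImplicit false

open CategoryTheory CategoryTheory.Limits Opposite

namespace Groth.Agent.Helper10.LanExactMod

open Groth.Agent.Helper10.LanExact

universe w v₁ v₂ u₁ u₂

section Mod

variable (R : Type w) [Ring R] {J : Type w} [Category.{v₁} J] [UnivLE.{v₁, w}]

theorem mono_colimMap_mod (hJ : CompFilt J) {F G : J ⥤ ModuleCat.{w} R} (α : F ⟶ G)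
    [∀ j, Mono (α.app j)] : Mono (colimMap α) := by
  have h1 : ∀ c : ConnectedComponents J, IsFiltered c.Component := hJ.isFiltered_component
  have h2 : AB5OfSize.{v₁, w} (ModuleCat.{w} R) :=
    AB5OfSize_of_univLE.{v₁, w, w, w} (ModuleCat.{w} R)
  have h3 : ∀ c : ConnectedComponents J,
      HasExactColimitsOfShape c.Component (ModuleCat.{w} R) := fun c => inferInstance
  exact mono_colimMap α

attribute [local instance] preservesBinaryBiproducts_of_preservesBinaryCoproducts in
theorem preservesFiniteLimits_colim_mod (hJ : CompFilt J) :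
    PreservesFiniteLimits (colim : (J ⥤ ModuleCat.{w} R) ⥤ ModuleCat.{w} R) := by
  have : (colim : (J ⥤ ModuleCat.{w} R) ⥤ ModuleCat.{w} R).Additive :=
    Functor.additive_of_preservesBinaryBiproducts _
  apply preservesFiniteLimits_of_mono
  intro F G α hα
  have : ∀ j, Mono (α.app j) := fun j => inferInstance
  exact mono_colimMap_mod R hJ α

end Mod

section LanExact

variable {C : Type u₁} [Category.{v₁} C] {D : Type u₂} [Category.{v₂} D]
  (R : Type (max u₁ v₂)) [Ring R]

theorem preservesFiniteLimits_lan_mod (u : C ⥤ D) [UnivLE.{v₁, max u₁ v₂}]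
    (h : ∀ X : Dᵒᵖ, CompFilt (CostructuredArrow u.op X)) :
    PreservesFiniteLimits (u.op.lan :
      (Cᵒᵖ ⥤ ModuleCat.{max u₁ v₂} R) ⥤ (Dᵒᵖ ⥤ ModuleCat.{max u₁ v₂} R)) := by
  apply preservesFiniteLimits_of_preservesFiniteLimitsOfSize.{0}
  intro K _ _
  apply preservesLimitsOfShape_of_evaluation (u.op.lan :
      (Cᵒᵖ ⥤ ModuleCat.{max u₁ v₂} R) ⥤ (Dᵒᵖ ⥤ ModuleCat.{max u₁ v₂} R)) K
  intro X
  have := preservesFiniteLimits_colim_mod R (h X)
  exact preservesLimitsOfShape_of_natIso
    (lanEvaluationIsoColim' (ModuleCat.{max u₁ v₂} R) u.op X).symm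

theorem preservesFiniteLimits_sheafPullback_mod_of_compFilt (u : C ⥤ D)
    (J : GrothendieckTopology C) (K : GrothendieckTopology D) [u.IsContinuous J K]
    [UnivLE.{v₁, max u₁ v₂}] [HasSheafify K (ModuleCat.{max u₁ v₂} R)]
    (h : ∀ X : Dᵒᵖ, CompFilt (CostructuredArrow u.op X)) :
    PreservesFiniteLimits (u.sheafPullback (ModuleCat.{max u₁ v₂} R) J K) := by
  have h1 := preservesFiniteLimits_lan_mod R u h
  have h2 : PreservesFiniteLimits (u.op.lan ⋙ presheafToSheaf K (ModuleCat.{max u₁ v₂} R)) :=
    comp_preservesFiniteLimits _ _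
  have h3 : PreservesFiniteLimits
      (Functor.sheafPullbackConstruction.sheafPullback u (ModuleCat.{max u₁ v₂} R) J K) := by
    unfold Functor.sheafPullbackConstruction.sheafPullback
    exact comp_preservesFiniteLimits _ _
  exact preservesFiniteLimits_of_natIso
    (Functor.sheafPullbackConstruction.sheafPullbackIso u (ModuleCat.{max u₁ v₂} R) J K).symm

/-- `g^*` on sheaves of `R`-modules is exact when `C` has fibre products and equalizers and `u`
commutes with them. -/
theorem preservesFiniteLimits_sheafPullback_mod (u : C ⥤ D)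
    (J : GrothendieckTopology C) (K : GrothendieckTopology D) [u.IsContinuous J K]
    [UnivLE.{v₁, max u₁ v₂}] [HasSheafify K (ModuleCat.{max u₁ v₂} R)]
    [HasPullbacks C] [HasEqualizers C]
    [PreservesLimitsOfShape WalkingCospan u] [PreservesLimitsOfShape WalkingParallelPair u] :
    PreservesFiniteLimits (u.sheafPullback (ModuleCat.{max u₁ v₂} R) J K) :=
  preservesFiniteLimits_sheafPullback_mod_of_compFilt R u J K (compFilt_costructuredArrow u)

end LanExact

end Groth.Agent.Helper10.LanExactMod
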