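import Mathlib
import Groth.Prelude.Def_EtCore
import Groth.Agent.Lib.Helper1.LC4

/-!
# Subsheaves of constant sheaves on an irreducible scheme, detected at the generic geometric point

`isIso_of_generic`: if `LCs M' ⟶ G ⟶ LCs M` are monomorphisms composing to the map induced by an
injective group homomorphism `M' → M`, and the first map is surjective on stalks at a geometric
generic point of the irreducible scheme `X`, then it is an isomorphism.
-/

universe v₁ u₁ u
set_option linter.unusedSectionVars false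
open CategoryTheory CategoryTheory.Limits AlgebraicGeometry Opposite TopologicalSpace

namespace Groth.Agent.Helper10.LcGeneric

open Groth.Agent.Helper1.LC

section General

variable {C : Type u₁} [Category.{v₁} C] {J : GrothendieckTopology C} (D : PtData J)
  {M N : Type (max u₁ v₁)} [AddCommGroup M] [AddCommGroup N]

/-- the map of presheaves of locally constant functions induced by a group homomorphism -/
noncomputable def LCpMap (φ : M →+ N) : LCp D M ⟶ LCp D N where
  app V := AddCommGrpCat.ofHom (LocallyConstant.mapAddMonoidHom φ)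
  naturality V W f := by
    refine AddCommGrpCat.hom_ext ?_
    refine AddMonoidHom.ext fun s => LocallyConstant.ext fun w => ?_
    rfl

lemma LCpMap_apply (φ : M →+ N) (V : C) (s : (LCp D M).obj (op V)) (v : D.pt.obj V) :
    toLC D N (((LCpMap D φ).app (op V)).hom s) v = φ (toLC D M s v) := rfl

/-- the map of sheaves of locally constant functions induced by a group homomorphism -/
noncomputable def LCsMap (φ : M →+ N) : LCs D M ⟶ LCs D N := ⟨LCpMap D φ⟩

lemma kappa_LCpMap (φ : M →+ N) :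
    kappa D M ≫ LCpMap D φ =
      (Functor.const Cᵒᵖ).map (AddCommGrpCat.ofHom φ) ≫ kappa D N := by
  refine NatTrans.ext (funext fun V => ?_)
  refine AddCommGrpCat.hom_ext ?_
  refine AddMonoidHom.ext fun m => LocallyConstant.ext fun w => ?_
  rfl

variable [HasWeakSheafify J AddCommGrpCat.{max u₁ v₁}]
  [J.WEqualsLocallyBijective AddCommGrpCat.{max u₁ v₁}]

lemma constIso_natural (φ : M →+ N) :
    (constantSheaf J AddCommGrpCat.{max u₁ v₁}).map (AddCommGrpCat.ofHom φ) ≫ (constIso D N).hom =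
      (constIso D M).hom ≫ LCsMap D φ := by
  apply Sheaf.hom_ext
  refine sheafify_hom_ext _ _ _ (LCs D N).property ?_
  have h1 := (sheafificationAdjunction J AddCommGrpCat.{max u₁ v₁}).unit.naturality
    ((Functor.const Cᵒᵖ).map (AddCommGrpCat.ofHom φ))
  have h1' : toSheafify J ((Functor.const Cᵒᵖ).obj (AddCommGrpCat.of M)) ≫
      ((constantSheaf J AddCommGrpCat.{max u₁ v₁}).map (AddCommGrpCat.ofHom φ)).hom =
      (Functor.const Cᵒᵖ).map (AddCommGrpCat.ofHom φ) ≫
        toSheafify J ((Functor.const Cᵒᵖ).obj (AddCommGrpCat.of N)) := h1.symm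
  show toSheafify J ((Functor.const Cᵒᵖ).obj (AddCommGrpCat.of M)) ≫
      (((constantSheaf J AddCommGrpCat.{max u₁ v₁}).map (AddCommGrpCat.ofHom φ)).hom ≫
        (constIso D N).hom.hom) =
    toSheafify J ((Functor.const Cᵒᵖ).obj (AddCommGrpCat.of M)) ≫
      ((constIso D M).hom.hom ≫ LCpMap D φ)
  have e1 := toSheafify_constIso_hom D N
  have e2 := toSheafify_constIso_hom D M
  have e3 := kappa_LCpMap D φ
  calc toSheafify J ((Functor.const Cᵒᵖ).obj (AddCommGrpCat.of M)) ≫
      (((constantSheaf J AddCommGrpCat.{max u₁ v₁}).map (AddCommGrpCat.ofHom φ)).hom ≫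
        (constIso D N).hom.hom)
      = (toSheafify J ((Functor.const Cᵒᵖ).obj (AddCommGrpCat.of M)) ≫
          ((constantSheaf J AddCommGrpCat.{max u₁ v₁}).map (AddCommGrpCat.ofHom φ)).hom) ≫
        (constIso D N).hom.hom := (Category.assoc _ _ _).symm
    _ = ((Functor.const Cᵒᵖ).map (AddCommGrpCat.ofHom φ) ≫
          toSheafify J ((Functor.const Cᵒᵖ).obj (AddCommGrpCat.of N))) ≫
        (constIso D N).hom.hom := congrArg (· ≫ (constIso D N).hom.hom) h1'
    _ = (Functor.const Cᵒᵖ).map (AddCommGrpCat.ofHom φ) ≫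
          (toSheafify J ((Functor.const Cᵒᵖ).obj (AddCommGrpCat.of N)) ≫
        (constIso D N).hom.hom) := Category.assoc _ _ _
    _ = (Functor.const Cᵒᵖ).map (AddCommGrpCat.ofHom φ) ≫ kappa D N :=
        congrArg ((Functor.const Cᵒᵖ).map (AddCommGrpCat.ofHom φ) ≫ ·) e1
    _ = kappa D M ≫ LCpMap D φ := e3.symm
    _ = (toSheafify J ((Functor.const Cᵒᵖ).obj (AddCommGrpCat.of M)) ≫ (constIso D M).hom.hom) ≫
          LCpMap D φ := congrArg (· ≫ LCpMap D φ) e2.symm
    _ = _ := Category.assoc _ _ _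

end General

section Et

variable {X : Scheme.{u}} {M' M : Type (u + 1)} [AddCommGroup M'] [AddCommGroup M]

/-- sections of a sheaf mapping to a sheaf of locally constant functions, as functions -/
noncomputable def ev {G : EtCoh.Ab X} (b : G ⟶ LCs (etPt X) M) (U : X.Etale)
    (s : G.obj.obj (op U)) : LocallyConstant ((etPt X).pt.obj U) M :=
  toLC (etPt X) M ((b.hom.app (op U)).hom s)

lemma ev_map {G : EtCoh.Ab X} (b : G ⟶ LCs (etPt X) M) {V U : X.Etale} (q : V ⟶ U)
    (s : G.obj.obj (op U)) (v : (etPt X).pt.obj V) :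
    ev b V ((G.obj.map q.op).hom s) v = ev b U s (((etPt X).pt.map q).hom v) := by
  have h := NatTrans.naturality_apply b.hom q.op s
  unfold ev
  rw [h]
  rfl

lemma ev_comp (ι : M' →+ M) {G : EtCoh.Ab X} (a : LCs (etPt X) M' ⟶ G) (b : G ⟶ LCs (etPt X) M)
    (hab : a ≫ b = LCsMap (etPt X) ι) (V : X.Etale) (z : (LCp (etPt X) M').obj (op V))
    (v : (etPt X).pt.obj V) :
    ev b V ((a.hom.app (op V)).hom z) v = ι (toLC (etPt X) M' z v) := by
  have h := congrArg (fun τ : LCs (etPt X) M' ⟶ LCs (etPt X) M => (τ.hom.app (op V)).hom z) hab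
  have h' : (b.hom.app (op V)).hom ((a.hom.app (op V)).hom z) =
      ((LCpMap (etPt X) ι).app (op V)).hom z := h
  unfold ev
  rw [h']
  rfl

lemma germ_eq_of_map (Φ : GrothendieckTopology.Point.{u} X.smallEtaleTopology)
    (P : X.Etaleᵒᵖ ⥤ AddCommGrpCat.{u + 1}) {V W : X.Etale} (f : V ⟶ W)
    (x : Φ.fiber.obj V) (y : Φ.fiber.obj W) (h : Φ.fiber.map f x = y) (z : P.obj (op W)) :
    Φ.toPresheafFiber W y P z = Φ.toPresheafFiber V x P ((P.map f.op).hom z) := by
  subst h
  exact (Φ.toPresheafFiber_w_apply f x P z).symm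

variable [IrreducibleSpace X] {Ω : Type u} [Field Ω] [IsSepClosed Ω]
  (ξ : Spec (CommRingCat.of Ω) ⟶ X)

/-- every nonempty étale `X`-scheme has a point of its fibre over a geometric generic point -/
lemma exists_fiber_point (hξ : ξ.base default = genericPoint X) (W : X.Etale) (w : W.left) :
    Nonempty ((Scheme.pointSmallEtale ξ).fiber.obj W) := by
  have : Etale W.hom := W.prop
  have hopen : IsOpen (Set.range W.hom.base) := W.hom.isOpenMap.isOpen_range
  have hgen : genericPoint X ∈ Set.range W.hom.base := by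
    rw [(genericPoint_spec X).mem_open_set_iff hopen]
    exact ⟨W.hom.base w, trivial, w, rfl⟩
  obtain ⟨w', hw'⟩ := hgen
  obtain ⟨t, -⟩ := Scheme.pointSmallEtaleFiberObjToPreimage_surjective ξ hξ W
    ⟨w', by simpa using hw'⟩
  exact ⟨t⟩

/-- the key claim: sections of `G` are, as locally constant functions, valued in `M'` -/
lemma ev_mem_range (hξ : ξ.base default = genericPoint X) (ι : M' →+ M) {G : EtCoh.Ab X}
    (a : LCs (etPt X) M' ⟶ G) (b : G ⟶ LCs (etPt X) M)
    (hab : a ≫ b = LCsMap (etPt X) ι)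
    (hst : Function.Surjective ((EtCoh.stalk ξ).map a))
    (U : X.Etale) (s : G.obj.obj (op U)) (u : (etPt X).pt.obj U) :
    ev b U s u ∈ Set.range ι := by
  have := Groth.Agent.Helper1.SHC.preservesFilteredColimits_forget.{u}
  obtain ⟨W, g, w, hw, hr⟩ := (etPt X).exists_open ((ev b U s) ⁻¹' {ev b U s u})
    ((ev b U s).isLocallyConstant _) u rfl
  obtain ⟨t⟩ := exists_fiber_point ξ hξ W w
  obtain ⟨p, hp⟩ := hst ((Scheme.pointSmallEtale ξ).toPresheafFiber W t G.obj
    ((G.obj.map g.op).hom s))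
  obtain ⟨W₁, t₁, z, rfl⟩ := (Scheme.pointSmallEtale ξ).toPresheafFiber_jointly_surjective p
  have hp' : (Scheme.pointSmallEtale ξ).toPresheafFiber W₁ t₁ G.obj ((a.hom.app (op W₁)).hom z) =
      (Scheme.pointSmallEtale ξ).toPresheafFiber W t G.obj ((G.obj.map g.op).hom s) :=
    ((Scheme.pointSmallEtale ξ).toPresheafFiber_naturality_apply a.hom W₁ t₁ z).symm.trans hp
  let e₁ : (Scheme.pointSmallEtale ξ).fiber.Elements := ⟨W₁, t₁⟩
  let e₂ : (Scheme.pointSmallEtale ξ).fiber.Elements := ⟨W, t⟩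
  let f₁ : IsCofiltered.min e₁ e₂ ⟶ e₁ := IsCofiltered.minToLeft e₁ e₂
  let f₂ : IsCofiltered.min e₁ e₂ ⟶ e₂ := IsCofiltered.minToRight e₁ e₂
  have k1 := germ_eq_of_map (Scheme.pointSmallEtale ξ) G.obj f₁.1 (IsCofiltered.min e₁ e₂).2 t₁
    f₁.2 ((a.hom.app (op W₁)).hom z)
  have k2 := germ_eq_of_map (Scheme.pointSmallEtale ξ) G.obj f₂.1 (IsCofiltered.min e₁ e₂).2 t
    f₂.2 ((G.obj.map g.op).hom s)
  have hp'' := (k1.symm.trans hp').trans k2
  obtain ⟨Y, h, y, -, heq⟩ :=
    ((Scheme.pointSmallEtale ξ).toPresheafFiber_eq_iff' _ _ _ _).1 hp''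
  let y₀ : (etPt X).pt.obj Y :=
    (show Over.mk ξ ⟶ (Scheme.Etale.forget X).obj Y from y).left.base
      (default : Spec (CommRingCat.of Ω))
  have h2 := congrArg (fun σ => ev b Y σ y₀) heq
  simp only [ev_map] at h2
  have h4 := ev_comp ι a b hab W₁ z
    (((etPt X).pt.map f₁.1).hom (((etPt X).pt.map h).hom y₀))
  have h3 : ((etPt X).pt.map g).hom (((etPt X).pt.map f₂.1).hom (((etPt X).pt.map h).hom y₀)) ∈
      (ev b U s) ⁻¹' {ev b U s u} := hr ⟨_, rfl⟩
  rw [Set.mem_preimage, Set.mem_singleton_iff] at h3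
  exact ⟨_, (h4.symm.trans (h2.trans h3))⟩

omit [IrreducibleSpace X] in
lemma app_injective {F G : EtCoh.Ab X} (c : F ⟶ G) [Mono c] (U : X.Etale) :
    Function.Injective (c.hom.app (op U)).hom := by
  have h1 : Mono c.hom := (Sheaf.Hom.mono_iff_presheaf_mono _ _ c).1 inferInstance
  have h2 : Mono (c.hom.app (op U)) := (NatTrans.mono_iff_mono_app c.hom).1 h1 (op U)
  exact (AddCommGrpCat.mono_iff_injective _).1 h2

/-- the main statement -/
theorem isIso_of_generic (hξ : ξ.base default = genericPoint X) (ι : M' →+ M)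
    (hι : Function.Injective ι) {G : EtCoh.Ab X}
    (a : LCs (etPt X) M' ⟶ G) (b : G ⟶ LCs (etPt X) M) [Mono a] [Mono b]
    (hab : a ≫ b = LCsMap (etPt X) ι)
    (hst : Function.Surjective ((EtCoh.stalk ξ).map a)) : IsIso a := by
  have hsurj : ∀ U : X.Etale, Function.Surjective (a.hom.app (op U)).hom := by
    intro U s
    have hmem := ev_mem_range ξ hξ ι a b hab hst U s
    let ψ : (etPt X).pt.obj U → M' := fun u => Classical.choose (hmem u)
    have hψ : ∀ u, ι (ψ u) = ev b U s u := fun u => Classical.choose_spec (hmem u)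
    have hlc : IsLocallyConstant ψ := by
      refine IsLocallyConstant.desc ψ ι ?_ hι
      have : ι ∘ ψ = ev b U s := funext hψ
      rw [this]
      exact (ev b U s).isLocallyConstant
    let z : (LCp (etPt X) M').obj (op U) := (⟨ψ, hlc⟩ : LocallyConstant ((etPt X).pt.obj U) M')
    refine ⟨z, ?_⟩
    apply app_injective b U
    apply ext_toLC (etPt X)
    intro v
    exact (ev_comp ι a b hab U z v).trans (hψ v)
  have hbij : ∀ U : X.Etaleᵒᵖ, IsIso (a.hom.app U) := by
    intro U
    rw [ConcreteCategory.isIso_iff_bijective]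
    exact ⟨app_injective a U.unop, hsurj U.unop⟩
  have h1 : IsIso a.hom := NatIso.isIso_of_isIso_app a.hom
  have h2 : IsIso ((sheafToPresheaf X.smallEtaleTopology AddCommGrpCat.{u + 1}).map a) := h1
  exact isIso_of_reflects_iso a (sheafToPresheaf X.smallEtaleTopology AddCommGrpCat.{u + 1})

end Et

end Groth.Agent.Helper10.LcGeneric
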