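import Mathlib
import Groth.Prelude.Def_EtMod2
import Groth.Agent.Lib.Helper10.LcGlue
import Groth.Agent.S6644

/-!
# Module version: gluing adapted stratifications, and pullback of constructible sheaves of modules
-/

set_option autoImplicit false

open CategoryTheory CategoryTheory.Limits AlgebraicGeometry Opposite Topology

namespace Groth.Agent.Helper10.LcGlueMod

open Groth.Agent.Helper10.LcGlue Groth.Agent.S6644

universe u

variable (Λ : Type (u + 1)) [CommRing Λ]

/-- Adapted strata indexed by an arbitrary finite type. -/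
theorem adaptedStrata_of_finite {X : Scheme.{u}} (F : EtModW.Mod Λ X) (S : Set X) {ι : Type}
    [Finite ι] (T : ι → Scheme.{u}) (g : ∀ i, T i ⟶ X)
    (hi : ∀ i, IsImmersion (g i))
    (hc : ∀ i, IsConstructible ((Subtype.val : S → X) ⁻¹' Set.range (g i)))
    (hd : Pairwise (fun i j => Disjoint (Set.range (g i)) (Set.range (g j))))
    (hu : (⋃ i, Set.range (g i)) = S)
    (hl : ∀ i, EtModW.IsFTLocConst Λ ((EtModW.pull Λ (g i)).obj F)) :
    EtModW.AdaptedStrata Λ F S := by
  obtain ⟨n, ⟨e⟩⟩ := Finite.exists_equiv_fin ι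
  refine ⟨n, fun k => T (e.symm k), fun k => g (e.symm k), fun k => hi _, fun k => hc _, ?_, ?_,
    fun k => hl _⟩
  · intro k l hkl
    exact hd (fun h => hkl (e.symm.injective h))
  · rw [← hu]
    exact e.symm.surjective.iUnion_comp (fun i => Set.range (g i))


/-- Gluing adapted stratifications along a finite cover by retrocompact opens. -/
theorem adaptedStrata_glue {X : Scheme.{u}} (F : EtModW.Mod Λ X) (U : Set X) (r : ℕ)
    (W : Fin r → Set X) (hWo : ∀ k, IsOpen (W k))
    (hWU : ∀ k, W k ⊆ U) (hcov : U ⊆ ⋃ k, W k)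
    (hret : ∀ k, IsRetrocompact ((Subtype.val : U → X) ⁻¹' (W k)))
    (hW : ∀ k, EtModW.AdaptedStrata Λ F (W k)) : EtModW.AdaptedStrata Λ F U := by
  choose n T g hi hc hd hu hl using hW
  let O : Fin r → Set X := fun k => ⋃ l : {l : Fin r // l < k}, W l
  have hOo : ∀ k, IsOpen (O k) := fun k => isOpen_iUnion fun l => hWo l
  choose C c hcc hcr using fun k => exists_closedImmersion_range_eq_compl (O k) (hOo k)
  have hrange : ∀ (k : Fin r) (j : Fin (n k)),
      Set.range (pullback.fst (g k j) (c k) ≫ g k j) = Set.range (g k j) ∩ (O k)ᶜ := by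
    intro k j
    rw [Scheme.Hom.comp_base, TopCat.coe_comp, Set.range_comp, Scheme.Pullback.range_fst,
      Set.image_preimage_eq_inter_range, Set.inter_comm, hcr k]
  have hsub : ∀ (k : Fin r) (j : Fin (n k)), Set.range (g k j) ⊆ W k := by
    intro k j
    rw [← hu k]
    exact Set.subset_iUnion (fun j => Set.range (g k j)) j
  refine adaptedStrata_of_finite Λ F U (ι := Σ k : Fin r, Fin (n k))
    (fun p => pullback (g p.1 p.2) (c p.1)) (fun p => pullback.fst _ _ ≫ g p.1 p.2)
    ?_ ?_ ?_ ?_ ?_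
  · rintro ⟨k, j⟩
    have := hi k j
    have := hcc k
    infer_instance
  · rintro ⟨k, j⟩
    dsimp only
    rw [hrange k j, Set.preimage_inter, Set.preimage_compl]
    refine IsConstructible.inter ?_ (IsConstructible.compl ?_)
    · let incl : W k → U := Set.inclusion (hWU k)
      have hincl : IsOpenEmbedding incl :=
        IsOpenEmbedding.inclusion (hWU k) ((hWo k).preimage continuous_subtype_val)
      have himg : (Subtype.val : U → X) ⁻¹' Set.range (g k j) =
          incl '' ((Subtype.val : W k → X) ⁻¹' Set.range (g k j)) := by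
        ext x
        constructor
        · intro hx
          exact ⟨⟨x.1, hsub k j hx⟩, hx, rfl⟩
        · rintro ⟨y, hy, rfl⟩
          exact hy
      rw [himg]
      refine (hc k j).image_of_isOpenEmbedding hincl ?_
      rw [Set.range_inclusion]
      exact hret k
    · have : (Subtype.val : U → X) ⁻¹' O k =
          ⋃ l : {l : Fin r // l < k}, (Subtype.val : U → X) ⁻¹' W l := Set.preimage_iUnion
      rw [this]
      exact IsConstructible.iUnion fun l =>
        (hret l).isConstructible ((hWo l).preimage continuous_subtype_val)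
  · rintro ⟨k, j⟩ ⟨k', j'⟩ hpq
    dsimp only
    rw [hrange k j, hrange k' j']
    by_cases hkk : k = k'
    · subst hkk
      have hjj : j ≠ j' := fun h => hpq (by rw [h])
      exact (hd k hjj).mono Set.inter_subset_left Set.inter_subset_left
    · rcases lt_or_gt_of_ne hkk with hlt | hlt
      · refine Set.disjoint_left.2 fun x hx hx' => hx'.2 ?_
        exact Set.mem_iUnion.2 ⟨⟨k, hlt⟩, hsub k j hx.1⟩
      · refine Set.disjoint_left.2 fun x hx hx' => hx.2 ?_
        exact Set.mem_iUnion.2 ⟨⟨k', hlt⟩, hsub k' j' hx'.1⟩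
  · ext x
    simp only [Set.mem_iUnion]
    constructor
    · rintro ⟨⟨k, j⟩, hx⟩
      dsimp only at hx
      rw [hrange k j] at hx
      exact hWU k (hsub k j hx.1)
    · intro hx
      obtain ⟨k₀, hk₀⟩ := Set.mem_iUnion.1 (hcov hx)
      obtain ⟨k, hk, hmin⟩ := (wellFounded_lt : WellFounded
        (· < · : Fin r → Fin r → Prop)).has_min {k | x ∈ W k} ⟨k₀, hk₀⟩
      have hxk : x ∈ ⋃ j, Set.range (g k j) := by rw [hu k]; exact hk
      obtain ⟨j, hj⟩ := Set.mem_iUnion.1 hxk
      refine ⟨⟨k, j⟩, ?_⟩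
      dsimp only
      rw [hrange k j]
      refine ⟨hj, fun hxO => ?_⟩
      obtain ⟨l, hl'⟩ := Set.mem_iUnion.1 hxO
      exact hmin l.1 hl' l.2
  · rintro ⟨k, j⟩
    exact isFT_pull_comp Λ _ _ rfl (hl k j)


/-- Adapted strata for `j⁻¹ F` on `S'` give adapted strata for `F` on the image of `S'`. -/
theorem adaptedStrata_image {V X : Scheme.{u}} (j : V ⟶ X) [IsImmersion j] (F : EtModW.Mod Λ X)
    (S' : Set V) (h : EtModW.AdaptedStrata Λ ((EtModW.pull Λ j).obj F) S') :
    EtModW.AdaptedStrata Λ F (j '' S') := by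
  obtain ⟨n, T, t, hi, hc, hd, hu, hl⟩ := h
  have hemb : IsEmbedding j := j.isEmbedding
  have hrange : ∀ i, Set.range (t i ≫ j) = j '' Set.range (t i) := by
    intro i
    rw [Scheme.Hom.comp_base, TopCat.coe_comp, Set.range_comp]
  refine ⟨n, T, fun i => t i ≫ j, ?_, ?_, ?_, ?_, ?_⟩
  · intro i
    have := hi i
    infer_instance
  · intro i
    rw [hrange i]
    let e : S' ≃ₜ j '' S' := hemb.homeomorphImage S'
    have he : ∀ x : S', ((e x : j '' S') : X) = j x := fun x => rfl
    have := (hc i).preimage_of_isOpenEmbedding e.symm.isOpenEmbedding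
    convert this using 1
    ext y
    simp only [Set.mem_preimage]
    constructor
    · rintro ⟨r, hr, hry⟩
      have h1 : ((e (e.symm y) : j '' S') : X) = y := by rw [e.apply_symm_apply]
      rw [he] at h1
      have h2 : ((e.symm y : S') : V) = r := hemb.injective (h1.trans hry.symm)
      rw [h2]
      exact hr
    · intro hy
      refine ⟨(e.symm y : S'), hy, ?_⟩
      change j ((e.symm y : S') : V) = y
      rw [← he, e.apply_symm_apply]
  · intro i k hik
    rw [hrange i, hrange k]
    exact (Set.disjoint_image_iff hemb.injective).2 (hd hik)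
  · simp_rw [hrange]
    rw [← Set.image_iUnion, hu]
  · intro i
    exact isFT_of_iso Λ ((pullCompMod Λ (t i) j).app F).symm (hl i)


/-- Adapted strata on an affine open can be constructed locally on basic opens. -/
theorem adaptedStrata_of_local {X : Scheme.{u}} (F : EtModW.Mod Λ X) {U : X.Opens}
    (hU : IsAffineOpen U)
    (h : ∀ x ∈ U, ∃ f : Γ(X, U), x ∈ X.basicOpen f ∧
      EtModW.AdaptedStrata Λ F (X.basicOpen f : Set X)) :
    EtModW.AdaptedStrata Λ F (U : Set X) := by
  choose f hx hP using h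
  obtain ⟨t, ht⟩ := hU.isCompact.elim_finite_subcover
    (fun x : ↥(U : Set X) => (X.basicOpen (f x.1 x.2) : Set X))
    (fun x => (X.basicOpen _).isOpen)
    (fun x hxU => Set.mem_iUnion.2 ⟨⟨x, hxU⟩, hx x hxU⟩)
  let e : Fin t.card ≃ t := t.equivFin.symm
  refine adaptedStrata_glue Λ F (U : Set X) t.card
    (fun k => (X.basicOpen (f (e k).1.1 (e k).1.2) : Set X))
    (fun k => (X.basicOpen _).isOpen) (fun k => X.basicOpen_le _) ?_
    (fun k => isRetrocompact_basicOpen hU _) (fun k => hP _ _)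
  intro x hxU
  obtain ⟨y, hy⟩ := Set.mem_iUnion.1 (ht hxU)
  obtain ⟨hyt, hxy⟩ := Set.mem_iUnion.1 hy
  refine Set.mem_iUnion.2 ⟨e.symm ⟨y, hyt⟩, ?_⟩
  simp only [Equiv.apply_symm_apply]
  exact hxy


/-- Adapted strata pull back along `f` to an affine open `W` mapping into an affine open `V`. -/
theorem adaptedStrata_pull_affine {X Y : Scheme.{u}} (f : X ⟶ Y) (F : EtModW.Mod Λ Y)
    {W : X.Opens} (hW : IsAffineOpen W) {V : Y.Opens} (hV : IsAffineOpen V) (hWV : W ≤ f ⁻¹ᵁ V)
    (h : EtModW.AdaptedStrata Λ F (V : Set Y)) :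
    EtModW.AdaptedStrata Λ ((EtModW.pull Λ f).obj F) (W : Set X) := by
  obtain ⟨n, T, t, hi, hc, hd, hu, hl⟩ := h
  have hrange : ∀ i, Set.range (pullback.snd (t i) (W.ι ≫ f) ≫ W.ι) =
      (W : Set X) ∩ f ⁻¹' Set.range (t i) := by
    intro i
    rw [Scheme.Hom.comp_base, TopCat.coe_comp, Set.range_comp, Scheme.Pullback.range_snd]
    ext x
    constructor
    · rintro ⟨y, hy, rfl⟩
      exact ⟨y.2, hy⟩
    · rintro ⟨hxW, hx⟩
      exact ⟨⟨x, hxW⟩, hx, rfl⟩
  refine ⟨n, fun i => pullback (t i) (W.ι ≫ f), fun i => pullback.snd _ _ ≫ W.ι,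
    ?_, ?_, ?_, ?_, ?_⟩
  · intro i
    have := hi i
    infer_instance
  · intro i
    rw [hrange i]
    have : IsAffine W.toScheme := hW
    have : IsAffine V.toScheme := hV
    let ψ := f.resLE V W hWV
    have hψ : ∀ x : W, (ψ x).1 = f x.1 := fun x => Scheme.Hom.coe_resLE_apply f hWV x
    have hpre : (Subtype.val : ↥(W : Set X) → X) ⁻¹' ((W : Set X) ∩ f ⁻¹' Set.range (t i)) =
        ψ ⁻¹' ((Subtype.val : ↥(V : Set Y) → Y) ⁻¹' Set.range (t i)) := by
      ext x
      simp only [Set.mem_preimage, Set.mem_inter_iff]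
      constructor
      · rintro ⟨-, hx⟩
        change (ψ x).1 ∈ Set.range (t i)
        rw [hψ]
        exact hx
      · intro hx
        change (ψ x).1 ∈ Set.range (t i) at hx
        rw [hψ] at hx
        exact ⟨x.2, hx⟩
    rw [hpre]
    refine (hc i).preimage ψ.continuous ?_
    intro s hso hsr
    have hsc : IsCompact s := hsr.isCompact
    have : IsCompact (ψ ⁻¹' s) := QuasiCompact.isCompact_preimage (f := ψ) s hso hsc
    exact this.isRetrocompact (hso.preimage ψ.continuous)
  · intro i k hik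
    rw [hrange i, hrange k]
    exact ((hd hik).preimage f).mono Set.inter_subset_right Set.inter_subset_right
  · simp_rw [hrange]
    rw [← Set.inter_iUnion, ← Set.preimage_iUnion, hu]
    exact Set.inter_eq_left.2 hWV
  · intro i
    have w : pullback.fst (t i) (W.ι ≫ f) ≫ t i = (pullback.snd (t i) (W.ι ≫ f) ≫ W.ι) ≫ f := by
      rw [Category.assoc]
      exact pullback.condition
    exact isFT_of_iso Λ ((pullCompMod Λ _ f).app F) (isFT_pull_comp Λ _ _ w (hl i))


theorem isConstructible_pull {X Y : Scheme.{u}} (f : X ⟶ Y)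
    (F : EtModW.Mod Λ Y) (hF : EtModW.IsConstructible Λ F) :
    EtModW.IsConstructible Λ ((EtModW.pull Λ f).obj F) := by
  intro U hU
  apply adaptedStrata_of_local Λ _ hU
  intro x hx
  obtain ⟨V, hV, hxV, -⟩ := exists_isAffineOpen_mem_and_subset (x := f x) (U := ⊤) trivial
  obtain ⟨a, ha1, ha2⟩ := hU.exists_basicOpen_le (V := U ⊓ f ⁻¹ᵁ V) ⟨x, ⟨hx, hxV⟩⟩ hx
  exact ⟨a, ha2, adaptedStrata_pull_affine Λ f F (hU.basicOpen a) hV (ha1.trans inf_le_right)
    (hF V hV)⟩

end Groth.Agent.Helper10.LcGlueMod
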