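import Mathlib

/-!
# Lifting étale / smooth algebras along a surjection, locally

For a surjection `A → A'` and an étale (smooth) finitely presented `A'`-algebra `B'` with a prime
`q`, there are `b ∉ q`, an étale (smooth) `A`-algebra `B`, a map `B → B'_b` over `A`, and for every
`C` with compatible maps `A' → C`, `B → C` a map `B'_b → C` over `A'`.
-/

set_option autoImplicit false

namespace Groth.Agent.Helper10.LiftEtale

open Polynomial

universe u

section
variable {A A' : Type u} [CommRing A] [CommRing A'] [Algebra A A']

/-- Lift of a standard étale pair along a surjection. -/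
theorem exists_pair (hs : Function.Surjective (algebraMap A A')) (Q : StandardEtalePair A') :
    ∃ (P : StandardEtalePair A) (g₀ : A[X]), P.f.map (algebraMap A A') = Q.f ∧
      g₀.map (algebraMap A A') = Q.g ∧ P.g = g₀ * derivative P.f := by
  obtain ⟨f, hf, -, hfm⟩ := Polynomial.lifts_and_natDegree_eq_and_monic
    ((Polynomial.mem_lifts _).2 (Polynomial.map_surjective _ hs Q.f)) Q.monic_f
  obtain ⟨g₀, hg₀⟩ := Polynomial.map_surjective _ hs Q.g
  exact ⟨⟨f, hfm, g₀ * derivative f, g₀, 0, 1, by ring⟩, g₀, hf, hg₀, rfl⟩

/-- Lifting a standard étale algebra. -/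
theorem lift_standard (hs : Function.Surjective (algebraMap A A'))
    (B' : Type u) [CommRing B'] [Algebra A' B'] [Algebra A B'] [IsScalarTower A A' B']
    [Algebra.IsStandardEtale A' B'] :
    ∃ (P : StandardEtalePair A),
      (∃ φ : P.Ring →+* B', φ.comp (algebraMap A P.Ring) = algebraMap A B') ∧
      ∀ (C : Type u) [CommRing C] (α : A' →+* C) (β : P.Ring →+* C),
        α.comp (algebraMap A A') = β.comp (algebraMap A P.Ring) →
        ∃ γ : B' →+* C, γ.comp (algebraMap A' B') = α := by
  obtain ⟨Q⟩ := Algebra.IsStandardEtale.nonempty_standardEtalePresentation (R := A') (S := B')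
  obtain ⟨P, g₀, hf, hg₀, hg⟩ := exists_pair hs Q.P
  refine ⟨P, ?_, ?_⟩
  · have h : P.HasMap Q.x := by
      constructor
      · have := Q.hasMap.1
        rw [← hf, Polynomial.aeval_map_algebraMap] at this
        exact this
      · rw [hg, map_mul]
        refine IsUnit.mul ?_ ?_
        · have := Q.hasMap.2
          rw [← hg₀, Polynomial.aeval_map_algebraMap] at this
          exact this
        · have := Q.hasMap.isUnit_derivative_f
          rw [← hf, Polynomial.derivative_map, Polynomial.aeval_map_algebraMap] at this
          exact this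
    exact ⟨(P.lift Q.x h : P.Ring →+* B'), (P.lift Q.x h).comp_algebraMap⟩
  · intro C _ α β hαβ
    let _ : Algebra A' C := α.toAlgebra
    have hα : algebraMap A' C = α := RingHom.algebraMap_toAlgebra α
    have key : ∀ p : A[X], aeval (β P.X) (p.map (algebraMap A A')) = β (aeval P.X p) := by
      intro p
      rw [Polynomial.aeval_def, Polynomial.eval₂_map, hα, hαβ, Polynomial.aeval_def,
        Polynomial.hom_eval₂]
    have h : Q.P.HasMap (β P.X) := by
      constructor
      · rw [← hf, key, P.hasMap_X.1, map_zero]
      · rw [← hg₀, key]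
        refine IsUnit.map β ?_
        have := P.hasMap_X.2
        rw [hg, map_mul] at this
        exact isUnit_of_mul_isUnit_left this
    let γ : B' →ₐ[A'] C := (Q.P.lift (β P.X) h).comp Q.equivRing.toAlgHom
    exact ⟨(γ : B' →+* C), by rw [γ.comp_algebraMap, hα]⟩

/-- Local lifting of an étale algebra along a surjection. -/
theorem lift_etale (hs : Function.Surjective (algebraMap A A'))
    (B' : Type u) [CommRing B'] [Algebra A' B'] [Algebra A B'] [IsScalarTower A A' B']
    [Algebra.Etale A' B'] (q : Ideal B') [q.IsPrime] :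
    ∃ b ∉ q, ∃ (B : Type u) (_ : CommRing B) (_ : Algebra A B), Algebra.Etale A B ∧
      (∃ φ : B →+* Localization.Away b,
        φ.comp (algebraMap A B) = algebraMap A (Localization.Away b)) ∧
      ∀ (C : Type u) [CommRing C] (α : A' →+* C) (β : B →+* C),
        α.comp (algebraMap A A') = β.comp (algebraMap A B) →
        ∃ γ : Localization.Away b →+* C, γ.comp (algebraMap A' (Localization.Away b)) = α := by
  have : Algebra.FormallyEtale B' (Localization.AtPrime q) :=
    Algebra.FormallyEtale.of_isLocalization q.primeCompl
  have : Algebra.IsEtaleAt A' q := Algebra.FormallyEtale.comp A' B' _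
  obtain ⟨b, hb, hst⟩ := Algebra.IsEtaleAt.exists_isStandardEtale (R := A') q
  have : IsScalarTower A A' (Localization.Away b) := by
    refine .of_algebraMap_eq' ?_
    rw [IsScalarTower.algebraMap_eq A B' (Localization.Away b),
      IsScalarTower.algebraMap_eq A A' B', ← RingHom.comp_assoc,
      ← IsScalarTower.algebraMap_eq A' B' (Localization.Away b)]
  obtain ⟨P, hφ, hγ⟩ := lift_standard hs (Localization.Away b)
  exact ⟨b, hb, P.Ring, inferInstance, inferInstance, inferInstance, hφ, hγ⟩

/-- Local lifting of a smooth algebra along a surjection. -/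
theorem lift_smooth (hs : Function.Surjective (algebraMap A A'))
    (B' : Type u) [CommRing B'] [Algebra A' B'] [Algebra A B'] [IsScalarTower A A' B']
    [Algebra.Smooth A' B'] (q : Ideal B') [q.IsPrime] :
    ∃ b ∉ q, ∃ (B : Type u) (_ : CommRing B) (_ : Algebra A B), Algebra.Smooth A B ∧
      (∃ φ : B →+* Localization.Away b,
        φ.comp (algebraMap A B) = algebraMap A (Localization.Away b)) ∧
      ∀ (C : Type u) [CommRing C] (α : A' →+* C) (β : B →+* C),
        α.comp (algebraMap A A') = β.comp (algebraMap A B) →
        ∃ γ : Localization.Away b →+* C, γ.comp (algebraMap A' (Localization.Away b)) = α := by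
  have : Algebra.FormallySmooth B' (Localization.AtPrime q) :=
    Algebra.FormallySmooth.of_isLocalization q.primeCompl
  have : Algebra.IsSmoothAt A' q := Algebra.FormallySmooth.comp A' B' _
  obtain ⟨b, hb, n, alg, htow, hst⟩ :=
    Algebra.IsSmoothAt.exists_isStandardEtale_mvPolynomial (R := A') (p := q)
  have hAL : IsScalarTower A A' (Localization.Away b) := by
    refine .of_algebraMap_eq' ?_
    rw [IsScalarTower.algebraMap_eq A B' (Localization.Away b),
      IsScalarTower.algebraMap_eq A A' B', ← RingHom.comp_assoc,
      ← IsScalarTower.algebraMap_eq A' B' (Localization.Away b)]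
  let ι : MvPolynomial (Fin n) A →+* MvPolynomial (Fin n) A' := MvPolynomial.map (algebraMap A A')
  let _ : Algebra (MvPolynomial (Fin n) A) (MvPolynomial (Fin n) A') := ι.toAlgebra
  have hι : algebraMap (MvPolynomial (Fin n) A) (MvPolynomial (Fin n) A') = ι :=
    RingHom.algebraMap_toAlgebra ι
  let _ : Algebra (MvPolynomial (Fin n) A) (Localization.Away b) :=
    ((algebraMap (MvPolynomial (Fin n) A') (Localization.Away b)).comp ι).toAlgebra
  have hRL : algebraMap (MvPolynomial (Fin n) A) (Localization.Away b) =
      (algebraMap (MvPolynomial (Fin n) A') (Localization.Away b)).comp ι :=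
    RingHom.algebraMap_toAlgebra _
  have : IsScalarTower (MvPolynomial (Fin n) A) (MvPolynomial (Fin n) A') (Localization.Away b) :=
    .of_algebraMap_eq' (by rw [hRL, hι])
  have hsι : Function.Surjective
      (algebraMap (MvPolynomial (Fin n) A) (MvPolynomial (Fin n) A')) := by
    rw [hι]
    exact MvPolynomial.map_surjective _ hs
  obtain ⟨P, ⟨φ, hφ⟩, hγ⟩ := lift_standard hsι (Localization.Away b)
  let _ : Algebra A P.Ring :=
    ((algebraMap (MvPolynomial (Fin n) A) P.Ring).comp
      (algebraMap A (MvPolynomial (Fin n) A))).toAlgebra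
  have hAP : algebraMap A P.Ring = (algebraMap (MvPolynomial (Fin n) A) P.Ring).comp
      (algebraMap A (MvPolynomial (Fin n) A)) :=
    RingHom.algebraMap_toAlgebra _
  have : IsScalarTower A (MvPolynomial (Fin n) A) P.Ring := .of_algebraMap_eq' hAP
  have : Algebra.Smooth A (MvPolynomial (Fin n) A) := ⟨inferInstance, inferInstance⟩
  have : Algebra.Smooth A P.Ring := Algebra.Smooth.comp A (MvPolynomial (Fin n) A) P.Ring
  have hC : ι.comp (algebraMap A (MvPolynomial (Fin n) A)) =
      (algebraMap A' (MvPolynomial (Fin n) A')).comp (algebraMap A A') := by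
    ext a
    simp [ι, MvPolynomial.algebraMap_eq]
  refine ⟨b, hb, P.Ring, inferInstance, inferInstance, inferInstance, ⟨φ, ?_⟩, ?_⟩
  · rw [hAP, ← RingHom.comp_assoc, hφ, hRL, RingHom.comp_assoc, hC, ← RingHom.comp_assoc,
      ← IsScalarTower.algebraMap_eq A' (MvPolynomial (Fin n) A') (Localization.Away b),
      ← IsScalarTower.algebraMap_eq A A' (Localization.Away b)]
  · intro C _ α β hαβ
    let α' : MvPolynomial (Fin n) A' →+* C := MvPolynomial.eval₂Hom α
      (fun i => β (algebraMap (MvPolynomial (Fin n) A) P.Ring (MvPolynomial.X i)))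
    have h1 : α'.comp (algebraMap (MvPolynomial (Fin n) A) (MvPolynomial (Fin n) A')) =
        β.comp (algebraMap (MvPolynomial (Fin n) A) P.Ring) := by
      rw [hι]
      apply MvPolynomial.ringHom_ext
      · intro a
        have := congrArg (fun f => f a) hαβ
        simp only [RingHom.comp_apply, hAP] at this
        simp [α', ι, this, MvPolynomial.algebraMap_eq]
      · intro i
        simp [α', ι]
    obtain ⟨γ, hγ'⟩ := hγ C α' β h1
    refine ⟨γ, ?_⟩
    rw [IsScalarTower.algebraMap_eq A' (MvPolynomial (Fin n) A') (Localization.Away b),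
      ← RingHom.comp_assoc, hγ']
    ext a
    simp [α', MvPolynomial.algebraMap_eq]

end

end Groth.Agent.Helper10.LiftEtale
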