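import Mathlib
import Groth.Agent.Lib.Helper10.LiftEtale

/-!
# Lifting étale / smooth morphisms along a closed immersion, locally (scheme version)
-/

set_option autoImplicit false

namespace Groth.Agent.Helper10.LiftEtaleSch

open CategoryTheory CategoryTheory.Limits AlgebraicGeometry Opposite TensorProduct

universe u

/-- The algebraic local lifting hypothesis for a property of ring homs. -/
def LiftHyp (Q : ∀ {R S : Type u} [CommRing R] [CommRing S], (R →+* S) → Prop) : Prop :=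
  ∀ {A A' : Type u} [CommRing A] [CommRing A'] [Algebra A A'],
    Function.Surjective (algebraMap A A') →
    ∀ (B' : Type u) [CommRing B'] [Algebra A' B'] [Algebra A B'] [IsScalarTower A A' B'],
      Q (algebraMap A' B') → ∀ (q : Ideal B') [q.IsPrime],
    ∃ b ∉ q, ∃ (B : Type u) (_ : CommRing B) (_ : Algebra A B), Q (algebraMap A B) ∧
      (∃ φ : B →+* Localization.Away b,
        φ.comp (algebraMap A B) = algebraMap A (Localization.Away b)) ∧
      ∀ (C : Type u) [CommRing C] (α : A' →+* C) (β : B →+* C),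
        α.comp (algebraMap A A') = β.comp (algebraMap A B) →
        ∃ γ : Localization.Away b →+* C, γ.comp (algebraMap A' (Localization.Away b)) = α

theorem liftHyp_etale : LiftHyp.{u} (fun f => RingHom.Etale f) := by
  intro A A' _ _ _ hs B' _ _ _ _ hQ q _
  have : Algebra.Etale A' B' := RingHom.etale_algebraMap.1 hQ
  obtain ⟨b, hb, B, i1, i2, h1, h2, h3⟩ := LiftEtale.lift_etale hs B' q
  exact ⟨b, hb, B, i1, i2, RingHom.etale_algebraMap.2 h1, h2, h3⟩

theorem liftHyp_smooth : LiftHyp.{u} (fun f => RingHom.Smooth f) := by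
  intro A A' _ _ _ hs B' _ _ _ _ hQ q _
  have : Algebra.Smooth A' B' := RingHom.smooth_algebraMap.1 hQ
  obtain ⟨b, hb, B, i1, i2, h1, h2, h3⟩ := LiftEtale.lift_smooth hs B' q
  exact ⟨b, hb, B, i1, i2, RingHom.smooth_algebraMap.2 h1, h2, h3⟩

variable {Q : ∀ {R S : Type u} [CommRing R] [CommRing S], (R →+* S) → Prop}

/-- Affine core. -/
theorem core (hlift : LiftHyp.{u} Q) {A A' B' : CommRingCat.{u}} (a : A ⟶ A')
    (ha : Function.Surjective a.hom) (c : A' ⟶ B') (hc : Q c.hom) (q : Spec B') :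
    ∃ (B : CommRingCat.{u}) (e : A ⟶ B) (κ : pullback (Spec.map a) (Spec.map e) ⟶ Spec B'),
      Q e.hom ∧ κ ≫ Spec.map c = pullback.fst _ _ ∧
      ∃ w : Spec B, Spec.map e w = Spec.map a (Spec.map c q) := by
  let _ : Algebra A A' := a.hom.toAlgebra
  let _ : Algebra A' B' := c.hom.toAlgebra
  let _ : Algebra A B' := (c.hom.comp a.hom).toAlgebra
  have : IsScalarTower A A' B' := .of_algebraMap_eq' rfl
  obtain ⟨b, hb, B, _, _, hQB, ⟨φ, hφ⟩, hγ⟩ := hlift (A := A) (A' := A') ha B' hc q.asIdeal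
  obtain ⟨γ, hγ'⟩ := hγ (A' ⊗[A] B) Algebra.TensorProduct.includeLeftRingHom
    (Algebra.TensorProduct.includeRight : B →ₐ[A] A' ⊗[A] B).toRingHom
    Algebra.TensorProduct.includeLeftRingHom_comp_algebraMap
  refine ⟨CommRingCat.of B, CommRingCat.ofHom (algebraMap A B),
    (pullbackSpecIso A A' B).hom ≫ Spec.map (CommRingCat.ofHom γ) ≫
      Spec.map (CommRingCat.ofHom (algebraMap B' (Localization.Away b))), hQB, ?_, ?_⟩
  · rw [Category.assoc, Category.assoc, ← Spec.map_comp, ← Spec.map_comp]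
    have : (c ≫ CommRingCat.ofHom (algebraMap B' (Localization.Away b))) ≫ CommRingCat.ofHom γ =
        CommRingCat.ofHom Algebra.TensorProduct.includeLeftRingHom := by
      ext x
      have := congrArg (fun f => f x) hγ'
      simp only [RingHom.comp_apply] at this
      rw [IsScalarTower.algebraMap_apply A' B' (Localization.Away b)] at this
      exact this
    rw [this]
    exact pullbackSpecIso_hom_fst A A' B
  · have hq : (q : PrimeSpectrum B') ∈
        Set.range (PrimeSpectrum.comap (algebraMap B' (Localization.Away b))) := by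
      rw [PrimeSpectrum.localization_away_comap_range (Localization.Away b) b]
      exact hb
    obtain ⟨t', ht'⟩ := hq
    refine ⟨Spec.map (CommRingCat.ofHom φ) t', ?_⟩
    have e1 : Spec.map (CommRingCat.ofHom (algebraMap B' (Localization.Away b))) t' = q := ht'
    have hmor : CommRingCat.ofHom (algebraMap A B) ≫ CommRingCat.ofHom φ =
        a ≫ c ≫ CommRingCat.ofHom (algebraMap B' (Localization.Away b)) := by
      ext x
      have := congrArg (fun f => f x) hφ
      simp only [RingHom.comp_apply] at this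
      rw [IsScalarTower.algebraMap_apply A B' (Localization.Away b)] at this
      exact this
    rw [← e1, ← Scheme.Hom.comp_apply, ← Scheme.Hom.comp_apply, ← Scheme.Hom.comp_apply,
      ← Spec.map_comp, ← Spec.map_comp, ← Spec.map_comp, hmor, Category.assoc]

/-- Local lifting along a closed immersion. -/
theorem exists_lift {P : MorphismProperty Scheme.{u}} [HasRingHomProperty P Q]
    [P.IsStableUnderComposition]
    (hopen : ∀ {X Y : Scheme.{u}} (f : X ⟶ Y) [IsOpenImmersion f], P f)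
    (hlift : LiftHyp.{u} Q)
    {V Z T : Scheme.{u}} (i : Z ⟶ V) [IsClosedImmersion i] (h : T ⟶ Z) (hh : P h) (t : T) :
    ∃ (W : Scheme.{u}) (g : W ⟶ V) (κ : pullback i g ⟶ T),
      P g ∧ κ ≫ h = pullback.fst i g ∧ i (h t) ∈ Set.range g := by
  obtain ⟨V₀, hV₀, hvV₀⟩ : ∃ V₀ : V.Opens, IsAffineOpen V₀ ∧ i (h t) ∈ V₀ := by
    obtain ⟨_, ⟨V₀, hV₀, rfl⟩, hv, -⟩ :=
      V.isBasis_affineOpens.exists_subset_of_mem_open (Set.mem_univ (i (h t))) isOpen_univ
    exact ⟨V₀, hV₀, hv⟩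
  let Z₀ : Z.Opens := i ⁻¹ᵁ V₀
  have hZ₀ : IsAffineOpen Z₀ := hV₀.preimage i
  have htZ₀ : h t ∈ Z₀ := hvV₀
  obtain ⟨T₀, hT₀, htT₀, hT₀le⟩ : ∃ T₀ : T.Opens, IsAffineOpen T₀ ∧ t ∈ T₀ ∧ T₀ ≤ h ⁻¹ᵁ Z₀ := by
    obtain ⟨_, ⟨T₀, hT₀, rfl⟩, ht, hle⟩ :=
      T.isBasis_affineOpens.exists_subset_of_mem_open
        (show t ∈ ((h ⁻¹ᵁ Z₀ : T.Opens) : Set T) from htZ₀) (h ⁻¹ᵁ Z₀).isOpen
    exact ⟨T₀, hT₀, ht, hle⟩
  let a : Γ(V, V₀) ⟶ Γ(Z, Z₀) := i.app V₀
  have ha : Function.Surjective a.hom := i.app_surjective V₀ hV₀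
  let c : Γ(Z, Z₀) ⟶ Γ(T, T₀) := h.appLE Z₀ T₀ hT₀le
  have hc : Q c.hom := HasRingHomProperty.appLE P h hh ⟨Z₀, hZ₀⟩ ⟨T₀, hT₀⟩ hT₀le
  let q : Spec Γ(T, T₀) := hT₀.primeIdealOf ⟨t, htT₀⟩
  obtain ⟨B, e, κ, hQe, hκ, w, hw⟩ := core hlift a ha c hc q
  have F1 : Spec.map a ≫ hV₀.fromSpec = hZ₀.fromSpec ≫ i := by
    have := IsAffineOpen.SpecMap_appLE_fromSpec i hV₀ hZ₀ le_rfl
    rwa [← Scheme.Hom.app_eq_appLE] at this
  have F2 : Spec.map c ≫ hZ₀.fromSpec = hT₀.fromSpec ≫ h :=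
    IsAffineOpen.SpecMap_appLE_fromSpec h hZ₀ hT₀ hT₀le
  let g : Spec B ⟶ V := Spec.map e ≫ hV₀.fromSpec
  have hrange : Set.range (pullback.fst i g) ⊆ Set.range hZ₀.fromSpec := by
    rintro _ ⟨x, rfl⟩
    rw [hZ₀.range_fromSpec]
    change i (pullback.fst i g x) ∈ V₀
    rw [← Scheme.Hom.comp_apply, pullback.condition, Scheme.Hom.comp_apply]
    have : g (pullback.snd i g x) ∈ Set.range hV₀.fromSpec := by
      change (Spec.map e ≫ hV₀.fromSpec) (pullback.snd i g x) ∈ _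
      rw [Scheme.Hom.comp_apply]
      exact ⟨_, rfl⟩
    rwa [hV₀.range_fromSpec] at this
  let a₁ : pullback i g ⟶ Spec Γ(Z, Z₀) :=
    IsOpenImmersion.lift hZ₀.fromSpec (pullback.fst i g) hrange
  have ha₁ : a₁ ≫ hZ₀.fromSpec = pullback.fst i g := IsOpenImmersion.lift_fac _ _ _
  have hcond : a₁ ≫ Spec.map a = pullback.snd i g ≫ Spec.map e := by
    rw [← cancel_mono hV₀.fromSpec, Category.assoc, Category.assoc, F1, reassoc_of% ha₁,
      pullback.condition]
  let l : pullback i g ⟶ pullback (Spec.map a) (Spec.map e) :=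
    pullback.lift a₁ (pullback.snd i g) hcond
  refine ⟨Spec B, g, l ≫ κ ≫ hT₀.fromSpec, ?_, ?_, ?_⟩
  · exact P.comp_mem _ _ (HasRingHomProperty.Spec_iff.2 hQe) (hopen _)
  · rw [Category.assoc, Category.assoc, ← F2, reassoc_of% hκ, pullback.lift_fst_assoc, ha₁]
  · refine ⟨w, ?_⟩
    change (Spec.map e ≫ hV₀.fromSpec) w = _
    rw [Scheme.Hom.comp_apply, hw, ← Scheme.Hom.comp_apply, ← Scheme.Hom.comp_apply,
      F1, reassoc_of% F2, Scheme.Hom.comp_apply, Scheme.Hom.comp_apply,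
      hT₀.fromSpec_primeIdealOf]

end Groth.Agent.Helper10.LiftEtaleSch
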