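import Mathlib

/-!
# Sections of a jointly epimorphic family of abelian sheaves are locally finite sums
-/

set_option autoImplicit false
set_option linter.unusedSectionVars false
set_option linter.unusedVariables false

open CategoryTheory Limits Opposite

namespace Groth.Agent.Helper10.LocFin

universe u

/-- elements of a coproduct of abelian groups are finite sums -/
theorem cocone_finite_sum {I : Type u} {K : Discrete I ⥤ AddCommGrpCat.{u}} (c : Cocone K)
    (hc : IsColimit c) (q : c.pt) :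
    ∃ (T : Finset I) (t : ∀ i, K.obj ⟨i⟩), q = ∑ i ∈ T, (c.ι.app ⟨i⟩).hom (t i) := by
  classical
  let φ : ∀ i, K.obj ⟨i⟩ →+ c.pt := fun i => (c.ι.app ⟨i⟩).hom
  let Φ : (Π₀ i, K.obj ⟨i⟩) →+ c.pt := DFinsupp.sumAddHom φ
  let N : AddSubgroup c.pt := Φ.range
  have hN : ∀ i (x : K.obj ⟨i⟩), φ i x ∈ N := fun i x => ⟨DFinsupp.single i x, by simp [Φ]⟩
  let m : c.pt ⟶ AddCommGrpCat.of (c.pt ⧸ N) := AddCommGrpCat.ofHom (QuotientAddGroup.mk' N)
  have hm : m = 0 := by
    refine hc.hom_ext (fun ⟨i⟩ => ?_)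
    ext x
    have : (QuotientAddGroup.mk' N) (φ i x) = 0 := (QuotientAddGroup.eq_zero_iff _).2 (hN i x)
    simpa [m] using this
  have hq : q ∈ N := by
    have h := ConcreteCategory.congr_hom hm q
    exact (QuotientAddGroup.eq_zero_iff q).1 h
  obtain ⟨d, hd⟩ := hq
  refine ⟨d.support, fun i => d i, ?_⟩
  rw [← hd]
  show DFinsupp.sumAddHom φ d = _
  rw [DFinsupp.sumAddHom_apply]
  rfl

variable {C : Type u} [SmallCategory C] {J : GrothendieckTopology C}

/-- elements of a coproduct of presheaves of abelian groups are finite sums -/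
theorem sigma_presheaf_finite_sum {I : Type u} (P : I → Cᵒᵖ ⥤ AddCommGrpCat.{u}) (V : C)
    (q : (∐ P).obj (op V)) :
    ∃ (T : Finset I) (t : ∀ i, (P i).obj (op V)),
      q = ∑ i ∈ T, ((Sigma.ι P i).app (op V)).hom (t i) := by
  have hc := isColimitOfPreserves ((evaluation Cᵒᵖ AddCommGrpCat.{u}).obj (op V))
    (colimit.isColimit (Discrete.functor P))
  exact cocone_finite_sum _ hc q

/-- a jointly epimorphic family of abelian sheaves: sections are locally finite sums -/
theorem locally_finite_sum {I : Type u} (A : I → Sheaf J AddCommGrpCat.{u})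
    (B : Sheaf J AddCommGrpCat.{u}) (j : ∀ i, A i ⟶ B)
    (hj : ∀ (Z : Sheaf J AddCommGrpCat.{u}) (g h : B ⟶ Z), (∀ i, j i ≫ g = j i ≫ h) → g = h)
    (W : C) (s : B.obj.obj (op W)) :
    ∃ S ∈ J W, ∀ ⦃V : C⦄ (f : V ⟶ W), S f →
      ∃ (T : Finset I) (t : ∀ i, (A i).obj.obj (op V)),
        (B.obj.map f.op).hom s = ∑ i ∈ T, ((j i).hom.app (op V)).hom (t i) := by
  let P : I → Cᵒᵖ ⥤ AddCommGrpCat.{u} := fun i => (A i).obj
  let c₀ : ∐ P ⟶ B.obj := Sigma.desc (fun i => (j i).hom)
  have hc₀ : ∀ i, Sigma.ι P i ≫ c₀ = (j i).hom := fun i => Sigma.ι_desc _ _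
  have hepi : Epi ((presheafToSheaf J AddCommGrpCat.{u}).map c₀) := by
    constructor
    intro Z g h hgh
    let adj := sheafificationAdjunction J AddCommGrpCat.{u}
    apply (adj.homEquiv _ _).injective
    have e : c₀ ≫ adj.homEquiv _ _ g = c₀ ≫ adj.homEquiv _ _ h := by
      rw [← adj.homEquiv_naturality_left, ← adj.homEquiv_naturality_left, hgh]
    have e2 : (⟨adj.homEquiv _ _ g⟩ : B ⟶ Z) = ⟨adj.homEquiv _ _ h⟩ := by
      apply hj
      intro i
      ext : 1
      show (j i).hom ≫ adj.homEquiv _ _ g = (j i).hom ≫ adj.homEquiv _ _ h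
      rw [← hc₀ i, Category.assoc, Category.assoc, e]
    exact congrArg (fun (m : B ⟶ Z) => m.hom) e2
  have hls : Presheaf.IsLocallySurjective J c₀ :=
    (Presheaf.isLocallySurjective_presheafToSheaf_map_iff J c₀).1
      ((Sheaf.isLocallySurjective_iff_epi' AddCommGrpCat.{u} _).2 hepi)
  refine ⟨_, Presheaf.imageSieve_mem J c₀ (U := op W) s, ?_⟩
  rintro V f ⟨q, hq⟩
  obtain ⟨T, t, ht⟩ := sigma_presheaf_finite_sum P V q
  refine ⟨T, t, ?_⟩
  have hq' : (c₀.app (op V)).hom q = (B.obj.map f.op).hom s := hq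
  rw [← hq', ht, map_sum]
  refine Finset.sum_congr rfl (fun i _ => ?_)
  exact ConcreteCategory.congr_hom (congrArg (fun (m : P i ⟶ B.obj) => m.app (op V)) (hc₀ i)) (t i)

end Groth.Agent.Helper10.LocFin
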