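import Mathlib
import Groth.Prelude.Def_ModSite
import Groth.Agent.Lib.Helper10.LocFin

/-!
# Sections of a colimit of sheaves of modules are locally finite sums of sections of the terms
-/

set_option autoImplicit false
set_option linter.unusedSectionVars false
set_option linter.unusedVariables false

open CategoryTheory Limits Opposite

namespace Groth.Agent.Helper10.LocFinMod

universe u

section General

variable {C : Type u} [SmallCategory C] {J : GrothendieckTopology C} (R : Sheaf J RingCat.{u})

theorem preservesColimits_of_sheafification_comp {𝒟 : Type*} [Category 𝒟]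
    (G : SheafOfModules.{u} R ⥤ 𝒟)
    [PreservesColimitsOfSize.{u, u} (PresheafOfModules.sheafification.{u} (𝟙 R.obj) ⋙ G)] :
    PreservesColimitsOfSize.{u, u} G := by
  refine ⟨fun {K} _ => ⟨fun {F} => ?_⟩⟩
  let L := PresheafOfModules.sheafification.{u} (𝟙 R.obj)
  let G' : K ⥤ PresheafOfModules.{u} R.obj := F ⋙ SheafOfModules.forget R
  let e : F ≅ G' ⋙ L := Functor.isoWhiskerLeft F
    (asIso (PresheafOfModules.sheafificationAdjunction (𝟙 R.obj)).counit).symm
  have : PreservesColimitsOfSize.{u, u} L :=
    (PresheafOfModules.sheafificationAdjunction (𝟙 R.obj)).leftAdjoint_preservesColimits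
  have : PreservesColimit (G' ⋙ L) G := by
    have hc := colimit.isColimit G'
    have h1 : IsColimit (L.mapCocone (colimit.cocone G')) := isColimitOfPreserves L hc
    have h2 : IsColimit ((L ⋙ G).mapCocone (colimit.cocone G')) := isColimitOfPreserves _ hc
    exact preservesColimit_of_preserves_colimit_cocone h1 h2
  exact preservesColimit_of_iso_diagram _ e.symm

theorem preservesColimits_toSheaf :
    PreservesColimitsOfSize.{u, u} (SheafOfModules.toSheaf.{u} R) := by
  have h1 : PreservesColimitsOfSize.{u, u} (PresheafOfModules.toPresheaf.{u} R.obj) :=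
    inferInstance
  have h2 : PreservesColimitsOfSize.{u, u} (presheafToSheaf J AddCommGrpCat.{u}) :=
    (sheafificationAdjunction J AddCommGrpCat.{u}).leftAdjoint_preservesColimits
  have h3 : PreservesColimitsOfSize.{u, u}
      (PresheafOfModules.toPresheaf.{u} R.obj ⋙ presheafToSheaf J AddCommGrpCat.{u}) :=
    inferInstance
  have : PreservesColimitsOfSize.{u, u}
      (PresheafOfModules.sheafification.{u} (𝟙 R.obj) ⋙ SheafOfModules.toSheaf.{u} R) := h3
  exact preservesColimits_of_sheafification_comp R _

end General

variable {C : Type u} [SmallCategory C] {J : GrothendieckTopology C} (O : Sheaf J CommRingCat.{u})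

/-- sections of a colimit of modules are locally finite sums of sections of the terms -/
theorem locally_finite_sum_cocone {K : Type u} [SmallCategory K] (D : K ⥤ ModSite.Mod O)
    (c : Cocone D) (hc : IsColimit c) (W : C) (s : ModSite.sect c.pt W) :
    ∃ S ∈ J W, ∀ ⦃V : C⦄ (f : V ⟶ W), S f →
      ∃ (T : Finset K) (t : ∀ k, ModSite.sect (D.obj k) V),
        (c.pt.val.map f.op).hom s = ∑ k ∈ T, ((c.ι.app k).val.app (op V)).hom (t k) := by
  have hp := preservesColimits_toSheaf (ModSite.ringSh O)
  have hc' := isColimitOfPreserves (SheafOfModules.toSheaf.{u} (ModSite.ringSh O)) hc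
  obtain ⟨S, hS, h⟩ := LocFin.locally_finite_sum
    (fun k => (SheafOfModules.toSheaf.{u} (ModSite.ringSh O)).obj (D.obj k))
    ((SheafOfModules.toSheaf.{u} (ModSite.ringSh O)).obj c.pt)
    (fun k => (SheafOfModules.toSheaf.{u} (ModSite.ringSh O)).map (c.ι.app k))
    (fun Z g h hgh => hc'.hom_ext (fun k => hgh k)) W s
  refine ⟨S, hS, fun V f hf => ?_⟩
  obtain ⟨T, t, ht⟩ := h f hf
  exact ⟨T, t, ht⟩

end Groth.Agent.Helper10.LocFinMod
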