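import Mathlib

/-!
# Mittag-Leffler sequences of sets and abelian groups: helper lemmas
-/

set_option autoImplicit false
open CategoryTheory CategoryTheory.Limits Opposite

namespace Groth.Agent.Helper10.MLSeq

universe u

/-- A Mittag-Leffler `ℕᵒᵖ`-system of nonempty sets has a section. -/
theorem nonempty_sections_of_ml (E : ℕᵒᵖ ⥤ Type u) (hE : E.IsMittagLeffler)
    [∀ j, Nonempty (E.obj j)] : Nonempty E.sections := by
  have hsurj : ∀ n : ℕ, Function.Surjective (E.toEventualRanges.map (homOfLE (Nat.le_succ n)).op) :=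
    fun n => Functor.surjective_toEventualRanges E hE _
  have h0 := Types.surjective_π_app_zero_of_surjective_map
    (Types.limitConeIsLimit E.toEventualRanges) hsurj
  obtain ⟨x0⟩ := Functor.toEventualRanges_nonempty E hE (op 0)
  obtain ⟨s, -⟩ := h0 x0
  exact ⟨E.toEventualRangesSectionsEquiv s⟩

section AddCommGrp

variable (F : ℕᵒᵖ ⥤ AddCommGrpCat.{u})

/-- Elements of the limit are determined by their components. -/
theorem lim_ext (x y : (limit F : AddCommGrpCat.{u}))
    (h : ∀ j, (limit.π F j).hom x = (limit.π F j).hom y) : x = y :=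
  Concrete.limit_ext F x y h

/-- A compatible family defines an element of the limit. -/
theorem exists_lim (s : ∀ j : ℕᵒᵖ, F.obj j)
    (hs : ∀ ⦃j j' : ℕᵒᵖ⦄ (f : j ⟶ j'), (F.map f).hom (s j) = s j') :
    ∃ x : (limit F : AddCommGrpCat.{u}), ∀ j, (limit.π F j).hom x = s j := by
  have hlim := isLimitOfPreserves (forget AddCommGrpCat.{u}) (limit.isLimit F)
  have hsec : s ∈ (F ⋙ forget AddCommGrpCat.{u}).sections := fun {j j'} f => hs f
  exact ⟨(Types.isLimitEquivSections hlim).symm ⟨s, hsec⟩, fun j =>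
    Types.isLimitEquivSections_symm_apply hlim ⟨s, hsec⟩ j⟩

theorem lim_π_map (x : (limit F : AddCommGrpCat.{u})) {j j' : ℕᵒᵖ} (f : j ⟶ j') :
    (F.map f).hom ((limit.π F j).hom x) = (limit.π F j').hom x := by
  have := limit.w F f
  rw [← this]
  rfl

variable {F}

theorem limMap_π_hom_apply {G : ℕᵒᵖ ⥤ AddCommGrpCat.{u}} (α : F ⟶ G)
    (x : (limit F : AddCommGrpCat.{u})) (j : ℕᵒᵖ) :
    (limit.π G j).hom ((limMap α).hom x) = (α.app j).hom ((limit.π F j).hom x) := by
  have := limMap_π α j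
  exact ConcreteCategory.congr_hom this x

theorem nat_apply {G : ℕᵒᵖ ⥤ AddCommGrpCat.{u}} (α : F ⟶ G) {j j' : ℕᵒᵖ} (f : j ⟶ j')
    (x : F.obj j) : (G.map f).hom ((α.app j).hom x) = (α.app j').hom ((F.map f).hom x) := by
  have := α.naturality f
  exact (ConcreteCategory.congr_hom this x).symm

theorem map_comp_apply (F : ℕᵒᵖ ⥤ AddCommGrpCat.{u}) {x y z : ℕᵒᵖ} (a : x ⟶ y) (b : y ⟶ z)
    (t : F.obj x) : (F.map (a ≫ b)).hom t = (F.map b).hom ((F.map a).hom t) := by
  rw [F.map_comp]; rfl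

end AddCommGrp

end Groth.Agent.Helper10.MLSeq
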