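import Mathlib
import Groth.Agent.Lib.Helper18.NormBC

/-!
# The norm of a finite free ring map (ring-hom form) and its base change
-/

set_option autoImplicit false
set_option linter.style.haveILetI false

namespace Groth.Agent.Helper10.NormAlg

open CategoryTheory Module

universe u

/-- ring-hom form of "free of rank `d`" -/
def FreeOfRank {A B : Type u} [CommRing A] [CommRing B] (φ : A →+* B) (d : ℕ) : Prop :=
  letI := φ.toAlgebra
  Nonempty (Basis (Fin d) A B)

/-- the norm along a ring map -/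
noncomputable def normOf {A B : Type u} [CommRing A] [CommRing B] (φ : A →+* B) : B →* A :=
  letI := φ.toAlgebra
  Algebra.norm A

lemma FreeOfRank.of_iso {A B A' B' : Type u} [CommRing A] [CommRing B] [CommRing A'] [CommRing B']
    (φ : A →+* B) (φ' : A' →+* B') (eA : A ≃+* A') (eB : B ≃+* B')
    (h : ∀ a, φ' (eA a) = eB (φ a)) {d : ℕ} (hfree : FreeOfRank φ d) : FreeOfRank φ' d := by
  letI iA : Algebra A B := φ.toAlgebra
  letI iA' : Algebra A' B' := φ'.toAlgebra
  letI iAB' : Algebra A B' := (φ'.comp eA.toRingHom).toAlgebra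
  obtain ⟨b⟩ := hfree
  let e : B ≃ₗ[A] B' :=
    { eB.toAddEquiv with
      map_smul' := fun a x => by
        show eB (φ a * x) = φ' (eA a) * eB x
        rw [map_mul, h] }
  exact ⟨(b.map e).mapCoeffs eA (fun c x => rfl)⟩

lemma normOf_map {A B : Type u} [CommRing A] [CommRing B] (φ : A →+* B) {d : ℕ}
    (hfree : FreeOfRank φ d) (a : A) : normOf φ (φ a) = a ^ d := by
  letI iA : Algebra A B := φ.toAlgebra
  obtain ⟨b⟩ := hfree
  have h := Algebra.norm_algebraMap_of_basis b a
  rw [Fintype.card_fin] at h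
  exact h

lemma normOf_pushout {A B A' B' : CommRingCat.{u}} {φ : A ⟶ B} {α : A ⟶ A'} {β : B ⟶ B'}
    {φ' : A' ⟶ B'} (h : IsPushout φ α β φ') {d : ℕ} (hfree : FreeOfRank φ.hom d) (x : B) :
    normOf φ'.hom (β.hom x) = α.hom (normOf φ.hom x) := by
  classical
  algebraize [φ.hom, α.hom, β.hom, φ'.hom, β.hom.comp φ.hom]
  have : IsScalarTower A A' B' := .of_algebraMap_eq' <| congr($(h.1.1).hom)
  have hp : Algebra.IsPushout A B A' B' := CommRingCat.isPushout_iff_isPushout.mp h
  have hp' : Algebra.IsPushout A A' B B' := hp.symm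
  obtain ⟨b⟩ := hfree
  exact Groth.Agent.Lib.Helper18.NormBC.norm_of_isPushout (A := A) (A' := A') (B := B) (B' := B')
    ⟨_, ⟨b.reindexFinsetRange⟩⟩ x

end Groth.Agent.Helper10.NormAlg
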