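import Mathlib
import Groth.Prelude.Def_EtBase
import Groth.Prelude.Def_EtGm
import Groth.Prelude.Def_EtLim
import Groth.Prelude.Def_Mor2
import Groth.Agent.Lib.Helper1.ES4
import Groth.Agent.Lib.Helper10.EtLoc
import Groth.Agent.Lib.Helper28.NormCover
import Groth.Agent.Lib.Helper10.NormAlg

/-!
# Objects of the small étale site over which a finite locally free morphism is free
-/

set_option autoImplicit false
set_option linter.style.haveILetI false

namespace Groth.Agent.Helper10.NormGood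

open CategoryTheory CategoryTheory.Limits AlgebraicGeometry Opposite Module
open Groth.Agent.Helper10.NormAlg Groth.Agent.Helper1.ES

universe u

section General

lemma appLE_eq_of_eq {T S : Scheme.{u}} {k k' : T ⟶ S} (h : k = k') (U : S.Opens) (V : T.Opens)
    (e : V ≤ k ⁻¹ᵁ U) (e' : V ≤ k' ⁻¹ᵁ U) : k.appLE U V e = k'.appLE U V e' := by
  subst h
  rfl

lemma isIso_appLE_top {T S : Scheme.{u}} (k : T ⟶ S) [IsOpenImmersion k] (U : S.Opens)
    (h : k ''ᵁ ⊤ = U) (e : ⊤ ≤ k ⁻¹ᵁ U) : IsIso (k.appLE U ⊤ e) := by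
  subst h
  have := Scheme.Hom.appIso_hom' k ⊤
  rw [← this]
  infer_instance

lemma freeOfRank_of_isPullback {P T S S' : Scheme.{u}} {jX : P ⟶ T} {π' : P ⟶ S'} {π : T ⟶ S}
    {j : S' ⟶ S} [IsOpenImmersion j] (sq : IsPullback jX π' π j) (W : S.Opens)
    (hW : j ''ᵁ ⊤ = W) {d : ℕ} (hb : FreeOfRank (π.app W).hom d) :
    FreeOfRank π'.appTop.hom d := by
  haveI : IsOpenImmersion jX :=
    MorphismProperty.of_isPullback (P := @IsOpenImmersion) sq.flip inferInstance
  have hrange : jX ''ᵁ ⊤ = π ⁻¹ᵁ W := by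
    ext x
    constructor
    · rintro ⟨z, -, rfl⟩
      have h1 : π (jX z) = j (π' z) :=
        congrArg (fun m : P ⟶ S => m z) sq.w
      show π (jX z) ∈ W
      rw [h1, ← hW]
      exact ⟨π' z, trivial, rfl⟩
    · intro hx
      have hx' : π x ∈ j ''ᵁ ⊤ := by rw [hW]; exact hx
      obtain ⟨w, -, hw⟩ := hx'
      obtain ⟨z, hz1, -⟩ := exists_preimage_of_isPullback sq x w hw.symm
      exact ⟨z, trivial, hz1⟩
  have e1 : (⊤ : S'.Opens) ≤ j ⁻¹ᵁ W := by
    rw [← hW, Scheme.Hom.preimage_image_eq]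
  have e2 : (⊤ : P.Opens) ≤ jX ⁻¹ᵁ (π ⁻¹ᵁ W) := by
    rw [← hrange, Scheme.Hom.preimage_image_eq]
  haveI i1 : IsIso (j.appLE W ⊤ e1) := isIso_appLE_top j _ hW e1
  haveI i2 : IsIso (jX.appLE (π ⁻¹ᵁ W) ⊤ e2) := isIso_appLE_top jX _ hrange e2
  have hcomm : j.appLE W ⊤ e1 ≫ π'.appTop = π.app W ≫ jX.appLE (π ⁻¹ᵁ W) ⊤ e2 := by
    have h1 : π'.appTop = π'.appLE ⊤ ⊤ le_top := Scheme.Hom.app_eq_appLE _
    rw [Scheme.Hom.app_eq_appLE, Scheme.Hom.appLE_comp_appLE, h1, Scheme.Hom.appLE_comp_appLE]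
    exact appLE_eq_of_eq sq.w.symm _ _ _ _
  exact FreeOfRank.of_iso (π.app W).hom π'.appTop.hom
    (asIso (j.appLE W ⊤ e1)).commRingCatIsoToRingEquiv
    (asIso (jX.appLE _ ⊤ e2)).commRingCatIsoToRingEquiv
    (fun a => ConcreteCategory.congr_hom hcomm a) hb

end General

variable {X Y : Scheme.{u}} (f : X ⟶ Y)

/-- the base change of `f` to an object of the small étale site -/
noncomputable abbrev piV (V : Y.Etale) : pullback V.hom f ⟶ V.left := pullback.fst V.hom f

/-- the objects over which `f` becomes free of rank `d` -/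
def Good (d : ℕ) (V : Y.Etale) : Prop :=
  IsAffine V.left ∧ FreeOfRank (piV f V).appTop.hom d

section Cover

variable [IsFinite f] [Flat f] [LocallyOfFinitePresentation f]

theorem exists_good (d : ℕ) (hd : ∀ y, f.finrank y = d) (V : Y.Etale) (v : V.left) :
    ∃ (Z : Y.Etale) (g : Z ⟶ V) (z : Z.left), Good f d Z ∧ g.left z = v := by
  let π := piV f V
  have hdV : ∀ w, π.finrank w = d := fun w => by
    rw [Scheme.Hom.finrank_pullback_fst]; exact hd _
  have hB := Groth.Agent.Helper28.NormCover.isBasis_rankOpens π d hdV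
  obtain ⟨(W : V.left.Opens), hW, hvW, -⟩ :=
    TopologicalSpace.Opens.isBasis_iff_nbhd.1 hB (U := ⊤) (x := v) trivial
  obtain ⟨hWa, hb⟩ := hW
  let Z := openObj V W
  let g : Z ⟶ V := openObjι V W
  refine ⟨Z, g, ⟨v, hvW⟩, ⟨hWa, ?_⟩, rfl⟩
  have sq := EtCoh.isPullback_bc_map f g
  haveI : IsOpenImmersion g.left := inferInstanceAs (IsOpenImmersion W.ι)
  exact freeOfRank_of_isPullback sq W W.ι_image_top hb

end Cover

end Groth.Agent.Helper10.NormGood
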