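import Mathlib
import Groth.Prelude.Def_EtBase
import Groth.Prelude.Def_EtGm
import Groth.Prelude.Def_EtLim
import Groth.Agent.Lib.Helper10.NormGood

/-!
# The norm `f_* G_m → G_m` on the small étale site for a finite locally free morphism of degree `d`
-/

set_option autoImplicit false
set_option linter.style.haveILetI false

namespace Groth.Agent.Helper10.NormSheaf

open CategoryTheory CategoryTheory.Limits AlgebraicGeometry Opposite Module
open Groth.Agent.Helper10 Groth.Agent.Helper10.NormAlg Groth.Agent.Helper10.NormGood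

universe u

variable {X Y : Scheme.{u}} (f : X ⟶ Y) (d : ℕ)

/-- the good objects as an object property -/
def goodProp : ObjectProperty Y.Etale := fun V => Good f d V

/-- the full subcategory of good objects -/
abbrev GoodCat := (goodProp f d).FullSubcategory

/-- the inclusion of the good objects -/
abbrev incl : GoodCat f d ⥤ Y.Etale := (goodProp f d).ι

lemma isCoverDense [IsFinite f] [Flat f] [LocallyOfFinitePresentation f]
    (hd : ∀ y, f.finrank y = d) : (incl f d).IsCoverDense Y.smallEtaleTopology := by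
  refine ⟨fun V => ?_⟩
  rw [EtLoc.mem_iff]
  intro v
  obtain ⟨Z, g, z, hZ, hz⟩ := exists_good f d hd V v
  exact ⟨Z, g, z, ⟨⟨⟨Z, hZ⟩, 𝟙 _, g, Category.id_comp _⟩⟩, hz⟩

/-- the source sheaf `f_* G_m` -/
noncomputable abbrev Fsh : EtCoh.Ab Y := (EtCoh.push f).obj (EtCoh.Gm X)

/-- the norm on units, in additive `ULift` form -/
noncomputable def normU (V : Y.Etale) :
    ULift.{u + 1} (Additive ((Γ(pullback V.hom f, ⊤) : Type u)ˣ)) →+
      ULift.{u + 1} (Additive ((Γ(V.left, ⊤) : Type u)ˣ)) :=
  (AddEquiv.ulift.symm.toAddMonoidHom.comp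
    (MonoidHom.toAdditive (Units.map (normOf (piV f V).appTop.hom)))).comp
    AddEquiv.ulift.toAddMonoidHom

/-- the norm on sections over `V` -/
noncomputable def normApp (V : Y.Etale) : (Fsh f).obj.obj (op V) ⟶ (EtCoh.Gm Y).obj.obj (op V) :=
  AddCommGrpCat.ofHom (normU f V)

lemma normApp_apply (V : Y.Etale) (x : (Fsh f).obj.obj (op V)) :
    (normApp f V).hom x =
      (ULift.up (Additive.ofMul (Units.map (normOf (piV f V).appTop.hom)
        (Additive.toMul (ULift.down
          (x : ULift.{u + 1} (Additive ((Γ(pullback V.hom f, ⊤) : Type u)ˣ))))))) :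
        ULift.{u + 1} (Additive ((Γ(V.left, ⊤) : Type u)ˣ))) := rfl

lemma Fsh_map_apply {V V' : Y.Etale} (g : V' ⟶ V) (x : (Fsh f).obj.obj (op V)) :
    (Fsh f).obj.map g.op x =
      (ULift.up (Additive.ofMul (Units.map ((EtCoh.bc f).map g).left.appTop.hom.toMonoidHom
        (Additive.toMul (ULift.down
          (x : ULift.{u + 1} (Additive ((Γ(pullback V.hom f, ⊤) : Type u)ˣ))))))) :
        ULift.{u + 1} (Additive ((Γ(pullback V'.hom f, ⊤) : Type u)ˣ))) := rfl

lemma Gm_map_apply {V V' : Y.Etale} (g : V' ⟶ V) (y : (EtCoh.Gm Y).obj.obj (op V)) :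
    (EtCoh.Gm Y).obj.map g.op y =
      (ULift.up (Additive.ofMul (Units.map g.left.appTop.hom.toMonoidHom
        (Additive.toMul (ULift.down
          (y : ULift.{u + 1} (Additive ((Γ(V.left, ⊤) : Type u)ˣ))))))) :
        ULift.{u + 1} (Additive ((Γ(V'.left, ⊤) : Type u)ˣ))) := rfl

lemma GmPush_apply (V : Y.Etale) (y : (EtCoh.Gm Y).obj.obj (op V)) :
    (EtLim.GmPush f).hom.app (op V) y =
      (ULift.up (Additive.ofMul (Units.map (piV f V).appTop.hom.toMonoidHom
        (Additive.toMul (ULift.down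
          (y : ULift.{u + 1} (Additive ((Γ(V.left, ⊤) : Type u)ˣ))))))) :
        ULift.{u + 1} (Additive ((Γ(pullback V.hom f, ⊤) : Type u)ˣ))) := rfl

section Fin

variable [IsFinite f]

lemma normApp_naturality {V V' : Y.Etale} (hV : Good f d V) (hV' : Good f d V') (g : V' ⟶ V)
    (x : (Fsh f).obj.obj (op V)) :
    (normApp f V').hom ((Fsh f).obj.map g.op x) =
      (EtCoh.Gm Y).obj.map g.op ((normApp f V).hom x) := by
  haveI : IsAffine V.left := hV.1
  haveI : IsAffine ((𝟭 Scheme).obj V.left) := hV.1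
  haveI : IsAffine ((𝟭 Scheme).obj V'.left) := hV'.1
  haveI : IsAffine ((EtCoh.bc f).obj V).left :=
    (isAffine_of_isAffineHom (piV f V) : IsAffine (pullback V.hom f))
  have hp := isPushout_appTop_of_isPullback (EtCoh.isPullback_bc_map f g)
  rw [normApp_apply, Gm_map_apply, normApp_apply, Fsh_map_apply]
  apply ULift.ext
  apply Additive.toMul.injective
  apply Units.ext
  exact normOf_pushout hp hV.2 _

end Fin

lemma normApp_GmPush {V : Y.Etale} (hV : Good f d V) (y : (EtCoh.Gm Y).obj.obj (op V)) :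
    (normApp f V).hom ((EtLim.GmPush f).hom.app (op V) y) = d • y := by
  rw [normApp_apply, GmPush_apply]
  apply ULift.ext
  apply Additive.toMul.injective
  apply Units.ext
  refine (normOf_map _ hV.2 _).trans ?_
  rfl

section Norm

variable [IsFinite f] [Flat f] [LocallyOfFinitePresentation f]

/-- the norm on the good objects -/
noncomputable def normNat :
    (incl f d).op ⋙ (Fsh f).obj ⟶ (incl f d).op ⋙ (EtCoh.Gm Y).obj where
  app W := normApp f W.unop.obj
  naturality W W' g := by
    ext x
    exact normApp_naturality f d W.unop.property W'.unop.property ((incl f d).map g.unop) x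

/-- the norm `f_* G_m ⟶ G_m` -/
noncomputable def normHom (hd : ∀ y, f.finrank y = d) : Fsh f ⟶ EtCoh.Gm Y :=
  haveI := isCoverDense f d hd
  ObjectProperty.homMk (Functor.IsCoverDense.restrictHomEquivHom (G := incl f d)
    (ℱ' := EtCoh.Gm Y) (normNat f d))

lemma normHom_app (hd : ∀ y, f.finrank y = d) (W : GoodCat f d) :
    (normHom f d hd).hom.app (op W.obj) = normApp f W.obj := by
  haveI := isCoverDense f d hd
  have h := Functor.IsCoverDense.sheafHom_restrict_eq (G := incl f d)
    (ℱ' := EtCoh.Gm Y) (normNat f d)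
  exact congrArg (fun t => t.app (op W)) h

lemma sheaf_nsmul_app {C : Type*} [Category C] {J : GrothendieckTopology C} {A : Type*}
    [Category A] [Preadditive A] {P Q : Sheaf J A} (n : ℕ) (g : P ⟶ Q) (U : Cᵒᵖ) :
    (n • g).hom.app U = n • g.hom.app U := by
  induction n with
  | zero => rw [zero_nsmul, zero_nsmul]; rfl
  | succ n ih => rw [succ_nsmul, succ_nsmul, Sheaf.Hom.add_app, ih]

theorem GmPush_normHom (hd : ∀ y, f.finrank y = d) :
    EtLim.GmPush f ≫ normHom f d hd = d • 𝟙 (EtCoh.Gm Y) := by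
  haveI := isCoverDense f d hd
  apply ObjectProperty.hom_ext
  apply (Functor.IsCoverDense.restrictHomEquivHom (G := incl f d)
    (ℱ' := EtCoh.Gm Y)).symm.injective
  ext W x
  show (normHom f d hd).hom.app (op W.unop.obj) ((EtLim.GmPush f).hom.app (op W.unop.obj) x) =
    (d • 𝟙 (EtCoh.Gm Y)).hom.app (op W.unop.obj) x
  rw [normHom_app f d hd W.unop, normApp_GmPush f d W.unop.property, sheaf_nsmul_app]
  exact (congrArg (fun t : _ →+ _ => t x)
    (AddCommGrpCat.hom_nsmul d ((𝟙 (EtCoh.Gm Y) : EtCoh.Gm Y ⟶ EtCoh.Gm Y).hom.app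
      (op W.unop.obj)))).symm

end Norm

end Groth.Agent.Helper10.NormSheaf
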