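import Mathlib

/-!
# Base change for over categories

For a cartesian square `g' : T' ⟶ T`, `f' : T' ⟶ S'`, `f : T ⟶ S`, `g : S' ⟶ S` the functors
`Over.pullback f' ⋙ Over.map g'` and `Over.map g ⋙ Over.pullback f` from `Over S'` to `Over T`
are isomorphic.
-/

set_option autoImplicit false

open CategoryTheory CategoryTheory.Limits

namespace Groth.Agent.Helper10.OverBC

universe v u

variable {C : Type u} [Category.{v} C] [HasPullbacks C]
  {S T S' T' : C} {f : T ⟶ S} {g : S' ⟶ S} {g' : T' ⟶ T} {f' : T' ⟶ S'}

lemma isPullback_paste (hsq : IsPullback g' f' f g) (U : Over S') :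
    IsPullback (pullback.fst U.hom f') (pullback.snd U.hom f' ≫ g') (U.hom ≫ g) f :=
  (IsPullback.of_hasPullback U.hom f').paste_vert hsq.flip

/-- The component of the base change isomorphism. -/
noncomputable def bcApp (hsq : IsPullback g' f' f g) (U : Over S') :
    (Over.pullback f' ⋙ Over.map g').obj U ≅ (Over.map g ⋙ Over.pullback f).obj U :=
  Over.isoMk (isPullback_paste hsq U).isoPullback (by
    simp)

/-- The base change isomorphism of functors between over categories. -/
noncomputable def bcIso (hsq : IsPullback g' f' f g) :
    Over.pullback f' ⋙ Over.map g' ≅ Over.map g ⋙ Over.pullback f :=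
  NatIso.ofComponents (bcApp hsq) (fun {U V} φ => by
    ext
    apply pullback.hom_ext
    · simp [bcApp]
      have h1 := pullback.lift_fst (f := V.hom ≫ g) (g := f)
        (pullback.fst (U.hom ≫ g) f ≫ Over.Hom.left φ) (pullback.snd (U.hom ≫ g) f)
        (by simp [pullback.condition])
      have h2 := (isPullback_paste hsq U).isoPullback_hom_fst
      have h3 := pullback.lift_fst (f := V.hom) (g := f')
        (pullback.fst U.hom f' ≫ Over.Hom.left φ) (pullback.snd U.hom f')
        (by simp [pullback.condition])
      rw [h3, h1, ← Category.assoc, h2]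
    · simp [bcApp]
      have h1 := pullback.lift_snd (f := V.hom ≫ g) (g := f)
        (pullback.fst (U.hom ≫ g) f ≫ Over.Hom.left φ) (pullback.snd (U.hom ≫ g) f)
        (by simp [pullback.condition])
      have h2 := (isPullback_paste hsq U).isoPullback_hom_snd
      have h3 := pullback.lift_snd (f := V.hom) (g := f')
        (pullback.fst U.hom f' ≫ Over.Hom.left φ) (pullback.snd U.hom f')
        (by simp [pullback.condition])
      rw [← Category.assoc, h3, h1, h2])

end Groth.Agent.Helper10.OverBC
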