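import Mathlib

/-!
# Localization at a subterminal object: `j_*` and `j_!` are fully faithful

If every object of `C` has at most one morphism to `U`, then `Over.forget U` is fully faithful,
the counit `j^* j_* ⟶ 𝟭` is an isomorphism and so is the unit `𝟭 ⟶ j^* j_!`.
-/

set_option autoImplicit false
open CategoryTheory CategoryTheory.Limits Opposite

universe w' w v u

namespace Groth.Agent.Helper10.OverFF

variable {C : Type u} [Category.{v} C] (J : GrothendieckTopology C) (U : C)
  (A : Type w) [Category.{w'} A]

lemma full_forget (hU : ∀ W : C, Subsingleton (W ⟶ U)) : (Over.forget U).Full where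
  map_surjective {X Y} f := ⟨Over.homMk f ((hU _).elim _ _), rfl⟩

variable [∀ (F : (Over U)ᵒᵖ ⥤ A), (Over.forget U).op.HasPointwiseRightKanExtension F]

/-- The counit `j^* j_* ⟶ 𝟭` is an isomorphism when `Hom(-, U)` is a subsingleton. -/
lemma isIso_counit (hU : ∀ W : C, Subsingleton (W ⟶ U)) :
    IsIso ((Over.forget U).sheafAdjunctionCocontinuous A (J.over U) J).counit := by
  have := full_forget U hU
  refine @NatIso.isIso_of_isIso_app _ _ _ _ _ _ _ (fun F => ?_)
  have h1 := (Over.forget U).sheafAdjunctionCocontinuous_counit_app_hom A (J.over U) J F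
  have h2 : IsIso (((Over.forget U).sheafAdjunctionCocontinuous A (J.over U) J).counit.app F).hom := by
    rw [h1]
    have : (Over.forget U).op.Full := inferInstance
    have : (Over.forget U).op.Faithful := inferInstance
    have : IsIso (((Over.forget U).op.ranAdjunction A).counit.app F.obj) := by
      rw [Functor.ranAdjunction_counit]
      infer_instance
    exact this
  exact (isIso_iff_of_reflects_iso _ (sheafToPresheaf (J.over U) A)).1 h2

/-- The unit `𝟭 ⟶ j^* j_!` is an isomorphism when `Hom(-, U)` is a subsingleton. -/
lemma isIso_unit (hU : ∀ W : C, Subsingleton (W ⟶ U))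
    [((Over.forget U).sheafPushforwardContinuous A (J.over U) J).IsRightAdjoint] :
    IsIso ((Over.forget U).sheafAdjunctionContinuous A (J.over U) J).unit := by
  let t : Adjunction.Triple ((Over.forget U).sheafPullback A (J.over U) J)
      ((Over.forget U).sheafPushforwardContinuous A (J.over U) J)
      ((Over.forget U).sheafPushforwardCocontinuous A (J.over U) J) :=
    { adj₁ := (Over.forget U).sheafAdjunctionContinuous A (J.over U) J
      adj₂ := (Over.forget U).sheafAdjunctionCocontinuous A (J.over U) J }
  have := isIso_counit J U A hU
  exact t.isIso_unit_iff_isIso_counit.2 this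

end Groth.Agent.Helper10.OverFF
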