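import Mathlib
import Groth.Agent.Lib.Helper10.LanExact
import Groth.Agent.Lib.Helper10.ExtAdj
import Groth.Agent.S0942

/-!
# Localisation of a small site at an object: `j_! ⊣ j^*` on abelian sheaves

`j = Over.forget X`.  Both `j_!` and `j^*` are exact, hence `Ext^n (j_! A) F ≃+ Ext^n A (j^* F)`,
and `j_!` commutes with the free abelian sheaf functors.
-/

set_option autoImplicit false

open CategoryTheory CategoryTheory.Limits Opposite

namespace Groth.Agent.Helper10.OverSite

universe u

variable {C : Type u} [SmallCategory C] (J : GrothendieckTopology C) (X : C)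

/-- `j_!` on abelian sheaves. -/
noncomputable abbrev shriekAb : Sheaf (J.over X) AddCommGrpCat.{u} ⥤ Sheaf J AddCommGrpCat.{u} :=
  (Over.forget X).sheafPullback AddCommGrpCat.{u} (J.over X) J

/-- `j^*` on abelian sheaves. -/
noncomputable abbrev resAb : Sheaf J AddCommGrpCat.{u} ⥤ Sheaf (J.over X) AddCommGrpCat.{u} :=
  (Over.forget X).sheafPushforwardContinuous AddCommGrpCat.{u} (J.over X) J

/-- `j_! ⊣ j^*` on abelian sheaves. -/
noncomputable abbrev adjAb : shriekAb J X ⊣ resAb J X :=
  (Over.forget X).sheafAdjunctionContinuous AddCommGrpCat.{u} (J.over X) J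

/-- `j_!` on sheaves of sets. -/
noncomputable abbrev shriekSet : Sheaf (J.over X) (Type u) ⥤ Sheaf J (Type u) :=
  (Over.forget X).sheafPullback (Type u) (J.over X) J

/-- `j^*` on sheaves of sets. -/
noncomputable abbrev resSet : Sheaf J (Type u) ⥤ Sheaf (J.over X) (Type u) :=
  (Over.forget X).sheafPushforwardContinuous (Type u) (J.over X) J

/-- `j_! ⊣ j^*` on sheaves of sets. -/
noncomputable abbrev adjSet : shriekSet J X ⊣ resSet J X :=
  (Over.forget X).sheafAdjunctionContinuous (Type u) (J.over X) J

instance : (resAb J X).Additive where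

instance : (shriekAb J X).Additive := (adjAb J X).left_adjoint_additive

instance shriekAb_pfl : PreservesFiniteLimits (shriekAb J X) :=
  Groth.Agent.Helper10.LanExact.preservesFiniteLimits_sheafPullback_ab_of_compFilt
    (Over.forget X) _ _ (Groth.Agent.S0942.compFilt_overForget X)

instance shriekAb_pfc : PreservesFiniteColimits (shriekAb J X) := by
  have : PreservesColimitsOfSize.{0, 0} (shriekAb J X) :=
    (adjAb J X).leftAdjoint_preservesColimits
  exact PreservesColimitsOfSize.preservesFiniteColimits _

instance resAb_pfl : PreservesFiniteLimits (resAb J X) := by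
  have : PreservesLimitsOfSize.{0, 0} (resAb J X) := (adjAb J X).rightAdjoint_preservesLimits
  exact PreservesLimitsOfSize.preservesFiniteLimits _

instance resAb_pfc : PreservesFiniteColimits (resAb J X) := by
  have : PreservesColimitsOfSize.{0, 0} (resAb J X) :=
    ((Over.forget X).sheafAdjunctionCocontinuous AddCommGrpCat.{u} (J.over X)
      J).leftAdjoint_preservesColimits
  exact PreservesColimitsOfSize.preservesFiniteColimits _

/-- The Ext-adjunction for `j_! ⊣ j^*`. -/
noncomputable def extEquiv (A : Sheaf (J.over X) AddCommGrpCat.{u}) (F : Sheaf J AddCommGrpCat.{u})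
    (n : ℕ) :
    Abelian.Ext.{u} ((shriekAb J X).obj A) F n ≃+ Abelian.Ext.{u} A ((resAb J X).obj F) n :=
  Groth.Agent.Helper10.ExtAdj.extAdjEquiv (adjAb J X) A F n

/-- The free abelian sheaf functor. -/
noncomputable abbrev ZZ {D : Type u} [SmallCategory D] (K : GrothendieckTopology D) :
    Sheaf K (Type u) ⥤ Sheaf K AddCommGrpCat.{u} :=
  Sheaf.composeAndSheafify K AddCommGrpCat.free.{u}

/-- The free abelian sheaf adjunction. -/
noncomputable abbrev adjZZ {D : Type u} [SmallCategory D] (K : GrothendieckTopology D) :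
    ZZ K ⊣ sheafCompose K (forget AddCommGrpCat.{u}) :=
  Sheaf.adjunction K AddCommGrpCat.adj.{u}

/-- `j_!` commutes with the free abelian sheaf functors. -/
noncomputable def freeShriekIso : ZZ (J.over X) ⋙ shriekAb J X ≅ shriekSet J X ⋙ ZZ J :=
  Adjunction.leftAdjointUniq ((adjZZ (J.over X)).comp (adjAb J X))
    (((adjSet J X).comp (adjZZ J)).ofNatIsoRight
      (Iso.refl _ : sheafCompose J (forget AddCommGrpCat.{u}) ⋙ resSet J X ≅
        resAb J X ⋙ sheafCompose (J.over X) (forget AddCommGrpCat.{u})))

end Groth.Agent.Helper10.OverSite
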