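import Mathlib

set_option autoImplicit false
universe u
open CategoryTheory CategoryTheory.Limits AlgebraicGeometry TensorProduct

namespace Groth.Agent.Helper10.PDSch

/-- the statement of (PD) (pointwise fpqc descent of finite type), as a proposition -/
def PDStatement : Prop :=
  ∀ {k R B : Type u} [Field k] [CommRing R] [CommRing B] [Algebra k R] [Algebra k B]
    (f' : R ⊗[k] B) (q' : PrimeSpectrum (R ⊗[k] B)) (_ : f' ∉ q'.asIdeal)
    (_ : Algebra.FiniteType R (Localization.Away f')),
    ∃ f : B, (Algebra.TensorProduct.includeRight (R := k) (A := R) (B := B) f) ∉ q'.asIdeal ∧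
      Algebra.FiniteType k (Localization.Away f)

theorem lft_SpecMap_of_finiteType {A B : Type u} [CommRing A] [CommRing B] [Algebra A B]
    (h : Algebra.FiniteType A B) :
    LocallyOfFiniteType (Spec.map (CommRingCat.ofHom (algebraMap A B))) := by
  rw [HasRingHomProperty.Spec_iff (P := @LocallyOfFiniteType), CommRingCat.hom_ofHom]
  exact RingHom.finiteType_algebraMap.mpr h

theorem finiteType_of_lft_SpecMap {A B : Type u} [CommRing A] [CommRing B] [Algebra A B]
    (h : LocallyOfFiniteType (Spec.map (CommRingCat.ofHom (algebraMap A B)))) :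
    Algebra.FiniteType A B := by
  rw [HasRingHomProperty.Spec_iff (P := @LocallyOfFiniteType), CommRingCat.hom_ofHom] at h
  exact RingHom.finiteType_algebraMap.mp h

/-- (PDS), with (PD) as a hypothesis -/
theorem PDS_aux (hPD : PDStatement.{u}) {k : Type u} [Field k] {X T Y : Scheme.{u}}
    (g : X ⟶ Spec (CommRingCat.of k)) (t : T ⟶ Spec (CommRingCat.of k)) (j : Y ⟶ pullback t g)
    [IsOpenImmersion j] [LocallyOfFiniteType (j ≫ pullback.fst t g)] (y : Y) :
    ∃ U : X.Opens, (pullback.snd t g) (j y) ∈ U ∧ LocallyOfFiniteType (U.ι ≫ g) := by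
  obtain ⟨R', iT, hiT, hsT, -⟩ := Scheme.exists_affine_mem_range_and_range_subset
    (x := pullback.fst t g (j y)) (U := ⊤) trivial
  obtain ⟨B', iX, hiX, hsX, -⟩ := Scheme.exists_affine_mem_range_and_range_subset
    (x := pullback.snd t g (j y)) (U := ⊤) trivial
  obtain ⟨φR, hφR⟩ : ∃ φR : CommRingCat.of k ⟶ R', Spec.map φR = iT ≫ t :=
    ⟨Spec.preimage (iT ≫ t), Spec.map_preimage _⟩
  obtain ⟨φB, hφB⟩ : ∃ φB : CommRingCat.of k ⟶ B', Spec.map φB = iX ≫ g :=
    ⟨Spec.preimage (iX ≫ g), Spec.map_preimage _⟩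
  letI : Algebra k R' := φR.hom.toAlgebra
  letI : Algebra k B' := φB.hom.toAlgebra
  have hR : CommRingCat.ofHom (algebraMap k R') = φR := rfl
  have hB : CommRingCat.ofHom (algebraMap k B') = φB := rfl
  let e := pullbackSpecIso k R' B'
  let pm : pullback (Spec.map (CommRingCat.ofHom (algebraMap k R')))
      (Spec.map (CommRingCat.ofHom (algebraMap k B'))) ⟶ pullback t g :=
    pullback.map _ _ t g iT iX (𝟙 _) (by rw [Category.comp_id, hR, hφR])
      (by rw [Category.comp_id, hB, hφB])
  let ι : Spec (.of (R' ⊗[k] B')) ⟶ pullback t g := e.inv ≫ pm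
  have hι_fst : ι ≫ pullback.fst t g =
      Spec.map (CommRingCat.ofHom Algebra.TensorProduct.includeLeftRingHom) ≫ iT := by
    simp only [ι, pm, e, Category.assoc, pullback.lift_fst, pullback.map]
    rw [pullbackSpecIso_inv_fst_assoc]
  have hι_snd : ι ≫ pullback.snd t g =
      Spec.map (CommRingCat.ofHom (R := B') (S := R' ⊗[k] B')
        (RingHomClass.toRingHom Algebra.TensorProduct.includeRight)) ≫ iX := by
    simp only [ι, pm, e, Category.assoc, pullback.lift_snd, pullback.map]
    rw [pullbackSpecIso_inv_snd_assoc]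
  have hzι : j y ∈ Set.range ι := by
    have : j y ∈ Set.range pm := by
      rw [Scheme.Pullback.range_map]
      exact ⟨hsT, hsX⟩
    obtain ⟨w, hw⟩ := this
    refine ⟨e.hom w, ?_⟩
    rw [← hw, ← Scheme.Hom.comp_apply]
    simp [ι]
  obtain ⟨z', hz'⟩ := hzι
  have hO : IsOpen (ι ⁻¹' Set.range j) := j.isOpenEmbedding.isOpen_range.preimage ι.continuous
  have hz'O : z' ∈ ι ⁻¹' Set.range j := ⟨y, hz'.symm⟩
  obtain ⟨_, ⟨_, ⟨f', rfl⟩, rfl⟩, hz'f, hsub⟩ :=
    PrimeSpectrum.isBasis_basic_opens.exists_subset_of_mem_open hz'O hO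
  let loc := Spec.map (CommRingCat.ofHom (algebraMap (R' ⊗[k] B') (Localization.Away f')))
  let n := loc ≫ ι
  have hn : Set.range n ⊆ Set.range j := by
    rintro _ ⟨w, rfl⟩
    have hw : loc w ∈ (PrimeSpectrum.basicOpen f' : Set (PrimeSpectrum (R' ⊗[k] B'))) := by
      rw [← PrimeSpectrum.localization_away_comap_range (Localization.Away f') f']
      exact ⟨w, rfl⟩
    exact hsub hw
  let l := IsOpenImmersion.lift j n hn
  have hl : l ≫ j = n := IsOpenImmersion.lift_fac _ _ _
  have : LocallyOfFiniteType l := by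
    have : LocallyOfFiniteType (l ≫ j) := by rw [hl]; infer_instance
    exact locallyOfFiniteType_of_comp l j
  have h1 : LocallyOfFiniteType (n ≫ pullback.fst t g) := by
    rw [← hl, Category.assoc]; infer_instance
  have h2 : n ≫ pullback.fst t g =
      Spec.map (CommRingCat.ofHom (algebraMap R' (Localization.Away f'))) ≫ iT := by
    simp only [n, loc, Category.assoc, hι_fst]
    rw [← Category.assoc, ← Spec.map_comp, ← CommRingCat.ofHom_comp]
  have h3 : LocallyOfFiniteType
      (Spec.map (CommRingCat.ofHom (algebraMap R' (Localization.Away f')))) := by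
    have : LocallyOfFiniteType
        (Spec.map (CommRingCat.ofHom (algebraMap R' (Localization.Away f'))) ≫ iT) := h2 ▸ h1
    exact locallyOfFiniteType_of_comp _ iT
  have hft : Algebra.FiniteType R' (Localization.Away f') := finiteType_of_lft_SpecMap h3
  obtain ⟨f, hf, hfk⟩ := hPD f' z' ((PrimeSpectrum.mem_basicOpen _ _).mp hz'f) hft
  let locB := Spec.map (CommRingCat.ofHom (algebraMap B' (Localization.Away f)))
  let m := locB ≫ iX
  refine ⟨m.opensRange, ?_, ?_⟩
  · -- membership
    have hx' : (Spec.map (CommRingCat.ofHom (R := B') (S := R' ⊗[k] B')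
        (RingHomClass.toRingHom Algebra.TensorProduct.includeRight))) z' ∈
        (PrimeSpectrum.basicOpen f : Set (PrimeSpectrum B')) := by
      exact hf
    rw [← PrimeSpectrum.localization_away_comap_range (Localization.Away f) f] at hx'
    obtain ⟨w, hw⟩ := hx'
    refine ⟨w, ?_⟩
    have : (pullback.snd t g) (j y) = (ι ≫ pullback.snd t g) z' := by
      rw [Scheme.Hom.comp_apply, hz']
    rw [this, hι_snd, Scheme.Hom.comp_apply, Scheme.Hom.comp_apply]
    congr 1
  · have h4 : m.opensRange.ι ≫ g = m.isoOpensRange.inv ≫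
        Spec.map (CommRingCat.ofHom (algebraMap k (Localization.Away f))) := by
      rw [← Scheme.Hom.isoOpensRange_inv_comp, Category.assoc]
      congr 1
      simp only [m, locB, Category.assoc, ← hφB, ← hB]
      rw [← Spec.map_comp, ← CommRingCat.ofHom_comp]
    rw [h4]
    have := lft_SpecMap_of_finiteType hfk
    infer_instance

end Groth.Agent.Helper10.PDSch
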