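import Mathlib

/-!
# Points of a fibre product over a point with trivial residue field extension

If `κ(f x) → κ(x)` is surjective, a point of `X ×[S] Y` is determined by its two projections
`x` and `y`.
-/

set_option autoImplicit false
universe u
open CategoryTheory CategoryTheory.Limits AlgebraicGeometry Opposite

namespace Groth.Agent.Helper10.PbPoint

open AlgebraicGeometry.Scheme.Pullback

variable {X Y S : Scheme.{u}} {f : X ⟶ S} {g : Y ⟶ S}

lemma subsingleton_spec_tensor (T : Triplet f g)
    (h : Function.Surjective (f.residueFieldMap T.x)) : Subsingleton (Spec T.tensor) := by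
  have h1 : Function.Bijective (f.residueFieldMap T.x) :=
    ⟨(f.residueFieldMap T.x).hom.injective, h⟩
  have h2 : IsIso (f.residueFieldMap T.x) :=
    (ConcreteCategory.isIso_iff_bijective _).2 h1
  have h3 : IsIso ((S.residueFieldCongr T.hx).inv ≫ f.residueFieldMap T.x) := inferInstance
  have h4 : IsIso T.tensorInr := by
    unfold Triplet.tensorInr Triplet.tensor
    infer_instance
  have h5 : IsIso (Spec.map T.tensorInr) := inferInstance
  have h6 : Function.Injective (Spec.map T.tensorInr) := by
    apply Function.LeftInverse.injective (g := inv (Spec.map T.tensorInr))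
    intro a
    rw [← Scheme.Hom.comp_apply, IsIso.hom_inv_id]
    rfl
  constructor
  intro a b
  apply h6
  exact Subsingleton.elim _ _

/-- A point of the fibre product is determined by its projections when the residue field
extension on one side is trivial. -/
theorem eq_of_fst_snd (p p' : ↑(pullback f g))
    (h1 : pullback.fst f g p = pullback.fst f g p')
    (h2 : pullback.snd f g p = pullback.snd f g p')
    (h : Function.Surjective (f.residueFieldMap (pullback.fst f g p'))) : p = p' := by
  apply carrierEquiv.injective
  apply carrierEquiv_eq_iff.mpr
  have e : Triplet.ofPoint p = Triplet.ofPoint p' := Triplet.ext h1 h2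
  refine ⟨e, ?_⟩
  have hs := subsingleton_spec_tensor (Triplet.ofPoint p') h
  exact @Subsingleton.elim _ hs _ _

end Groth.Agent.Helper10.PbPoint
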