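import Mathlib
import Groth.Prelude.Def_CohCx
import Groth.Agent.S13799

/-!
# Quasi-compact objects of a site: finite separating families inside covering sieves
-/

set_option autoImplicit false
set_option linter.unusedSectionVars false
set_option linter.unusedVariables false

open CategoryTheory Opposite

namespace Groth.Agent.Helper10.QcObj

universe u

variable {C : Type u} [SmallCategory C] (J : GrothendieckTopology C)

/-- the sheaf of sets associated to a representable presheaf -/
noncomputable abbrev hS (W : C) : Sheaf J (Type u) :=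
  (presheafToSheaf J (Type u)).obj (yoneda.obj W)

/-- the unit of sheafification at a representable presheaf -/
noncomputable abbrev η (W : C) : yoneda.obj W ⟶ (hS J W).obj := toSheafify J (yoneda.obj W)

/-- functoriality of `hS` -/
noncomputable abbrev hMap {V W : C} (f : V ⟶ W) : hS J V ⟶ hS J W :=
  (presheafToSheaf J (Type u)).map (yoneda.map f)

lemma hMap_η {V W : C} (f : V ⟶ W) (U : C) (a : U ⟶ V) :
    (hMap J f).hom.app (op U) ((η J V).app (op U) a) = (η J W).app (op U) (a ≫ f) := by
  have h := toSheafify_naturality J (yoneda.map f)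
  have h2 := congrFun (congrArg (fun m => m.app (op U)) h) a
  exact h2.symm

lemma η_res (W : C) {U U' : C} (g : U' ⟶ U) (a : U ⟶ W) :
    (hS J W).obj.map g.op ((η J W).app (op U) a) = (η J W).app (op U') (g ≫ a) :=
  (NatTrans.naturality_apply (η J W) g.op a).symm

/-- Index type for the arrows of a sieve -/
abbrev Idx {W : C} (S : Sieve W) : Type u := Σ V : C, {f : V ⟶ W // S f}

lemma jointly_surj {W : C} (S : Sieve W) (hS' : S ∈ J W) :
    CohCx.JointlySurjective (K := hS J W) (L := fun i : Idx S => hS J i.1)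
      (fun i => hMap J i.2.1) := by
  intro U s
  have h1 : Presheaf.imageSieve (η J W) s ∈ J U := Presheaf.imageSieve_mem J (η J W) s
  refine ⟨Sieve.bind (Presheaf.imageSieve (η J W) s).arrows
    (fun U' g hg => S.pullback hg.choose),
    J.bind_covering h1 (fun U' g hg => J.pullback_stable _ hS'), ?_⟩
  rintro V g ⟨U', b, g', hg', hb, rfl⟩
  have hchoose : (η J W).app (op U') hg'.choose = (hS J W).obj.map g'.op s := hg'.choose_spec
  refine ⟨⟨V, b ≫ hg'.choose, hb⟩, (η J V).app (op V) (𝟙 V), ?_⟩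
  rw [hMap_η, Category.id_comp, ← η_res, hchoose]
  simp

theorem exists_finite_separating {W : C} (hW : CohCx.IsQcObject (hS J W)) (S : Sieve W)
    (hS' : S ∈ J W) :
    ∃ t : Finset (Idx S), ∀ (P : Sheaf J AddCommGrpCat.{u}) (x y : P.obj.obj (op W)),
      (∀ i ∈ t, (P.obj.map i.2.1.op).hom x = (P.obj.map i.2.1.op).hom y) → x = y := by
  obtain ⟨t, ht⟩ := hW (Idx S) (fun i => hS J i.1) (fun i => hMap J i.2.1)
    (jointly_surj J S hS')
  refine ⟨t, fun P x y hxy => ?_⟩
  obtain ⟨S₃, hS₃, h3⟩ := ht W ((η J W).app (op W) (𝟙 W))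
  refine Groth.Agent.S13799.sep J P S₃ hS₃ x y (fun V g hg => ?_)
  obtain ⟨⟨i, hi⟩, x', hx'⟩ := h3 V g hg
  have h4 : Presheaf.imageSieve (η J i.1) x' ∈ J V := Presheaf.imageSieve_mem J (η J i.1) x'
  refine Groth.Agent.S13799.sep J P _ h4 _ _ (fun V' g' hg' => ?_)
  obtain ⟨a, ha⟩ := hg'
  have h5 : (η J W).app (op V') (a ≫ i.2.1) = (η J W).app (op V') (g' ≫ g) := by
    have e1 := hMap_η J i.2.1 V' a
    rw [ha] at e1
    have e2 : (hMap J i.2.1).hom.app (op V') ((hS J i.1).obj.map g'.op x') =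
        (hS J W).obj.map g'.op ((hMap J i.2.1).hom.app (op V) x') :=
      NatTrans.naturality_apply (hMap J i.2.1).hom g'.op x'
    rw [e2] at e1
    have e3 : (hMap J i.2.1).hom.app (op V) x' =
        (hS J W).obj.map g.op ((η J W).app (op W) (𝟙 W)) := hx'
    rw [e3, η_res, η_res, Category.comp_id] at e1
    exact e1.symm
  have h6 : Presheaf.equalizerSieve (F := yoneda.obj W) (X := op V') (a ≫ i.2.1) (g' ≫ g) ∈ J V' :=
    Presheaf.equalizerSieve_mem J (η J W) _ _ h5
  refine Groth.Agent.S13799.sep J P _ h6 _ _ (fun V'' g'' hg'' => ?_)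
  have h7 : g'' ≫ a ≫ i.2.1 = g'' ≫ g' ≫ g := hg''
  have h8 := hxy i hi
  rw [← Groth.Agent.S13799.res_comp, ← Groth.Agent.S13799.res_comp,
    ← Groth.Agent.S13799.res_comp, ← Groth.Agent.S13799.res_comp]
  have e : (g'' ≫ g') ≫ g = (g'' ≫ a) ≫ i.2.1 := by
    rw [Category.assoc, Category.assoc, h7]
  rw [e, Groth.Agent.S13799.res_comp, Groth.Agent.S13799.res_comp J P (g'' ≫ a) i.2.1 y, h8]

end Groth.Agent.Helper10.QcObj
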