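import Mathlib
import Groth.Prelude.Def_EtDual
import Groth.Agent.Lib.Helper10.EtLoc
import Groth.Agent.Lib.Helper10.LocCohLoc

/-!
# Étale localization commutes with tensor products, `G_m` and `μ_n` (helper10)
-/

set_option autoImplicit false

open CategoryTheory CategoryTheory.Limits AlgebraicGeometry Opposite

namespace Groth.Agent.Helper10.ResTensor

open Groth.Agent.Helper10.EtLoc

universe u

variable {V Y : Scheme.{u}} (j : V ⟶ Y) [Etale j]

instance phi_cocont : (phi j).IsCocontinuous V.smallEtaleTopology Y.smallEtaleTopology where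
  cover_lift {U S} hS := by
    rw [mem_iff] at hS ⊢
    intro x
    obtain ⟨Z, g, z, hg, hz⟩ := hS x
    let a : Z.left ⟶ U.left := g.left
    have ha : Etale a := (inferInstance : Etale g.left)
    have hU : Etale U.hom := U.prop
    have hfY : Etale (a ≫ U.hom) := inferInstance
    let Z' : V.Etale := Scheme.Etale.mk (a ≫ U.hom)
    let g' : Z' ⟶ U := MorphismProperty.Over.homMk a rfl trivial
    have hZ : Z'.hom ≫ j = Z.hom := by
      show (a ≫ U.hom) ≫ j = Z.hom
      rw [Category.assoc]
      exact Over.w g.hom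
    let e : (phi j).obj Z' ≅ Z := MorphismProperty.Over.isoMk (Iso.refl _) (by
      show 𝟙 _ ≫ Z.hom = Z'.hom ≫ j
      rw [Category.id_comp, hZ])
    have h1 : (phi j).map g' = e.hom ≫ g := by
      apply MorphismProperty.Over.Hom.ext
      show a = 𝟙 _ ≫ g.left
      rw [Category.id_comp]
    refine ⟨Z', g', z, ?_, hz⟩
    show S ((phi j).map g')
    rw [h1]
    exact S.downward_closed hg e.hom

/-- restriction of the presheaf tensor product -/
noncomputable def tensorPreResIso (A B : EtCoh.Ab Y) :
    (phi j).op ⋙ EtDual.tensorPre A B ≅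
      EtDual.tensorPre ((res j).obj A) ((res j).obj B) :=
  NatIso.ofComponents (fun _ => Iso.refl _) (by
    intro W W' f
    exact (Category.comp_id (((phi j).op ⋙ EtDual.tensorPre A B).map f)).trans
      (Category.id_comp ((EtDual.tensorPre ((res j).obj A) ((res j).obj B)).map f)).symm)

/-- étale localization commutes with the tensor product of abelian sheaves -/
noncomputable def resTensorIso (A B : EtCoh.Ab Y) :
    (res j).obj (EtDual.tensorAb A B) ≅
      EtDual.tensorAb ((res j).obj A) ((res j).obj B) :=
  ((phi j).pushforwardContinuousSheafificationCompatibility AddCommGrpCat.{u + 1}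
      V.smallEtaleTopology Y.smallEtaleTopology).symm.app (EtDual.tensorPre A B) ≪≫
    (presheafToSheaf V.smallEtaleTopology AddCommGrpCat.{u + 1}).mapIso (tensorPreResIso j A B)

section Gm

/-- the underlying presheaves of `G_m|_V` and `G_{m,V}` agree -/
noncomputable def resGmPreIso :
    ((res j).obj (EtCoh.Gm Y)).obj ≅ (EtCoh.Gm V).obj :=
  NatIso.ofComponents (fun _ => Iso.refl _) (by
    intro W W' f
    exact (Category.comp_id (((res j).obj (EtCoh.Gm Y)).obj.map f)).trans
      (Category.id_comp ((EtCoh.Gm V).obj.map f)).symm)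

/-- `G_m` restricts to `G_m` -/
noncomputable def resGmIso : (res j).obj (EtCoh.Gm Y) ≅ EtCoh.Gm V :=
  (fullyFaithfulSheafToPresheaf V.smallEtaleTopology AddCommGrpCat.{u + 1}).preimageIso
    (resGmPreIso j)

/-- `μ_n` restricts to `μ_n` -/
noncomputable def resMuIso (n : ℕ) : (res j).obj (EtCoh.mu Y n) ≅ EtCoh.mu V n := by
  unfold EtCoh.mu EtCoh.powMap
  refine PreservesKernel.iso (res j) (n • 𝟙 (EtCoh.Gm Y)) ≪≫ ?_
  refine kernel.mapIso _ _ (resGmIso j) (resGmIso j) ?_
  rw [Functor.map_nsmul, CategoryTheory.Functor.map_id, Preadditive.nsmul_comp,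
    Preadditive.comp_nsmul, Category.id_comp, Category.comp_id]

end Gm

end Groth.Agent.Helper10.ResTensor
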