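import Mathlib

set_option autoImplicit false
universe w v u
open CategoryTheory CategoryTheory.Limits CategoryTheory.Pretriangulated

namespace Groth.Agent.Helper10.SerreExact

theorem exists_dual_factor {k : Type w} [Field k] {P Q : Type*} [AddCommGroup P] [Module k P]
    [AddCommGroup Q] [Module k Q]
    (p : P →ₗ[k] Q) (μ : Module.Dual k P) (h : ∀ x, p x = 0 → μ x = 0) :
    ∃ l : Module.Dual k Q, ∀ x, l (p x) = μ x := by
  have : μ ∈ LinearMap.range p.dualMap := by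
    rw [LinearMap.range_dualMap_eq_dualAnnihilator_ker]
    rw [Submodule.mem_dualAnnihilator]
    intro x hx
    exact h x (LinearMap.mem_ker.mp hx)
  obtain ⟨l, hl⟩ := this
  exact ⟨l, fun x => by rw [← hl]; rfl⟩

/-- Serre data: a functor with natural perfect pairings. -/
structure SD (k : Type w) [Field k] (T : Type u) [Category.{v} T] [Preadditive T]
    [Linear k T] where
  F : T ⥤ T
  c : ∀ X Y : T, (X ⟶ Y) ≃ₗ[k] Module.Dual k (Y ⟶ F.obj X)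
  hc₁ : ∀ (X Y Y' : T) (f : X ⟶ Y) (g : Y ⟶ Y'),
      c X Y' (f ≫ g) = (c X Y f) ∘ₗ Linear.leftComp k (F.obj X) g
  hc₂ : ∀ (X' X Y : T) (a : X' ⟶ X) (f : X ⟶ Y),
      c X' Y (a ≫ f) = (c X Y f) ∘ₗ Linear.rightComp k Y (F.map a)

namespace SD

variable {k : Type w} [Field k] {T : Type u} [Category.{v} T] [Preadditive T] [Linear k T]
  (D : SD k T)

/-- The trace form. -/
noncomputable def tr (X : T) : Module.Dual k (X ⟶ D.F.obj X) := D.c X X (𝟙 X)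

theorem c_apply {X Y : T} (f : X ⟶ Y) (φ : Y ⟶ D.F.obj X) :
    D.c X Y f φ = D.tr X (f ≫ φ) := by
  have h := D.hc₁ X X Y (𝟙 X) f
  rw [Category.id_comp] at h
  rw [h]
  rfl

theorem tr_comm {X Y : T} (f : X ⟶ Y) (φ : Y ⟶ D.F.obj X) :
    D.tr X (f ≫ φ) = D.tr Y (φ ≫ D.F.map f) := by
  rw [← c_apply]
  have h := D.hc₂ X Y Y f (𝟙 Y)
  rw [Category.comp_id] at h
  rw [h]
  rfl

theorem ext_right {X Y : T} (φ φ' : Y ⟶ D.F.obj X)
    (h : ∀ f : X ⟶ Y, D.tr X (f ≫ φ) = D.tr X (f ≫ φ')) : φ = φ' := by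
  rw [← sub_eq_zero]
  rw [← Module.forall_dual_apply_eq_zero_iff k]
  intro l
  obtain ⟨f, rfl⟩ := (D.c X Y).surjective l
  rw [map_sub, c_apply, c_apply, h f, sub_self]

theorem F_map_zero (X Y : T) : D.F.map (0 : X ⟶ Y) = 0 := by
  apply D.ext_right
  intro f
  rw [← D.tr_comm, zero_comp, comp_zero, map_zero, map_zero]

theorem exists_right [∀ X Y : T, Module.Finite k (X ⟶ Y)] {X Y : T} (m : Module.Dual k (X ⟶ Y)) :
    ∃ φ : Y ⟶ D.F.obj X, ∀ f : X ⟶ Y, D.tr X (f ≫ φ) = m f := by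
  let mm : Module.Dual k (Module.Dual k (Y ⟶ D.F.obj X)) := m ∘ₗ (D.c X Y).symm.toLinearMap
  refine ⟨(Module.evalEquiv k (Y ⟶ D.F.obj X)).symm mm, fun f => ?_⟩
  rw [← c_apply]
  rw [Module.apply_evalEquiv_symm_apply]
  show m ((D.c X Y).symm (D.c X Y f)) = m f
  rw [LinearEquiv.symm_apply_apply]


section Shift

variable [HasShift T ℤ] [∀ n : ℤ, (shiftFunctor T n).Additive]
  [∀ n : ℤ, (shiftFunctor T n).Linear k]

/-- Unshift, as a linear map. -/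
noncomputable def ush (k : Type w) [Field k] {T : Type u} [Category.{v} T] [Preadditive T]
    [Linear k T] [HasShift T ℤ] [∀ n : ℤ, (shiftFunctor T n).Additive]
    [∀ n : ℤ, (shiftFunctor T n).Linear k] (X Y : T) :
    ((shiftFunctor T (1 : ℤ)).obj X ⟶ (shiftFunctor T (1 : ℤ)).obj Y) →ₗ[k] (X ⟶ Y) :=
  (LinearEquiv.ofBijective ((shiftFunctor T (1 : ℤ)).mapLinearMap k (X := X) (Y := Y))
    ⟨(shiftFunctor T (1 : ℤ)).map_injective, (shiftFunctor T (1 : ℤ)).map_surjective⟩).symm.toLinearMap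

theorem ush_map {X Y : T} (f : X ⟶ Y) : ush k X Y ((shiftFunctor T (1 : ℤ)).map f) = f := by
  apply (shiftFunctor T (1 : ℤ)).map_injective
  exact (LinearEquiv.ofBijective ((shiftFunctor T (1 : ℤ)).mapLinearMap k (X := X) (Y := Y))
    ⟨(shiftFunctor T (1 : ℤ)).map_injective, (shiftFunctor T (1 : ℤ)).map_surjective⟩).apply_symm_apply _

theorem map_ush {X Y : T} (ψ : (shiftFunctor T (1 : ℤ)).obj X ⟶ (shiftFunctor T (1 : ℤ)).obj Y) :
    (shiftFunctor T (1 : ℤ)).map (ush k X Y ψ) = ψ :=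
  (LinearEquiv.ofBijective ((shiftFunctor T (1 : ℤ)).mapLinearMap k (X := X) (Y := Y))
    ⟨(shiftFunctor T (1 : ℤ)).map_injective, (shiftFunctor T (1 : ℤ)).map_surjective⟩).apply_symm_apply _

variable [∀ X Y : T, Module.Finite k (X ⟶ Y)]

theorem exists_d (X : T) : ∃ d : (shiftFunctor T (1 : ℤ)).obj (D.F.obj X) ⟶
    D.F.obj ((shiftFunctor T (1 : ℤ)).obj X),
    ∀ ψ : (shiftFunctor T (1 : ℤ)).obj X ⟶ (shiftFunctor T (1 : ℤ)).obj (D.F.obj X),
      D.tr _ (ψ ≫ d) = - D.tr X (ush k _ _ ψ) := by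
  obtain ⟨d, hd⟩ := D.exists_right (X := (shiftFunctor T (1 : ℤ)).obj X)
    (Y := (shiftFunctor T (1 : ℤ)).obj (D.F.obj X)) (-(D.tr X ∘ₗ ush k _ _))
  exact ⟨d, fun ψ => (hd ψ).trans rfl⟩

/-- The comparison `(S X)[1] ⟶ S (X[1])`. -/
noncomputable def d (X : T) : (shiftFunctor T (1 : ℤ)).obj (D.F.obj X) ⟶
    D.F.obj ((shiftFunctor T (1 : ℤ)).obj X) := (D.exists_d X).choose

theorem d_spec (X : T)
    (ψ : (shiftFunctor T (1 : ℤ)).obj X ⟶ (shiftFunctor T (1 : ℤ)).obj (D.F.obj X)) :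
    D.tr _ (ψ ≫ D.d X) = - D.tr X (ush k _ _ ψ) := (D.exists_d X).choose_spec ψ

theorem d_spec' (X : T) (ψ : X ⟶ D.F.obj X) :
    D.tr _ ((shiftFunctor T (1 : ℤ)).map ψ ≫ D.d X) = - D.tr X ψ := by
  rw [d_spec, ush_map]

theorem d_natural {X X' : T} (a : X ⟶ X') :
    (shiftFunctor T (1 : ℤ)).map (D.F.map a) ≫ D.d X' =
      D.d X ≫ D.F.map ((shiftFunctor T (1 : ℤ)).map a) := by
  apply D.ext_right
  intro f
  rw [← Category.assoc, d_spec]
  rw [← Category.assoc f (D.d X), ← D.tr_comm, ← Category.assoc, d_spec]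
  congr 1
  have h1 : ush k _ _ (f ≫ (shiftFunctor T (1 : ℤ)).map (D.F.map a)) =
      ush k _ _ f ≫ D.F.map a := by
    apply (shiftFunctor T (1 : ℤ)).map_injective
    rw [map_ush, Functor.map_comp, map_ush]
  have h2 : ush k _ _ ((shiftFunctor T (1 : ℤ)).map a ≫ f) = a ≫ ush k _ _ f := by
    apply (shiftFunctor T (1 : ℤ)).map_injective
    rw [map_ush, Functor.map_comp, map_ush]
  rw [h1, h2]
  exact (D.tr_comm a _).symm


theorem d_comp_eq_zero (X : T) {Y : T} (φ : Y ⟶ (shiftFunctor T (1 : ℤ)).obj (D.F.obj X))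
    (h : φ ≫ D.d X = 0) : φ = 0 := by
  let Y' := (shiftFunctor T (1 : ℤ)).objPreimage Y
  let ι : (shiftFunctor T (1 : ℤ)).obj Y' ≅ Y := (shiftFunctor T (1 : ℤ)).objObjPreimageIso Y
  have h0 : ush k _ _ (ι.hom ≫ φ) = 0 := by
    apply D.ext_right
    intro f'
    rw [comp_zero]
    have h1 := D.d_spec' X (f' ≫ ush k _ _ (ι.hom ≫ φ))
    rw [Functor.map_comp, map_ush, Category.assoc, Category.assoc, h, comp_zero, comp_zero,
      map_zero] at h1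
    rw [map_zero]
    exact (neg_eq_zero.mp h1.symm)
  have h2 : ι.hom ≫ φ = 0 := by
    rw [← map_ush (k := k) (ι.hom ≫ φ), h0, Functor.map_zero]
  rw [← cancel_epi ι.hom, h2, comp_zero]

theorem exists_comp_d (X : T) {Y : T} (ρ : Y ⟶ D.F.obj ((shiftFunctor T (1 : ℤ)).obj X)) :
    ∃ φ : Y ⟶ (shiftFunctor T (1 : ℤ)).obj (D.F.obj X), φ ≫ D.d X = ρ := by
  let Y' := (shiftFunctor T (1 : ℤ)).objPreimage Y
  let ι : (shiftFunctor T (1 : ℤ)).obj Y' ≅ Y := (shiftFunctor T (1 : ℤ)).objObjPreimageIso Y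
  let m' : Module.Dual k (X ⟶ Y') :=
    -(D.tr _ ∘ₗ Linear.rightComp k _ (ι.hom ≫ ρ) ∘ₗ (shiftFunctor T (1 : ℤ)).mapLinearMap k)
  obtain ⟨φ₁, hφ₁⟩ := D.exists_right m'
  refine ⟨ι.inv ≫ (shiftFunctor T (1 : ℤ)).map φ₁, ?_⟩
  apply D.ext_right
  intro f
  have hf : f ≫ ι.inv = (shiftFunctor T (1 : ℤ)).map (ush k _ _ (f ≫ ι.inv)) := (map_ush _).symm
  have e1 : f ≫ (ι.inv ≫ (shiftFunctor T (1 : ℤ)).map φ₁) ≫ D.d X =
      (shiftFunctor T (1 : ℤ)).map (ush k _ _ (f ≫ ι.inv) ≫ φ₁) ≫ D.d X := by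
    rw [Functor.map_comp, ← hf]
    simp only [Category.assoc]
  rw [e1, d_spec', hφ₁]
  show - - D.tr _ ((shiftFunctor T (1 : ℤ)).map (ush k _ _ (f ≫ ι.inv)) ≫ ι.hom ≫ ρ) = _
  rw [neg_neg, ← hf, Category.assoc, Iso.inv_hom_id_assoc]

instance isIso_d (X : T) : IsIso (D.d X) := by
  obtain ⟨s, hs⟩ := D.exists_comp_d X (𝟙 _)
  refine ⟨s, ?_, hs⟩
  rw [← sub_eq_zero]
  apply D.d_comp_eq_zero X
  rw [Preadditive.sub_comp, Category.assoc, hs, Category.comp_id, Category.id_comp, sub_self]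


omit [HasShift T ℤ] [∀ n : ℤ, (shiftFunctor T n).Additive]
  [∀ n : ℤ, (shiftFunctor T n).Linear k] in
theorem dual_exact {A' B' C' : T} (p : A' ⟶ B') (q : B' ⟶ C')
    (hex : ∀ (U : T) (β : B' ⟶ U), p ≫ β = 0 → ∃ γ : C' ⟶ U, β = q ≫ γ)
    {U : T} (η : U ⟶ D.F.obj B') (hη : η ≫ D.F.map q = 0) :
    ∃ ζ : U ⟶ D.F.obj A', η = ζ ≫ D.F.map p := by
  let l : Module.Dual k (B' ⟶ U) := D.tr B' ∘ₗ Linear.rightComp k B' η
  have hl : ∀ β : B' ⟶ U, Linear.leftComp k U p β = 0 → l β = 0 := by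
    intro β hβ
    obtain ⟨γ, rfl⟩ := hex U β hβ
    show D.tr B' ((q ≫ γ) ≫ η) = 0
    rw [Category.assoc, D.tr_comm, Category.assoc, hη, comp_zero, map_zero]
  obtain ⟨m, hm⟩ := exists_dual_factor (Linear.leftComp k U p) l hl
  obtain ⟨ζ, hζ⟩ := D.exists_right m
  refine ⟨ζ, ?_⟩
  apply D.ext_right
  intro β
  rw [← Category.assoc, ← D.tr_comm, ← Category.assoc, hζ]
  exact (hm β).symm


variable [HasZeroObject T] [Pretriangulated T]

theorem key_zero {A B C : T} (f : A ⟶ B) (g : B ⟶ C) (h : C ⟶ (shiftFunctor T (1 : ℤ)).obj A)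
    (hT : Triangle.mk f g h ∈ distTriang T)
    {X : T} (v : D.F.obj B ⟶ X) (w : X ⟶ (shiftFunctor T (1 : ℤ)).obj (D.F.obj A))
    (hX : Triangle.mk (D.F.map f) v w ∈ distTriang T)
    (β : C ⟶ D.F.obj B) (α : (shiftFunctor T (1 : ℤ)).obj A ⟶ X) (hβα : β ≫ v + h ≫ α = 0) :
    D.tr B (g ≫ β) - D.tr A (ush k _ _ (α ≫ w)) = 0 := by
  have hT₁ := rot_of_distTriang _ (rot_of_distTriang _ hT)
  have hT₂ := rot_of_distTriang _ hX
  obtain ⟨c, hc1, hc2⟩ : ∃ c : (shiftFunctor T (1 : ℤ)).obj B ⟶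
      (shiftFunctor T (1 : ℤ)).obj (D.F.obj A),
      (-(shiftFunctor T (1 : ℤ)).map f) ≫ c = (-α) ≫ w ∧
      (-(shiftFunctor T (1 : ℤ)).map g) ≫ (shiftFunctor T (1 : ℤ)).map β =
        c ≫ (-(shiftFunctor T (1 : ℤ)).map (D.F.map f)) :=
    complete_distinguished_triangle_morphism _ _ hT₁ hT₂ β (-α) (by
      show h ≫ (-α) = β ≫ v
      rw [Preadditive.comp_neg]
      exact (eq_neg_of_add_eq_zero_left hβα).symm)
  rw [Preadditive.neg_comp, Preadditive.neg_comp, neg_inj] at hc1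
  rw [Preadditive.neg_comp, Preadditive.comp_neg, neg_inj] at hc2
  have hδ : (shiftFunctor T (1 : ℤ)).map (ush k _ _ c) = c := map_ush c
  have E1 : ush k _ _ (α ≫ w) = f ≫ ush k _ _ c := by
    apply (shiftFunctor T (1 : ℤ)).map_injective
    rw [map_ush, Functor.map_comp, hδ, hc1]
  have E2 : g ≫ β = ush k _ _ c ≫ D.F.map f := by
    apply (shiftFunctor T (1 : ℤ)).map_injective
    rw [Functor.map_comp, Functor.map_comp, hδ, hc2]
  rw [E1, E2, D.tr_comm f, sub_self]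


theorem exists_theta {A B C : T} (f : A ⟶ B) (g : B ⟶ C) (h : C ⟶ (shiftFunctor T (1 : ℤ)).obj A)
    (hT : Triangle.mk f g h ∈ distTriang T)
    {X : T} (v : D.F.obj B ⟶ X) (w : X ⟶ (shiftFunctor T (1 : ℤ)).obj (D.F.obj A))
    (hX : Triangle.mk (D.F.map f) v w ∈ distTriang T) :
    ∃ θ : X ⟶ D.F.obj C, v ≫ θ = D.F.map g ∧ θ ≫ D.F.map h = w ≫ D.d A := by
  let p : ((C ⟶ D.F.obj B) × ((shiftFunctor T (1 : ℤ)).obj A ⟶ X)) →ₗ[k] (C ⟶ X) :=
    (Linear.rightComp k C v).coprod (Linear.leftComp k X h)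
  let μ : Module.Dual k ((C ⟶ D.F.obj B) × ((shiftFunctor T (1 : ℤ)).obj A ⟶ X)) :=
    (D.tr B ∘ₗ Linear.leftComp k (D.F.obj B) g).coprod
      (-(D.tr A ∘ₗ ush k _ _ ∘ₗ Linear.rightComp k ((shiftFunctor T (1 : ℤ)).obj A) w))
  have hp : ∀ x, p x = x.1 ≫ v + h ≫ x.2 := fun x => rfl
  have hμ : ∀ x, μ x = D.tr B (g ≫ x.1) - D.tr A (ush k _ _ (x.2 ≫ w)) := fun x =>
    (sub_eq_add_neg _ _).symm
  have hker : ∀ x, p x = 0 → μ x = 0 := by
    intro x hx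
    rw [hμ]
    exact D.key_zero f g h hT v w hX x.1 x.2 ((hp x).symm.trans hx)
  obtain ⟨l, hl⟩ := exists_dual_factor p μ hker
  obtain ⟨θ, hθ⟩ := D.exists_right l
  refine ⟨θ, ?_, ?_⟩
  · apply D.ext_right
    intro β
    rw [← Category.assoc, hθ]
    have h1 := hl (β, 0)
    rw [hp, hμ] at h1
    simp only [comp_zero, add_zero, zero_comp, map_zero, sub_zero] at h1
    rw [h1, D.tr_comm]
  · apply D.ext_right
    intro α
    rw [← Category.assoc, ← D.tr_comm, ← Category.assoc, hθ]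
    have h1 := hl (0, α)
    rw [hp, hμ] at h1
    simp only [comp_zero, zero_add, zero_comp, map_zero, zero_sub] at h1
    rw [h1, ← Category.assoc, d_spec]


theorem isIso_theta {A B C : T} (f : A ⟶ B) (g : B ⟶ C) (h : C ⟶ (shiftFunctor T (1 : ℤ)).obj A)
    (hT : Triangle.mk f g h ∈ distTriang T)
    {X : T} (v : D.F.obj B ⟶ X) (w : X ⟶ (shiftFunctor T (1 : ℤ)).obj (D.F.obj A))
    (hX : Triangle.mk (D.F.map f) v w ∈ distTriang T)
    (θ : X ⟶ D.F.obj C) (h1 : v ≫ θ = D.F.map g) (h2 : θ ≫ D.F.map h = w ≫ D.d A) :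
    IsIso θ := by
  have hmono : ∀ {U : T} (ξ : U ⟶ X), ξ ≫ θ = 0 → ξ = 0 := by
    intro U ξ hξ
    have hw : ξ ≫ w = 0 := by
      rw [← cancel_mono (D.d A), Category.assoc, ← h2, ← Category.assoc, hξ, zero_comp, zero_comp]
    obtain ⟨η, hη⟩ : ∃ η : U ⟶ D.F.obj B, ξ = η ≫ v := Triangle.coyoneda_exact₃ _ hX ξ hw
    have hη0 : η ≫ D.F.map g = 0 := by rw [← h1, ← Category.assoc, ← hη, hξ]
    obtain ⟨ζ, rfl⟩ := D.dual_exact f g
      (fun U β hβ => Triangle.yoneda_exact₂ _ hT β hβ) η hη0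
    rw [hη, Category.assoc]
    have : D.F.map f ≫ v = 0 := comp_distTriang_mor_zero₁₂ _ hX
    rw [this, comp_zero]
  have hepi : ∃ s : D.F.obj C ⟶ X, s ≫ θ = 𝟙 _ := by
    have hz : (D.F.map h ≫ inv (D.d A)) ≫ (shiftFunctor T (1 : ℤ)).map (D.F.map f) = 0 := by
      have hn : inv (D.d A) ≫ (shiftFunctor T (1 : ℤ)).map (D.F.map f) =
          D.F.map ((shiftFunctor T (1 : ℤ)).map f) ≫ inv (D.d B) := by
        rw [IsIso.eq_comp_inv, Category.assoc, D.d_natural f, IsIso.inv_hom_id_assoc]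
      rw [Category.assoc, hn, ← Category.assoc, ← Functor.map_comp]
      have : h ≫ (shiftFunctor T (1 : ℤ)).map f = 0 := comp_distTriang_mor_zero₃₁ _ hT
      rw [this, D.F_map_zero, zero_comp]
    obtain ⟨ξ₀, hξ₀⟩ : ∃ ξ₀ : D.F.obj C ⟶ X, D.F.map h ≫ inv (D.d A) = ξ₀ ≫ w :=
      Triangle.coyoneda_exact₁ (Triangle.mk (D.F.map f) v w) hX
        (show D.F.obj C ⟶ (shiftFunctor T (1 : ℤ)).obj (D.F.obj A) from
          D.F.map h ≫ inv (D.d A)) hz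
    have hz2 : (𝟙 _ - ξ₀ ≫ θ) ≫ D.F.map h = 0 := by
      rw [Preadditive.sub_comp, Category.id_comp, Category.assoc, h2, ← Category.assoc, ← hξ₀,
        Category.assoc, IsIso.inv_hom_id, Category.comp_id, sub_self]
    obtain ⟨η, hη⟩ := D.dual_exact g h
      (fun U β hβ => Triangle.yoneda_exact₃ _ hT β hβ) _ hz2
    refine ⟨ξ₀ + η ≫ v, ?_⟩
    rw [Preadditive.add_comp, Category.assoc, h1, ← hη]
    abel
  obtain ⟨s, hs⟩ := hepi
  refine ⟨s, ?_, hs⟩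
  rw [← sub_eq_zero]
  apply hmono
  rw [Preadditive.sub_comp, Category.assoc, hs, Category.comp_id, Category.id_comp, sub_self]

theorem dist {A B C : T} (f : A ⟶ B) (g : B ⟶ C) (h : C ⟶ (shiftFunctor T (1 : ℤ)).obj A)
    (hT : Triangle.mk f g h ∈ distTriang T) :
    Triangle.mk (D.F.map f) (D.F.map g) (D.F.map h ≫ inv (D.d A)) ∈ distTriang T := by
  obtain ⟨X, v, w, hX⟩ := distinguished_cocone_triangle (D.F.map f)
  obtain ⟨θ, h1, h2⟩ := D.exists_theta f g h hT v w hX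
  have := D.isIso_theta f g h hT v w hX θ h1 h2
  refine isomorphic_distinguished _ hX _ (Triangle.isoMk _ _ (Iso.refl _) (Iso.refl _)
    (asIso θ).symm ?_ ?_ ?_)
  · show D.F.map f ≫ 𝟙 _ = 𝟙 _ ≫ D.F.map f
    rw [Category.comp_id, Category.id_comp]
  · show D.F.map g ≫ inv θ = 𝟙 _ ≫ v
    rw [Category.id_comp, IsIso.comp_inv_eq, h1]
  · show (D.F.map h ≫ inv (D.d A)) ≫ (shiftFunctor T (1 : ℤ)).map (𝟙 (D.F.obj A)) = inv θ ≫ w
    rw [CategoryTheory.Functor.map_id, Category.comp_id, IsIso.eq_inv_comp, ← Category.assoc, h2,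
      Category.assoc, IsIso.hom_inv_id, Category.comp_id]

/-- The natural isomorphism `S ∘ [1] ≅ [1] ∘ S`. -/
noncomputable def e : shiftFunctor T (1 : ℤ) ⋙ D.F ≅ D.F ⋙ shiftFunctor T (1 : ℤ) :=
  (NatIso.ofComponents (fun X => asIso (D.d X)) (fun a => D.d_natural a)).symm

theorem e_hom_app (X : T) : D.e.hom.app X = inv (D.d X) := rfl

end Shift

end SD

end Groth.Agent.Helper10.SerreExact
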