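import Mathlib

set_option autoImplicit false
universe w v u
open CategoryTheory CategoryTheory.Limits

namespace Groth.Agent.Helper10.SerreRep

/-- transpose of a perfect pairing between finite-dimensional spaces -/
noncomputable def flipEquiv {k : Type w} [Field k] {V W : Type*} [AddCommGroup V] [Module k V]
    [AddCommGroup W] [Module k W] [Module.Finite k W] (f : V ≃ₗ[k] Module.Dual k W) :
    W ≃ₗ[k] Module.Dual k V :=
  (Module.evalEquiv k W).trans f.dualMap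

theorem flipEquiv_apply {k : Type w} [Field k] {V W : Type*} [AddCommGroup V] [Module k V]
    [AddCommGroup W] [Module k W] [Module.Finite k W] (f : V ≃ₗ[k] Module.Dual k W) (w : W) (v : V) :
    flipEquiv f w v = f v w := rfl

variable {k : Type w} [Field k] {T : Type u} [Category.{v} T] [Preadditive T] [Linear k T]
  [∀ X Y : T, Module.Finite k (X ⟶ Y)]

section S

variable (hS : ∀ X : T, ∃ (SX : T) (e : ∀ Y : T, (Y ⟶ SX) ≃ₗ[k] Module.Dual k (X ⟶ Y)),
        ∀ (Y Y' : T) (g : Y' ⟶ Y) (f : Y ⟶ SX),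
          e Y' (g ≫ f) = (e Y f) ∘ₗ Linear.rightComp k X g)

noncomputable def So (X : T) : T := (hS X).choose

noncomputable def eS (X Y : T) : (Y ⟶ So hS X) ≃ₗ[k] Module.Dual k (X ⟶ Y) :=
  (hS X).choose_spec.choose Y

theorem eS_nat (X : T) (Y Y' : T) (g : Y' ⟶ Y) (f : Y ⟶ So hS X) :
    eS hS X Y' (g ≫ f) = (eS hS X Y f) ∘ₗ Linear.rightComp k X g :=
  (hS X).choose_spec.choose_spec Y Y' g f

noncomputable def t (X : T) : Module.Dual k (X ⟶ So hS X) := eS hS X _ (𝟙 _)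

theorem eS_apply {X Y : T} (f : Y ⟶ So hS X) (u : X ⟶ Y) : eS hS X Y f u = t hS X (u ≫ f) := by
  have h := eS_nat hS X _ Y f (𝟙 _)
  rw [Category.comp_id] at h
  rw [h]
  rfl

theorem ext_t {X Y : T} (f f' : Y ⟶ So hS X) (h : ∀ u : X ⟶ Y, t hS X (u ≫ f) = t hS X (u ≫ f')) :
    f = f' := by
  apply (eS hS X Y).injective
  ext u
  rw [eS_apply, eS_apply, h]

theorem exists_t {X Y : T} (m : Module.Dual k (X ⟶ Y)) :
    ∃ f : Y ⟶ So hS X, ∀ u : X ⟶ Y, t hS X (u ≫ f) = m u := by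
  refine ⟨(eS hS X Y).symm m, fun u => ?_⟩
  rw [← eS_apply, LinearEquiv.apply_symm_apply]

noncomputable def Smap {X X' : T} (a : X ⟶ X') : So hS X ⟶ So hS X' :=
  (exists_t hS (X := X') (Y := So hS X) (t hS X ∘ₗ Linear.leftComp k (So hS X) a)).choose

theorem Smap_spec {X X' : T} (a : X ⟶ X') (u : X' ⟶ So hS X) :
    t hS X' (u ≫ Smap hS a) = t hS X (a ≫ u) :=
  (exists_t hS (X := X') (Y := So hS X) (t hS X ∘ₗ Linear.leftComp k (So hS X) a)).choose_spec u

noncomputable def Sfun : T ⥤ T where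
  obj X := So hS X
  map a := Smap hS a
  map_id X := by
    apply ext_t
    intro u
    rw [Smap_spec, Category.id_comp, Category.comp_id]
  map_comp a a' := by
    apply ext_t
    intro u
    rw [Smap_spec, ← Category.assoc u, Smap_spec, ← Category.assoc, Smap_spec, Category.assoc]

noncomputable def cS (X Y : T) : (X ⟶ Y) ≃ₗ[k] Module.Dual k (Y ⟶ So hS X) :=
  flipEquiv (eS hS X Y)

theorem cS_apply {X Y : T} (u : X ⟶ Y) (f : Y ⟶ So hS X) : cS hS X Y u f = t hS X (u ≫ f) :=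
  (flipEquiv_apply _ _ _).trans (eS_apply hS f u)

theorem cS_hc₁ (X Y Y' : T) (f : X ⟶ Y) (g : Y ⟶ Y') :
    cS hS X Y' (f ≫ g) = (cS hS X Y f) ∘ₗ Linear.leftComp k (So hS X) g := by
  ext φ
  show cS hS X Y' (f ≫ g) φ = cS hS X Y f (g ≫ φ)
  rw [cS_apply, cS_apply, Category.assoc]

theorem cS_hc₂ (X' X Y : T) (a : X' ⟶ X) (f : X ⟶ Y) :
    cS hS X' Y (a ≫ f) = (cS hS X Y f) ∘ₗ Linear.rightComp k Y (Smap hS a) := by
  ext φ
  show cS hS X' Y (a ≫ f) φ = cS hS X Y f (φ ≫ Smap hS a)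
  rw [cS_apply, cS_apply, ← Category.assoc, Smap_spec, Category.assoc]

theorem Smap_add {X Y : T} (a a' : X ⟶ Y) : Smap hS (a + a') = Smap hS a + Smap hS a' := by
  apply ext_t
  intro u
  rw [Smap_spec, Preadditive.comp_add, Preadditive.add_comp, map_add, map_add, Smap_spec, Smap_spec]

theorem Smap_smul {X Y : T} (r : k) (a : X ⟶ Y) : Smap hS (r • a) = r • Smap hS a := by
  apply ext_t
  intro u
  rw [Smap_spec, Linear.comp_smul, Linear.smul_comp, map_smul, map_smul, Smap_spec]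

instance Sfun_additive : (Sfun hS).Additive where
  map_add {X Y a a'} := Smap_add hS a a'

instance Sfun_linear : (Sfun hS).Linear k where
  map_smul {X Y} a r := Smap_smul hS r a

theorem Smap_injective {X X' : T} (a a' : X ⟶ X') (h : Smap hS a = Smap hS a') : a = a' := by
  apply (cS hS X X').injective
  ext u
  rw [cS_apply, cS_apply, ← Smap_spec hS a u, ← Smap_spec hS a' u, h]

theorem Smap_surjective {X X' : T} (φ : So hS X ⟶ So hS X') : ∃ a : X ⟶ X', Smap hS a = φ := by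
  let m : Module.Dual k (X' ⟶ So hS X) := t hS X' ∘ₗ Linear.rightComp k X' φ
  refine ⟨(cS hS X X').symm m, ?_⟩
  apply ext_t
  intro u
  rw [Smap_spec, ← cS_apply, LinearEquiv.apply_symm_apply]
  rfl

instance Sfun_faithful : (Sfun hS).Faithful where
  map_injective {X X'} a a' h := Smap_injective hS a a' h

instance Sfun_full : (Sfun hS).Full where
  map_surjective {X X'} φ := Smap_surjective hS φ

end S

section R

variable (hR : ∀ X : T, ∃ (RX : T) (e : ∀ Y : T, (RX ⟶ Y) ≃ₗ[k] Module.Dual k (Y ⟶ X)),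
        ∀ (Y Y' : T) (g : Y ⟶ Y') (f : RX ⟶ Y),
          e Y' (f ≫ g) = (e Y f) ∘ₗ Linear.leftComp k X g)

noncomputable def Ro (X : T) : T := (hR X).choose

noncomputable def eR (X Y : T) : (Ro hR X ⟶ Y) ≃ₗ[k] Module.Dual k (Y ⟶ X) :=
  (hR X).choose_spec.choose Y

theorem eR_nat (X : T) (Y Y' : T) (g : Y ⟶ Y') (f : Ro hR X ⟶ Y) :
    eR hR X Y' (f ≫ g) = (eR hR X Y f) ∘ₗ Linear.leftComp k X g :=
  (hR X).choose_spec.choose_spec Y Y' g f

noncomputable def s (X : T) : Module.Dual k (Ro hR X ⟶ X) := eR hR X _ (𝟙 _)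

theorem eR_apply {X Y : T} (f : Ro hR X ⟶ Y) (u : Y ⟶ X) : eR hR X Y f u = s hR X (f ≫ u) := by
  have h := eR_nat hR X _ Y f (𝟙 _)
  rw [Category.id_comp] at h
  rw [h]
  rfl

noncomputable def rR (X Y : T) : (Y ⟶ X) ≃ₗ[k] Module.Dual k (Ro hR X ⟶ Y) :=
  flipEquiv (eR hR X Y)

theorem rR_apply {X Y : T} (u : Y ⟶ X) (f : Ro hR X ⟶ Y) : rR hR X Y u f = s hR X (f ≫ u) :=
  (flipEquiv_apply _ _ _).trans (eR_apply hR f u)

theorem ext_s {X Y : T} (u u' : Y ⟶ X)
    (h : ∀ f : Ro hR X ⟶ Y, s hR X (f ≫ u) = s hR X (f ≫ u')) : u = u' := by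
  apply (rR hR X Y).injective
  ext f
  rw [rR_apply, rR_apply, h]

theorem exists_s {X Y : T} (m : Module.Dual k (Ro hR X ⟶ Y)) :
    ∃ u : Y ⟶ X, ∀ f : Ro hR X ⟶ Y, s hR X (f ≫ u) = m f := by
  refine ⟨(rR hR X Y).symm m, fun f => ?_⟩
  rw [← rR_apply, LinearEquiv.apply_symm_apply]

variable (hS : ∀ X : T, ∃ (SX : T) (e : ∀ Y : T, (Y ⟶ SX) ≃ₗ[k] Module.Dual k (X ⟶ Y)),
        ∀ (Y Y' : T) (g : Y' ⟶ Y) (f : Y ⟶ SX),
          e Y' (g ≫ f) = (e Y f) ∘ₗ Linear.rightComp k X g)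

theorem exists_iso (X : T) : Nonempty (So hS (Ro hR X) ≅ X) := by
  obtain ⟨θ, hθ⟩ := exists_t hS (X := Ro hR X) (Y := X) (s hR X)
  obtain ⟨θ', hθ'⟩ := exists_s hR (X := X) (Y := So hS (Ro hR X)) (t hS (Ro hR X))
  refine ⟨⟨θ', θ, ?_, ?_⟩⟩
  · apply ext_t hS
    intro f
    rw [← Category.assoc, hθ, hθ', Category.comp_id]
  · apply ext_s hR
    intro f
    rw [← Category.assoc, hθ', hθ, Category.comp_id]

include hR in
theorem Sfun_essSurj : (Sfun hS).EssSurj where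
  mem_essImage X := ⟨Ro hR X, exists_iso hR hS X⟩

include hR in
theorem Sfun_isEquivalence : (Sfun hS).IsEquivalence :=
  { faithful := Sfun_faithful hS
    full := Sfun_full hS
    essSurj := Sfun_essSurj hR hS }

end R

end Groth.Agent.Helper10.SerreRep
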