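import Mathlib
import Groth.Agent.Lib.Helper10.Postnikov
import Groth.Agent.Lib.Helper10.SibBuilt

set_option autoImplicit false
set_option linter.unusedSectionVars false

universe v₁ u₁ v₂ u₂ v₃ u₃

namespace Groth.Agent.Helper10.SibCoh

open CategoryTheory CategoryTheory.Limits CategoryTheory.Pretriangulated
open Groth.Agent.Helper10.Postnikov Groth.Agent.Helper10.SibBuilt

variable {ℬ : Type u₁} [Category.{v₁} ℬ] [Preadditive ℬ] [HasZeroObject ℬ] [HasShift ℬ ℤ]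
  [∀ n : ℤ, (shiftFunctor ℬ n).Additive] [Pretriangulated ℬ]
  {A : Type u₂} [Category.{v₂} A] (i : A ⥤ ℬ)
  {D : Type u₃} [Category.{v₃} D] [Preadditive D] [HasZeroObject D] [HasShift D ℤ]
  [∀ n : ℤ, (shiftFunctor D n).Additive] [Pretriangulated D]
  (F F' : ℬ ⥤ D) [F.CommShift ℤ] [F.IsTriangulated] [F'.CommShift ℤ] [F'.IsTriangulated]
  (t : i ⋙ F ≅ i ⋙ F')

/-- shift an isomorphism `F W ≅ F' W` by one -/
noncomputable def shiftIso1 {W : ℬ} (θ : F.obj W ≅ F'.obj W) :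
    F.obj (W⟦(1 : ℤ)⟧) ≅ F'.obj (W⟦(1 : ℤ)⟧) :=
  (F.commShiftIso (1 : ℤ)).app W ≪≫ (shiftFunctor D (1 : ℤ)).mapIso θ ≪≫
    ((F'.commShiftIso (1 : ℤ)).app W).symm

lemma Tm_succ (m : ℤ) (Z : A) :
    (Tm i F F' t (m + 1) Z).hom =
      F.map ((shiftFunctorAdd' ℬ m 1 (m + 1) rfl).hom.app (i.obj Z)) ≫
        (shiftIso1 F F' (Tm i F F' t m Z)).hom ≫
        F'.map ((shiftFunctorAdd' ℬ m 1 (m + 1) rfl).inv.app (i.obj Z)) := by
  have nat := (shiftFunctorAdd' D m 1 (m + 1) rfl).inv.naturality (t.hom.app Z)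
  simp only [Functor.comp_obj, Functor.comp_map] at nat
  simp only [Tm, shiftIso1, Iso.trans_hom, Iso.app_hom, Functor.mapIso_hom, Iso.symm_hom,
    Iso.app_inv, Functor.map_comp, Category.assoc]
  rw [F.commShiftIso_add' (rfl : m + 1 = m + 1), F'.commShiftIso_add' (rfl : m + 1 = m + 1)]
  simp only [Functor.CommShift.isoAdd'_hom_app, Functor.CommShift.isoAdd'_inv_app, Category.assoc]
  congr 3
  rw [← reassoc_of% nat, Iso.inv_hom_id_app_assoc]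


/-- the connecting morphism of a distinguished triangle is compatible with isomorphisms which are
compatible with the first two morphisms, if there are no negative extensions -/
lemma conn' [F.Full] {A₁ A₂ A₃ : ℬ} (f : A₁ ⟶ A₂) (g : A₂ ⟶ A₃) (d : A₃ ⟶ A₁⟦(1 : ℤ)⟧)
    (dist : Triangle.mk f g d ∈ distTriang ℬ)
    (θ₁ : F.obj A₁ ≅ F'.obj A₁) (θ₂ : F.obj A₂ ⟶ F'.obj A₂) (θ₃ : F.obj A₃ ≅ F'.obj A₃)
    (nf : F.map f ≫ θ₂ = θ₁.hom ≫ F'.map f) (ng : F.map g ≫ θ₃.hom = θ₂ ≫ F'.map g)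
    (neg : ∀ ψ : A₁⟦(1 : ℤ)⟧ ⟶ A₃, ψ = 0) :
    F.map d ≫ (shiftIso1 F F' θ₁).hom = θ₃.hom ≫ F'.map d := by
  have hT₁ := F.map_distinguished _ dist
  have hT₂ := F'.map_distinguished _ dist
  obtain ⟨c, hc₁, hc₂⟩ : ∃ c : F.obj A₃ ⟶ F'.obj A₃,
      F.map g ≫ c = θ₂ ≫ F'.map g ∧
      (F.map d ≫ (F.commShiftIso (1 : ℤ)).hom.app A₁) ≫ θ₁.hom⟦(1 : ℤ)⟧' =
        c ≫ (F'.map d ≫ (F'.commShiftIso (1 : ℤ)).hom.app A₁) :=
    complete_distinguished_triangle_morphism _ _ hT₁ hT₂ θ₁.hom θ₂ nf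
  have h0 : (F.mapTriangle.obj (Triangle.mk f g d)).mor₂ ≫ (c - θ₃.hom) = 0 := by
    change F.map g ≫ (c - θ₃.hom) = 0
    rw [Preadditive.comp_sub, hc₁, ng, sub_self]
  obtain ⟨y, hy⟩ : ∃ y : (F.obj A₁)⟦(1 : ℤ)⟧ ⟶ F'.obj A₃,
      c - θ₃.hom = (F.map d ≫ (F.commShiftIso (1 : ℤ)).hom.app A₁) ≫ y :=
    Triangle.yoneda_exact₃ _ hT₁ (c - θ₃.hom) h0
  have hy0 : y = 0 := by
    obtain ⟨ψ₀, hψ₀⟩ := F.map_surjective ((F.commShiftIso (1 : ℤ)).hom.app _ ≫ y ≫ θ₃.inv)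
    rw [neg ψ₀, F.map_zero] at hψ₀
    have h3 : (F.commShiftIso (1 : ℤ)).inv.app _ ≫
        ((F.commShiftIso (1 : ℤ)).hom.app _ ≫ y ≫ θ₃.inv) ≫ θ₃.hom = y := by
      simp only [Category.assoc, Iso.inv_hom_id, Category.comp_id, Iso.inv_hom_id_app_assoc]
    rw [← h3, ← hψ₀, zero_comp, comp_zero]
  have hc : c = θ₃.hom := by
    rw [hy0, comp_zero] at hy
    exact sub_eq_zero.1 hy
  rw [hc] at hc₂
  change F.map d ≫ (F.commShiftIso (1 : ℤ)).hom.app A₁ ≫ θ₁.hom⟦(1 : ℤ)⟧' ≫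
    (F'.commShiftIso (1 : ℤ)).inv.app A₁ = θ₃.hom ≫ F'.map d
  rw [← Category.assoc, ← Category.assoc, hc₂]
  simp

end Groth.Agent.Helper10.SibCoh
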