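import Mathlib
import Groth.Agent.Lib.Helper10.Postnikov

set_option autoImplicit false
set_option linter.unusedSectionVars false

universe v₁ u₁ v₃ u₃

namespace Groth.Agent.Helper10.SibExtA

open CategoryTheory CategoryTheory.Limits CategoryTheory.Pretriangulated
open Groth.Agent.Helper10.Postnikov

variable {ℬ : Type u₁} [Category.{v₁} ℬ] [Preadditive ℬ] [HasZeroObject ℬ] [HasShift ℬ ℤ]
  [∀ n : ℤ, (shiftFunctor ℬ n).Additive] [Pretriangulated ℬ]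
  {D : Type u₃} [Category.{v₃} D] [Preadditive D] [HasZeroObject D] [HasShift D ℤ]
  [∀ n : ℤ, (shiftFunctor D n).Additive] [Pretriangulated D]
  (F F' : ℬ ⥤ D) [F.CommShift ℤ] [F.IsTriangulated] [F'.CommShift ℤ] [F'.IsTriangulated]

/-- a family of morphisms `F K ⟶ F' K` which is a natural isomorphism on the class `P` -/
structure Good (P : ObjectProperty ℬ) (c : ∀ K : ℬ, F.obj K ⟶ F'.obj K) : Prop where
  iso : ∀ K, P K → IsIso (c K)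
  nat : ∀ (K K' : ℬ), P K → P K' → ∀ f : K ⟶ K', F.map f ≫ c K' = c K ≫ F'.map f

/-- a presentation of `K` by a "top" object `S` and a smaller object `L` -/
structure Pres (P Q : ObjectProperty ℬ) (K : ℬ) where
  S : ℬ
  L : ℬ
  u : S ⟶ K
  v : K ⟶ L
  w : L ⟶ S⟦(1 : ℤ)⟧
  dist : Triangle.mk u v w ∈ distTriang ℬ
  hL : P L
  hS1 : P (S⟦(1 : ℤ)⟧)
  hS : Q S
  hom0 : HomZero (F.obj K) (F'.obj S)

variable {F F'} {P Q : ObjectProperty ℬ} {c : ∀ K : ℬ, F.obj K ⟶ F'.obj K}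

/-- the characterizing property of the extension at `K` -/
def Char (c : ∀ K : ℬ, F.obj K ⟶ F'.obj K) {K : ℬ} (π : Pres F F' P Q K)
    (γ : F.obj K ⟶ F'.obj K) : Prop :=
  F.map π.v ≫ c π.L = γ ≫ F'.map π.v

lemma exists_char (hc : Good F F' P c) {K : ℬ} (π : Pres F F' P Q K) :
    ∃ γ : F.obj K ⟶ F'.obj K, IsIso γ ∧ Char c π γ := by
  have hT₁ := F.map_distinguished _ π.dist
  have hT₂ := F'.map_distinguished _ π.dist
  have : IsIso (c (π.S⟦(1 : ℤ)⟧)) := hc.iso _ π.hS1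
  have : IsIso (c π.L) := hc.iso _ π.hL
  let a' : (F.obj π.S)⟦(1 : ℤ)⟧ ⟶ (F'.obj π.S)⟦(1 : ℤ)⟧ :=
    (F.commShiftIso (1 : ℤ)).inv.app π.S ≫ c (π.S⟦(1 : ℤ)⟧) ≫ (F'.commShiftIso (1 : ℤ)).hom.app π.S
  have ha' : IsIso a' := by dsimp only [a']; infer_instance
  obtain ⟨a, ha⟩ := (shiftFunctor D (1 : ℤ)).map_surjective a'
  have hai : IsIso a := by
    have : IsIso ((shiftFunctor D (1 : ℤ)).map a) := by rw [ha]; exact ha'
    exact isIso_of_fully_faithful (shiftFunctor D (1 : ℤ)) a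
  have natw := hc.nat _ _ π.hL π.hS1 π.w
  have comm : (F.mapTriangle.obj (Triangle.mk π.u π.v π.w)).mor₃ ≫ a⟦(1 : ℤ)⟧' =
      c π.L ≫ (F'.mapTriangle.obj (Triangle.mk π.u π.v π.w)).mor₃ := by
    change (F.map π.w ≫ (F.commShiftIso (1 : ℤ)).hom.app π.S) ≫ a⟦(1 : ℤ)⟧' =
      c π.L ≫ F'.map π.w ≫ (F'.commShiftIso (1 : ℤ)).hom.app π.S
    rw [ha, ← reassoc_of% natw]
    dsimp only [a']
    simp only [Category.assoc, Iso.hom_inv_id_app_assoc]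
  obtain ⟨b, hb₁, hb₂⟩ := complete_distinguished_triangle_morphism₂ _ _ hT₁ hT₂ a (c π.L) comm
  let ψ : F.mapTriangle.obj (Triangle.mk π.u π.v π.w) ⟶
      F'.mapTriangle.obj (Triangle.mk π.u π.v π.w) :=
    { hom₁ := a
      hom₂ := b
      hom₃ := c π.L
      comm₁ := hb₁
      comm₂ := hb₂
      comm₃ := comm }
  have hLi : IsIso (c π.L) := hc.iso _ π.hL
  have hbi : IsIso b := isIso₂_of_isIso₁₃ ψ hT₁ hT₂ hai hLi
  exact ⟨b, hbi, hb₂⟩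

lemma char_unique {K : ℬ} (π : Pres F F' P Q K) {γ₁ γ₂ : F.obj K ⟶ F'.obj K}
    (h₁ : Char c π γ₁) (h₂ : Char c π γ₂) : γ₁ = γ₂ := by
  have hT₂ := F'.map_distinguished _ π.dist
  rw [← sub_eq_zero]
  refine eq_zero_of_comp_mor₂ hT₂ (γ₁ - γ₂) ?_ π.hom0
  change (γ₁ - γ₂) ≫ F'.map π.v = 0
  rw [Preadditive.sub_comp, ← h₁, ← h₂, sub_self]

lemma char_of_dominate (hc : Good F F' P c) {K : ℬ} (π₁ π₃ : Pres F F' P Q K)
    (h : π₃.u ≫ π₁.v = 0) {γ : F.obj K ⟶ F'.obj K} (hγ : Char c π₃ γ) : Char c π₁ γ := by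
  obtain ⟨g, hg⟩ : ∃ g : π₃.L ⟶ π₁.L, π₁.v = π₃.v ≫ g :=
    Triangle.yoneda_exact₂ _ π₃.dist π₁.v h
  have natg := hc.nat _ _ π₃.hL π₁.hL g
  unfold Char at hγ ⊢
  rw [hg, F.map_comp, F'.map_comp, Category.assoc, natg, reassoc_of% hγ]

lemma nat_of_char [F.Full] (hc : Good F F' P c) {K K' : ℬ} (f : K ⟶ K')
    (π : Pres F F' P Q K) (π' : Pres F F' P Q K') (h0 : HomZero (F.obj K) (F'.obj π'.S))
    (hkill : π.u ≫ f ≫ π'.v = 0) {γ : F.obj K ⟶ F'.obj K} {γ' : F.obj K' ⟶ F'.obj K'}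
    (hγ : Char c π γ) (hγ' : Char c π' γ') : F.map f ≫ γ' = γ ≫ F'.map f := by
  obtain ⟨g, hg⟩ : ∃ g : π.L ⟶ π'.L, f ≫ π'.v = π.v ≫ g :=
    Triangle.yoneda_exact₂ _ π.dist (f ≫ π'.v) hkill
  have natg := hc.nat _ _ π.hL π'.hL g
  have hT₂ := F'.map_distinguished _ π'.dist
  rw [← sub_eq_zero]
  refine eq_zero_of_comp_mor₂ hT₂ _ ?_ h0
  change (F.map f ≫ γ' - γ ≫ F'.map f) ≫ F'.map π'.v = 0
  unfold Char at hγ hγ'
  rw [Preadditive.sub_comp, Category.assoc, Category.assoc, ← hγ', ← F'.map_comp, hg,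
    F'.map_comp, ← reassoc_of% hγ, ← natg, ← F.map_comp_assoc, ← F.map_comp_assoc, hg, sub_self]

/-- if a candidate satisfies the characterization for one presentation, it satisfies it for all -/
lemma char_of_char (hc : Good F F' P c) {K : ℬ}
    (E3 : ∀ π₁ π₂ : Pres F F' P Q K, ∃ π₃ : Pres F F' P Q K, π₃.u ≫ π₁.v = 0 ∧ π₃.u ≫ π₂.v = 0)
    (π₀ π : Pres F F' P Q K) {γ : F.obj K ⟶ F'.obj K} (hγ : Char c π₀ γ) : Char c π γ := by
  obtain ⟨π₃, h1, h2⟩ := E3 π₀ π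
  obtain ⟨γ₃, _, hγ₃⟩ := exists_char hc π₃
  have e : γ₃ = γ := char_unique π₀ (char_of_dominate hc π₀ π₃ h1 hγ₃) hγ
  rw [← e]
  exact char_of_dominate hc π π₃ h2 hγ₃

theorem good_of_char [F.Full] {P' : ObjectProperty ℬ} (hc : Good F F' P c)
    (c' : ∀ K : ℬ, F.obj K ⟶ F'.obj K)
    (hiso : ∀ K, P' K → IsIso (c' K))
    (hchar : ∀ K, P' K → ∀ π : Pres F F' P Q K, Char c π (c' K))
    (E2 : ∀ (K K' : ℬ), P' K → P' K' → ∀ f : K ⟶ K',
      ∃ (π' : Pres F F' P Q K') (π : Pres F F' P Q K),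
        HomZero (F.obj K) (F'.obj π'.S) ∧ π.u ≫ f ≫ π'.v = 0) : Good F F' P' c' where
  iso := hiso
  nat K K' hK hK' f := by
    obtain ⟨π', π, h0, hkill⟩ := E2 K K' hK hK' f
    exact nat_of_char hc f π π' h0 hkill (hchar K hK π) (hchar K' hK' π')

end Groth.Agent.Helper10.SibExtA
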