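import Mathlib
import Groth.Prelude.Def_W4stkfunctorsequivSib
import Groth.Agent.Lib.Helper10.Postnikov
import Groth.Agent.Lib.Helper10.SibBuilt
import Groth.Agent.Lib.Helper10.SibEff
import Groth.Agent.Lib.Helper10.SibAmp
import Groth.Agent.Lib.Helper10.SibPres
import Groth.Agent.Lib.Helper10.SibExtA
import Groth.Agent.Lib.Helper10.SibCoh

set_option autoImplicit false
set_option linter.unusedSectionVars false

universe w v u v' u'

namespace Groth.Agent.Helper10.SibBase

open CategoryTheory CategoryTheory.Limits CategoryTheory.Pretriangulated DerivedCategory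
open Groth.Agent.Helper10.Postnikov Groth.Agent.Helper10.SibEff Groth.Agent.Helper10.SibAmp
open Groth.Agent.Helper10.SibPres Groth.Agent.Helper10.SibExtA Groth.Agent.Helper10.SibBuilt
open Groth.Agent.Helper10.SibCoh

variable {A : Type u} [Category.{v} A] [Abelian A] [HasDerivedCategory.{w} A]
  {D : Type u'} [Category.{v'} D] [Preadditive D] [HasZeroObject D] [HasShift D ℤ]
  [∀ n : ℤ, (shiftFunctor D n).Additive] [Pretriangulated D]
  (F F' : DerivedCategory.Bounded A ⥤ D) [F.CommShift ℤ] [F.IsTriangulated]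
  [F'.CommShift ℤ] [F'.IsTriangulated]
  (t : DEquiv.singleB A ⋙ F ≅ DEquiv.singleB A ⋙ F')

/-- amplitude in `[a, b]` -/
def Amp (a b : ℤ) : ObjectProperty (DerivedCategory.Bounded A) := fun K => GE K a ∧ LE K b

lemma exists_single' {K : DerivedCategory.Bounded A} {b : ℤ} (h : Amp b b K) (m : ℤ)
    (hm : m + b = 0) : ∃ X : A, Nonempty (K ≅ ((DEquiv.singleB A).obj X)⟦m⟧) := by
  obtain rfl : m = -b := by omega
  exact exists_single_of_GE_LE h.1 h.2

lemma amp_single (X : A) (m b : ℤ) (h : m + b = 0) :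
    Amp b b (((DEquiv.singleB A).obj X)⟦m⟧) :=
  ⟨GE_single X m b h, LE_single X m b h⟩

lemma Amp.of_iso {a b : ℤ} {K K' : DerivedCategory.Bounded A} (h : Amp a b K) (e : K ≅ K') :
    Amp a b K' := ⟨h.1.of_iso e, h.2.of_iso e⟩

lemma isZero_of_amp_ne {K : DerivedCategory.Bounded A} {b b' : ℤ} (h : Amp b b K)
    (h' : Amp b' b' K) (hne : b ≠ b') : IsZero K := by
  rcases lt_or_gt_of_ne hne with hlt | hlt
  · exact isZero_of_LE_GE h.2 h'.1 hlt
  · exact isZero_of_LE_GE h'.2 h.1 hlt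

/-- the conjugate of `Tm` along an isomorphism with a shifted single -/
noncomputable def conj {K : DerivedCategory.Bounded A} (m : ℤ) (X : A)
    (e : K ≅ ((DEquiv.singleB A).obj X)⟦m⟧) : F.obj K ⟶ F'.obj K :=
  F.map e.hom ≫ (Tm (DEquiv.singleB A) F F' t m X).hom ≫ F'.map e.inv

lemma conj_eq {K : DerivedCategory.Bounded A} (m : ℤ) (X : A)
    (e : K ≅ ((DEquiv.singleB A).obj X)⟦m⟧) (m' : ℤ) (X' : A)
    (e' : K ≅ ((DEquiv.singleB A).obj X')⟦m'⟧) :
    conj F F' t m X e = conj F F' t m' X' e' := by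
  by_cases hz : IsZero K
  · exact (F.map_isZero hz).eq_of_src _ _
  · have hm : m = m' := by
      by_contra hne
      have h1 : Amp (-m) (-m) K := (amp_single X m (-m) (by omega)).of_iso e.symm
      have h2 : Amp (-m') (-m') K := (amp_single X' m' (-m') (by omega)).of_iso e'.symm
      exact hz (isZero_of_amp_ne h1 h2 (by omega))
    subst hm
    have := singleB_full (A := A)
    have nat := Tm_natural (DEquiv.singleB A) F F' t m (e.inv ≫ e'.hom)
    unfold conj
    have h1 : e.hom = e'.hom ≫ (e'.inv ≫ e.hom) := by simp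
    have h2 : e'.inv = (e'.inv ≫ e.hom) ≫ e.inv := by simp
    have nat' := Tm_natural (DEquiv.singleB A) F F' t m (e'.inv ≫ e.hom)
    rw [h1, F.map_comp, Category.assoc, reassoc_of% nat', ← F'.map_comp, ← h2]

/-- the base family, defined on (shifted) singles -/
noncomputable def That (K : DerivedCategory.Bounded A) : F.obj K ⟶ F'.obj K := by
  classical
  exact if h : Nonempty (Σ (m : ℤ) (X : A), K ≅ ((DEquiv.singleB A).obj X)⟦m⟧) then
    conj F F' t (Classical.choice h).1 (Classical.choice h).2.1 (Classical.choice h).2.2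
  else 0

lemma That_spec {K : DerivedCategory.Bounded A} (m : ℤ) (X : A)
    (e : K ≅ ((DEquiv.singleB A).obj X)⟦m⟧) :
    That F F' t K = conj F F' t m X e := by
  have h : Nonempty (Σ (m : ℤ) (X : A), K ≅ ((DEquiv.singleB A).obj X)⟦m⟧) := ⟨⟨m, X, e⟩⟩
  unfold That
  rw [dif_pos h]
  exact conj_eq F F' t _ _ _ _ _ _

lemma That_eq (m : ℤ) (X : A) :
    That F F' t (((DEquiv.singleB A).obj X)⟦m⟧) = (Tm (DEquiv.singleB A) F F' t m X).hom := by
  rw [That_spec F F' t m X (Iso.refl _)]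
  simp [conj]

lemma isIso_conj {K : DerivedCategory.Bounded A} (m : ℤ) (X : A)
    (e : K ≅ ((DEquiv.singleB A).obj X)⟦m⟧) : IsIso (conj F F' t m X e) := by
  unfold conj
  infer_instance

/-- the base family is a natural isomorphism on each class of objects concentrated in one degree -/
lemma base_good (b : ℤ) : Good F F' (Amp b b) (That F F' t) where
  iso K hK := by
    obtain ⟨X, ⟨e⟩⟩ := exists_single' hK (-b) (by omega)
    rw [That_spec F F' t _ X e]
    exact isIso_conj F F' t _ X e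
  nat K K' hK hK' f := by
    obtain ⟨X, ⟨e⟩⟩ := exists_single' hK (-b) (by omega)
    obtain ⟨X', ⟨e'⟩⟩ := exists_single' hK' (-b) (by omega)
    rw [That_spec F F' t _ X e, That_spec F F' t _ X' e']
    have := singleB_full (A := A)
    have nat := Tm_natural (DEquiv.singleB A) F F' t (-b) (e.inv ≫ f ≫ e'.hom)
    unfold conj
    have h1 : f ≫ e'.hom = e.hom ≫ (e.inv ≫ f ≫ e'.hom) := by simp
    have h2 : (e.inv ≫ f ≫ e'.hom) ≫ e'.inv = e.inv ≫ f := by simp
    rw [← F.map_comp_assoc, h1, F.map_comp, Category.assoc, reassoc_of% nat, ← F'.map_comp, h2,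
      F'.map_comp]
    simp only [Category.assoc]


/-- the base family is compatible with morphisms from degree `b` to degree `b - 1`
(classes in `Ext¹`) -/
lemma ext1 [F.Full] {b b' : ℤ} (hb : b' + 1 = b) {K L : DerivedCategory.Bounded A}
    (hK : Amp b b K) (hL : Amp b' b' L) (v : K ⟶ L) :
    F.map v ≫ That F F' t L = That F F' t K ≫ F'.map v := by
  obtain ⟨X, ⟨eK⟩⟩ := exists_single' hK (-b) (by omega)
  obtain ⟨Z, ⟨eL⟩⟩ := exists_single' hL (-b + 1) (by omega)
  let iX := (DEquiv.singleB A).obj X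
  let iZ := (DEquiv.singleB A).obj Z
  let v' : iX⟦-b⟧ ⟶ iZ⟦-b + 1⟧ := eK.inv ≫ v ≫ eL.hom
  let α : iZ⟦-b + 1⟧ ≅ (iZ⟦-b⟧)⟦(1 : ℤ)⟧ :=
    (shiftFunctorAdd' (DerivedCategory.Bounded A) (-b) 1 (-b + 1) rfl).app iZ
  let d : iX⟦-b⟧ ⟶ (iZ⟦-b⟧)⟦(1 : ℤ)⟧ := v' ≫ α.hom
  obtain ⟨E, f, g, dist⟩ := distinguished_cocone_triangle₂ d
  have hZ : Amp b b (iZ⟦-b⟧) := amp_single Z (-b) b (by omega)
  have hX : Amp b b (iX⟦-b⟧) := amp_single X (-b) b (by omega)
  have hE : Amp b b E := ⟨GE.obj₂ dist hZ.1 hX.1, LE.obj₂ dist hZ.2 hX.2⟩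
  have hgood := base_good F F' t b
  have nf := hgood.nat _ _ hZ hE f
  have ng := hgood.nat _ _ hE hX g
  rw [That_eq] at nf ng
  have neg : ∀ ψ : (iZ⟦-b⟧)⟦(1 : ℤ)⟧ ⟶ iX⟦-b⟧, ψ = 0 :=
    homZero_of_LE_GE (hZ.2.shift 1 (b - 1) (by omega)) hX.1 (by omega)
  have key := conn' F F' f g d dist (Tm (DEquiv.singleB A) F F' t (-b) Z) (That F F' t E)
    (Tm (DEquiv.singleB A) F F' t (-b) X) nf ng neg
  have hsucc := Tm_succ (DEquiv.singleB A) F F' t (-b) Z
  have hv' : F.map v' ≫ (Tm (DEquiv.singleB A) F F' t (-b + 1) Z).hom =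
      (Tm (DEquiv.singleB A) F F' t (-b) X).hom ≫ F'.map v' := by
    rw [hsucc]
    change F.map v' ≫ F.map α.hom ≫ _ ≫ F'.map α.inv = _
    rw [← F.map_comp_assoc]
    change F.map d ≫ _ ≫ F'.map α.inv = _
    rw [reassoc_of% key, ← F'.map_comp]
    dsimp only [d]
    rw [Category.assoc, α.hom_inv_id, Category.comp_id]
  rw [That_spec F F' t _ X eK, That_spec F F' t _ Z eL]
  unfold conj
  have h1 : v ≫ eL.hom = eK.hom ≫ v' := by simp [v']
  have h2 : v' ≫ eL.inv = eK.inv ≫ v := by simp [v']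
  rw [← F.map_comp_assoc, h1, F.map_comp, Category.assoc, reassoc_of% hv', ← F'.map_comp, h2,
    F'.map_comp]
  simp only [Category.assoc]

end Groth.Agent.Helper10.SibBase
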