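import Mathlib
import Groth.Agent.Lib.Helper10.Postnikov
import Groth.Agent.Lib.Helper10.SibBuilt

set_option autoImplicit false
set_option linter.unusedSectionVars false

universe v₁ u₁ v₂ u₂ v₃ u₃

namespace Groth.Agent.Helper10.SibFF

open CategoryTheory CategoryTheory.Limits CategoryTheory.Pretriangulated
open Groth.Agent.Helper10.Postnikov Groth.Agent.Helper10.SibBuilt

variable {ℬ : Type u₁} [Category.{v₁} ℬ] [Preadditive ℬ] [HasZeroObject ℬ] [HasShift ℬ ℤ]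
  [∀ n : ℤ, (shiftFunctor ℬ n).Additive] [Pretriangulated ℬ]
  {D : Type u₃} [Category.{v₃} D] [Preadditive D] [HasZeroObject D] [HasShift D ℤ]
  [∀ n : ℤ, (shiftFunctor D n).Additive] [Pretriangulated D]
  (G : ℬ ⥤ D) [G.CommShift ℤ] [G.IsTriangulated]

/-- `G` is bijective on `Hom(K, L)` -/
def Bij (K L : ℬ) : Prop := Function.Bijective (G.map : (K ⟶ L) → (G.obj K ⟶ G.obj L))

variable {G}

lemma Bij.of_iso {K L K' L' : ℬ} (h : Bij G K L) (e : K ≅ K') (e' : L ≅ L') : Bij G K' L' := by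
  constructor
  · intro x y hxy
    have : G.map (e.hom ≫ x ≫ e'.inv) = G.map (e.hom ≫ y ≫ e'.inv) := by
      simp only [Functor.map_comp, hxy]
    have h1 := h.1 this
    have h2 : x = e.inv ≫ (e.hom ≫ x ≫ e'.inv) ≫ e'.hom := by simp
    rw [h2, h1]; simp
  · intro z
    obtain ⟨w, hw⟩ := h.2 (G.map e.hom ≫ z ≫ G.map e'.inv)
    refine ⟨e.inv ≫ w ≫ e'.hom, ?_⟩
    simp only [Functor.map_comp, hw, Category.assoc]
    rw [← G.map_comp, e'.inv_hom_id, G.map_id, Category.comp_id, ← G.map_comp_assoc,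
      e.inv_hom_id, G.map_id, Category.id_comp]

lemma map_shift_eq {K L : ℬ} (x : K ⟶ L) (n : ℤ) :
    G.map (x⟦n⟧') = (G.commShiftIso n).hom.app K ≫ (G.map x)⟦n⟧' ≫ (G.commShiftIso n).inv.app L := by
  have := (G.commShiftIso n).hom.naturality x
  simp only [Functor.comp_obj, Functor.comp_map] at this
  rw [← reassoc_of% this, Iso.hom_inv_id_app]
  exact (Category.comp_id _).symm

lemma Bij.shift {K L : ℬ} (h : Bij G K L) (n : ℤ) : Bij G (K⟦n⟧) (L⟦n⟧) := by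
  constructor
  · intro x y hxy
    obtain ⟨x₀, rfl⟩ := (shiftFunctor ℬ n).map_surjective x
    obtain ⟨y₀, rfl⟩ := (shiftFunctor ℬ n).map_surjective y
    rw [map_shift_eq, map_shift_eq] at hxy
    have h1 : (G.map x₀)⟦n⟧' = (G.map y₀)⟦n⟧' := by
      have := congrArg (fun k => (G.commShiftIso n).inv.app K ≫ k ≫ (G.commShiftIso n).hom.app L) hxy
      simpa using this
    rw [h.1 ((shiftFunctor D n).map_injective h1)]
  · intro z
    obtain ⟨w, hw⟩ := (shiftFunctor D n).map_surjective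
      ((G.commShiftIso n).inv.app K ≫ z ≫ (G.commShiftIso n).hom.app L)
    obtain ⟨x₀, rfl⟩ := h.2 w
    refine ⟨x₀⟦n⟧', ?_⟩
    rw [map_shift_eq, hw]
    simp

lemma Bij.of_shift {K L : ℬ} (n : ℤ) (h : Bij G (K⟦n⟧) (L⟦n⟧)) : Bij G K L :=
  (h.shift (-n)).of_iso ((shiftFunctorCompIsoId ℬ n (-n) (by omega)).app K)
    ((shiftFunctorCompIsoId ℬ n (-n) (by omega)).app L)

lemma Bij.of_isZero_left {K L : ℬ} (hK : IsZero K) : Bij G K L := by
  constructor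
  · intro x y _
    exact hK.eq_of_src _ _
  · intro z
    exact ⟨0, (G.map_isZero hK).eq_of_src _ _⟩

lemma Bij.of_isZero_right {K L : ℬ} (hL : IsZero L) : Bij G K L := by
  constructor
  · intro x y _
    exact hL.eq_of_tgt _ _
  · intro z
    exact ⟨0, (G.map_isZero hL).eq_of_tgt _ _⟩


lemma injective_of_zero {K L : ℬ} (h : ∀ x : K ⟶ L, G.map x = 0 → x = 0) :
    Function.Injective (G.map : (K ⟶ L) → (G.obj K ⟶ G.obj L)) := by
  intro x y hxy
  have := h (x - y) (by rw [G.map_sub, hxy, sub_self])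
  exact sub_eq_zero.1 this

/-- contravariant five lemma -/
lemma bij_obj₃_left {T : Triangle ℬ} (hT : T ∈ distTriang ℬ) (L : ℬ)
    (b1 : Bij G (T.obj₁⟦(1 : ℤ)⟧) L) (b2 : Bij G T.obj₂ L)
    (s : Bij G (T.obj₂⟦(1 : ℤ)⟧) L) (i1 : Bij G T.obj₁ L) : Bij G T.obj₃ L := by
  have hGT := G.map_distinguished T hT
  have hTr := rot_of_distTriang _ hT
  have hGTr := G.map_distinguished _ hTr
  constructor
  · apply injective_of_zero
    intro x hx
    have h1 : T.mor₂ ≫ x = 0 := b2.1 (by rw [G.map_comp, hx, comp_zero, G.map_zero])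
    obtain ⟨y, rfl⟩ := Triangle.yoneda_exact₃ T hT x h1
    have h3 : (G.mapTriangle.obj T.rotate).mor₂ ≫ G.map y = 0 := by
      change G.map T.mor₃ ≫ G.map y = 0
      rw [← G.map_comp, hx]
    obtain ⟨z', hz'⟩ := Triangle.yoneda_exact₃ _ hGTr (G.map y) h3
    obtain ⟨w, hw⟩ := s.2 ((G.commShiftIso (1 : ℤ)).hom.app T.obj₂ ≫ z')
    let r : T.obj₁⟦(1 : ℤ)⟧ ⟶ T.obj₂⟦(1 : ℤ)⟧ := T.rotate.mor₃
    have h5 : y = r ≫ w := b1.1 (by
      have e2 : G.map (r ≫ w) = (G.mapTriangle.obj T.rotate).mor₃ ≫ z' := by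
        rw [G.map_comp, hw]
        exact (Category.assoc (G.map r) ((G.commShiftIso (1 : ℤ)).hom.app T.obj₂) z').symm
      exact hz'.trans e2.symm)
    rw [h5]
    have h6 : T.mor₃ ≫ r = 0 := comp_distTriang_mor_zero₂₃ _ hTr
    rw [reassoc_of% h6, zero_comp]
  · intro x'
    obtain ⟨u, hu⟩ := b2.2 (G.map T.mor₂ ≫ x')
    have h2 : T.mor₁ ≫ u = 0 := i1.1 (by
      rw [G.map_zero, G.map_comp, hu, ← G.map_comp_assoc, comp_distTriang_mor_zero₁₂ _ hT,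
        G.map_zero, zero_comp])
    obtain ⟨v, rfl⟩ := Triangle.yoneda_exact₂ T hT u h2
    have h4 : (G.mapTriangle.obj T).mor₂ ≫ (x' - G.map v) = 0 := by
      change G.map T.mor₂ ≫ (x' - G.map v) = 0
      rw [Preadditive.comp_sub, ← G.map_comp, hu, sub_self]
    obtain ⟨y'', hy''⟩ := Triangle.yoneda_exact₃ _ hGT _ h4
    obtain ⟨y, hy⟩ := b1.2 ((G.commShiftIso (1 : ℤ)).hom.app T.obj₁ ≫ y'')
    refine ⟨v + T.mor₃ ≫ y, ?_⟩
    rw [G.map_add, G.map_comp, hy]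
    have e1 : (G.mapTriangle.obj T).mor₃ ≫ y'' =
        G.map T.mor₃ ≫ (G.commShiftIso (1 : ℤ)).hom.app T.obj₁ ≫ y'' := Category.assoc _ _ _
    rw [← e1, ← hy'']
    abel

/-- covariant five lemma -/
lemma bij_obj₃_right {T : Triangle ℬ} (hT : T ∈ distTriang ℬ) (K : ℬ)
    (b2 : Bij G K T.obj₂) (b1 : Bij G K (T.obj₁⟦(1 : ℤ)⟧))
    (s : Bij G K T.obj₁) (i2 : Bij G K (T.obj₂⟦(1 : ℤ)⟧)) : Bij G K T.obj₃ := by
  have hGT := G.map_distinguished T hT
  constructor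
  · apply injective_of_zero
    intro x hx
    have h1 : x ≫ T.mor₃ = 0 := b1.1 (by rw [G.map_comp, hx, zero_comp, G.map_zero])
    obtain ⟨y, rfl⟩ := Triangle.coyoneda_exact₃ T hT x h1
    have h3 : G.map y ≫ (G.mapTriangle.obj T).mor₂ = 0 := by
      change G.map y ≫ G.map T.mor₂ = 0
      rw [← G.map_comp, hx]
    obtain ⟨z', hz'⟩ := Triangle.coyoneda_exact₂ _ hGT (G.map y) h3
    obtain ⟨w, hw⟩ := s.2 z'
    have h5 : y = w ≫ T.mor₁ := b2.1 (by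
      rw [hz', G.map_comp, hw]
      rfl)
    rw [h5, Category.assoc, comp_distTriang_mor_zero₁₂ _ hT, comp_zero]
  · intro x'
    obtain ⟨u, hu⟩ := b1.2 (x' ≫ G.map T.mor₃)
    have h2 : u ≫ T.mor₁⟦(1 : ℤ)⟧' = 0 := i2.1 (by
      rw [G.map_zero, G.map_comp, hu, Category.assoc, ← G.map_comp,
        comp_distTriang_mor_zero₃₁ _ hT, G.map_zero, comp_zero])
    obtain ⟨v, rfl⟩ := Triangle.coyoneda_exact₁ T hT u h2
    have h4 : (x' - G.map v) ≫ (G.mapTriangle.obj T).mor₃ = 0 := by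
      change (x' - G.map v) ≫ G.map T.mor₃ ≫ (G.commShiftIso (1 : ℤ)).hom.app T.obj₁ = 0
      rw [Preadditive.sub_comp, ← G.map_comp_assoc, hu, Category.assoc, sub_self]
    obtain ⟨y', hy'⟩ := Triangle.coyoneda_exact₃ _ hGT _ h4
    obtain ⟨y, hy⟩ := b2.2 y'
    refine ⟨v + y ≫ T.mor₂, ?_⟩
    rw [G.map_add, G.map_comp, hy]
    have e1 : G.map v + y' ≫ G.map T.mor₂ = G.map v + (x' - G.map v) :=
      congrArg (fun k => G.map v + k) hy'.symm
    exact e1.trans (by abel)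


variable (G) in
/-- bijectivity on `Hom(K⟦n⟧, L)` for all `n` -/
def PL (L K : ℬ) : Prop := ∀ n : ℤ, Bij G (K⟦n⟧) L

variable (G) in
/-- bijectivity on `Hom(K, L⟦n⟧)` for all `n` -/
def PR (K L : ℬ) : Prop := ∀ n : ℤ, Bij G K (L⟦n⟧)

lemma PL.of_iso {L K K' : ℬ} (h : PL G L K) (e : K ≅ K') : PL G L K' :=
  fun n => (h n).of_iso ((shiftFunctor ℬ n).mapIso e) (Iso.refl _)

lemma PR.of_iso {K L L' : ℬ} (h : PR G K L) (e : L ≅ L') : PR G K L' :=
  fun n => (h n).of_iso (Iso.refl _) ((shiftFunctor ℬ n).mapIso e)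

lemma PL.shift {L K : ℬ} (h : PL G L K) (a : ℤ) : PL G L (K⟦a⟧) :=
  fun n => (h (a + n)).of_iso ((shiftFunctorAdd' ℬ a n (a + n) rfl).app K) (Iso.refl _)

lemma PR.shift {K L : ℬ} (h : PR G K L) (a : ℤ) : PR G K (L⟦a⟧) :=
  fun n => (h (a + n)).of_iso (Iso.refl _) ((shiftFunctorAdd' ℬ a n (a + n) rfl).app L)

lemma PL.of_shift {L K : ℬ} (a : ℤ) (h : PL G L (K⟦a⟧)) : PL G L K :=
  (h.shift (-a)).of_iso ((shiftFunctorCompIsoId ℬ a (-a) (by omega)).app K)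

lemma PR.of_shift {K L : ℬ} (a : ℤ) (h : PR G K (L⟦a⟧)) : PR G K L :=
  (h.shift (-a)).of_iso ((shiftFunctorCompIsoId ℬ a (-a) (by omega)).app L)

lemma PL.obj₃ {T : Triangle ℬ} (hT : T ∈ distTriang ℬ) {L : ℬ} (h1 : PL G L T.obj₁)
    (h2 : PL G L T.obj₂) : PL G L T.obj₃ := by
  intro n
  have hTn := Triangle.shift_distinguished T hT n
  exact bij_obj₃_left hTn L (h1.shift n 1) (h2 n) (h2.shift n 1) (h1 n)

lemma PR.obj₃ {T : Triangle ℬ} (hT : T ∈ distTriang ℬ) {K : ℬ} (h1 : PR G K T.obj₁)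
    (h2 : PR G K T.obj₂) : PR G K T.obj₃ := by
  intro n
  have hTn := Triangle.shift_distinguished T hT n
  exact bij_obj₃_right hTn K (h2 n) (h1.shift n 1) (h1 n) (h2.shift n 1)

lemma PL.obj₁ {T : Triangle ℬ} (hT : T ∈ distTriang ℬ) {L : ℬ} (h2 : PL G L T.obj₂)
    (h3 : PL G L T.obj₃) : PL G L T.obj₁ :=
  PL.of_shift 1 (PL.obj₃ (rot_of_distTriang _ hT) h2 h3)

lemma PR.obj₁ {T : Triangle ℬ} (hT : T ∈ distTriang ℬ) {K : ℬ} (h2 : PR G K T.obj₂)
    (h3 : PR G K T.obj₃) : PR G K T.obj₁ :=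
  PR.of_shift 1 (PR.obj₃ (rot_of_distTriang _ hT) h2 h3)

section devissage

variable {A : Type u₂} [Category.{v₂} A] (i : A ⥤ ℬ)

lemma PL_of_built (L : ℬ) (hs : ∀ (X : A) (a : ℤ), Bij G ((i.obj X)⟦a⟧) L) (m : ℤ) (K : ℬ)
    (hK : Built i m K) : PL G L K := by
  induction hK with
  | single K X e =>
    exact PL.of_iso (fun n => (hs X (m + n)).of_iso
      ((shiftFunctorAdd' ℬ m n (m + n) rfl).app (i.obj X)) (Iso.refl _)) e.symm
  | step K L' X p δ r dist hL ih =>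
    exact PL.obj₁ dist (fun n => (hs X (m + n)).of_iso
      ((shiftFunctorAdd' ℬ m n (m + n) rfl).app (i.obj X)) (Iso.refl _)) ih

lemma PR_of_built (K : ℬ) (hs : ∀ (Y : A) (b : ℤ), Bij G K ((i.obj Y)⟦b⟧)) (m : ℤ) (L : ℬ)
    (hL : Built i m L) : PR G K L := by
  induction hL with
  | single L Y e =>
    exact PR.of_iso (fun n => (hs Y (m + n)).of_iso (Iso.refl _)
      ((shiftFunctorAdd' ℬ m n (m + n) rfl).app (i.obj Y))) e.symm
  | step L L' Y p δ r dist hL ih =>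
    exact PR.obj₁ dist (fun n => (hs Y (m + n)).of_iso (Iso.refl _)
      ((shiftFunctorAdd' ℬ m n (m + n) rfl).app (i.obj Y))) ih

theorem bij_of_singles (hgen : ∀ K : ℬ, IsZero K ∨ ∃ m : ℤ, Built i m K)
    (hs : ∀ (X Y : A) (a b : ℤ), Bij G ((i.obj X)⟦a⟧) ((i.obj Y)⟦b⟧)) (K L : ℬ) : Bij G K L := by
  have step2 : ∀ (K : ℬ) (Y : A) (b : ℤ), Bij G K ((i.obj Y)⟦b⟧) := by
    intro K Y b
    rcases hgen K with hz | ⟨m, hm⟩
    · exact Bij.of_isZero_left hz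
    · exact (PL_of_built i _ (fun X a => hs X Y a b) m K hm 0).of_iso
        ((shiftFunctorZero ℬ ℤ).app K) (Iso.refl _)
  rcases hgen L with hz | ⟨m, hm⟩
  · exact Bij.of_isZero_right hz
  · exact (PR_of_built i K (fun Y b => step2 K Y b) m L hm 0).of_iso (Iso.refl _)
      ((shiftFunctorZero ℬ ℤ).app L)

theorem full_faithful_of_singles (hgen : ∀ K : ℬ, IsZero K ∨ ∃ m : ℤ, Built i m K)
    (hs : ∀ (X Y : A) (a b : ℤ), Bij G ((i.obj X)⟦a⟧) ((i.obj Y)⟦b⟧)) : G.Full ∧ G.Faithful :=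
  ⟨⟨fun {K L} f => (bij_of_singles i hgen hs K L).2 f⟩,
    ⟨fun {K L} _ _ h => (bij_of_singles i hgen hs K L).1 h⟩⟩

end devissage

end Groth.Agent.Helper10.SibFF
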