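import Mathlib
import Groth.Agent.Lib.Helper10.Postnikov
import Groth.Agent.Lib.Helper10.SibBuilt
import Groth.Agent.Lib.Helper10.SibFF

set_option autoImplicit false
set_option linter.unusedSectionVars false

universe v₁ u₁ v₂ u₂ v₃ u₃

namespace Groth.Agent.Helper10.SibGood

open CategoryTheory CategoryTheory.Limits CategoryTheory.Pretriangulated
open Groth.Agent.Helper10.Postnikov Groth.Agent.Helper10.SibBuilt Groth.Agent.Helper10.SibFF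

variable {ℬ : Type u₁} [Category.{v₁} ℬ] [Preadditive ℬ] [HasZeroObject ℬ] [HasShift ℬ ℤ]
  [∀ n : ℤ, (shiftFunctor ℬ n).Additive] [Pretriangulated ℬ]
  {A : Type u₂} [Category.{v₂} A] (i : A ⥤ ℬ)
  {D : Type u₃} [Category.{v₃} D] [Preadditive D] [HasZeroObject D] [HasShift D ℤ]
  [∀ n : ℤ, (shiftFunctor D n).Additive] [Pretriangulated D]
  (F F' : ℬ ⥤ D) [F.CommShift ℤ] [F.IsTriangulated] [F'.CommShift ℤ] [F'.IsTriangulated]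
  (t : i ⋙ F ≅ i ⋙ F')

/-- the connecting morphism of a "short exact" triangle is compatible with `t` -/
lemma conn [F.Full] {N P X : A} (f : N ⟶ P) (g : P ⟶ X) (d : i.obj X ⟶ (i.obj N)⟦(1 : ℤ)⟧)
    (dist : Triangle.mk (i.map f) (i.map g) d ∈ distTriang ℬ)
    (neg : ∀ ψ : (i.obj N)⟦(1 : ℤ)⟧ ⟶ i.obj X, ψ = 0) :
    F.map d ≫ (Tm i F F' t 1 N).hom = (t.app X).hom ≫ F'.map d := by
  have hT₁ := F.map_distinguished _ dist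
  have hT₂ := F'.map_distinguished _ dist
  let tN : F.obj (i.obj N) ⟶ F'.obj (i.obj N) := t.hom.app N
  let tP : F.obj (i.obj P) ⟶ F'.obj (i.obj P) := t.hom.app P
  let tX : F.obj (i.obj X) ⟶ F'.obj (i.obj X) := t.hom.app X
  let tXi : F'.obj (i.obj X) ⟶ F.obj (i.obj X) := t.inv.app X
  have htX : tXi ≫ tX = 𝟙 _ := t.inv_hom_id_app X
  have nf : F.map (i.map f) ≫ tP = tN ≫ F'.map (i.map f) := t.hom.naturality f
  have ng : F.map (i.map g) ≫ tX = tP ≫ F'.map (i.map g) := t.hom.naturality g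
  obtain ⟨c, hc₁, hc₂⟩ : ∃ c : F.obj (i.obj X) ⟶ F'.obj (i.obj X),
      F.map (i.map g) ≫ c = tP ≫ F'.map (i.map g) ∧
      (F.map d ≫ (F.commShiftIso (1 : ℤ)).hom.app (i.obj N)) ≫ tN⟦(1 : ℤ)⟧' =
        c ≫ (F'.map d ≫ (F'.commShiftIso (1 : ℤ)).hom.app (i.obj N)) :=
    complete_distinguished_triangle_morphism _ _ hT₁ hT₂ tN tP nf
  have h0 : (F.mapTriangle.obj (Triangle.mk (i.map f) (i.map g) d)).mor₂ ≫ (c - tX) = 0 := by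
    change F.map (i.map g) ≫ (c - tX) = 0
    rw [Preadditive.comp_sub, hc₁, ng, sub_self]
  obtain ⟨y, hy⟩ : ∃ y : (F.obj (i.obj N))⟦(1 : ℤ)⟧ ⟶ F'.obj (i.obj X),
      c - tX = (F.map d ≫ (F.commShiftIso (1 : ℤ)).hom.app (i.obj N)) ≫ y :=
    Triangle.yoneda_exact₃ _ hT₁ (c - tX) h0
  have hy0 : y = 0 := by
    obtain ⟨ψ₀, hψ₀⟩ := F.map_surjective ((F.commShiftIso (1 : ℤ)).hom.app _ ≫ y ≫ tXi)
    rw [neg ψ₀, F.map_zero] at hψ₀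
    have h3 : (F.commShiftIso (1 : ℤ)).inv.app _ ≫
        ((F.commShiftIso (1 : ℤ)).hom.app _ ≫ y ≫ tXi) ≫ tX = y := by
      simp only [Category.assoc, htX, Category.comp_id, Iso.inv_hom_id_app_assoc]
    rw [← h3, ← hψ₀, zero_comp, comp_zero]
  have hc : c = tX := by
    rw [hy0, comp_zero] at hy
    exact sub_eq_zero.1 hy
  rw [hc] at hc₂
  change F.map d ≫ (F.commShiftIso (1 : ℤ)).hom.app (i.obj N) ≫ tN⟦(1 : ℤ)⟧' ≫
    (F'.commShiftIso (1 : ℤ)).inv.app (i.obj N) = tX ≫ F'.map d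
  rw [← Category.assoc, ← Category.assoc, hc₂]
  simp


/-- `t` extends compatibly to `Hom(iX, iY⟦q⟧)` -/
def Good (q : ℤ) : Prop :=
  ∀ Y : A, ∃ θ : F.obj ((i.obj Y)⟦q⟧) ≅ F'.obj ((i.obj Y)⟦q⟧),
    ∀ (X : A) (ξ : i.obj X ⟶ (i.obj Y)⟦q⟧), F.map ξ ≫ θ.hom = (t.app X).hom ≫ F'.map ξ

lemma good_of_vanish (q : ℤ) (hv : ∀ (X Y : A) (ξ : i.obj X ⟶ (i.obj Y)⟦q⟧), ξ = 0) :
    Good i F F' t q := by
  intro Y
  refine ⟨Tm i F F' t q Y, ?_⟩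
  intro X ξ
  rw [hv X Y ξ, F.map_zero, F'.map_zero, zero_comp, comp_zero]

lemma good_zero [i.Full] : Good i F F' t 0 := by
  intro Y
  let z : (i.obj Y)⟦(0 : ℤ)⟧ ≅ i.obj Y := (shiftFunctorZero ℬ ℤ).app (i.obj Y)
  refine ⟨F.mapIso z ≪≫ t.app Y ≪≫ (F'.mapIso z).symm, ?_⟩
  intro X ξ
  obtain ⟨e, he⟩ := i.map_surjective (ξ ≫ z.hom)
  have hξ : ξ = i.map e ≫ z.inv := by rw [he]; simp
  have nat : F.map (i.map e) ≫ t.hom.app Y = t.hom.app X ≫ F'.map (i.map e) := t.hom.naturality e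
  simp only [Iso.trans_hom, Functor.mapIso_hom, Iso.symm_hom, Functor.mapIso_inv, Iso.app_hom]
  rw [hξ, F'.map_comp, ← F.map_comp_assoc, Category.assoc, z.inv_hom_id, Category.comp_id,
    reassoc_of% nat]

variable (neg : ∀ (N X : A) (ψ : (i.obj N)⟦(1 : ℤ)⟧ ⟶ i.obj X), ψ = 0)
  (eff : ∀ (X Y : A) (q : ℤ), 0 ≤ q → ∀ ξ : i.obj X ⟶ ((i.obj Y)⟦q⟧)⟦(1 : ℤ)⟧,
    ∃ (N P : A) (f : N ⟶ P) (g : P ⟶ X) (d : i.obj X ⟶ (i.obj N)⟦(1 : ℤ)⟧),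
      Triangle.mk (i.map f) (i.map g) d ∈ distTriang ℬ ∧ i.map g ≫ ξ = 0)
include neg eff

lemma good_succ [F.Full] (q : ℤ) (hq : 0 ≤ q) (hG : Good i F F' t q) : Good i F F' t (q + 1) := by
  intro Y
  obtain ⟨θq, hθq⟩ := hG Y
  let Z : ℬ := (i.obj Y)⟦q⟧
  let Θ : F.obj (Z⟦(1 : ℤ)⟧) ≅ F'.obj (Z⟦(1 : ℤ)⟧) :=
    (F.commShiftIso (1 : ℤ)).app Z ≪≫ (shiftFunctor D (1 : ℤ)).mapIso θq ≪≫
      ((F'.commShiftIso (1 : ℤ)).app Z).symm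
  let α : Z⟦(1 : ℤ)⟧ ≅ (i.obj Y)⟦q + 1⟧ := ((shiftFunctorAdd' ℬ q 1 (q + 1) rfl).app (i.obj Y)).symm
  have key : ∀ (X : A) (ξ₁ : i.obj X ⟶ Z⟦(1 : ℤ)⟧),
      F.map ξ₁ ≫ Θ.hom = (t.app X).hom ≫ F'.map ξ₁ := by
    intro X ξ₁
    obtain ⟨N, P, f, g, d, dist, hkill⟩ := eff X Y q hq ξ₁
    obtain ⟨ζ', hζ'⟩ : ∃ ζ' : (i.obj N)⟦(1 : ℤ)⟧ ⟶ Z⟦(1 : ℤ)⟧, ξ₁ = d ≫ ζ' :=
      Triangle.yoneda_exact₃ _ dist ξ₁ hkill
    obtain ⟨ζ, rfl⟩ := (shiftFunctor ℬ (1 : ℤ)).map_surjective ζ'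
    have hc := conn i F F' t f g d dist (neg N X)
    have hζ : F.map ζ ≫ θq.hom = (t.app N).hom ≫ F'.map ζ := hθq N ζ
    have n1 : F.map (ζ⟦(1 : ℤ)⟧') ≫ (F.commShiftIso (1 : ℤ)).hom.app Z =
        (F.commShiftIso (1 : ℤ)).hom.app (i.obj N) ≫ (F.map ζ)⟦(1 : ℤ)⟧' :=
      (F.commShiftIso (1 : ℤ)).hom.naturality ζ
    have n2 : (F'.map ζ)⟦(1 : ℤ)⟧' ≫ (F'.commShiftIso (1 : ℤ)).inv.app Z =
        (F'.commShiftIso (1 : ℤ)).inv.app (i.obj N) ≫ F'.map (ζ⟦(1 : ℤ)⟧') :=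
      (F'.commShiftIso (1 : ℤ)).inv.naturality ζ
    have hTm : (Tm i F F' t 1 N).hom = (F.commShiftIso (1 : ℤ)).hom.app (i.obj N) ≫
        ((t.app N).hom)⟦(1 : ℤ)⟧' ≫ (F'.commShiftIso (1 : ℤ)).inv.app (i.obj N) := rfl
    rw [hζ', F.map_comp, F'.map_comp, ← reassoc_of% hc, hTm]
    change (F.map d ≫ F.map (ζ⟦(1 : ℤ)⟧')) ≫ (F.commShiftIso (1 : ℤ)).hom.app Z ≫
      (θq.hom)⟦(1 : ℤ)⟧' ≫ (F'.commShiftIso (1 : ℤ)).inv.app Z = _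
    rw [Category.assoc, reassoc_of% n1, ← Functor.map_comp_assoc, hζ, Functor.map_comp_assoc, n2]
    simp only [Category.assoc]
  refine ⟨(F.mapIso α).symm ≪≫ Θ ≪≫ F'.mapIso α, ?_⟩
  intro X ξ
  have h1 := key X (ξ ≫ α.inv)
  simp only [Iso.trans_hom, Iso.symm_hom, Functor.mapIso_inv, Functor.mapIso_hom]
  rw [← F.map_comp_assoc, reassoc_of% h1, ← F'.map_comp, Category.assoc, α.inv_hom_id,
    Category.comp_id]

lemma good_nat [i.Full] [F.Full] (n : ℕ) : Good i F F' t (n : ℤ) := by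
  induction n with
  | zero => exact good_zero i F F' t
  | succ n ih =>
    have := good_succ i F F' t neg eff (n : ℤ) (by omega) ih
    simpa using this


section final

omit neg eff
include t

lemma bij_of_good [F.Full] [F.Faithful] (q : ℤ) (hG : Good i F F' t q) (X Y : A) :
    Bij F' (i.obj X) ((i.obj Y)⟦q⟧) := by
  obtain ⟨θ, hθ⟩ := hG Y
  constructor
  · intro ξ ξ' h
    have h1 := hθ X ξ
    have h2 := hθ X ξ'
    rw [h] at h1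
    have h3 : F.map ξ ≫ θ.hom = F.map ξ' ≫ θ.hom := h1.trans h2.symm
    exact F.map_injective ((cancel_mono θ.hom).1 h3)
  · intro x'
    obtain ⟨ξ, hξ⟩ := F.map_surjective ((t.app X).hom ≫ x' ≫ θ.inv)
    refine ⟨ξ, ?_⟩
    have h1 := hθ X ξ
    rw [hξ] at h1
    simp only [Category.assoc, Iso.inv_hom_id, Category.comp_id] at h1
    exact ((cancel_epi (t.app X).hom).1 h1).symm

theorem bij_singles [i.Full] [F.Full] [F.Faithful]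
    (negAll : ∀ (X Y : A) (q : ℤ), q < 0 → ∀ ξ : i.obj X ⟶ (i.obj Y)⟦q⟧, ξ = 0)
    (eff : ∀ (X Y : A) (q : ℤ), 0 ≤ q → ∀ ξ : i.obj X ⟶ ((i.obj Y)⟦q⟧)⟦(1 : ℤ)⟧,
      ∃ (N P : A) (f : N ⟶ P) (g : P ⟶ X) (d : i.obj X ⟶ (i.obj N)⟦(1 : ℤ)⟧),
        Triangle.mk (i.map f) (i.map g) d ∈ distTriang ℬ ∧ i.map g ≫ ξ = 0)
    (X Y : A) (a b : ℤ) : Bij F' ((i.obj X)⟦a⟧) ((i.obj Y)⟦b⟧) := by
  have neg : ∀ (N X : A) (ψ : (i.obj N)⟦(1 : ℤ)⟧ ⟶ i.obj X), ψ = 0 := by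
    intro N X
    have h0 : HomZero (i.obj N) ((i.obj X)⟦(-1 : ℤ)⟧) := negAll N X (-1) (by omega)
    exact (h0.change_left 1 0 (by omega)).of_zero_right
  have hgood : ∀ q : ℤ, Good i F F' t q := by
    intro q
    by_cases hq : 0 ≤ q
    · obtain ⟨n, rfl⟩ := Int.eq_ofNat_of_zero_le hq
      exact good_nat i F F' t neg eff n
    · exact good_of_vanish i F F' t q (fun X Y ξ => negAll X Y q (by omega) ξ)
  have h1 : Bij F' (i.obj X) ((i.obj Y)⟦b - a⟧) := bij_of_good i F F' t (b - a) (hgood _) X Y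
  exact (h1.shift a).of_iso (Iso.refl _)
    ((shiftFunctorAdd' ℬ (b - a) a b (by omega)).app (i.obj Y)).symm

end final

end Groth.Agent.Helper10.SibGood


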