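import Mathlib
import Groth.Prelude.Def_W4stkfunctorsequivSib
import Groth.Agent.Lib.Helper10.Postnikov
import Groth.Agent.Lib.Helper10.SibBuilt
import Groth.Agent.Lib.Helper10.SibEff
import Groth.Agent.Lib.Helper10.SibAmp
import Groth.Agent.Lib.Helper10.SibPres
import Groth.Agent.Lib.Helper10.SibExtA
import Groth.Agent.Lib.Helper10.SibCoh
import Groth.Agent.Lib.Helper10.SibBase

set_option autoImplicit false
set_option linter.unusedSectionVars false

universe w v u v' u'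

namespace Groth.Agent.Helper10.SibTower

open CategoryTheory CategoryTheory.Limits CategoryTheory.Pretriangulated DerivedCategory
open Groth.Agent.Helper10.Postnikov Groth.Agent.Helper10.SibEff Groth.Agent.Helper10.SibAmp
open Groth.Agent.Helper10.SibPres Groth.Agent.Helper10.SibExtA Groth.Agent.Helper10.SibBuilt
open Groth.Agent.Helper10.SibCoh Groth.Agent.Helper10.SibBase
open ZeroObject

variable {A : Type u} [Category.{v} A] [Abelian A] [HasDerivedCategory.{w} A]
  (hneg : ∀ X : A, ∃ (N : A) (p : N ⟶ X), Epi p ∧ ∀ f : X ⟶ N, f = 0)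
  {D : Type u'} [Category.{v'} D] [Preadditive D] [HasZeroObject D] [HasShift D ℤ]
  [∀ n : ℤ, (shiftFunctor D n).Additive] [Pretriangulated D]
  (F F' : DerivedCategory.Bounded A ⥤ D) [F.CommShift ℤ] [F.IsTriangulated]
  [F'.CommShift ℤ] [F'.IsTriangulated]
  (t : DEquiv.singleB A ⋙ F ≅ DEquiv.singleB A ⋙ F')

lemma amp_mono {a b a' b' : ℤ} {K : DerivedCategory.Bounded A} (h : Amp a b K) (ha : a' ≤ a)
    (hb : b ≤ b') : Amp a' b' K := ⟨h.1.mono ha, h.2.mono hb⟩

lemma homZero_F [F.Full] {K S : DerivedCategory.Bounded A} (h : HomZero K S)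
    (θ : F.obj S ≅ F'.obj S) : HomZero (F.obj K) (F'.obj S) := by
  intro ψ
  obtain ⟨ψ₀, hψ₀⟩ := F.map_surjective (ψ ≫ θ.inv)
  rw [h ψ₀, F.map_zero] at hψ₀
  have : ψ = (ψ ≫ θ.inv) ≫ θ.hom := by simp
  rw [this, ← hψ₀, zero_comp]

include hneg t in
/-- existence of presentations with prescribed vanishing -/
lemma exists_pres' [F.Full] (a b₁ b : ℤ) (hb : b = b₁ + 1) (hab : a ≤ b₁)
    (K : DerivedCategory.Bounded A) (hK : Amp a b K)
    (K₂ : DerivedCategory.Bounded A) (hK₂ : LE K₂ b)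
    (M₁ M₂ : DerivedCategory.Bounded A) (hM₁ : LE M₁ b₁) (hM₂ : LE M₂ b₁)
    (g₁ : K ⟶ M₁) (g₂ : K ⟶ M₂) :
    ∃ π : Pres F F' (Amp a b₁) (Amp b b) K,
      HomZero (F.obj K₂) (F'.obj π.S) ∧ π.u ≫ g₁ = 0 ∧ π.u ≫ g₂ = 0 := by
  obtain ⟨N, L, u, v, w, dist, hLa, hLb, h0, h0', hg₁, hg₂⟩ :=
    exists_pres hneg a b (by omega) K hK.1 hK.2 K₂ hK₂ M₁ M₂ (hM₁.mono (by omega))
      (hM₂.mono (by omega)) g₁ g₂
  have hS : Amp b b (((DEquiv.singleB A).obj N)⟦-b⟧) := amp_single N (-b) b (by omega)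
  refine ⟨{ S := ((DEquiv.singleB A).obj N)⟦-b⟧
            L := L
            u := u
            v := v
            w := w
            dist := dist
            hL := ⟨hLa, hLb.mono (by omega)⟩
            hS1 := ⟨(hS.1.shift 1 b₁ (by omega)).mono hab, hS.2.shift 1 b₁ (by omega)⟩
            hS := hS
            hom0 := homZero_F F F' h0 (Tm (DEquiv.singleB A) F F' t (-b) N) }, ?_, hg₁, hg₂⟩
  exact homZero_F F F' h0' (Tm (DEquiv.singleB A) F F' t (-b) N)


/-- width at most `n` -/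
def Wid (n : ℕ) (K : DerivedCategory.Bounded A) : Prop := ∃ a b : ℤ, b = a + n ∧ Amp a b K

lemma Wid.succ {n : ℕ} {K : DerivedCategory.Bounded A} (h : Wid n K) : Wid (n + 1) K := by
  obtain ⟨a, b, hb, hK⟩ := h
  exact ⟨a, b + 1, by push_cast; omega, amp_mono hK le_rfl (by omega)⟩

lemma Wid.mono {n m : ℕ} {K : DerivedCategory.Bounded A} (h : Wid n K) (hnm : n ≤ m) : Wid m K := by
  induction m, hnm using Nat.le_induction with
  | base => exact h
  | succ m _ ih => exact ih.succ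

/-- a family which is a natural isomorphism on every window of width `n` -/
def GoodN (n : ℕ) (c : ∀ K : DerivedCategory.Bounded A, F.obj K ⟶ F'.obj K) : Prop :=
  ∀ a b : ℤ, b = a + n → Good F F' (Amp a b) c

/-- compatibility of a family on objects of width `≤ n` with all presentations in windows of
width `n + 1` -/
def HC (n : ℕ) (c : ∀ K : DerivedCategory.Bounded A, F.obj K ⟶ F'.obj K) : Prop :=
  ∀ (a b₁ b : ℤ), b₁ = a + n → b = b₁ + 1 → ∀ K : DerivedCategory.Bounded A, Amp a b K → Wid n K →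
    ∀ π : Pres F F' (Amp a b₁) (Amp b b) K, SibExtA.Char c π (c K)

variable {F F'}

lemma hc_of_pos {n : ℕ} (hn : 1 ≤ n) {c : ∀ K : DerivedCategory.Bounded A, F.obj K ⟶ F'.obj K}
    (hc : GoodN F F' n c) : HC F F' n c := by
  intro a b₁ b hb₁ hb K hK hW π
  obtain ⟨a', b', hb', hK'⟩ := hW
  unfold SibExtA.Char
  by_cases ha : a' ≤ a
  · have hK₁ : Amp a b₁ K := ⟨hK.1, hK'.2.mono (by omega)⟩
    exact (hc a b₁ hb₁).nat _ _ hK₁ π.hL π.v
  · have hK₁ : Amp (a + 1) b K := ⟨hK'.1.mono (by omega), hK.2⟩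
    have hrot := rot_of_distTriang _ π.dist
    have hL₁ : Amp (a + 1) b π.L := by
      refine ⟨GE.obj₂ hrot hK₁.1 ?_, π.hL.2.mono (by omega)⟩
      exact (π.hS.1.shift 1 b₁ (by omega)).mono (by omega)
    exact (hc (a + 1) b (by omega)).nat _ _ hK₁ hL₁ π.v

include t in
lemma hc_zero [F.Full] : HC F F' 0 (That F F' t) := by
  intro a b₁ b hb₁ hb K hK hW π
  obtain ⟨a', b', hb', hK'⟩ := hW
  have e1 : b₁ = a := by simpa using hb₁
  have e2 : b' = a' := by simpa using hb'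
  unfold SibExtA.Char
  by_cases ha : a' ≤ a
  · have hK₁ : Amp b₁ b₁ K := ⟨hK.1.mono (by omega), hK'.2.mono (by omega)⟩
    exact (base_good F F' t b₁).nat _ _ hK₁ ⟨π.hL.1.mono (by omega), π.hL.2⟩ π.v
  · have hK₁ : Amp b b K := ⟨hK'.1.mono (by omega), hK.2⟩
    exact ext1 F F' t (by omega) hK₁ ⟨π.hL.1.mono (by omega), π.hL.2⟩ π.v

variable (F F')

include hneg t in
lemma E3' [F.Full] (a b₁ b : ℤ) (hb : b = b₁ + 1) (hab : a ≤ b₁)
    (K : DerivedCategory.Bounded A) (hK : Amp a b K)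
    (π₁ π₂ : Pres F F' (Amp a b₁) (Amp b b) K) :
    ∃ π₃ : Pres F F' (Amp a b₁) (Amp b b) K, π₃.u ≫ π₁.v = 0 ∧ π₃.u ≫ π₂.v = 0 := by
  obtain ⟨π₃, _, h1, h2⟩ := exists_pres' hneg F F' t a b₁ b hb hab K hK K hK.2 π₁.L π₂.L
    π₁.hL.2 π₂.hL.2 π₁.v π₂.v
  exact ⟨π₃, h1, h2⟩

include hneg t in
lemma E2' [F.Full] (a b₁ b : ℤ) (hb : b = b₁ + 1) (hab : a ≤ b₁)
    (K K' : DerivedCategory.Bounded A) (hK : Amp a b K) (hK' : Amp a b K') (f : K ⟶ K') :
    ∃ (π' : Pres F F' (Amp a b₁) (Amp b b) K') (π : Pres F F' (Amp a b₁) (Amp b b) K),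
      HomZero (F.obj K) (F'.obj π'.S) ∧ π.u ≫ f ≫ π'.v = 0 := by
  have hz : LE (0 : DerivedCategory.Bounded A) b₁ := LE_of_isZero (isZero_zero _) b₁
  obtain ⟨π', h0, -, -⟩ := exists_pres' hneg F F' t a b₁ b hb hab K' hK' K hK.2 0 0 hz hz 0 0
  obtain ⟨π, -, h1, -⟩ := exists_pres' hneg F F' t a b₁ b hb hab K hK K hK.2 π'.L π'.L
    π'.hL.2 π'.hL.2 (f ≫ π'.v) (f ≫ π'.v)
  exact ⟨π', π, h0, h1⟩


/-- the canonical morphism at an object of a window of width `n + 1` -/
def IsCanon (n : ℕ) (c : ∀ K : DerivedCategory.Bounded A, F.obj K ⟶ F'.obj K)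
    (K : DerivedCategory.Bounded A) (γ : F.obj K ⟶ F'.obj K) : Prop :=
  ∃ (a b₁ b : ℤ), b₁ = a + n ∧ b = b₁ + 1 ∧ Amp a b K ∧ IsIso γ ∧
    ∀ π : Pres F F' (Amp a b₁) (Amp b b) K, SibExtA.Char c π γ

include hneg t in
lemma exists_isCanon [F.Full] (n : ℕ) (c : ∀ K : DerivedCategory.Bounded A, F.obj K ⟶ F'.obj K)
    (hc : GoodN F F' n c) (K : DerivedCategory.Bounded A) (a b₁ b : ℤ) (hb₁ : b₁ = a + n)
    (hb : b = b₁ + 1) (hK : Amp a b K) : ∃ γ, IsCanon F F' n c K γ := by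
  have hz : LE (0 : DerivedCategory.Bounded A) b₁ := LE_of_isZero (isZero_zero _) b₁
  obtain ⟨π₀, -, -, -⟩ := exists_pres' hneg F F' t a b₁ b hb (by omega) K hK K hK.2 0 0 hz hz 0 0
  obtain ⟨γ, hγi, hγ⟩ := exists_char (hc a b₁ hb₁) π₀
  exact ⟨γ, a, b₁, b, hb₁, hb, hK, hγi, fun π => char_of_char (hc a b₁ hb₁)
    (E3' hneg F F' t a b₁ b hb (by omega) K hK) π₀ π hγ⟩

lemma window_unique {n : ℕ} {K : DerivedCategory.Bounded A} (hW : ¬ Wid n K) {a b₁ b a' b₁' b' : ℤ}
    (hb₁ : b₁ = a + n) (hb : b = b₁ + 1) (hK : Amp a b K)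
    (hb₁' : b₁' = a' + n) (hb' : b' = b₁' + 1) (hK' : Amp a' b' K) : a = a' := by
  by_contra hne
  apply hW
  rcases lt_or_gt_of_ne hne with hlt | hlt
  · exact ⟨a', b₁', hb₁', hK'.1, hK.2.mono (by omega)⟩
  · exact ⟨a, b₁, hb₁, hK.1, hK'.2.mono (by omega)⟩

include hneg t in
theorem step [F.Full] (n : ℕ) (c : ∀ K : DerivedCategory.Bounded A, F.obj K ⟶ F'.obj K)
    (hc : GoodN F F' n c) (hC : HC F F' n c) :
    ∃ c' : ∀ K : DerivedCategory.Bounded A, F.obj K ⟶ F'.obj K,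
      GoodN F F' (n + 1) c' ∧ ∀ K, Wid n K → c' K = c K := by
  classical
  let c' : ∀ K : DerivedCategory.Bounded A, F.obj K ⟶ F'.obj K := fun K =>
    if Wid n K then c K else
      if h : ∃ γ, IsCanon F F' n c K γ then h.choose else 0
  have hc'W : ∀ K, Wid n K → c' K = c K := by
    intro K hW
    dsimp only [c']
    rw [if_pos hW]
  have hc'N : ∀ K, ¬ Wid n K → ∀ (a b₁ b : ℤ), b₁ = a + n → b = b₁ + 1 → Amp a b K →
      IsIso (c' K) ∧ ∀ π : Pres F F' (Amp a b₁) (Amp b b) K, SibExtA.Char c π (c' K) := by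
    intro K hW a b₁ b hb₁ hb hK
    have h := exists_isCanon hneg F F' t n c hc K a b₁ b hb₁ hb hK
    have hc'K : c' K = h.choose := by
      dsimp only [c']
      rw [if_neg hW, dif_pos h]
    obtain ⟨a', b₁', b', hb₁', hb', hK', hiso, hchar⟩ := h.choose_spec
    obtain rfl : a = a' := window_unique hW hb₁ hb hK hb₁' hb' hK'
    obtain rfl : b₁ = b₁' := by omega
    obtain rfl : b = b' := by omega
    rw [hc'K]
    exact ⟨hiso, hchar⟩
  refine ⟨c', ?_, hc'W⟩
  intro a b hb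
  have hb₁ : a + (n : ℤ) = a + n := rfl
  have hb' : b = (a + (n : ℤ)) + 1 := by push_cast at hb; omega
  refine good_of_char (P := Amp a (a + n)) (Q := Amp b b) (hc a (a + n) rfl) c' ?_ ?_ ?_
  · intro K hK
    by_cases hW : Wid n K
    · rw [hc'W K hW]
      obtain ⟨a', b', hb'', hK'⟩ := hW
      exact (hc a' b' hb'').iso K hK'
    · exact (hc'N K hW a (a + n) b rfl hb' hK).1
  · intro K hK π
    by_cases hW : Wid n K
    · rw [hc'W K hW]
      exact hC a (a + n) b rfl hb' K hK hW π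
    · exact (hc'N K hW a (a + n) b rfl hb' hK).2 π
  · intro K K' hK hK' f
    exact E2' hneg F F' t a (a + n) b hb' (by omega) K K' hK hK' f


section tower

variable [F.Full]

/-- the tower of families -/
noncomputable def fam : ℕ → (∀ K : DerivedCategory.Bounded A, F.obj K ⟶ F'.obj K)
  | 0 => That F F' t
  | n + 1 => by
      classical
      exact if h : GoodN F F' n (fam n) ∧ HC F F' n (fam n) then
        (step hneg F F' t n (fam n) h.1 h.2).choose else fam n

lemma fam_spec (n : ℕ) : GoodN F F' n (fam hneg F F' t n) ∧ HC F F' n (fam hneg F F' t n) := by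
  induction n with
  | zero =>
    refine ⟨?_, hc_zero t⟩
    intro a b hb
    obtain rfl : b = a := by simpa using hb
    exact base_good F F' t b
  | succ n ih =>
    have hfam : fam hneg F F' t (n + 1) = (step hneg F F' t n (fam hneg F F' t n) ih.1 ih.2).choose := by
      rw [fam]
      exact dif_pos ih
    have hspec := (step hneg F F' t n (fam hneg F F' t n) ih.1 ih.2).choose_spec
    rw [← hfam] at hspec
    exact ⟨hspec.1, hc_of_pos (by omega) hspec.1⟩

lemma fam_agree (n : ℕ) (K : DerivedCategory.Bounded A) (hW : Wid n K) :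
    fam hneg F F' t (n + 1) K = fam hneg F F' t n K := by
  have ih := fam_spec hneg F F' t n
  have hfam : fam hneg F F' t (n + 1) = (step hneg F F' t n (fam hneg F F' t n) ih.1 ih.2).choose := by
    rw [fam]
    exact dif_pos ih
  have hspec := (step hneg F F' t n (fam hneg F F' t n) ih.1 ih.2).choose_spec
  rw [← hfam] at hspec
  exact hspec.2 K hW

lemma fam_eq {n m : ℕ} (hnm : n ≤ m) (K : DerivedCategory.Bounded A) (hW : Wid n K) :
    fam hneg F F' t m K = fam hneg F F' t n K := by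
  induction m, hnm using Nat.le_induction with
  | base => rfl
  | succ m hm ih => rw [fam_agree hneg F F' t m K (hW.mono hm), ih]

omit [F.Full] in
lemma exists_amp (K : DerivedCategory.Bounded A) : ∃ a b : ℤ, a ≤ b ∧ Amp a b K := by
  obtain ⟨⟨a, ha⟩, ⟨b, hb⟩⟩ := K.property
  have ha' : GE K a := ha
  have hb' : LE K b := hb
  by_cases hab : a ≤ b
  · exact ⟨a, b, hab, ha', hb'⟩
  · have hz : IsZero K := isZero_of_LE_GE hb' ha' (by omega)
    exact ⟨a, a, le_rfl, GE_of_isZero hz a, LE_of_isZero hz a⟩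

include hneg t in
theorem nonempty_iso : Nonempty (F ≅ F') := by
  classical
  have hex : ∀ K : DerivedCategory.Bounded A, ∃ n : ℕ, Wid n K := by
    intro K
    obtain ⟨a, b, hab, hK⟩ := exists_amp K
    exact ⟨(b - a).toNat, a, b, by omega, hK⟩
  let N : DerivedCategory.Bounded A → ℕ := fun K => (hex K).choose
  have hN : ∀ K, Wid (N K) K := fun K => (hex K).choose_spec
  let cinf : ∀ K : DerivedCategory.Bounded A, F.obj K ⟶ F'.obj K :=
    fun K => fam hneg F F' t (N K) K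
  have hiso : ∀ K, IsIso (cinf K) := by
    intro K
    obtain ⟨a, b, hb, hK⟩ := hN K
    exact ((fam_spec hneg F F' t (N K)).1 a b hb).iso K hK
  have hnat : ∀ {K K' : DerivedCategory.Bounded A} (f : K ⟶ K'),
      F.map f ≫ cinf K' = cinf K ≫ F'.map f := by
    intro K K' f
    obtain ⟨a₁, b₁, hb₁, hK⟩ := hN K
    obtain ⟨a₂, b₂, hb₂, hK'⟩ := hN K'
    let a := min a₁ a₂
    let b := max b₁ b₂
    have ha₁ : a ≤ a₁ := min_le_left _ _
    have ha₂ : a ≤ a₂ := min_le_right _ _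
    have hb₁' : b₁ ≤ b := le_max_left _ _
    have hb₂' : b₂ ≤ b := le_max_right _ _
    let n := (b - a).toNat
    have hn : b = a + n := by omega
    have h1 : N K ≤ n := by omega
    have h2 : N K' ≤ n := by omega
    have hgood := (fam_spec hneg F F' t n).1 a b hn
    have := hgood.nat K K' (amp_mono hK ha₁ hb₁') (amp_mono hK' ha₂ hb₂') f
    rw [fam_eq hneg F F' t h1 K (hN K), fam_eq hneg F F' t h2 K' (hN K')] at this
    exact this
  exact ⟨NatIso.ofComponents (fun K => @asIso _ _ _ _ (cinf K) (hiso K)) (fun f => hnat f)⟩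

end tower

end Groth.Agent.Helper10.SibTower



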