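import Mathlib
import Groth.Prelude.Def_EtBase
import Groth.Prelude.Def_EtCore
import Groth.Prelude.Def_EtShriek2
import Groth.Agent.S19626
import Groth.Agent.Lib.Helper10.FieldAffTors

/-!
# The cokernel of `i_* I → i_* Q` is a torsion sheaf, `i : Spec κ → X`
-/

set_option autoImplicit false

namespace Groth.Agent.Helper10.SkyTors

open CategoryTheory CategoryTheory.Limits AlgebraicGeometry Opposite CategoryTheory.Abelian
open Groth.Agent.Helper10 Groth.Agent.Helper24.EtOpen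

universe u

lemma ext0_eq_mk₀ {C : Type*} [Category C] [Abelian C] [HasExt C] {A B : C} (y : Ext A B 0) :
    ∃ ψ : A ⟶ B, Ext.mk₀ ψ = y :=
  ⟨Ext.homEquiv₀ y, by simp⟩

lemma mk₀_nsmul {C : Type*} [Category C] [Abelian C] [HasExt C] {A B : C} (d : ℕ) (f : A ⟶ B) :
    Ext.mk₀ (d • f) = d • Ext.mk₀ f := by
  induction d with
  | zero => simp [Ext.mk₀_zero]
  | succ n ih => rw [succ_nsmul, Ext.mk₀_add, ih, succ_nsmul]

lemma sheaf_nsmul_app {C : Type*} [Category C] {J : GrothendieckTopology C} {A : Type*}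
    [Category A] [Preadditive A] {P Q : Sheaf J A} (d : ℕ) (f : P ⟶ Q) (U : Cᵒᵖ) :
    (d • f).hom.app U = d • f.hom.app U := by
  induction d with
  | zero => rw [zero_nsmul, zero_nsmul]; rfl
  | succ n ih => rw [succ_nsmul, succ_nsmul, Sheaf.Hom.add_app, ih]

/-- If `Ext¹(ℤ_W, X₁)` is torsion, sections of `X₃` over `W` lift to `X₂` up to a multiple. -/
lemma sec_tors {Y : Scheme.{u}} {S : ShortComplex (EtCoh.Ab Y)} (hS : S.ShortExact) (W : Y.Etale)
    (j : (W.left : Scheme.{u}) ⟶ Y) (hj : j = W.hom) [Etale j]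
    (htors : ∀ a : Ext (PP j) S.X₁ 1, IsOfFinAddOrder a)
    (t : S.X₃.obj.obj (op W)) :
    ∃ d : ℕ, 0 < d ∧ ∃ r : S.X₂.obj.obj (op W), S.g.hom.app (op W) r = d • t := by
  let t' : S.X₃.obj.obj (op (objOf j)) := S.X₃.obj.map (Groth.Agent.S19626.toW W j hj).op t
  let φ₀ : PP j ⟶ S.X₃ := (secJ j S.X₃).symm (pick t')
  obtain ⟨d, hd, hdc⟩ := isOfFinAddOrder_iff_nsmul_eq_zero.1
    (htors ((Ext.mk₀ φ₀).comp hS.extClass (zero_add 1)))
  have h1 : (Ext.mk₀ (d • φ₀)).comp hS.extClass (zero_add 1) = 0 := by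
    rw [mk₀_nsmul]
    have := map_nsmul (hS.extClass.postcomp (PP j) (zero_add 1)) d (Ext.mk₀ φ₀)
    exact this.trans hdc
  obtain ⟨x₂, hx₂⟩ := Ext.covariant_sequence_exact₃ (PP j) hS (Ext.mk₀ (d • φ₀)) (zero_add 1) h1
  obtain ⟨ψ, rfl⟩ := ext0_eq_mk₀ x₂
  rw [Ext.mk₀_comp_mk₀] at hx₂
  have hψ : ψ ≫ S.g = d • φ₀ := (Ext.mk₀_bijective _ _).1 hx₂
  let s' : S.X₂.obj.obj (op (objOf j)) := (secJ j S.X₂ ψ).hom (ULift.up 1)
  have h2 : S.g.hom.app (op (objOf j)) s' = d • t' := by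
    have e1 : secJ j S.X₃ (ψ ≫ S.g) = secJ j S.X₂ ψ ≫ S.g.hom.app (op (objOf j)) :=
      secJ_comp j _ _ ψ S.g
    have e2 : secJ j S.X₃ (d • φ₀) = pick t' ≫ (d • 𝟙 S.X₃).hom.app (op (objOf j)) := by
      have : d • φ₀ = φ₀ ≫ (d • 𝟙 S.X₃) := by rw [Preadditive.comp_nsmul, Category.comp_id]
      rw [this, secJ_comp, Equiv.apply_symm_apply]
    rw [hψ, e2] at e1
    have e3 := congrArg (fun k => k.hom (ULift.up 1)) e1
    simp only [AddCommGrpCat.hom_comp, AddMonoidHom.coe_comp, Function.comp_apply] at e3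
    rw [pick_apply, sheaf_nsmul_app, AddCommGrpCat.hom_nsmul] at e3
    exact e3.symm
  refine ⟨d, hd, S.X₂.obj.map (Groth.Agent.S19626.ofW W j hj).op s', ?_⟩
  have hnat := ConcreteCategory.congr_hom
    (S.g.hom.naturality (Groth.Agent.S19626.ofW W j hj).op) s'
  rw [ConcreteCategory.comp_apply, ConcreteCategory.comp_apply] at hnat
  rw [hnat, h2, map_nsmul]
  congr 1
  show S.X₃.obj.map (Groth.Agent.S19626.ofW W j hj).op
    (S.X₃.obj.map (Groth.Agent.S19626.toW W j hj).op t) = t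
  rw [← ConcreteCategory.comp_apply, ← Functor.map_comp, ← op_comp,
    Groth.Agent.S19626.ofW_toW, op_id, CategoryTheory.Functor.map_id]
  rfl

section Sky

variable {X : Scheme.{u}} {κ : Type u} [Field κ] (i : Spec (CommRingCat.of κ) ⟶ X)

/-- Over an affine étale `V'` of `X`, sections of `i_* X₃` lift to `i_* X₂` up to a multiple. -/
lemma push_sec_tors {S : ShortComplex (EtCoh.Ab (Spec (CommRingCat.of κ)))} (hS : S.ShortExact)
    (V' : X.Etale) [IsAffine V'.left]
    (t : ((EtCoh.push i).obj S.X₃).obj.obj (op V')) :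
    ∃ d : ℕ, 0 < d ∧ ∃ r : ((EtCoh.push i).obj S.X₂).obj.obj (op V'),
      ((EtCoh.push i).map S.g).hom.app (op V') r = d • t := by
  let W : (Spec (CommRingCat.of κ)).Etale := (EtCoh.bc i).obj V'
  haveI : IsAffineHom i := FieldAffTors.isAffineHom_of_subsingleton i
  haveI : IsAffine W.left := by
    show IsAffine (pullback V'.hom i)
    have h1 : IsAffineHom (pullback.fst V'.hom i) :=
      MorphismProperty.pullback_fst (P := @IsAffineHom) _ _ ‹IsAffineHom i›
    have h2 : IsAffine ((𝟭 Scheme).obj V'.left) := ‹IsAffine V'.left›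
    exact @isAffine_of_isAffineHom _ _ (pullback.fst V'.hom i) h1 h2
  let j : (W.left : Scheme.{u}) ⟶ Spec (CommRingCat.of κ) := W.hom
  haveI : Etale j := W.prop
  exact sec_tors hS W j rfl
    (fun a => FieldAffTors.ext_PP_torsion j S.X₁ 1 Nat.one_pos a) t

/-- The cokernel of `i_* X₂ → i_* X₃` is a torsion sheaf. -/
theorem isTorsion_coker_push {S : ShortComplex (EtCoh.Ab (Spec (CommRingCat.of κ)))}
    (hS : S.ShortExact) : EtCoh.IsTorsion (cokernel ((EtCoh.push i).map S.g)) := by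
  intro U t x
  let P := EtCoh.push i
  let π : P.obj S.X₃ ⟶ cokernel (P.map S.g) := cokernel.π _
  have hls : Sheaf.IsLocallySurjective π :=
    (Sheaf.isLocallySurjective_iff_epi' _ _).2 inferInstance
  have himg := Presheaf.imageSieve_mem X.smallEtaleTopology π.hom t
  rw [EtLoc.mem_iff] at himg
  obtain ⟨V, a, v, ⟨s, hs⟩, hv⟩ := himg x
  obtain ⟨V', b, hAff, v', hv'⟩ := FieldTransfer.exists_affine_nbhd V v
  haveI : IsAffine V'.left := hAff
  obtain ⟨d, hd, r, hr⟩ := push_sec_tors i hS V' ((P.obj S.X₃).obj.map b.op s)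
  refine ⟨V', b ≫ a, ⟨v', ?_⟩, ?_⟩
  · show a.left.base (b.left.base v') = x
    rw [hv', hv]
  · rw [isOfFinAddOrder_iff_nsmul_eq_zero]
    refine ⟨d, hd, ?_⟩
    have h1 : (cokernel (P.map S.g)).obj.map (b ≫ a).op t =
        π.hom.app (op V') ((P.obj S.X₃).obj.map b.op s) := by
      rw [op_comp, Functor.map_comp, ConcreteCategory.comp_apply, ← hs]
      have := ConcreteCategory.congr_hom (π.hom.naturality b.op) s
      rw [ConcreteCategory.comp_apply, ConcreteCategory.comp_apply] at this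
      exact this.symm
    rw [h1, ← map_nsmul, ← hr]
    have h2 : (P.map S.g) ≫ π = 0 := cokernel.condition _
    have h3 := ConcreteCategory.congr_hom
      (congrArg (fun m => m.hom.app (op V')) h2) r
    exact h3

end Sky

end Groth.Agent.Helper10.SkyTors
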