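import Mathlib
import Groth.Prelude.Def_EtBase
import Groth.Prelude.Def_EtCore
import Groth.Prelude.Def_RDerDelta
import Groth.Agent.S16463
import Groth.Agent.Lib.Helper10.SkyTors1

/-!
# `R^q i_* F` is a torsion sheaf for `q ≥ 1`, `i : Spec κ → X`
-/

set_option autoImplicit false

namespace Groth.Agent.Helper10.SkyTors

open CategoryTheory CategoryTheory.Limits AlgebraicGeometry Opposite CategoryTheory.Abelian
open Groth.Agent.Helper10

universe u

lemma isTorsion_of_iso {X : Scheme.{u}} {F G : EtCoh.Ab X} (e : F ≅ G)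
    (h : EtCoh.IsTorsion F) : EtCoh.IsTorsion G := by
  intro U s x
  obtain ⟨V, g, hv, hs⟩ := h U (e.inv.hom.app (op U) s) x
  refine ⟨V, g, hv, ?_⟩
  have hnat := ConcreteCategory.congr_hom (e.hom.hom.naturality g.op) (e.inv.hom.app (op U) s)
  rw [ConcreteCategory.comp_apply, ConcreteCategory.comp_apply] at hnat
  have h2 : e.hom.hom.app (op U) (e.inv.hom.app (op U) s) = s := by
    have h3 : e.inv.hom.app (op U) ≫ e.hom.hom.app (op U) = 𝟙 _ :=
      congrArg (fun m => m.hom.app (op U)) e.inv_hom_id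
    have := ConcreteCategory.congr_hom h3 s
    rw [ConcreteCategory.comp_apply] at this
    exact this
  rw [h2] at hnat
  rw [← hnat]
  exact AddMonoidHom.isOfFinAddOrder (e.hom.hom.app (op V)).hom hs

/-- A quotient of a torsion sheaf is torsion. -/
lemma isTorsion_of_epi {X : Scheme.{u}} {F G : EtCoh.Ab X} (p : F ⟶ G) (hp : Epi p)
    (h : EtCoh.IsTorsion F) : EtCoh.IsTorsion G := by
  intro U t x
  have hls : Sheaf.IsLocallySurjective p :=
    (Sheaf.isLocallySurjective_iff_epi' _ _).2 inferInstance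
  have himg := Presheaf.imageSieve_mem X.smallEtaleTopology p.hom t
  rw [EtLoc.mem_iff] at himg
  obtain ⟨V, a, v, ⟨s, hs⟩, hv⟩ := himg x
  obtain ⟨V', b, ⟨v', hv'⟩, hfin⟩ := h V s v
  refine ⟨V', b ≫ a, ⟨v', ?_⟩, ?_⟩
  · show a.left.base (b.left.base v') = x
    rw [hv', hv]
  · have h1 : G.obj.map (b ≫ a).op t = p.hom.app (op V') (F.obj.map b.op s) := by
      rw [op_comp, Functor.map_comp, ConcreteCategory.comp_apply, ← hs]
      have := ConcreteCategory.congr_hom (p.hom.naturality b.op) s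
      rw [ConcreteCategory.comp_apply, ConcreteCategory.comp_apply] at this
      exact this.symm
    rw [h1]
    exact AddMonoidHom.isOfFinAddOrder (p.hom.app (op V')).hom hfin

section Sky

variable {X : Scheme.{u}} {κ : Type u} [Field κ] (i : Spec (CommRingCat.of κ) ⟶ X)

theorem isTorsion_Rpush : ∀ (q : ℕ) (F : EtCoh.Ab (Spec (CommRingCat.of κ))),
    EtCoh.IsTorsion ((EtCoh.Rpush i (q + 1)).obj F) := by
  obtain ⟨Δ⟩ := Groth.Agent.S16463.result (EtCoh.push i)
  let P := EtCoh.push i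
  haveI : PreservesLimitsOfSize.{0, 0} P := (EtCoh.pullPushAdj i).rightAdjoint_preservesLimits
  haveI : PreservesFiniteLimits P := PreservesLimitsOfSize.preservesFiniteLimits _
  intro q
  induction q with
  | zero =>
    intro F
    let S := Groth.Agent.S19626.SS F
    have hS : S.ShortExact := Groth.Agent.S19626.SS_shortExact F
    -- δ : R⁰ Q → R¹ F is epi
    have hz : (P.rightDerived 1).map S.f = 0 :=
      (Functor.isZero_rightDerived_obj_injective_succ P 0 S.X₂).eq_of_tgt _ _
    have hδ : Epi (Δ.δ S hS 0 1 rfl) := (Δ.exact₁ S hS 0 1 rfl).epi_f hz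
    -- the quotient `coker (R⁰ g) → R¹ F`
    have hc : (P.rightDerived 0).map S.g ≫ Δ.δ S hS 0 1 rfl = 0 := Δ.comp_δ S hS 0 1 rfl
    let ρ : cokernel ((P.rightDerived 0).map S.g) ⟶ (P.rightDerived 1).obj S.X₁ :=
      cokernel.desc _ _ hc
    have hρ : Epi ρ := by
      have hfac : cokernel.π ((P.rightDerived 0).map S.g) ≫ ρ = Δ.δ S hS 0 1 rfl :=
        cokernel.π_desc _ _ _
      exact epi_of_epi_fac hfac
    -- `coker (R⁰ g) ≅ coker (P g)`
    let e := P.rightDerivedZeroIsoSelf
    let ec : cokernel ((P.rightDerived 0).map S.g) ≅ cokernel (P.map S.g) :=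
      cokernel.mapIso _ _ (e.app S.X₂) (e.app S.X₃) (e.hom.naturality S.g)
    have ht : EtCoh.IsTorsion (cokernel ((P.rightDerived 0).map S.g)) :=
      isTorsion_of_iso ec.symm (isTorsion_coker_push i hS)
    exact isTorsion_of_epi ρ hρ ht
  | succ n ih =>
    intro F
    let S := Groth.Agent.S19626.SS F
    have hS : S.ShortExact := Groth.Agent.S19626.SS_shortExact F
    have hz : (P.rightDerived (n + 1 + 1)).map S.f = 0 :=
      (Functor.isZero_rightDerived_obj_injective_succ P (n + 1) S.X₂).eq_of_tgt _ _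
    have hδ : Epi (Δ.δ S hS (n + 1) (n + 1 + 1) rfl) :=
      (Δ.exact₁ S hS (n + 1) (n + 1 + 1) rfl).epi_f hz
    exact isTorsion_of_epi (Δ.δ S hS (n + 1) (n + 1 + 1) rfl) hδ (ih S.X₃)

end Sky

end Groth.Agent.Helper10.SkyTors
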