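import Mathlib
import Groth.Prelude.Def_EtBase
import Groth.Prelude.Def_EtCore
import Groth.Agent.S0124
import Groth.Agent.S0101
import Groth.Agent.S7743
import Groth.Agent.Lib.Helper10.SkyTors1
import Groth.Agent.Lib.Helper10.SkyTors2

/-!
# `H^q(X, i_* F)` is torsion for `q ≥ 1`, `i : Spec κ → X`, `X` qcqs
-/

set_option autoImplicit false

attribute [-instance] Groth.Agent.Helper13.DeltaFColim.forgetPres

namespace Groth.Agent.Helper10.SkyTors

open CategoryTheory CategoryTheory.Limits AlgebraicGeometry Opposite CategoryTheory.Abelian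
open Groth.Agent.Helper10

universe u

lemma comp_mk₀_nsmul_id {C : Type*} [Category C] [Abelian C] [HasExt C] {Z A : C} {n : ℕ}
    (x : Ext Z A n) (d : ℕ) : x.comp (Ext.mk₀ (d • 𝟙 A)) (add_zero n) = d • x := by
  rw [mk₀_nsmul]
  have := map_nsmul (x.precomp A (add_zero n)) d (Ext.mk₀ (𝟙 A))
  refine this.trans ?_
  congr 1
  exact Ext.comp_mk₀_id x

section Gen

variable {X Y : Scheme.{u}} (f : Y ⟶ X)

/-- The image factorisation of `f_* I → f_* Q` and the resulting short exact sequence. -/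
lemma exists_image_ses (F : EtCoh.Ab Y) :
    ∃ (C : EtCoh.Ab X) (e : (EtCoh.push f).obj (Groth.Agent.S19626.SS F).X₂ ⟶ C)
      (m : C ⟶ (EtCoh.push f).obj (Groth.Agent.S19626.SS F).X₃)
      (hz : (EtCoh.push f).map (Groth.Agent.S19626.SS F).f ≫ e = 0),
      e ≫ m = (EtCoh.push f).map (Groth.Agent.S19626.SS F).g ∧ Mono m ∧ Epi e ∧
        (ShortComplex.mk ((EtCoh.push f).map (Groth.Agent.S19626.SS F).f) e hz).ShortExact := by
  let P := EtCoh.push f
  let S := Groth.Agent.S19626.SS F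
  have hS : S.ShortExact := Groth.Agent.S19626.SS_shortExact F
  haveI : Mono S.f := hS.mono_f
  let g : P.obj S.X₂ ⟶ P.obj S.X₃ := P.map S.g
  let e : P.obj S.X₂ ⟶ Abelian.image g := Abelian.factorThruImage g
  let m : Abelian.image g ⟶ P.obj S.X₃ := Abelian.image.ι g
  have hem : e ≫ m = g := Abelian.image.fac g
  haveI : Mono m := inferInstanceAs (Mono (Abelian.image.ι g))
  haveI : Epi e := inferInstanceAs (Epi (Abelian.factorThruImage g))
  have hz : P.map S.f ≫ e = 0 := by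
    rw [← cancel_mono m, Category.assoc, hem, zero_comp, ← P.map_comp, S.zero, P.map_zero]
  let T : ShortComplex (EtCoh.Ab X) := ShortComplex.mk (P.map S.f) e hz
  haveI : PreservesLimitsOfSize.{0, 0} P := (EtCoh.pullPushAdj f).rightAdjoint_preservesLimits
  have hSP : (S.map P).Exact := hS.exact.map_of_mono_of_preservesKernel P inferInstance inferInstance
  let φ : T ⟶ S.map P :=
    { τ₁ := 𝟙 _
      τ₂ := 𝟙 _
      τ₃ := m
      comm₁₂ := by
        show 𝟙 _ ≫ P.map S.f = P.map S.f ≫ 𝟙 _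
        rw [Category.id_comp, Category.comp_id]
      comm₂₃ := by
        show 𝟙 _ ≫ P.map S.g = e ≫ m
        rw [hem, Category.id_comp] }
  haveI : Epi φ.τ₁ := inferInstanceAs (Epi (𝟙 _))
  haveI : IsIso φ.τ₂ := inferInstanceAs (IsIso (𝟙 _))
  haveI : Mono φ.τ₃ := inferInstanceAs (Mono m)
  have hT : T.ShortExact :=
    { exact := (ShortComplex.exact_iff_of_epi_of_isIso_of_mono φ).2 hSP
      mono_f := inferInstanceAs (Mono (P.map S.f))
      epi_g := inferInstanceAs (Epi e) }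
  exact ⟨Abelian.image g, e, m, hz, hem, inferInstance, inferInstance, hT⟩

/-- If `H¹(Y, F)` is torsion then so is `H¹(X, f_* F)`. -/
theorem H1_push_torsion (F : EtCoh.Ab Y) (h : ∀ a : EtCoh.H Y F 1, IsOfFinAddOrder a)
    (x : EtCoh.H X ((EtCoh.push f).obj F) 1) : IsOfFinAddOrder x := by
  haveI : PreservesFiniteLimits (EtCoh.pull f) := Groth.Agent.S0101.result f
  let P := EtCoh.push f
  let adj := EtCoh.pullPushAdj f
  let S := Groth.Agent.S19626.SS F
  have hS : S.ShortExact := Groth.Agent.S19626.SS_shortExact F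
  obtain ⟨C, e, m, hz, hem, hm, he, hT⟩ := exists_image_ses f F
  haveI : Mono m := hm
  haveI : (EtCoh.pull f).PreservesMonomorphisms := inferInstance
  haveI : Injective S.X₂ := Groth.Agent.S19626.injective_SS F
  haveI : Injective (P.obj S.X₂) := Injective.injective_of_adjoint adj S.X₂
  let Z := EtCoh.const X ℤ
  let A := (EtCoh.pull f).obj Z
  have hA : ∀ a : Ext A S.X₁ 1, IsOfFinAddOrder a := by
    let c := EtCore.pullConst f ℤ
    intro a
    have h1 : a = (Ext.mk₀ c.hom).comp ((Ext.mk₀ c.inv).comp a (zero_add 1)) (zero_add 1) := by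
      rw [Ext.mk₀_comp_mk₀_assoc, Iso.hom_inv_id, Ext.mk₀_id_comp]
    rw [h1]
    exact AddMonoidHom.isOfFinAddOrder (((Ext.mk₀ c.hom).precomp S.X₁ (zero_add 1)))
      (h ((Ext.mk₀ c.inv).comp a (zero_add 1)))
  let T : ShortComplex (EtCoh.Ab X) := ShortComplex.mk (P.map S.f) e hz
  have hx2 : x.comp (Ext.mk₀ T.f) (add_zero 1) = 0 := Ext.eq_zero_of_injective _
  obtain ⟨y, hy⟩ := Ext.covariant_sequence_exact₁ Z hT x hx2 (rfl : 0 + 1 = 1)
  obtain ⟨ψ, rfl⟩ := ext0_eq_mk₀ y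
  let ψ' : A ⟶ S.X₃ := (adj.homEquiv Z S.X₃).symm (ψ ≫ m)
  obtain ⟨d, hd, hdc⟩ := isOfFinAddOrder_iff_nsmul_eq_zero.1
    (hA ((Ext.mk₀ ψ').comp hS.extClass (zero_add 1)))
  have h3 : (Ext.mk₀ (ψ' ≫ (d • 𝟙 S.X₃))).comp hS.extClass (zero_add 1) = 0 := by
    rw [Preadditive.comp_nsmul, Category.comp_id, mk₀_nsmul]
    have := map_nsmul (hS.extClass.postcomp A (zero_add 1)) d (Ext.mk₀ ψ')
    exact this.trans hdc
  obtain ⟨w, hw⟩ := Ext.covariant_sequence_exact₃ A hS _ (zero_add 1) h3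
  obtain ⟨χ', rfl⟩ := ext0_eq_mk₀ w
  rw [Ext.mk₀_comp_mk₀] at hw
  have hw' : χ' ≫ S.g = ψ' ≫ (d • 𝟙 S.X₃) := (Ext.mk₀_bijective A S.X₃).1 hw
  let χ : Z ⟶ P.obj S.X₂ := adj.homEquiv Z S.X₂ χ'
  have hχ : χ ≫ e = d • ψ := by
    rw [← cancel_mono m, Category.assoc, hem]
    have e1 := adj.homEquiv_naturality_right χ' S.g
    rw [hw', adj.homEquiv_naturality_right] at e1
    rw [← e1, Preadditive.nsmul_comp]
    have e2 : adj.homEquiv Z S.X₃ ψ' = ψ ≫ m := (adj.homEquiv Z S.X₃).apply_symm_apply _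
    rw [e2, Functor.map_nsmul, CategoryTheory.Functor.map_id, Preadditive.comp_nsmul,
      Category.comp_id]
  rw [isOfFinAddOrder_iff_nsmul_eq_zero]
  refine ⟨d, hd, ?_⟩
  have h4 : d • (Ext.mk₀ ψ).comp hT.extClass (zero_add 1) =
      (Ext.mk₀ (d • ψ)).comp hT.extClass (zero_add 1) := by
    rw [mk₀_nsmul]
    exact (map_nsmul (hT.extClass.postcomp Z (zero_add 1)) d (Ext.mk₀ ψ)).symm
  have key : d • (Ext.mk₀ ψ).comp hT.extClass (zero_add 1) = 0 := by
    rw [h4, ← hχ, ← Ext.mk₀_comp_mk₀, Ext.comp_assoc_of_second_deg_zero]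
    have : (Ext.mk₀ T.g).comp hT.extClass (zero_add 1) = 0 := hT.comp_extClass
    rw [this, Ext.comp_zero]
  rw [← hy]
  exact key

/-- Dimension shifting step: `H^{n+2}(X, f_* F)` is torsion if `H^{n+1}(X, f_* Q)` is and the
cokernel of `f_* I → f_* Q` is a torsion sheaf (`X` qcqs). -/
theorem Hq_push_torsion_step [CompactSpace X] [QuasiSeparatedSpace X] (F : EtCoh.Ab Y) (n : ℕ)
    (hQ : ∀ y : EtCoh.H X ((EtCoh.push f).obj (Groth.Agent.S19626.SS F).X₃) (n + 1),
      IsOfFinAddOrder y)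
    (hR : EtCoh.IsTorsion (cokernel ((EtCoh.push f).map (Groth.Agent.S19626.SS F).g)))
    (x : EtCoh.H X ((EtCoh.push f).obj F) (n + 2)) : IsOfFinAddOrder x := by
  haveI : PreservesFiniteLimits (EtCoh.pull f) := Groth.Agent.S0101.result f
  let P := EtCoh.push f
  let adj := EtCoh.pullPushAdj f
  let S := Groth.Agent.S19626.SS F
  have hS : S.ShortExact := Groth.Agent.S19626.SS_shortExact F
  obtain ⟨C, e, m, hz, hem, hm, he, hT⟩ := exists_image_ses f F
  haveI : Mono m := hm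
  haveI : Epi e := he
  haveI : (EtCoh.pull f).PreservesMonomorphisms := inferInstance
  haveI : Injective S.X₂ := Groth.Agent.S19626.injective_SS F
  haveI : Injective (P.obj S.X₂) := Injective.injective_of_adjoint adj S.X₂
  let Z := EtCoh.const X ℤ
  let T : ShortComplex (EtCoh.Ab X) := ShortComplex.mk (P.map S.f) e hz
  have hx2 : x.comp (Ext.mk₀ T.f) (add_zero (n + 2)) = 0 := Ext.eq_zero_of_injective _
  obtain ⟨y, hy⟩ := Ext.covariant_sequence_exact₁ Z hT x hx2 (rfl : n + 1 + 1 = n + 2)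
  -- the second short exact sequence
  let T' : ShortComplex (EtCoh.Ab X) := ShortComplex.mk m (cokernel.π m) (cokernel.condition m)
  have hT' : T'.ShortExact :=
    { exact := ShortComplex.exact_cokernel m
      mono_f := hm
      epi_g := inferInstanceAs (Epi (cokernel.π m)) }
  have hR' : EtCoh.IsTorsion (cokernel m) :=
    isTorsion_of_iso ((cokernelIsoOfEq hem.symm) ≪≫ cokernelEpiComp e m) hR
  -- `y` pushed to `H^{n+1}(f_* Q)` is torsion
  obtain ⟨d, hd, hdy⟩ := isOfFinAddOrder_iff_nsmul_eq_zero.1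
    (hQ (y.comp (Ext.mk₀ m) (add_zero (n + 1))))
  have h1 : (d • y).comp (Ext.mk₀ T'.f) (add_zero (n + 1)) = 0 := by
    have := map_nsmul ((Ext.mk₀ m).postcomp Z (add_zero (n + 1))) d y
    exact this.trans hdy
  obtain ⟨z, hz'⟩ := Ext.covariant_sequence_exact₁ Z hT' (d • y) h1 (rfl : n + 1 = n + 1)
  obtain ⟨d', hd', hdz⟩ := isOfFinAddOrder_iff_nsmul_eq_zero.1
    (Groth.Agent.S0124.result X (cokernel m) hR' n z)
  have h2 : d' • (d • y) = 0 := by
    rw [← hz']
    have e1 : d' • z.comp hT'.extClass (rfl : n + 1 = n + 1) =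
        (d' • z).comp hT'.extClass (rfl : n + 1 = n + 1) :=
      (map_nsmul (hT'.extClass.postcomp Z (rfl : n + 1 = n + 1)) d' z).symm
    rw [e1, hdz, Ext.zero_comp]
  rw [isOfFinAddOrder_iff_nsmul_eq_zero]
  refine ⟨d' * d, Nat.mul_pos hd' hd, ?_⟩
  have key : (d' * d) • y.comp hT.extClass (rfl : n + 1 + 1 = n + 2) = 0 := by
    have e2 : (d' * d) • y.comp hT.extClass (rfl : n + 1 + 1 = n + 2) =
        ((d' * d) • y).comp hT.extClass (rfl : n + 1 + 1 = n + 2) :=
      (map_nsmul (hT.extClass.postcomp Z (rfl : n + 1 + 1 = n + 2)) (d' * d) y).symm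
    rw [e2, mul_smul, h2, Ext.zero_comp]
  rw [← hy]
  exact key

end Gen

/-- `H^q(X, i_* F)` is torsion for `q ≥ 1`. -/
theorem H_push_torsion {X : Scheme.{u}} [CompactSpace X] [QuasiSeparatedSpace X] {κ : Type u}
    [Field κ] (i : Spec (CommRingCat.of κ) ⟶ X) :
    ∀ (q : ℕ) (F : EtCoh.Ab (Spec (CommRingCat.of κ)))
      (x : EtCoh.H X ((EtCoh.push i).obj F) (q + 1)), IsOfFinAddOrder x := by
  intro q
  induction q with
  | zero =>
    intro F x
    exact H1_push_torsion i F (fun a => Groth.Agent.S7743.main κ F 1 Nat.one_pos a) x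
  | succ n ih =>
    intro F x
    exact Hq_push_torsion_step i F n (ih _)
      (isTorsion_coker_push i (Groth.Agent.S19626.SS_shortExact F)) x

end Groth.Agent.Helper10.SkyTors
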