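import Mathlib
import Groth.Prelude.Def_FibClv

set_option autoImplicit false
set_option backward.isDefEq.respectTransparency false
set_option backward.isDefEq.respectTransparency.types false

universe v₁ v₂ u₁ u₂

namespace Groth.Agent.Helper10.SplitClv

open CategoryTheory CategoryTheory.Functor FibCat

variable {𝒮 : Type u₁} [Category.{v₁} 𝒮] {𝒳 : Type u₂} [Category.{v₂} 𝒳]
  {p : 𝒳 ⥤ 𝒮} (K : FibCat.Cleavage p)

lemma lift_congr {R S : 𝒮} {a : 𝒳} (ha : p.obj a = S) {f f' : R ⟶ S} (h : f = f') :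
    ∃ h' : K.obj ha f = K.obj ha f', K.lift ha f = eqToHom h' ≫ K.lift ha f' := by
  subst h
  exact ⟨rfl, by simp⟩

variable (hK : K.IsSplitting)

include hK in
theorem inv_id (S : 𝒮) : K.inverseImage (𝟙 S) = 𝟭 (p.Fiber S) := by
  have hobj : ∀ a : p.Fiber S, (K.inverseImage (𝟙 S)).obj a = a := by
    intro a
    obtain ⟨h, _⟩ := hK.1 a.2
    exact Subtype.ext h
  refine CategoryTheory.Functor.ext hobj ?_
  intro a b φ
  apply Fiber.hom_ext
  rw [Cleavage.inverseImage_map]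
  symm
  obtain ⟨ha, hla⟩ := hK.1 a.2
  obtain ⟨hb, hlb⟩ := hK.1 b.2
  apply IsCartesian.map_uniq
  simp only [Functor.map_comp, eqToHom_map, Functor.id_map, Category.assoc]
  rw [hla, hlb]
  simp

include hK in
theorem inv_comp {S T U : 𝒮} (f : T ⟶ S) (g : U ⟶ T) :
    K.inverseImage (g ≫ f) = K.inverseImage f ⋙ K.inverseImage g := by
  have hobj : ∀ a : p.Fiber S, (K.inverseImage (g ≫ f)).obj a =
      (K.inverseImage f ⋙ K.inverseImage g).obj a := by
    intro a
    obtain ⟨h, _⟩ := hK.2 f g a.2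
    exact Subtype.ext h.symm
  refine CategoryTheory.Functor.ext hobj ?_
  intro a b φ
  apply Fiber.hom_ext
  rw [Cleavage.inverseImage_map]
  symm
  obtain ⟨ha, hla⟩ := hK.2 f g a.2
  obtain ⟨hb, hlb⟩ := hK.2 f g b.2
  apply IsCartesian.map_uniq
  simp only [Functor.map_comp, eqToHom_map, Functor.comp_map, Category.assoc,
    Cleavage.inverseImage_map]
  have e1 : eqToHom (congrArg Subtype.val (hobj b).symm) ≫ K.lift b.2 (g ≫ f) =
      K.lift (K.obj_proj b.2 f) g ≫ K.lift b.2 f := by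
    rw [hlb]
  have e2 : eqToHom (congrArg Subtype.val (hobj a)) ≫
      K.lift (K.obj_proj a.2 f) g ≫ K.lift a.2 f = K.lift a.2 (g ≫ f) := by
    rw [hla]; simp
  rw [e1, IsCartesian.fac_assoc, Category.assoc, IsCartesian.fac, ← Category.assoc, ← Category.assoc]
  rw [Category.assoc (eqToHom _), e2]

/-- the strict functor of fibres -/
noncomputable def Fsp : 𝒮ᵒᵖ ⥤ Cat.{v₂, u₂} where
  obj S := Cat.of (p.Fiber S.unop)
  map f := (K.inverseImage f.unop).toCatHom
  map_id S := by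
    show (K.inverseImage (𝟙 S.unop)).toCatHom = _
    rw [inv_id K hK]; rfl
  map_comp f g := by
    show (K.inverseImage (g.unop ≫ f.unop)).toCatHom = _
    rw [inv_comp K hK]; rfl

open Pseudofunctor

/-- the Grothendieck construction -/
abbrev Tot := CoGrothendieck (Fsp K hK).toPseudofunctor'

/-- fibre component of an object -/
def fo (X : Tot K hK) : p.Fiber X.base := X.fiber

/-- fibre component of a morphism -/
def fh {X Y : Tot K hK} (f : X ⟶ Y) : fo K hK X ⟶ (K.inverseImage f.base).obj (fo K hK Y) := f.fiber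

theorem fh_id (X : Tot K hK) :
    fh K hK (𝟙 X) = eqToHom (by
      show fo K hK X = (K.inverseImage (𝟙 X.base)).obj (fo K hK X)
      rw [inv_id K hK]; rfl) := by
  show (𝟙 X : X ⟶ X).fiber = _
  rw [CoGrothendieck.categoryStruct_id_fiber]
  simp only [Functor.toPseudofunctor'_mapId, eqToIso.inv, Cat.eqToHom_app]

theorem fh_comp {X Y Z : Tot K hK} (f : X ⟶ Y) (g : Y ⟶ Z) :
    fh K hK (f ≫ g) = fh K hK f ≫ (K.inverseImage f.base).map (fh K hK g) ≫
      eqToHom (by
        show _ = (K.inverseImage (f.base ≫ g.base)).obj (fo K hK Z)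
        rw [inv_comp K hK]; rfl) := by
  show (f ≫ g).fiber = _
  rw [CoGrothendieck.categoryStruct_comp_fiber]
  simp only [Functor.toPseudofunctor'_mapComp, eqToIso.inv, Cat.eqToHom_app]
  rfl

/-- the functor from the Grothendieck construction to `𝒳` -/
noncomputable def Ψ : Tot K hK ⥤ 𝒳 where
  obj X := Fiber.fiberInclusion.obj (fo K hK X)
  map {X Y} f := Fiber.fiberInclusion.map (fh K hK f) ≫ K.lift (fo K hK Y).2 f.base
  map_id X := by
    rw [fh_id, eqToHom_map]
    obtain ⟨h, hl⟩ := hK.1 (fo K hK X).2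
    show eqToHom _ ≫ K.lift (fo K hK X).2 (𝟙 X.base) = 𝟙 _
    rw [hl]
    simp
  map_comp {X Y Z} f g := by
    obtain ⟨h, hl⟩ := hK.2 g.base f.base (fo K hK Z).2
    show Fiber.fiberInclusion.map (fh K hK (f ≫ g)) ≫
      K.lift (fo K hK Z).2 (f.base ≫ g.base) = _
    rw [fh_comp]
    simp only [Functor.map_comp, eqToHom_map, Category.assoc]
    have e1 : eqToHom (congrArg Subtype.val (show (K.inverseImage f.base).obj
        ((K.inverseImage g.base).obj (fo K hK Z)) = (K.inverseImage (f.base ≫ g.base)).obj (fo K hK Z) by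
          rw [inv_comp K hK]; rfl)) ≫ K.lift (fo K hK Z).2 (f.base ≫ g.base) =
        K.lift (K.obj_proj (fo K hK Z).2 g.base) f.base ≫ K.lift (fo K hK Z).2 g.base := by
      rw [hl]
    rw [e1, Cleavage.inverseImage_map, IsCartesian.fac_assoc]
    simp only [Category.assoc]

theorem Ψ_map {X Y : Tot K hK} (f : X ⟶ Y) :
    (Ψ K hK).map f = Fiber.fiberInclusion.map (fh K hK f) ≫ K.lift (fo K hK Y).2 f.base := rfl

instance Ψ_map_lift {X Y : Tot K hK} (f : X ⟶ Y) : p.IsHomLift f.base ((Ψ K hK).map f) := by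
  rw [Ψ_map]
  have h1 : p.IsHomLift (𝟙 X.base) (Fiber.fiberInclusion.map (fh K hK f)) := inferInstance
  have h2 : p.IsHomLift f.base (K.lift (fo K hK Y).2 f.base) := inferInstance
  exact IsHomLift.comp_lift_id_left (p := p) f.base (K.lift (fo K hK Y).2 f.base)
    (Fiber.fiberInclusion.map (fh K hK f))

theorem base_eq_of_Ψ_map_eq {X Y : Tot K hK} {f f' : X ⟶ Y}
    (h : (Ψ K hK).map f = (Ψ K hK).map f') : f.base = f'.base := by
  have h1 := IsHomLift.fac p f.base ((Ψ K hK).map f)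
  have h2 := IsHomLift.fac p f'.base ((Ψ K hK).map f')
  rw [h1, h2]
  simp only [h]

instance Ψ_faithful : (Ψ K hK).Faithful where
  map_injective {X Y} f f' h := by
    have hb := base_eq_of_Ψ_map_eq K hK h
    obtain ⟨b, φ⟩ := f
    obtain ⟨b', φ'⟩ := f'
    obtain rfl : b = b' := hb
    have h' : Fiber.fiberInclusion.map (fh K hK (⟨b, φ⟩ : X ⟶ Y)) ≫ K.lift (fo K hK Y).2 b =
        Fiber.fiberInclusion.map (fh K hK (⟨b, φ'⟩ : X ⟶ Y)) ≫ K.lift (fo K hK Y).2 b := h
    have e : fh K hK (⟨b, φ⟩ : X ⟶ Y) = fh K hK (⟨b, φ'⟩ : X ⟶ Y) := by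
      apply Fiber.hom_ext
      exact IsCartesian.ext p b (K.lift (fo K hK Y).2 b) _ _ h'
    have e' : φ = φ' := e
    rw [e']

/-- object part of `Φ` -/
def Φobj (x : 𝒳) : Tot K hK := ⟨p.obj x, (⟨x, rfl⟩ : p.Fiber (p.obj x))⟩

/-- morphism part of `Φ` -/
noncomputable def Φmap {x y : 𝒳} (φ : x ⟶ y) : Φobj K hK x ⟶ Φobj K hK y :=
  ⟨p.map φ, Fiber.homMk p (p.obj x) (IsCartesian.map p (p.map φ) (K.lift rfl (p.map φ)) φ)⟩

theorem ΨΦmap {x y : 𝒳} (φ : x ⟶ y) : (Ψ K hK).map (Φmap K hK φ) = φ := by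
  rw [Ψ_map]
  exact IsCartesian.fac p (p.map φ) (K.lift rfl (p.map φ)) φ

/-- the functor `𝒳 ⥤ ∫ F` -/
noncomputable def Φ : 𝒳 ⥤ Tot K hK where
  obj x := Φobj K hK x
  map φ := Φmap K hK φ
  map_id x := by
    apply (Ψ K hK).map_injective
    rw [ΨΦmap, CategoryTheory.Functor.map_id]
    rfl
  map_comp φ ψ := by
    apply (Ψ K hK).map_injective
    rw [ΨΦmap, Functor.map_comp, ΨΦmap, ΨΦmap]

theorem Φ_comp_Ψ : Φ K hK ⋙ Ψ K hK = 𝟭 𝒳 := by
  refine CategoryTheory.Functor.ext (fun x => rfl) ?_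
  intro x y φ
  simp only [Functor.comp_map, Functor.id_map, eqToHom_refl, Category.comp_id, Category.id_comp]
  exact ΨΦmap K hK φ

theorem Ψ_comp_Φ : Ψ K hK ⋙ Φ K hK = 𝟭 (Tot K hK) := by
  have hobj : ∀ X : Tot K hK, (Ψ K hK ⋙ Φ K hK).obj X = X := by
    rintro ⟨S, ⟨a, ha⟩⟩
    change p.obj a = S at ha
    subst ha
    rfl
  refine CategoryTheory.Functor.ext hobj ?_
  intro X Y f
  apply (Ψ K hK).map_injective
  rw [Functor.comp_map, Functor.id_map, Functor.map_comp, Functor.map_comp, eqToHom_map,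
    eqToHom_map]
  show (Ψ K hK).map (Φmap K hK ((Ψ K hK).map f)) = _
  rw [ΨΦmap]
  obtain ⟨S, ⟨a, ha⟩⟩ := X
  obtain ⟨S', ⟨b, hb⟩⟩ := Y
  change p.obj a = S at ha
  change p.obj b = S' at hb
  subst ha hb
  simp

theorem Φ_comp_forget :
    Φ K hK ⋙ CoGrothendieck.forget (Fsp K hK).toPseudofunctor' = p := by
  refine CategoryTheory.Functor.ext (fun x => rfl) ?_
  intro x y φ
  simp only [Functor.comp_map, eqToHom_refl, Category.comp_id, Category.id_comp]
  rfl

end Groth.Agent.Helper10.SplitClv
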