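import Mathlib
import Groth.Prelude.Def_FibCat2

/-!
# Splitting a fibred category (helper10)

For a fibred category `p : 𝒳 ⥤ C` we build a strict functor `Cᵒᵖ ⥤ Cat` whose value at `U` is the
category of "formal pullbacks" `(a, f : U ⟶ p a)`, with morphisms the morphisms over `𝟙 U` between
chosen pullbacks, and an equivalence over `C` from its Grothendieck construction to `𝒳`.
-/

set_option autoImplicit false
set_option linter.unusedSectionVars false

namespace Groth.Agent.Helper10.SplitFib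

open CategoryTheory Functor

universe v' w v u

variable {C : Type u} [Category.{v} C] {𝒳 : Type w} [Category.{v'} 𝒳] (p : 𝒳 ⥤ C) [p.IsFibered]

/-- formal pullbacks -/
@[ext] structure FO (U : C) where
  a : 𝒳
  f : U ⟶ p.obj a

variable {p}

namespace FO

variable {U : C}

/-- the chosen pullback object -/
noncomputable def pb (o : FO p U) : 𝒳 := IsPreFibered.pullbackObj (p := p) (rfl : p.obj o.a = p.obj o.a) o.f

/-- the chosen cartesian morphism -/
noncomputable def pm (o : FO p U) : o.pb ⟶ o.a := IsPreFibered.pullbackMap (p := p) rfl o.f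

instance (o : FO p U) : p.IsCartesian o.f o.pm :=
  IsPreFibered.pullbackMap.IsCartesian (p := p) rfl o.f

instance (o : FO p U) : p.IsStronglyCartesian o.f o.pm := inferInstance

theorem pb_proj (o : FO p U) : p.obj o.pb = U := IsPreFibered.pullbackObj_proj _ _

end FO

/-- morphisms of formal pullbacks: morphisms over the identity between the chosen pullbacks -/
@[ext] structure FHom {U : C} (o o' : FO p U) where
  φ : o.pb ⟶ o'.pb
  lift : p.IsHomLift (𝟙 U) φ

attribute [instance] FHom.lift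

noncomputable instance instCategoryFO (U : C) : Category (FO p U) where
  Hom := FHom
  id o := ⟨𝟙 _, IsHomLift.id o.pb_proj⟩
  comp f g := ⟨f.φ ≫ g.φ, inferInstance⟩
  id_comp f := by apply FHom.ext; simp
  comp_id f := by apply FHom.ext; simp
  assoc f g h := by apply FHom.ext; simp

@[simp] theorem id_φ {U : C} (o : FO p U) : (𝟙 o : o ⟶ o).φ = 𝟙 o.pb := rfl
@[simp] theorem comp_φ {U : C} {o o' o'' : FO p U} (f : o ⟶ o') (g : o' ⟶ o'') :
    (f ≫ g).φ = f.φ ≫ g.φ := rfl

@[ext] theorem hom_ext {U : C} {o o' : FO p U} {f g : o ⟶ o'} (h : f.φ = g.φ) : f = g :=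
  FHom.ext h

theorem eqToHom_φ {U : C} {o o' : FO p U} (h : o = o') :
    (eqToHom h).φ = eqToHom (congrArg FO.pb h) := by
  subst h; rfl

theorem eqToHom_pm {U : C} {o o' : FO p U} (h : o = o') :
    eqToHom (congrArg FO.pb h) ≫ o'.pm = o.pm ≫ eqToHom (congrArg FO.a h) := by
  subst h; simp

instance eqToHom_lift {U : C} {o o' : FO p U} (h : o = o') :
    p.IsHomLift (𝟙 U) (eqToHom (congrArg FO.pb h)) := by
  subst h
  exact IsHomLift.id o.pb_proj

theorem isIso_of_isIso_φ {U : C} {o o' : FO p U} (f : o ⟶ o') [IsIso f.φ] : IsIso f :=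
  ⟨⟨⟨inv f.φ, inferInstance⟩, hom_ext (by simp), hom_ext (by simp)⟩⟩

namespace FO

variable {U U' : C}

/-- restriction of formal pullbacks -/
abbrev res (g : U' ⟶ U) (o : FO p U) : FO p U' := ⟨o.a, g ≫ o.f⟩

@[simp] theorem res_a (g : U' ⟶ U) (o : FO p U) : (o.res g).a = o.a := rfl
@[simp] theorem res_f (g : U' ⟶ U) (o : FO p U) : (o.res g).f = g ≫ o.f := rfl

theorem pm_cart (o : FO p U) : p.IsStronglyCartesian o.f o.pm := inferInstance

instance res_pm_cart (g : U' ⟶ U) (o : FO p U) : p.IsStronglyCartesian (g ≫ o.f) (o.res g).pm :=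
  pm_cart (o.res g)

instance res_pm_lift (g : U' ⟶ U) (o : FO p U) : p.IsHomLift (g ≫ o.f) (o.res g).pm :=
  inferInstance

/-- the canonical morphism `(g ≫ f)^* a ⟶ f^* a` over `g` -/
noncomputable def c (g : U' ⟶ U) (o : FO p U) : (o.res g).pb ⟶ o.pb :=
  IsStronglyCartesian.map p o.f o.pm (rfl : g ≫ o.f = g ≫ o.f) (o.res g).pm

instance c_lift (g : U' ⟶ U) (o : FO p U) : p.IsHomLift g (o.c g) := by
  unfold c; infer_instance

@[reassoc (attr := simp)] theorem c_pm (g : U' ⟶ U) (o : FO p U) : o.c g ≫ o.pm = (o.res g).pm := by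
  unfold c
  exact IsStronglyCartesian.fac p o.f o.pm rfl (o.res g).pm

instance c_cart (g : U' ⟶ U) (o : FO p U) : p.IsStronglyCartesian g (o.c g) := by
  have : p.IsStronglyCartesian (g ≫ o.f) (o.c g ≫ o.pm) := by
    rw [c_pm]; infer_instance
  exact IsStronglyCartesian.of_comp p (g := o.f) (ψ := o.pm)

end FO

section res

variable {U U' : C}

/-- the restriction functor on morphisms -/
noncomputable def resMap (g : U' ⟶ U) {o o' : FO p U} (φ : o ⟶ o') : o.res g ⟶ o'.res g :=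
  ⟨IsStronglyCartesian.map p g (o'.c g) (Category.id_comp g).symm (o.c g ≫ φ.φ), inferInstance⟩

@[reassoc (attr := simp)] theorem resMap_c (g : U' ⟶ U) {o o' : FO p U} (φ : o ⟶ o') :
    (resMap g φ).φ ≫ o'.c g = o.c g ≫ φ.φ :=
  IsStronglyCartesian.fac p g (o'.c g) (Category.id_comp g).symm (o.c g ≫ φ.φ)

theorem resMap_uniq (g : U' ⟶ U) {o o' : FO p U} (φ : o ⟶ o')
    (ψ : (o.res g).pb ⟶ (o'.res g).pb) [p.IsHomLift (𝟙 U') ψ]
    (h : ψ ≫ o'.c g = o.c g ≫ φ.φ) : ψ = (resMap g φ).φ :=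
  IsStronglyCartesian.map_uniq p g (o'.c g) (Category.id_comp g).symm (o.c g ≫ φ.φ) ψ h

theorem resMap_uniq' (g : U' ⟶ U) {o o' : FO p U} (φ : o ⟶ o')
    (ψ : o.res g ⟶ o'.res g) (h : ψ.φ ≫ o'.c g = o.c g ≫ φ.φ) : ψ = resMap g φ :=
  hom_ext (resMap_uniq g φ ψ.φ h)

/-- the restriction functor -/
noncomputable def resF (g : U' ⟶ U) : FO p U ⥤ FO p U' where
  obj := FO.res g
  map := resMap g
  map_id o := by
    apply hom_ext
    symm
    apply resMap_uniq
    simp
  map_comp f h := by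
    apply hom_ext
    symm
    apply resMap_uniq
    simp

@[simp] theorem resF_obj (g : U' ⟶ U) (o : FO p U) : (resF g).obj o = o.res g := rfl
@[simp] theorem resF_map (g : U' ⟶ U) {o o' : FO p U} (φ : o ⟶ o') :
    (resF g).map φ = resMap g φ := rfl

end res

section strict

variable {U U' U'' : C}

theorem res_id (o : FO p U) : o.res (𝟙 U) = o := by
  obtain ⟨a, f⟩ := o
  show (⟨a, 𝟙 U ≫ f⟩ : FO p U) = ⟨a, f⟩
  rw [Category.id_comp]

theorem res_comp (g' : U'' ⟶ U') (g : U' ⟶ U) (o : FO p U) :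
    o.res (g' ≫ g) = (o.res g).res g' := by
  obtain ⟨a, f⟩ := o
  show (⟨a, (g' ≫ g) ≫ f⟩ : FO p U'') = ⟨a, g' ≫ g ≫ f⟩
  rw [Category.assoc]

theorem c_id (o : FO p U) : o.c (𝟙 U) = eqToHom (congrArg FO.pb (res_id o)) := by
  have := eqToHom_lift (res_id o)
  apply IsStronglyCartesian.ext p o.f o.pm (𝟙 U)
  rw [FO.c_pm, eqToHom_pm (res_id o)]
  simp

theorem c_comp (g' : U'' ⟶ U') (g : U' ⟶ U) (o : FO p U) :
    o.c (g' ≫ g) = eqToHom (congrArg FO.pb (res_comp g' g o)) ≫ (o.res g).c g' ≫ o.c g := by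
  apply IsStronglyCartesian.ext p o.f o.pm (g' ≫ g)
  have := eqToHom_lift (res_comp g' g o)
  rw [FO.c_pm, Category.assoc, Category.assoc, FO.c_pm, FO.c_pm, eqToHom_pm (res_comp g' g o)]
  simp

theorem resF_id : resF (p := p) (𝟙 U) = 𝟭 _ := by
  refine CategoryTheory.Functor.ext (fun o => res_id o) (fun o o' φ => ?_)
  symm
  apply resMap_uniq'
  simp [eqToHom_φ, c_id]

theorem resF_comp (g' : U'' ⟶ U') (g : U' ⟶ U) :
    resF (p := p) (g' ≫ g) = resF g ⋙ resF g' := by
  refine CategoryTheory.Functor.ext (fun o => res_comp g' g o) (fun o o' φ => ?_)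
  symm
  apply resMap_uniq'
  simp [eqToHom_φ, c_comp]

end strict

section functor

variable (p)

/-- the strict functor `Cᵒᵖ ⥤ Cat` of formal pullbacks -/
noncomputable def splitFunctor : Cᵒᵖ ⥤ Cat.{v', max w v} where
  obj U := Cat.of (FO p U.unop)
  map g := (resF g.unop).toCatHom
  map_id U := by
    show (resF (𝟙 U.unop)).toCatHom = _
    rw [resF_id]; rfl
  map_comp g g' := by
    show (resF (g'.unop ≫ g.unop)).toCatHom = _
    rw [resF_comp]; rfl

end functor

section total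

open Pseudofunctor

variable (p)

/-- the Grothendieck construction of the split functor -/
abbrev Tot := CoGrothendieck (splitFunctor p).toPseudofunctor'

variable {p}

/-- the fibre component of an object -/
def fibO (X : Tot p) : FO p X.base := X.fiber

/-- the fibre component of a morphism -/
def fibHom {X Y : Tot p} (f : X ⟶ Y) : fibO X ⟶ (fibO Y).res f.base := f.fiber

theorem fibHom_id (X : Tot p) :
    fibHom (𝟙 X) = eqToHom (res_id (fibO X)).symm := by
  show (𝟙 X : X ⟶ X).fiber = _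
  rw [CoGrothendieck.categoryStruct_id_fiber]
  simp only [Functor.toPseudofunctor'_mapId, eqToIso.inv, Cat.eqToHom_app]
  rfl

theorem fibHom_comp {X Y Z : Tot p} (f : X ⟶ Y) (g : Y ⟶ Z) :
    fibHom (f ≫ g) = fibHom f ≫ resMap f.base (fibHom g) ≫
      eqToHom (res_comp f.base g.base (fibO Z)).symm := by
  show (f ≫ g).fiber = _
  rw [CoGrothendieck.categoryStruct_comp_fiber]
  simp only [Functor.toPseudofunctor'_mapComp, eqToIso.inv, Cat.eqToHom_app]
  rfl

/-- the functor from the Grothendieck construction to `𝒳` -/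
noncomputable def G : Tot p ⥤ 𝒳 where
  obj X := (fibO X).pb
  map {X Y} f := (fibHom f).φ ≫ (fibO Y).c f.base
  map_id X := by
    rw [fibHom_id, eqToHom_φ]
    show eqToHom _ ≫ (fibO X).c (𝟙 X.base) = 𝟙 _
    rw [c_id]
    simp
  map_comp {X Y Z} f g := by
    rw [fibHom_comp]
    show (fibHom f ≫ resMap f.base (fibHom g) ≫ eqToHom _).φ ≫ (fibO Z).c (f.base ≫ g.base) = _
    rw [c_comp]
    simp [eqToHom_φ]

@[simp] theorem G_obj (X : Tot p) : (G (p := p)).obj X = (fibO X).pb := rfl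
theorem G_map {X Y : Tot p} (f : X ⟶ Y) :
    (G (p := p)).map f = (fibHom f).φ ≫ (fibO Y).c f.base := rfl

instance G_map_lift {X Y : Tot p} (f : X ⟶ Y) : p.IsHomLift f.base ((G (p := p)).map f) := by
  rw [G_map]
  have h1 : p.IsHomLift (𝟙 X.base) (fibHom f).φ := (fibHom f).lift
  have h2 : p.IsHomLift f.base ((fibO Y).c f.base) := inferInstance
  exact IsHomLift.comp_lift_id_left (p := p) f.base ((fibO Y).c f.base) (fibHom f).φ

theorem G_comp_p : G (p := p) ⋙ p = CoGrothendieck.forget (splitFunctor p).toPseudofunctor' := by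
  refine CategoryTheory.Functor.ext (fun X => (fibO X).pb_proj) (fun X Y f => ?_)
  exact IsHomLift.fac' p f.base ((G (p := p)).map f)

theorem base_eq_of_G_map_eq {X Y : Tot p} {f f' : X ⟶ Y}
    (h : (G (p := p)).map f = (G (p := p)).map f') : f.base = f'.base := by
  have h1 := IsHomLift.fac p f.base ((G (p := p)).map f)
  have h2 := IsHomLift.fac p f'.base ((G (p := p)).map f')
  rw [h1, h2]
  simp only [h]

instance G_faithful : (G (p := p)).Faithful where
  map_injective {X Y} f f' h := by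
    have hb := base_eq_of_G_map_eq h
    obtain ⟨b, φ⟩ := f
    obtain ⟨b', φ'⟩ := f'
    obtain rfl : b = b' := hb
    have h' : (fibHom (⟨b, φ⟩ : X ⟶ Y)).φ ≫ (fibO Y).c b = (fibHom (⟨b, φ'⟩ : X ⟶ Y)).φ ≫ (fibO Y).c b := h
    have e : (fibHom (⟨b, φ⟩ : X ⟶ Y)).φ = (fibHom (⟨b, φ'⟩ : X ⟶ Y)).φ := by
      have l1 := (fibHom (⟨b, φ⟩ : X ⟶ Y)).lift
      have l2 := (fibHom (⟨b, φ'⟩ : X ⟶ Y)).lift
      exact IsStronglyCartesian.ext p b ((fibO Y).c b) (𝟙 X.base) h'
    have e' : φ = φ' := hom_ext (o := fibO X) (o' := (fibO Y).res b) e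
    rw [e']

instance G_full : (G (p := p)).Full where
  map_surjective {X Y} χ₀ := by
    obtain ⟨χ, hχ⟩ : ∃ χ : (fibO X).pb ⟶ (fibO Y).pb, χ = χ₀ := ⟨χ₀, rfl⟩
    rw [← hχ]
    obtain ⟨b, hbdef⟩ : ∃ b : X.base ⟶ Y.base,
        b = eqToHom (fibO X).pb_proj.symm ≫ p.map χ ≫ eqToHom (fibO Y).pb_proj := ⟨_, rfl⟩
    have hb : p.IsHomLift b χ := by
      rw [hbdef]
      apply IsHomLift.of_fac' p _ χ (fibO X).pb_proj (fibO Y).pb_proj
      simp
    let ψ : fibO X ⟶ (fibO Y).res b :=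
      ⟨IsStronglyCartesian.map p b ((fibO Y).c b) (Category.id_comp b).symm χ, inferInstance⟩
    refine ⟨⟨b, ψ⟩, ?_⟩
    exact IsStronglyCartesian.fac p b ((fibO Y).c b) (Category.id_comp b).symm χ

theorem G_ess (x : 𝒳) : ∃ (X : Tot p) (e : (G (p := p)).obj X ≅ x),
    p.IsHomLift (𝟙 (p.obj x)) e.hom := by
  obtain ⟨o, ho⟩ : ∃ o : FO p (p.obj x), o = ⟨x, 𝟙 _⟩ := ⟨_, rfl⟩
  have hc : p.IsStronglyCartesian o.f o.pm := FO.pm_cart o
  obtain ⟨m, hm⟩ : ∃ m : o.pb ⟶ x, m = o.pm ≫ eqToHom (by rw [ho]) := ⟨_, rfl⟩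
  have hc' : p.IsStronglyCartesian (𝟙 (p.obj x)) m := by
    subst ho
    simp only [eqToHom_refl, Category.comp_id] at hm
    rw [hm]
    exact hc
  have : IsIso m := IsStronglyCartesian.isIso_of_base_isIso p (𝟙 (p.obj x)) m
  obtain ⟨e, he⟩ : ∃ e : o.pb ≅ x, e.hom = m := ⟨asIso m, rfl⟩
  refine ⟨⟨p.obj x, o⟩, e, ?_⟩
  rw [he]
  exact hc'.toIsHomLift

end total

end Groth.Agent.Helper10.SplitFib
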