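import Mathlib

/-!
# Fibers of sheaves at points of `Over` sites and fibers of constant sheaves
-/

set_option autoImplicit false

open CategoryTheory CategoryTheory.Limits Opposite GrothendieckTopology

namespace Groth.Agent.Helper10.StalkOver

universe w v u v' u'

variable {C : Type u} [Category.{v} C] {J : GrothendieckTopology C} [LocallySmall.{w} C]
  (Φ : Point.{w} J) {U : C} (x : Φ.fiber.obj U) {A : Type u'} [Category.{v'} A]
  [HasColimitsOfSize.{w, w} A]

/-- The functor from the category of elements of the fiber functor of `Φ.over x` to that of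
`Φ`. -/
def elemFunctor : (Φ.over x).fiber.Elements ⥤ Φ.fiber.Elements :=
  (FunctorToTypes.fromOverFunctorElementsEquivalence Φ.fiber x).functor ⋙ Over.forget _

instance : (elemFunctor Φ x).Initial := by
  unfold elemFunctor
  infer_instance

/-- The fiber of the restriction of a presheaf to an `Over` category. -/
noncomputable def presheafFiberOverIso (P : Cᵒᵖ ⥤ A) :
    (Φ.over x).presheafFiber.obj ((Over.forget U).op ⋙ P) ≅ Φ.presheafFiber.obj P :=
  Functor.Final.colimitIso (elemFunctor Φ x).op ((CategoryOfElements.π Φ.fiber).op ⋙ P)

/-- The fiber of the restriction of a sheaf to an `Over` site. -/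
noncomputable def sheafFiberOverIso (F : Sheaf J A) :
    (Φ.over x).sheafFiber.obj (F.over U) ≅ Φ.sheafFiber.obj F :=
  presheafFiberOverIso Φ x F.obj

omit [LocallySmall.{w} C] in
attribute [local instance] IsFiltered.isConnected in
/-- The fiber of a constant presheaf. -/
noncomputable def presheafFiberConstIso (M : A) :
    Φ.presheafFiber.obj ((Functor.const Cᵒᵖ).obj M) ≅ M :=
  IsColimit.coconePointUniqueUpToIso (Φ.isColimitPresheafFiberCocone ((Functor.const Cᵒᵖ).obj M))
    (isColimitConstCocone _ M)

omit [LocallySmall.{w} C] in
/-- The fiber of a constant sheaf. -/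
noncomputable def sheafFiberConstIso [HasWeakSheafify J A] [HasProducts.{w} A] (M : A) :
    Φ.sheafFiber.obj ((constantSheaf J A).obj M) ≅ M :=
  (Φ.presheafToSheafCompSheafFiberIso A).app ((Functor.const Cᵒᵖ).obj M) ≪≫
    presheafFiberConstIso Φ M

end Groth.Agent.Helper10.StalkOver
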