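import Mathlib
import Groth.Prelude.Def_EtMod2
import Groth.Agent.Lib.Helper1.SHC11
import Groth.Agent.Lib.Helper10.StalkOver
import Groth.Agent.Lib.Helper10.LcGlueMod

/-!
# Stalks of sheaves of modules on the small étale site
-/

set_option autoImplicit false

open CategoryTheory CategoryTheory.Limits Opposite AlgebraicGeometry GrothendieckTopology

namespace Groth.Agent.Helper10.StalkMod

universe u

variable (Λ : Type (u + 1)) [CommRing Λ]

theorem ab5_mod : AB5OfSize.{u, u} (ModuleCat.{u + 1} Λ) :=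
  AB5OfSize_shrink.{u, u, u + 1, u + 1} (ModuleCat.{u + 1} Λ)

instance hasProducts_mod : HasProducts.{u} (ModuleCat.{u + 1} Λ) := by
  have : HasLimitsOfSize.{u, u} (ModuleCat.{u + 1} Λ) := ModuleCat.hasLimitsOfSize.{u, u, u + 1, u + 1}
  intro J
  infer_instance

section

variable {X : Scheme.{u}} {Ω : Type u} [Field Ω] [IsSepClosed Ω]
  (ξ : Spec (CommRingCat.of Ω) ⟶ X)

theorem preservesFiniteLimits_stalk : PreservesFiniteLimits (EtModW.stalk Λ ξ) := by
  have := ab5_mod.{u} Λ
  infer_instance

/-- The stalk functor is left adjoint to the skyscraper sheaf functor. -/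
noncomputable def stalkAdj :
    EtModW.stalk Λ ξ ⊣ (Scheme.pointSmallEtale ξ).skyscraperSheafFunctor (A := ModuleCat.{u + 1} Λ) :=
  (Scheme.pointSmallEtale ξ).skyscraperSheafAdjunction

theorem additive_stalk : (EtModW.stalk Λ ξ).Additive := by
  have := preservesFiniteLimits_stalk Λ ξ
  exact Functor.additive_of_preserves_binary_products _

instance skyscraper_additive :
    ((Scheme.pointSmallEtale ξ).skyscraperSheafFunctor (A := ModuleCat.{u + 1} Λ)).Additive := by
  have := additive_stalk Λ ξ
  exact (stalkAdj Λ ξ).right_adjoint_additive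

lemma skyscraper_map_π {M N : ModuleCat.{u + 1} Λ} (g : M ⟶ N) (V : X.Etaleᵒᵖ)
    (y : (Scheme.pointSmallEtale ξ).fiber.obj V.unop) :
    (((Scheme.pointSmallEtale ξ).skyscraperSheafFunctor (A := ModuleCat.{u + 1} Λ)).map g).hom.app V ≫
      Pi.π (fun _ : (Scheme.pointSmallEtale ξ).fiber.obj V.unop => N) y =
    Pi.π (fun _ : (Scheme.pointSmallEtale ξ).fiber.obj V.unop => M) y ≫ g := by
  simp only [Point.skyscraperSheafFunctor_map_hom, Point.skyscraperPresheafFunctor_map_app]
  exact Limits.Pi.map_π (fun _ => g) y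

instance skyscraper_linear :
    ((Scheme.pointSmallEtale ξ).skyscraperSheafFunctor (A := ModuleCat.{u + 1} Λ)).Linear Λ where
  map_smul := by
    intro M N f a
    apply Sheaf.hom_ext
    apply NatTrans.ext
    funext V
    apply Pi.hom_ext
    intro y
    refine (skyscraper_map_π Λ ξ (a • f) V y).trans ?_
    change _ = (a • ((Scheme.pointSmallEtale ξ).skyscraperSheafFunctor.map f).hom.app V) ≫ _
    rw [Linear.smul_comp, Linear.comp_smul]
    congr 1
    exact (skyscraper_map_π Λ ξ f V y).symm


open Groth.Agent.Helper1.SHC in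
/-- Stalks of inverse images of sheaves of modules. -/
theorem nonempty_stalk_pull_iso_mod {Y : Scheme.{u}} (f : X ⟶ Y) (G : EtModW.Mod Λ Y) :
    Nonempty ((EtModW.stalk Λ ξ).obj ((EtModW.pull Λ f).obj G) ≅
      (EtModW.stalk Λ (ξ ≫ f)).obj G) := by
  have := initiallySmall_comap f ξ
  have : (EtModW.push Λ f).IsRightAdjoint :=
    ((EtCoh.bc f).sheafAdjunctionContinuous (ModuleCat.{u + 1} Λ) Y.smallEtaleTopology
      X.smallEtaleTopology).isRightAdjoint
  let e1 := ((Scheme.pointSmallEtale ξ).sheafFiberComapIso (EtCoh.bc f)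
    (EtCoh.coverPreserving_bc f) (ModuleCat.{u + 1} Λ)).app G
  let i := pointIso f ξ
  let e2 : (Scheme.pointSmallEtale (ξ ≫ f)).sheafFiber.obj G ≅
      (comapPoint f ξ).sheafFiber.obj G :=
    { hom := (GrothendieckTopology.Point.Hom.sheafFiber i.hom).app G
      inv := (GrothendieckTopology.Point.Hom.sheafFiber i.inv).app G
      hom_inv_id := by
        rw [← NatTrans.comp_app, ← GrothendieckTopology.Point.Hom.sheafFiber_comp, i.inv_hom_id,
          GrothendieckTopology.Point.Hom.sheafFiber_id]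
        rfl
      inv_hom_id := by
        rw [← NatTrans.comp_app, ← GrothendieckTopology.Point.Hom.sheafFiber_comp, i.hom_inv_id,
          GrothendieckTopology.Point.Hom.sheafFiber_id]
        rfl }
  exact ⟨e1.symm ≪≫ e2.symm⟩

/-- The stalk of a finite type locally constant sheaf of modules is a finite module. -/
theorem finite_stalk_of_isFTLocConst (F : EtModW.Mod Λ X) (hF : EtModW.IsFTLocConst Λ F) :
    Module.Finite Λ ((EtModW.stalk Λ ξ).obj F) := by
  obtain ⟨ι, U, hU, H⟩ := hF
  obtain ⟨j, y, hy⟩ := hU (ξ.base default)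
  obtain ⟨t, -⟩ := Scheme.pointSmallEtaleFiberObjToPreimage_surjective ξ rfl (U j)
    ⟨y, by simpa using hy⟩
  obtain ⟨M, iM, mM, fM, ⟨α⟩⟩ := H j
  let Φ := Scheme.pointSmallEtale ξ
  let e₁ : (Φ.over t).sheafFiber.obj (F.over (U j)) ≅ Φ.sheafFiber.obj F :=
    Groth.Agent.Helper10.StalkOver.sheafFiberOverIso Φ t F
  let e₂ : (Φ.over t).sheafFiber.obj (F.over (U j)) ≅
      (Φ.over t).sheafFiber.obj ((constantSheaf (X.smallEtaleTopology.over (U j))
        (ModuleCat.{u + 1} Λ)).obj (ModuleCat.of Λ M)) :=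
    (Φ.over t).sheafFiber.mapIso α
  let e₃ := Groth.Agent.Helper10.StalkOver.sheafFiberConstIso (Φ.over t) (ModuleCat.of Λ M)
  let e : (EtModW.stalk Λ ξ).obj F ≅ ModuleCat.of Λ M := e₁.symm ≪≫ e₂ ≪≫ e₃
  exact Module.Finite.equiv e.toLinearEquiv.symm

omit [IsSepClosed Ω] in
/-- A field-valued point whose image lies in the range of an immersion factors through it. -/
theorem exists_lift_of_mem_range {T : Scheme.{u}} (g : T ⟶ X) [IsImmersion g]
    (h : ξ.base default ∈ Set.range g.base) :
    ∃ ξ' : Spec (CommRingCat.of Ω) ⟶ T, ξ' ≫ g = ξ := by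
  let p := pullback.fst ξ g
  have hsurj : Function.Surjective p.base := by
    intro z
    have hz : z = default := Subsingleton.elim _ _
    have hr : Set.range p.base = ξ.base ⁻¹' Set.range g.base := Scheme.Pullback.range_fst ξ g
    have : z ∈ Set.range p.base := by
      rw [hr, hz]
      exact h
    exact this
  have : Surjective p := ⟨hsurj⟩
  have hcl : IsClosed (Set.range p.base) := by
    rw [hsurj.range_eq]
    exact isClosed_univ
  have : IsClosedImmersion p := IsClosedImmersion.of_isPreimmersion p hcl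
  have : IsIso p := isIso_of_isClosedImmersion_of_surjective p
  refine ⟨inv p ≫ pullback.snd ξ g, ?_⟩
  rw [Category.assoc, ← pullback.condition, IsIso.inv_hom_id_assoc]

/-- The stalk of a constructible sheaf of modules is a finite module. -/
theorem finite_stalk_of_isConstructible (F : EtModW.Mod Λ X) (hF : EtModW.IsConstructible Λ F) :
    Module.Finite Λ ((EtModW.stalk Λ ξ).obj F) := by
  obtain ⟨V, hV, hxV, -⟩ := exists_isAffineOpen_mem_and_subset (x := ξ.base default)
    (U := (⊤ : X.Opens)) trivial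
  obtain ⟨n, T, g, hi, hc, hd, hu, hl⟩ := hF V hV
  have hx : ξ.base default ∈ ⋃ i, Set.range (g i).base := by
    rw [hu]
    exact hxV
  obtain ⟨i, hi'⟩ := Set.mem_iUnion.1 hx
  have := hi i
  obtain ⟨ξ', hξ'⟩ := exists_lift_of_mem_range ξ (g i) hi'
  obtain ⟨e⟩ := nonempty_stalk_pull_iso_mod Λ ξ' (g i) F
  have h1 : Module.Finite Λ ((EtModW.stalk Λ ξ').obj ((EtModW.pull Λ (g i)).obj F)) :=
    finite_stalk_of_isFTLocConst Λ ξ' _ (hl i)
  subst hξ'
  exact Module.Finite.equiv e.toLinearEquiv
end

end Groth.Agent.Helper10.StalkMod
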