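import Mathlib

/-!
# `ℤ/n` is self-injective; retractions onto cyclic subgroups of maximal order (helper10)
-/

set_option autoImplicit false

namespace Groth.Agent.Helper10.ZModRetract

/-- divisibility lemma: if `(n / gcd D n) * y = 0` in `ℤ/n` then `y` is a multiple of `D` -/
lemma exists_mul_eq (n : ℕ) [NeZero n] (d y : ZMod n)
    (h : ((n / Nat.gcd d.val n : ℕ) : ZMod n) * y = 0) : ∃ z : ZMod n, d * z = y := by
  have hn : 0 < n := Nat.pos_of_ne_zero (NeZero.ne n)
  set D := d.val with hD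
  set e := Nat.gcd D n with he
  have he_pos : 0 < e := Nat.gcd_pos_of_pos_right _ hn
  have hedvd : e ∣ n := Nat.gcd_dvd_right _ _
  set f := n / e with hf
  have hef : e * f = n := Nat.mul_div_cancel' hedvd
  have hf_pos : 0 < f := Nat.div_pos (Nat.le_of_dvd hn hedvd) he_pos
  -- `n ∣ f * y.val`
  have h1 : ((f * y.val : ℕ) : ZMod n) = 0 := by
    rw [Nat.cast_mul, ZMod.natCast_zmod_val]
    exact h
  rw [ZMod.natCast_eq_zero_iff] at h1
  have h2 : e ∣ y.val := by
    have h1' : f * e ∣ f * y.val := by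
      have : f * e = n := by rw [mul_comm]; exact hef
      rw [this]
      exact h1
    exact (Nat.mul_dvd_mul_iff_left hf_pos).1 h1'
  obtain ⟨w, hw⟩ := h2
  -- Bezout
  have hb := Nat.gcd_eq_gcd_ab D n
  have hb' : ((e : ℤ) : ZMod n) = d * ((Nat.gcdA D n : ℤ) : ZMod n) := by
    rw [he, hb]
    push_cast
    rw [ZMod.natCast_self, zero_mul, add_zero, hD, ZMod.natCast_zmod_val]
  refine ⟨((Nat.gcdA D n : ℤ) : ZMod n) * (w : ZMod n), ?_⟩
  rw [← mul_assoc, ← hb']
  have : y = ((y.val : ℕ) : ZMod n) := (ZMod.natCast_zmod_val y).symm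
  rw [this, hw]
  push_cast
  rfl

theorem baer_zmod (n : ℕ) [NeZero n] : Module.Baer (ZMod n) (ZMod n) := by
  intro I g
  haveI : IsPrincipalIdealRing (ZMod n) :=
    IsPrincipalIdealRing.of_surjective (Int.castRingHom (ZMod n)) ZMod.intCast_surjective
  obtain ⟨d, hd⟩ := (IsPrincipalIdealRing.principal I).principal
  have hdI : d ∈ I := by
    rw [hd]
    exact Submodule.mem_span_singleton_self d
  set y := g ⟨d, hdI⟩ with hy
  have hfd : ((n / Nat.gcd d.val n : ℕ) : ZMod n) * d = 0 := by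
    have hedvd : Nat.gcd d.val n ∣ d.val := Nat.gcd_dvd_left _ _
    have hedvd' : Nat.gcd d.val n ∣ n := Nat.gcd_dvd_right _ _
    obtain ⟨m, hm⟩ := hedvd
    have : ((n / Nat.gcd d.val n * d.val : ℕ) : ZMod n) = 0 := by
      rw [ZMod.natCast_eq_zero_iff]
      refine ⟨m, ?_⟩
      generalize Nat.gcd d.val n = e at hm hedvd'
      rw [hm, ← mul_assoc, Nat.div_mul_cancel hedvd']
    rw [Nat.cast_mul, ZMod.natCast_zmod_val] at this
    exact this
  have hfy : ((n / Nat.gcd d.val n : ℕ) : ZMod n) * y = 0 := by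
    have h1 : ((n / Nat.gcd d.val n : ℕ) : ZMod n) • (⟨d, hdI⟩ : I) = 0 := by
      apply Subtype.ext
      simp only [Submodule.coe_smul, smul_eq_mul, Submodule.coe_zero]
      exact hfd
    have h2 := congrArg g h1
    rw [map_smul, map_zero, smul_eq_mul] at h2
    exact h2
  obtain ⟨z, hz⟩ := exists_mul_eq n d y hfy
  refine ⟨LinearMap.toSpanSingleton (ZMod n) (ZMod n) z, ?_⟩
  intro x hx
  rw [hd, Submodule.mem_span_singleton] at hx
  obtain ⟨r, rfl⟩ := hx
  have h3 : (⟨r • d, hx⟩ : I) = r • ⟨d, hdI⟩ := rfl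
  rw [h3, map_smul g r ⟨d, hdI⟩, ← hy, ← hz, LinearMap.toSpanSingleton_apply]
  simp only [smul_eq_mul, mul_assoc]

/-- **Retraction.**  In an abelian group killed by `n`, an injective homomorphism from `ℤ/n`
admits a retraction. -/
theorem exists_retraction (n : ℕ) [NeZero n] {G : Type*} [AddCommGroup G]
    (hG : ∀ g : G, n • g = 0) (η : ZMod n →+ G) (hη : Function.Injective η) :
    ∃ r : G →+ ZMod n, ∀ a, r (η a) = a := by
  let _ : Module (ZMod n) G := AddCommGroup.zmodModule hG
  obtain ⟨h, hh⟩ := (baer_zmod n).extension_property (η.toZModLinearMap n) hη LinearMap.id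
  refine ⟨h.toAddMonoidHom, fun a => ?_⟩
  exact congrArg (fun φ => φ a) hh

end Groth.Agent.Helper10.ZModRetract
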