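import Mathlib
import Groth.Prelude.Def_EtDual
import Groth.Agent.Lib.Helper10.LcSite
import Groth.Agent.Lib.Helper10.ZModRetract

/-!
# Tensor products of abelian étale sheaves: functoriality, and `ℤ/n ⊗ ℤ/n ≅ ℤ/n` for constant
sheaves (helper10)
-/

set_option autoImplicit false

open CategoryTheory CategoryTheory.Limits AlgebraicGeometry Opposite TensorProduct

namespace Groth.Agent.Helper10.TensConst

universe u

section Functorial

variable {X : Scheme.{u}}

/-- the ℤ-linear map underlying a component of a morphism of sheaves -/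
noncomputable abbrev appLin {F F' : EtCoh.Ab X} (a : F ⟶ F') (U : X.Etaleᵒᵖ) :
    F.obj.obj U →ₗ[ℤ] F'.obj.obj U :=
  (a.hom.app U).hom.toIntLinearMap

lemma appLin_comp_resLin {F F' : EtCoh.Ab X} (a : F ⟶ F') {U V : X.Etaleᵒᵖ} (f : U ⟶ V) :
    (appLin a V).comp (EtDual.resLin F f) = (EtDual.resLin F' f).comp (appLin a U) := by
  ext x
  have := congrArg (fun φ => φ.hom x) (a.hom.naturality f)
  exact this

/-- functoriality of the presheaf tensor product -/
noncomputable def tensorPreMap {F F' G G' : EtCoh.Ab X} (a : F ⟶ F') (b : G ⟶ G') :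
    EtDual.tensorPre F G ⟶ EtDual.tensorPre F' G' where
  app U := AddCommGrpCat.ofHom (TensorProduct.map (appLin a U) (appLin b U)).toAddMonoidHom
  naturality U V f := by
    apply AddCommGrpCat.hom_ext
    have h : (TensorProduct.map (appLin a V) (appLin b V)).comp
        (TensorProduct.map (EtDual.resLin F f) (EtDual.resLin G f)) =
        (TensorProduct.map (EtDual.resLin F' f) (EtDual.resLin G' f)).comp
          (TensorProduct.map (appLin a U) (appLin b U)) := by
      rw [← TensorProduct.map_comp, ← TensorProduct.map_comp, appLin_comp_resLin,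
        appLin_comp_resLin]
    ext x
    exact congrArg (fun φ => φ x) h

lemma tensorPreMap_id (F G : EtCoh.Ab X) : tensorPreMap (𝟙 F) (𝟙 G) = 𝟙 _ := by
  ext U x
  have h1 : appLin (𝟙 F) U = LinearMap.id := by ext a; rfl
  have h2 : appLin (𝟙 G) U = LinearMap.id := by ext a; rfl
  show (TensorProduct.map (appLin (𝟙 F) U) (appLin (𝟙 G) U)) x = x
  rw [h1, h2, TensorProduct.map_id]
  rfl

lemma tensorPreMap_comp {F F' F'' G G' G'' : EtCoh.Ab X} (a : F ⟶ F') (a' : F' ⟶ F'')
    (b : G ⟶ G') (b' : G' ⟶ G'') :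
    tensorPreMap (a ≫ a') (b ≫ b') = tensorPreMap a b ≫ tensorPreMap a' b' := by
  ext U x
  have h1 : appLin (a ≫ a') U = (appLin a' U).comp (appLin a U) := by ext y; rfl
  have h2 : appLin (b ≫ b') U = (appLin b' U).comp (appLin b U) := by ext y; rfl
  show (TensorProduct.map (appLin (a ≫ a') U) (appLin (b ≫ b') U)) x =
    (TensorProduct.map (appLin a' U) (appLin b' U)) ((TensorProduct.map (appLin a U) (appLin b U)) x)
  rw [h1, h2, TensorProduct.map_comp]
  rfl

/-- the tensor product of abelian sheaves respects isomorphisms -/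
noncomputable def tensorAbIso {F F' G G' : EtCoh.Ab X} (a : F ≅ F') (b : G ≅ G') :
    EtDual.tensorAb F G ≅ EtDual.tensorAb F' G' :=
  (presheafToSheaf X.smallEtaleTopology AddCommGrpCat.{u + 1}).mapIso
    { hom := tensorPreMap a.hom b.hom
      inv := tensorPreMap a.inv b.inv
      hom_inv_id := by
        rw [← tensorPreMap_comp, Iso.hom_inv_id, Iso.hom_inv_id, tensorPreMap_id]
      inv_hom_id := by
        rw [← tensorPreMap_comp, Iso.inv_hom_id, Iso.inv_hom_id, tensorPreMap_id] }

end Functorial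

section Const

variable (X : Scheme.{u}) (n : ℕ) [NeZero n]

/-- the value group, one universe up -/
abbrev Mn : AddCommGrpCat.{u + 1} := AddCommGrpCat.of (ULift.{u + 1} (ZMod n))

/-- the constant sheaf `ℤ/n` -/
noncomputable abbrev Cn : EtCoh.Ab X := EtCoh.const X (ZMod n)

/-- constants -/
noncomputable abbrev η (U : X.Etale) : Mn.{u} n ⟶ (Cn X n).obj.obj (op U) :=
  LcSite.eta X.smallEtaleTopology AddCommGrpCat.{u + 1} (Mn.{u} n) U

lemma nsmul_id_Mn : n • 𝟙 (Mn.{u} n) = 0 := by
  ext x
  show (n • x).down = (0 : ULift.{u + 1} (ZMod n)).down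
  show n • x.down = 0
  simp

lemma nsmul_id_Cn : n • 𝟙 (Cn X n) = 0 := by
  haveI : (constantSheaf X.smallEtaleTopology AddCommGrpCat.{u + 1}).Additive := by
    unfold constantSheaf
    infer_instance
  have h := congrArg (constantSheaf X.smallEtaleTopology AddCommGrpCat.{u + 1}).map
    (nsmul_id_Mn.{u} n)
  rw [Functor.map_nsmul, Functor.map_zero, CategoryTheory.Functor.map_id] at h
  exact h

lemma nsmul_sect (U : X.Etale) (s : (Cn X n).obj.obj (op U)) : n • s = 0 := by
  have h3 := (sheafToPresheaf X.smallEtaleTopology AddCommGrpCat.{u + 1}).congr_map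
    (nsmul_id_Cn X n)
  rw [Functor.map_nsmul, Functor.map_zero, CategoryTheory.Functor.map_id] at h3
  have h5 := congrArg (fun φ => (φ.app (op U)).hom s) h3
  exact h5

/-- `η` as a homomorphism from `ℤ/n` -/
noncomputable def ηZ (U : X.Etale) : ZMod n →+ (Cn X n).obj.obj (op U) :=
  (η X n U).hom.comp (AddEquiv.ulift (α := ZMod n)).symm.toAddMonoidHom

lemma ηZ_apply (U : X.Etale) (a : ZMod n) : ηZ X n U a = (η X n U).hom (ULift.up a) := rfl

/-- on an object not covered by the empty sieve there is a retraction of `η` -/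
lemma exists_retraction (U : X.Etale) (hU : ⊥ ∉ X.smallEtaleTopology U) :
    ∃ r : (Cn X n).obj.obj (op U) →+ ZMod n, ∀ a : ZMod n, r (ηZ X n U a) = a := by
  have hinj := LcSite.eta_injective X.smallEtaleTopology (Mn.{u} n) hU
  apply ZModRetract.exists_retraction n (nsmul_sect X n U) (ηZ X n U)
  intro a b hab
  have := hinj hab
  exact congrArg ULift.down this

end Const

section Theta

variable (X : Scheme.{u}) (n : ℕ) [NeZero n]

/-- the section `η 1` -/
noncomputable abbrev one (U : X.Etale) : (Cn X n).obj.obj (op U) := (η X n U).hom (ULift.up 1)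

lemma η_res {U V : X.Etale} (f : V ⟶ U) (a : Mn.{u} n) :
    ((Cn X n).obj.map f.op).hom ((η X n U).hom a) = (η X n V).hom a := by
  have := LcSite.eta_map X.smallEtaleTopology (Mn.{u} n) f
  exact congrArg (fun φ => φ.hom a) this

/-- the additive map `a ↦ η a ⊗ η 1` -/
noncomputable def θHom (U : X.Etale) :
    ULift.{u + 1} (ZMod n) →+ ((Cn X n).obj.obj (op U) ⊗[ℤ] (Cn X n).obj.obj (op U)) :=
  ((TensorProduct.mk ℤ ((Cn X n).obj.obj (op U)) ((Cn X n).obj.obj (op U))).flip
    (one X n U)).toAddMonoidHom.comp (η X n U).hom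

lemma θHom_apply (U : X.Etale) (a : ULift.{u + 1} (ZMod n)) :
    θHom X n U a = (η X n U).hom a ⊗ₜ[ℤ] one X n U := rfl

/-- the comparison map of presheaves -/
noncomputable def θ : (Functor.const X.Etaleᵒᵖ).obj (Mn.{u} n) ⟶
    EtDual.tensorPre (Cn X n) (Cn X n) where
  app U := AddCommGrpCat.ofHom (θHom X n U.unop)
  naturality U V f := by
    apply AddCommGrpCat.hom_ext
    ext a
    show θHom X n V.unop a =
      (TensorProduct.map (EtDual.resLin (Cn X n) f) (EtDual.resLin (Cn X n) f))
        (θHom X n U.unop a)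
    rw [θHom_apply, θHom_apply, TensorProduct.map_tmul]
    have h1 : (EtDual.resLin (Cn X n) f) ((η X n U.unop).hom a) = (η X n V.unop).hom a :=
      η_res X n f.unop a
    have h2 : (EtDual.resLin (Cn X n) f) (one X n U.unop) = one X n V.unop :=
      η_res X n f.unop _
    rw [h1, h2]

lemma θ_app_apply (U : X.Etale) (a : ULift.{u + 1} (ZMod n)) :
    ((θ X n).app (op U)).hom a = (η X n U).hom a ⊗ₜ[ℤ] one X n U := rfl

lemma η_eq_zsmul_one (U : X.Etale) (b : ULift.{u + 1} (ZMod n)) :
    (η X n U).hom b = ((b.down.val : ℕ) : ℤ) • one X n U := by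
  have hb : b = ((b.down.val : ℕ) : ℤ) • (ULift.up 1 : ULift.{u + 1} (ZMod n)) := by
    apply ULift.ext
    show b.down = ((b.down.val : ℕ) : ℤ) • (1 : ZMod n)
    rw [zsmul_eq_mul, mul_one]
    push_cast
    exact (ZMod.natCast_zmod_val b.down).symm
  conv_lhs => rw [hb]
  exact map_zsmul (η X n U).hom _ _

lemma imageSieve_mem_aux (U : X.Etale)
    (s : (Cn X n).obj.obj (op U) ⊗[ℤ] (Cn X n).obj.obj (op U)) :
    Presheaf.imageSieve (θ X n) (U := U) s ∈ X.smallEtaleTopology U := by
  induction s using TensorProduct.induction_on with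
  | zero =>
    convert X.smallEtaleTopology.top_mem U
    rw [eq_top_iff]
    intro V f _
    refine ⟨0, ?_⟩
    rw [map_zero]
    exact (map_zero _).symm
  | tmul x y =>
    obtain ⟨S₁, hS₁, h₁⟩ := LcSite.eta_locally_surj X.smallEtaleTopology (Mn.{u} n) x
    obtain ⟨S₂, hS₂, h₂⟩ := LcSite.eta_locally_surj X.smallEtaleTopology (Mn.{u} n) y
    refine X.smallEtaleTopology.superset_covering ?_
      (X.smallEtaleTopology.intersection_covering hS₁ hS₂)
    intro V f hf
    obtain ⟨a, ha⟩ := h₁ f hf.1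
    obtain ⟨b, hb⟩ := h₂ f hf.2
    refine ⟨((b.down.val : ℕ) : ℤ) • a, ?_⟩
    show ((θ X n).app (op V)).hom (((b.down.val : ℕ) : ℤ) • a) =
      (TensorProduct.map (EtDual.resLin (Cn X n) f.op) (EtDual.resLin (Cn X n) f.op)) (x ⊗ₜ[ℤ] y)
    rw [TensorProduct.map_tmul, θ_app_apply, map_zsmul, TensorProduct.smul_tmul,
      ← η_eq_zsmul_one]
    have ha' : (η X n V).hom a = (EtDual.resLin (Cn X n) f.op) x := ha
    have hb' : (η X n V).hom b = (EtDual.resLin (Cn X n) f.op) y := hb
    rw [ha', hb']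
  | add s₁ s₂ h₁ h₂ =>
    refine X.smallEtaleTopology.superset_covering ?_
      (X.smallEtaleTopology.intersection_covering h₁ h₂)
    intro V f hf
    obtain ⟨t₁, ht₁⟩ := hf.1
    obtain ⟨t₂, ht₂⟩ := hf.2
    refine ⟨t₁ + t₂, ?_⟩
    rw [map_add, ht₁, ht₂]
    exact (map_add _ _ _).symm

instance isLocallySurjective_θ :
    Presheaf.IsLocallySurjective X.smallEtaleTopology (θ X n) where
  imageSieve_mem {U} s := imageSieve_mem_aux X n U s

lemma θ_injective (U : X.Etale) (hU : ⊥ ∉ X.smallEtaleTopology U)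
    (x y : ULift.{u + 1} (ZMod n)) (h : θHom X n U x = θHom X n U y) : x = y := by
  obtain ⟨r, hr⟩ := exists_retraction X n U hU
  let r' : (Cn X n).obj.obj (op U) →ₗ[ℤ] ZMod n := r.toIntLinearMap
  let ρ : ((Cn X n).obj.obj (op U) ⊗[ℤ] (Cn X n).obj.obj (op U)) →ₗ[ℤ] ZMod n :=
    TensorProduct.lift ((LinearMap.mul ℤ (ZMod n)).compl₁₂ r' r')
  have hρ : ∀ a : ULift.{u + 1} (ZMod n), ρ (θHom X n U a) = a.down := by
    intro a
    rw [θHom_apply]
    show (TensorProduct.lift ((LinearMap.mul ℤ (ZMod n)).compl₁₂ r' r'))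
      ((η X n U).hom a ⊗ₜ[ℤ] one X n U) = a.down
    rw [TensorProduct.lift.tmul]
    show r ((η X n U).hom a) * r (one X n U) = a.down
    have h1 : r ((η X n U).hom a) = a.down := hr a.down
    have h2 : r (one X n U) = 1 := hr 1
    rw [h1, h2, mul_one]
  apply ULift.ext
  rw [← hρ x, ← hρ y, h]

instance isLocallyInjective_θ :
    Presheaf.IsLocallyInjective X.smallEtaleTopology (θ X n) where
  equalizerSieve_mem {U} x y h := by
    by_cases hU : ⊥ ∈ X.smallEtaleTopology U.unop
    · exact X.smallEtaleTopology.superset_covering bot_le hU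
    · have hxy : x = y := θ_injective X n U.unop hU x y h
      subst hxy
      rw [Presheaf.equalizerSieve_self_eq_top]
      exact X.smallEtaleTopology.top_mem _

/-- **`ℤ/n ⊗ ℤ/n ≅ ℤ/n`** for constant sheaves -/
noncomputable def tensConstIso : EtDual.tensorAb (Cn X n) (Cn X n) ≅ Cn X n := by
  haveI : IsIso ((presheafToSheaf X.smallEtaleTopology AddCommGrpCat.{u + 1}).map (θ X n)) :=
    (X.smallEtaleTopology.W_iff (θ X n)).1
      (X.smallEtaleTopology.W_of_isLocallyBijective (θ X n))
  exact (asIso ((presheafToSheaf X.smallEtaleTopology AddCommGrpCat.{u + 1}).map (θ X n))).symm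

end Theta

end Groth.Agent.Helper10.TensConst
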