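import Mathlib
import Groth.Agent.Lib.Helper6.TorBalance

/-!
# Objectwise symmetry of Tor over `ModuleCat R`
-/

set_option autoImplicit false

open CategoryTheory Limits MonoidalCategory

namespace Groth.Agent.Helper10.TorSymm

universe u
variable {R : Type u} [CommRing R]

/-- `Tor_n(M, N) ≅ Tor_n(N, M)` (non-canonically chosen, objectwise). -/
theorem nonempty_tor_symm (M N : ModuleCat.{u} R) (n : ℕ) :
    Nonempty (((Tor (ModuleCat.{u} R) n).obj M).obj N ≅ ((Tor (ModuleCat.{u} R) n).obj N).obj M) := by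
  let P := projectiveResolution M
  obtain ⟨e1⟩ := Groth.Agent.Helper6.TorBalance.nonempty_tor_iso M N P n
  let e2 := Groth.Agent.Helper18.TorLib.torIso P N n
  let α : tensorRight N ≅ tensorLeft N := (BraidedCategory.tensorLeftIsoTensorRight N).symm
  let β := (NatIso.mapHomologicalComplex α (ComplexShape.down ℕ)).app P.complex
  let e3 := (HomologicalComplex.homologyFunctor (ModuleCat.{u} R) (ComplexShape.down ℕ) n).mapIso β
  exact ⟨e1 ≪≫ e3 ≪≫ e2.symm⟩

theorem isZero_tor_symm_iff (M N : ModuleCat.{u} R) (n : ℕ) :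
    IsZero (((Tor (ModuleCat.{u} R) n).obj M).obj N) ↔
      IsZero (((Tor (ModuleCat.{u} R) n).obj N).obj M) := by
  obtain ⟨e⟩ := nonempty_tor_symm M N n
  exact ⟨fun h => h.of_iso e.symm, fun h => h.of_iso e⟩

end Groth.Agent.Helper10.TorSymm
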